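/-
Irreducible matrix sets in prime dimension: commutants, and the Clifford trichotomy for normal subgroups.
-/
import Mathlib
import Cfsg.Prelude.Def_GeometricClasses

set_option autoImplicit false

namespace CfsgLib.Geo.Asch

open Matrix Cfsg.Geo

variable {ι : Type} [Fintype ι] [DecidableEq ι] {F : Type*} [Field F]

/-- `W` is mapped into itself by every member of `S`. -/
def Stable (S : Set (Matrix ι ι F)) (W : Submodule F (ι → F)) : Prop :=
  ∀ s ∈ S, ∀ v ∈ W, s *ᵥ v ∈ W

theorem actsIrreducibly_iff {S : Set (Matrix ι ι F)} :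
    ActsIrreducibly S ↔ ∀ W, Stable S W → W = ⊥ ∨ W = ⊤ := by
  refine forall_congr' fun W => imp_congr_left ?_
  constructor
  · intro h s hs v hv
    exact h s hs ⟨v, hv, Matrix.toLin'_apply s v⟩
  · rintro h s hs _ ⟨v, hv, rfl⟩
    rw [Matrix.toLin'_apply]
    exact h s hs v hv

theorem mem_matrixSet {N : Subgroup (GL ι F)} {g : GL ι F} (hg : g ∈ N) :
    (g : Matrix ι ι F) ∈ matrixSet N := ⟨g, hg, rfl⟩

theorem stable_matrixSet_iff {N : Subgroup (GL ι F)} {W : Submodule F (ι → F)} :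
    Stable (matrixSet N) W ↔ ∀ g ∈ N, ∀ v ∈ W, (g : Matrix ι ι F) *ᵥ v ∈ W :=
  ⟨fun h g hg => h _ (mem_matrixSet hg), fun h s hs => by
    obtain ⟨g, hg, rfl⟩ := hs
    exact h g hg⟩

theorem inv_mulVec_cancel (g : GL ι F) (v : ι → F) :
    (g : Matrix ι ι F) *ᵥ (((g⁻¹ : GL ι F) : Matrix ι ι F) *ᵥ v) = v := by
  rw [Matrix.mulVec_mulVec, ← Units.val_mul, mul_inv_cancel, Units.val_one, Matrix.one_mulVec]

theorem mulVec_inv_cancel (g : GL ι F) (v : ι → F) :
    ((g⁻¹ : GL ι F) : Matrix ι ι F) *ᵥ ((g : Matrix ι ι F) *ᵥ v) = v := by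
  rw [Matrix.mulVec_mulVec, ← Units.val_mul, inv_mul_cancel, Units.val_one, Matrix.one_mulVec]

theorem mulVec_ne_zero (g : GL ι F) {v : ι → F} (hv : v ≠ 0) : (g : Matrix ι ι F) *ᵥ v ≠ 0 :=
  fun h => hv (by rw [← mulVec_inv_cancel g v, h, Matrix.mulVec_zero])

/-- The matrix of `g` as a linear equivalence of `F^ι`. -/
def linEquiv (g : GL ι F) : (ι → F) ≃ₗ[F] (ι → F) where
  toLinearMap := Matrix.toLin' (g : Matrix ι ι F)
  invFun v := ((g⁻¹ : GL ι F) : Matrix ι ι F) *ᵥ v
  left_inv v := by simp [Matrix.toLin'_apply, mulVec_inv_cancel]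
  right_inv v := by simp [Matrix.toLin'_apply, inv_mulVec_cancel]

theorem linEquiv_apply (g : GL ι F) (v : ι → F) : linEquiv g v = (g : Matrix ι ι F) *ᵥ v := rfl

/-- If simple stable subspaces of dimension `d` span the space then `d` divides the dimension. -/
theorem dvd_card_of_simples {S : Set (Matrix ι ι F)} {α : Type*} (W : α → Submodule F (ι → F)) {d : ℕ}
    (hW : ∀ a, Stable S (W a)) (hmin : ∀ a, ∀ U, U ≤ W a → Stable S U → U = ⊥ ∨ U = W a)
    (hd : ∀ a, Module.finrank F (W a) = d) (htop : ⨆ a, W a = ⊤) : d ∣ Fintype.card ι := by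
  let P : Submodule F (ι → F) → Prop := fun X => Stable S X ∧ d ∣ Module.finrank F X
  have hP : {X | P X}.Nonempty := ⟨⊥, fun s _ v hv => by
    rw [Submodule.mem_bot] at hv ⊢; rw [hv, Matrix.mulVec_zero], by simp⟩
  obtain ⟨X, ⟨hX, hXd⟩, hmax⟩ := wellFounded_gt.has_min {X | P X} hP
  suffices hT : X = ⊤ by
    rw [hT, finrank_top, Module.finrank_pi] at hXd
    exact hXd
  by_contra hne
  obtain ⟨a, ha⟩ : ∃ a, ¬ W a ≤ X := by
    by_contra! h
    exact hne (top_le_iff.1 (htop.ge.trans (iSup_le h)))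
  have hinf : X ⊓ W a = ⊥ := by
    rcases hmin a (X ⊓ W a) inf_le_right (fun s hs v hv => ⟨hX s hs v hv.1, hW a s hs v hv.2⟩) with h | h
    · exact h
    · exact absurd (h ▸ inf_le_left) ha
  have hst : Stable S (X ⊔ W a) := by
    intro s hs v hv
    obtain ⟨x, hx, w, hw, rfl⟩ := Submodule.mem_sup.1 hv
    rw [Matrix.mulVec_add]
    exact Submodule.add_mem_sup (hX s hs x hx) (hW a s hs w hw)
  refine hmax (X ⊔ W a) ⟨hst, ?_⟩ (left_lt_sup.2 ha)
  have h := Submodule.finrank_sup_add_finrank_inf_eq X (W a)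
  rw [hinf, finrank_bot, add_zero, hd] at h
  rw [h]
  exact dvd_add hXd dvd_rfl

/-- A minimal non-zero stable subspace. -/
theorem exists_simple [Finite F] [Nonempty ι] (S : Set (Matrix ι ι F)) :
    ∃ W, W ≠ ⊥ ∧ Stable S W ∧ ∀ U, U ≤ W → Stable S U → U = ⊥ ∨ U = W := by
  have : Finite (Submodule F (ι → F)) := Finite.of_injective _ SetLike.coe_injective
  have hne : {W : Submodule F (ι → F) | W ≠ ⊥ ∧ Stable S W}.Nonempty :=
    ⟨⊤, top_ne_bot, fun _ _ _ _ => Submodule.mem_top⟩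
  obtain ⟨W, ⟨hW0, hW⟩, hmin⟩ := wellFounded_lt.has_min {W : Submodule F (ι → F) | W ≠ ⊥ ∧ Stable S W} hne
  refine ⟨W, hW0, hW, fun U hU hUs => ?_⟩
  by_cases h : U = ⊥
  · exact Or.inl h
  · exact Or.inr (by_contra fun hne' => hmin U ⟨h, hUs⟩ (lt_of_le_of_ne hU hne'))

variable {S : Set (Matrix ι ι F)}

theorem centralizer_inj (hirr : ActsIrreducibly S) {k : Matrix ι ι F}
    (hk : k ∈ Subalgebra.centralizer F S) (hk0 : k ≠ 0) {v : ι → F} (hv : k *ᵥ v = 0) : v = 0 := by
  rw [Subalgebra.mem_centralizer_iff] at hk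
  rcases actsIrreducibly_iff.1 hirr (LinearMap.ker (Matrix.toLin' k)) (fun s hs w hw => by
      rw [LinearMap.mem_ker, Matrix.toLin'_apply] at hw ⊢
      rw [Matrix.mulVec_mulVec, ← hk s hs, ← Matrix.mulVec_mulVec, hw, Matrix.mulVec_zero]) with h | h
  · have : v ∈ LinearMap.ker (Matrix.toLin' k) := by rw [LinearMap.mem_ker, Matrix.toLin'_apply, hv]
    rwa [h, Submodule.mem_bot] at this
  · exact absurd ((LinearEquiv.map_eq_zero_iff _).1 (LinearMap.ker_eq_top.1 h)) hk0

/-- Schur: the commutant of an irreducible set over a finite field is a field. -/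
theorem centralizer_isField [Finite F] [Nonempty ι] (hirr : ActsIrreducibly S) :
    IsField (Subalgebra.centralizer F S) := by
  have : Nontrivial (Subalgebra.centralizer F S) :=
    ⟨0, 1, fun h => one_ne_zero (α := Matrix ι ι F) (congrArg Subtype.val h).symm⟩
  have : NoZeroDivisors (Subalgebra.centralizer F S) := by
    refine ⟨fun {a b} hab => ?_⟩
    rw [or_iff_not_imp_left]
    intro ha
    refine Subtype.ext (Matrix.toLin'.injective (LinearMap.ext fun v => ?_))
    rw [ZeroMemClass.coe_zero, map_zero, LinearMap.zero_apply, Matrix.toLin'_apply]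
    refine centralizer_inj hirr a.2 (fun h => ha (Subtype.ext h)) ?_
    rw [Matrix.mulVec_mulVec, ← Subalgebra.coe_mul, hab, ZeroMemClass.coe_zero, Matrix.zero_mulVec]
  have : IsDomain (Subalgebra.centralizer F S) := NoZeroDivisors.to_isDomain _
  exact Finite.isDomain_to_isField _

/-- In prime dimension the commutant of an irreducible set is the scalars or a field of that degree, and then
it is its own centraliser. -/
theorem commutant_cases [Finite F] (hr : (Fintype.card ι).Prime) (hirr : ActsIrreducibly S) :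
    ActsAbsolutelyIrreducibly S ∨
      (IsFieldSubalgebra (Fintype.card ι) (Subalgebra.centralizer F S) ∧
        ∀ M : Matrix ι ι F, (∀ k ∈ Subalgebra.centralizer F S, M * k = k * M) →
          M ∈ Subalgebra.centralizer F S) := by
  have : Nonempty ι := Fintype.card_pos_iff.1 hr.pos
  set K := Subalgebra.centralizer F S with hK
  have hF := centralizer_isField hirr
  let Φ : (ι → F) → (K →ₗ[F] (ι → F)) := fun v =>
    { toFun := fun k => (k : Matrix ι ι F) *ᵥ v
      map_add' := fun a b => by simp [Matrix.add_mulVec]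
      map_smul' := fun c a => by simp [Matrix.smul_mulVec] }
  have hinj : ∀ v : {v : ι → F // v ≠ 0}, Function.Injective (Φ v.1) := by
    intro v
    rw [injective_iff_map_eq_zero]
    intro k hk
    by_contra h
    exact v.2 (centralizer_inj hirr k.2 (fun h' => h (Subtype.ext h')) hk)
  have hdvd : Module.finrank F K ∣ Fintype.card ι := by
    refine dvd_card_of_simples (S := (K : Set (Matrix ι ι F)))
      (fun v : {v : ι → F // v ≠ 0} => LinearMap.range (Φ v.1)) ?_ ?_
      (fun v => LinearMap.finrank_range_of_inj (hinj v)) ?_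
    · rintro v k hk _ ⟨k', rfl⟩
      exact ⟨⟨k, hk⟩ * k', (Matrix.mulVec_mulVec _ _ _).symm⟩
    · intro v U hU hUs
      by_cases hb : U = ⊥
      · exact Or.inl hb
      refine Or.inr (le_antisymm hU ?_)
      obtain ⟨u, hu, hu0⟩ := Submodule.exists_mem_ne_zero_of_ne_bot hb
      obtain ⟨k, rfl⟩ := hU hu
      have hk : k ≠ 0 := fun h => hu0 (by rw [h, map_zero])
      obtain ⟨k', hk'⟩ := hF.mul_inv_cancel hk
      rintro _ ⟨m, rfl⟩
      have := hUs _ (m * k').2 _ hu
      have e : ((m * k' : K) : Matrix ι ι F) *ᵥ (Φ v.1 k) = Φ v.1 m := by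
        show ((m * k' : K) : Matrix ι ι F) *ᵥ ((k : Matrix ι ι F) *ᵥ v.1) = (m : Matrix ι ι F) *ᵥ v.1
        rw [Matrix.mulVec_mulVec, ← Subalgebra.coe_mul, mul_assoc, hF.mul_comm k', hk', mul_one]
      rwa [e] at this
    · rw [eq_top_iff]
      intro v _
      by_cases hv : v = 0
      · subst hv; exact Submodule.zero_mem _
      · exact Submodule.mem_iSup_of_mem ⟨v, hv⟩ ⟨1, by simp [Φ]⟩
  have hpos : Module.finrank F K ≠ 0 := fun h => by
    have := Module.finrank_zero_iff.1 h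
    exact one_ne_zero (α := Matrix ι ι F) (congrArg Subtype.val (this.elim (1 : K) 0))
  rcases (Nat.dvd_prime hr).1 hdvd with h1 | h1
  · refine Or.inl ⟨hirr, fun M hM => ?_⟩
    have hM' : M ∈ K := by rw [hK, Subalgebra.mem_centralizer_iff]; exact fun s hs => (hM s hs).symm
    obtain ⟨c, hc⟩ := (finrank_eq_one_iff_of_nonzero' (1 : K) (fun h => one_ne_zero (α := Matrix ι ι F)
      (congrArg Subtype.val h))).1 h1 ⟨M, hM'⟩
    exact ⟨c, by simpa using (congrArg Subtype.val hc).symm⟩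
  · refine Or.inr ⟨⟨fun x hx y hy => congrArg Subtype.val (hF.mul_comm ⟨x, hx⟩ ⟨y, hy⟩), fun x hx hx0 => ?_, h1⟩, ?_⟩
    · obtain ⟨y, hy⟩ := hF.mul_inv_cancel (a := ⟨x, hx⟩) (fun h => hx0 (congrArg Subtype.val h))
      exact ⟨y, y.2, congrArg Subtype.val hy⟩
    · intro M hM
      obtain ⟨v, hv⟩ : ∃ v : ι → F, v ≠ 0 := exists_ne 0
      have hsurj : Function.Surjective (Φ v) := by
        rw [← LinearMap.range_eq_top]
        refine Submodule.eq_top_of_finrank_eq ?_
        rw [LinearMap.finrank_range_of_inj (hinj ⟨v, hv⟩), h1, Module.finrank_pi]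
      obtain ⟨c, hc⟩ := hsurj (M *ᵥ v)
      have : M = c := Matrix.toLin'.injective (LinearMap.ext fun w => by
        obtain ⟨k, rfl⟩ := hsurj w
        show Matrix.toLin' M ((k : Matrix ι ι F) *ᵥ v) = Matrix.toLin' (c : Matrix ι ι F) ((k : Matrix ι ι F) *ᵥ v)
        rw [Matrix.toLin'_apply, Matrix.toLin'_apply, Matrix.mulVec_mulVec, hM k k.2, ← Matrix.mulVec_mulVec,
          show M *ᵥ v = (c : Matrix ι ι F) *ᵥ v from hc.symm, Matrix.mulVec_mulVec, Matrix.mulVec_mulVec,
          ← Subalgebra.coe_mul, ← Subalgebra.coe_mul, hF.mul_comm k c])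
      rw [this]
      exact c.2

/-! ### Normal subgroups -/

theorem scalar_commute {g : GL ι F} (hg : g ∈ scalars ι F) (h : GL ι F) : g * h = h * g := by
  obtain ⟨c, hc⟩ := (mem_scalars_iff g).1 hg
  apply Units.ext
  rw [Units.val_mul, Units.val_mul, hc]
  simp

theorem mem_scalars_of_coe {g : GL ι F} [Nonempty ι] {c : F} (hg : (g : Matrix ι ι F) = c • 1) :
    g ∈ scalars ι F := by
  have hc : c ≠ 0 := by
    rintro rfl
    rw [zero_smul] at hg
    exact (Units.ne_zero g) hg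
  exact (mem_scalars_iff g).2 ⟨Units.mk0 c hc, hg⟩

theorem absIrred_mono {S T : Set (Matrix ι ι F)} (h : S ⊆ T) (hS : ActsAbsolutelyIrreducibly S) :
    ActsAbsolutelyIrreducibly T :=
  ⟨fun W hW => hS.1 W fun s hs => hW s (h hs), fun M hM => hS.2 M fun s hs => hM s (h hs)⟩

theorem mem_scalars_of_commute [Nonempty ι] {N : Subgroup (GL ι F)}
    (hN : ActsAbsolutelyIrreducibly (matrixSet N)) {g : GL ι F} (hg : ∀ n ∈ N, g * n = n * g) :
    g ∈ scalars ι F := by
  obtain ⟨c, hc⟩ := hN.2 (g : Matrix ι ι F) (by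
    rintro _ ⟨n, hn, rfl⟩
    exact congrArg Units.val (hg n hn))
  exact mem_scalars_of_coe hc

theorem not_abelian_of_absIrred [Nontrivial ι] {N : Subgroup (GL ι F)}
    (hN : ActsAbsolutelyIrreducibly (matrixSet N)) : ∃ x ∈ N, ∃ y ∈ N, x * y ≠ y * x := by
  by_contra! h
  obtain ⟨i, j, hij⟩ := exists_pair_ne ι
  rcases actsIrreducibly_iff.1 hN.1 (Submodule.span F {(Pi.single i 1 : ι → F)}) (stable_matrixSet_iff.2
      fun g hg v hv => by
        obtain ⟨c, hc⟩ := (mem_scalars_iff g).1 (mem_scalars_of_commute hN fun n hn => h g hg n hn)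
        rw [hc, Matrix.smul_mulVec, Matrix.one_mulVec]
        exact Submodule.smul_mem _ _ hv) with h' | h'
  · rw [Submodule.span_singleton_eq_bot] at h'
    simpa using congrFun h' i
  · have : (Pi.single j 1 : ι → F) ∈ Submodule.span F {(Pi.single i 1 : ι → F)} := h' ▸ Submodule.mem_top
    obtain ⟨c, hc⟩ := Submodule.mem_span_singleton.1 this
    simpa [Pi.single_apply, hij, hij.symm] using congrFun hc j

/-- A normal subgroup of an irreducible group either has a common eigenvector (and is abelian) or is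
irreducible. -/
theorem eigen_or_irred [Finite F] (hr : (Fintype.card ι).Prime) {H N : Subgroup (GL ι F)}
    (hH : ActsIrreducibly (matrixSet H)) (hn : ∀ h ∈ H, ∀ x ∈ N, h * x * h⁻¹ ∈ N) :
    ((∃ v : ι → F, v ≠ 0 ∧ ∀ n ∈ N, ∃ c : F, (n : Matrix ι ι F) *ᵥ v = c • v) ∧
        ∀ x ∈ N, ∀ y ∈ N, x * y = y * x) ∨
      ActsIrreducibly (matrixSet N) := by
  have : Nonempty ι := Fintype.card_pos_iff.1 hr.pos
  obtain ⟨W, hW0, hW, hmin⟩ := exists_simple (matrixSet N)
  have hst : ∀ h ∈ H, ∀ U : Submodule F (ι → F), Stable (matrixSet N) U →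
      Stable (matrixSet N) (U.map (linEquiv h : (ι → F) →ₗ[F] (ι → F))) := by
    intro h hh U hU
    rw [stable_matrixSet_iff] at hU ⊢
    rintro n hn' _ ⟨u, hu, rfl⟩
    refine ⟨((h⁻¹ * n * h : GL ι F) : Matrix ι ι F) *ᵥ u, hU _ (by simpa using hn h⁻¹ (H.inv_mem hh) n hn') u hu, ?_⟩
    show (h : Matrix ι ι F) *ᵥ _ = (n : Matrix ι ι F) *ᵥ ((h : Matrix ι ι F) *ᵥ u)
    rw [Matrix.mulVec_mulVec, Matrix.mulVec_mulVec, ← Units.val_mul, ← Units.val_mul]
    congr 2
    group
  let T : H → Submodule F (ι → F) := fun h => W.map (linEquiv (h : GL ι F) : (ι → F) →ₗ[F] (ι → F))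
  have hmap : ∀ (a b : GL ι F) (U : Submodule F (ι → F)),
      (U.map (linEquiv b : (ι → F) →ₗ[F] (ι → F))).map (linEquiv a : (ι → F) →ₗ[F] (ι → F)) =
        U.map (linEquiv (a * b) : (ι → F) →ₗ[F] (ι → F)) := by
    intro a b U
    rw [← Submodule.map_comp]
    congr 1
    refine LinearMap.ext fun v => ?_
    exact Matrix.mulVec_mulVec _ _ _
  have hone : ∀ U : Submodule F (ι → F), U.map (linEquiv (1 : GL ι F) : (ι → F) →ₗ[F] (ι → F)) = U := by
    intro U
    convert U.map_id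
    refine LinearMap.ext fun v => ?_
    exact Matrix.one_mulVec _
  have htop : ⨆ h, T h = ⊤ := by
    rcases actsIrreducibly_iff.1 hH (⨆ h, T h) (stable_matrixSet_iff.2 fun g hg v hv => by
        have hle : (⨆ h, T h).map (linEquiv g : (ι → F) →ₗ[F] (ι → F)) ≤ ⨆ h, T h := by
          rw [Submodule.map_iSup]
          exact iSup_le fun h => le_iSup_of_le (⟨g, hg⟩ * h) (by simp [T, hmap])
        exact hle ⟨v, hv, rfl⟩) with h | h
    · exact absurd (le_bot_iff.1 ((le_iSup_of_le (1 : H) (by simp [T, hone])).trans h.le)) hW0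
    · exact h
  have hd : ∀ h, Module.finrank F (T h) = Module.finrank F W := fun h =>
    LinearEquiv.finrank_map_eq (linEquiv (h : GL ι F)) W
  have hdvd := dvd_card_of_simples T (fun h => hst h h.2 W hW) (fun h U hU hUs => by
      have h' := hst ((h : GL ι F)⁻¹) (H.inv_mem h.2) U hUs
      have hle : U.map (linEquiv ((h : GL ι F)⁻¹) : (ι → F) →ₗ[F] (ι → F)) ≤ W := by
        refine (Submodule.map_mono hU).trans ?_
        rw [hmap, inv_mul_cancel, hone]
      have hback := hone U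
      rw [← mul_inv_cancel (h : GL ι F), ← hmap] at hback
      rcases hmin _ hle h' with e | e <;> rw [e] at hback
      · rw [Submodule.map_bot] at hback; exact Or.inl hback.symm
      · exact Or.inr hback.symm) hd htop
  rcases (Nat.dvd_prime hr).1 hdvd with h1 | h1
  · left
    obtain ⟨⟨w, hw⟩, hw0, hspan⟩ := finrank_eq_one_iff'.1 h1
    have hev : ∀ n ∈ N, ∃ c : F, (n : Matrix ι ι F) *ᵥ w = c • w := by
      intro n hn'
      obtain ⟨c, hc⟩ := hspan ⟨_, stable_matrixSet_iff.1 hW n hn' w hw⟩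
      exact ⟨c, (congrArg Subtype.val hc).symm⟩
    refine ⟨⟨w, fun h => hw0 (Subtype.ext h), hev⟩, fun x hx y hy => ?_⟩
    apply Units.ext
    refine Matrix.toLin'.injective ?_
    rw [← sub_eq_zero, ← LinearMap.ker_eq_top, eq_top_iff, ← htop]
    refine iSup_le fun h => ?_
    rintro _ ⟨u, hu, rfl⟩
    obtain ⟨c, hc⟩ := hspan ⟨u, hu⟩
    have hc' : c • w = u := congrArg Subtype.val hc
    subst hc'
    have key : ∀ n ∈ N, ∃ a : F,
        (n : Matrix ι ι F) *ᵥ ((h : GL ι F) : Matrix ι ι F) *ᵥ w = a • (((h : GL ι F) : Matrix ι ι F) *ᵥ w) := by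
      intro n hn'
      obtain ⟨a, ha⟩ := hev ((h : GL ι F)⁻¹ * n * (h : GL ι F))
        (by simpa using hn _ (H.inv_mem h.2) n hn')
      refine ⟨a, ?_⟩
      rw [← Matrix.mulVec_smul, ← ha, Matrix.mulVec_mulVec, Matrix.mulVec_mulVec, ← Units.val_mul, ← Units.val_mul]
      congr 2
      group
    obtain ⟨a, ha⟩ := key x hx
    obtain ⟨b, hb⟩ := key y hy
    rw [LinearMap.mem_ker, LinearMap.sub_apply, Matrix.toLin'_apply, Matrix.toLin'_apply, sub_eq_zero,
      Units.val_mul, Units.val_mul]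
    show ((x : Matrix ι ι F) * (y : Matrix ι ι F)) *ᵥ (((h : GL ι F) : Matrix ι ι F) *ᵥ (c • w)) =
      ((y : Matrix ι ι F) * (x : Matrix ι ι F)) *ᵥ (((h : GL ι F) : Matrix ι ι F) *ᵥ (c • w))
    simp only [← Matrix.mulVec_mulVec, Matrix.mulVec_smul, ha, hb, smul_comm a b]
  · right
    have hWT : W = ⊤ := Submodule.eq_top_of_finrank_eq (by rw [h1, Module.finrank_pi])
    rw [actsIrreducibly_iff]
    intro U hU
    exact hWT ▸ hmin U (hWT ▸ le_top) hU

/-- A non-abelian normal subgroup of an irreducible group in prime dimension is absolutely irreducible. -/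
theorem absIrred_of_normal_nonabelian [Finite F] (hr : (Fintype.card ι).Prime) {H N : Subgroup (GL ι F)}
    (hH : ActsIrreducibly (matrixSet H)) (hn : ∀ h ∈ H, ∀ x ∈ N, h * x * h⁻¹ ∈ N)
    (hna : ∃ x ∈ N, ∃ y ∈ N, x * y ≠ y * x) : ActsAbsolutelyIrreducibly (matrixSet N) := by
  obtain ⟨x, hx, y, hy, hxy⟩ := hna
  rcases eigen_or_irred hr hH hn with ⟨-, hab⟩ | hirr
  · exact absurd (hab x hx y hy) hxy
  rcases commutant_cases hr hirr with h | ⟨hK, hdc⟩
  · exact h
  · have hmem : ∀ g ∈ N, (g : Matrix ι ι F) ∈ Subalgebra.centralizer F (matrixSet N) := fun g hg =>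
      hdc _ fun k hk => (Subalgebra.mem_centralizer_iff F).1 hk _ (mem_matrixSet hg)
    exact absurd (Units.ext (hK.comm _ (hmem x hx) _ (hmem y hy))) hxy

theorem mem_subalgebraNormalizer_centralizer {N : Subgroup (GL ι F)} {h : GL ι F}
    (h₁ : ∀ x ∈ N, h * x * h⁻¹ ∈ N) (h₂ : ∀ x ∈ N, h⁻¹ * x * h ∈ N) :
    h ∈ subalgebraNormalizer (Subalgebra.centralizer F (matrixSet N)) := by
  have key : ∀ g : GL ι F, (∀ x ∈ N, g⁻¹ * x * g ∈ N) → ∀ k ∈ Subalgebra.centralizer F (matrixSet N),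
      (g : Matrix ι ι F) * k * ((g⁻¹ : GL ι F) : Matrix ι ι F) ∈ Subalgebra.centralizer F (matrixSet N) := by
    intro g hg k hk
    rw [Subalgebra.mem_centralizer_iff] at hk ⊢
    rintro _ ⟨x, hx, rfl⟩
    have h := hk _ (mem_matrixSet (hg x hx))
    have e : (x : Matrix ι ι F) * g = g * ((g⁻¹ * x * g : GL ι F) : Matrix ι ι F) := by
      rw [← Units.val_mul, ← Units.val_mul]; congr 1; group
    have e' : ((g⁻¹ * x * g : GL ι F) : Matrix ι ι F) * ((g⁻¹ : GL ι F) : Matrix ι ι F) =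
        ((g⁻¹ : GL ι F) : Matrix ι ι F) * x := by
      rw [← Units.val_mul, ← Units.val_mul]; congr 1; group
    rw [← mul_assoc, ← mul_assoc, e, mul_assoc (g : Matrix ι ι F), h, mul_assoc (g : Matrix ι ι F) _ _,
      mul_assoc k, e', ← mul_assoc, ← mul_assoc]
  intro k
  refine ⟨key h h₂ k, fun hk => ?_⟩
  have := key h⁻¹ (by simpa using h₁) _ hk
  simpa [mul_assoc, ← Units.val_mul] using this

/-- The common eigenspace of `N` for the eigenvalue function `χ`. -/
def eig (N : Subgroup (GL ι F)) (χ : N → F) : Submodule F (ι → F) :=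
  ⨅ n : N, Module.End.eigenspace (Matrix.toLin' ((n : GL ι F) : Matrix ι ι F)) (χ n)

theorem mem_eig {N : Subgroup (GL ι F)} {χ : N → F} {v : ι → F} :
    v ∈ eig N χ ↔ ∀ n : N, ((n : GL ι F) : Matrix ι ι F) *ᵥ v = χ n • v := by
  simp [eig, Submodule.mem_iInf, Module.End.mem_eigenspace_iff, Matrix.toLin'_apply]

theorem eig_sum_eq_zero {N : Subgroup (GL ι F)} (s : Finset (N → F)) (v : (N → F) → (ι → F))
    (hv : ∀ χ ∈ s, v χ ∈ eig N χ) (h0 : ∑ χ ∈ s, v χ = 0) : ∀ χ ∈ s, v χ = 0 := by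
  classical
  induction s using Finset.strongInduction generalizing v with
  | H s ih =>
    intro χ hχ
    have key : ∀ χ' ∈ s.erase χ, ∀ n : N, (χ' n - χ n) • v χ' = 0 := by
      intro χ' hχ' n
      refine ih (s.erase χ) (Finset.erase_ssubset hχ) (fun ψ => (ψ n - χ n) • v ψ)
        (fun ψ hψ => Submodule.smul_mem _ _ (hv ψ (Finset.mem_of_mem_erase hψ))) ?_ χ' hχ'
      rw [Finset.sum_erase _ (by simp)]
      have : ∑ ψ ∈ s, (((n : GL ι F) : Matrix ι ι F) *ᵥ v ψ - χ n • v ψ) = 0 := by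
        rw [Finset.sum_sub_distrib, ← Matrix.mulVec_sum, ← Finset.smul_sum, h0]
        simp
      rw [← this]
      exact Finset.sum_congr rfl fun ψ hψ => by rw [mem_eig.1 (hv ψ hψ) n, sub_smul]
    have hz : ∀ χ' ∈ s.erase χ, v χ' = 0 := by
      intro χ' hχ'
      obtain ⟨n, hn⟩ := Function.ne_iff.1 (Finset.ne_of_mem_erase hχ')
      exact (smul_eq_zero.1 (key χ' hχ' n)).resolve_left (sub_ne_zero.2 hn)
    rw [← Finset.add_sum_erase s _ hχ, Finset.sum_eq_zero hz, add_zero] at h0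
    exact h0

/-- Lines permuted by an irreducible group with a normal diagonalisable non-scalar subgroup, with their
eigenvalue functions. -/
theorem exists_lines_eig [Finite F] {r : ℕ} (hr : r.Prime) (hcard : Fintype.card ι = r) {H N : Subgroup (GL ι F)}
    (hH : ActsIrreducibly (matrixSet H)) (hn : ∀ h ∈ H, ∀ x ∈ N, h * x * h⁻¹ ∈ N)
    (hns : ¬ N ≤ scalars ι F) {v : ι → F} (hv0 : v ≠ 0)
    (hv : ∀ n ∈ N, ∃ c : F, (n : Matrix ι ι F) *ᵥ v = c • v) :
    ∃ (D : Fin r → Submodule F (ι → F)) (ψ : Fin r → N → F), IsMDecomposition 1 D ∧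
      H ≤ decompositionStabilizer D ∧ Function.Injective ψ ∧ ∀ i, D i = eig N (ψ i) := by
  classical
  have : Nonempty ι := Fintype.card_pos_iff.1 (hcard ▸ hr.pos)
  have : Finite (Submodule F (ι → F)) := Finite.of_injective _ SetLike.coe_injective
  choose c hc using hv
  let χ₀ : N → F := fun n => c n n.2
  have hχ₀ : v ∈ eig N χ₀ := mem_eig.2 fun n => hc n n.2
  let B : Set (Submodule F (ι → F)) :=
    Set.range fun h : H => (eig N χ₀).map (linEquiv (h : GL ι F) : (ι → F) →ₗ[F] (ι → F))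
  have hact : ∀ h ∈ H, ∀ χ : N → F, ∃ χ' : N → F,
      (eig N χ).map (linEquiv h : (ι → F) →ₗ[F] (ι → F)) = eig N χ' := by
    intro h hh χ
    refine ⟨fun n => χ ⟨h⁻¹ * n * h, by simpa using hn h⁻¹ (H.inv_mem hh) n n.2⟩, ?_⟩
    ext w
    simp only [Submodule.mem_map, LinearEquiv.coe_coe, linEquiv_apply, mem_eig]
    constructor
    · rintro ⟨u, hu, rfl⟩ n
      rw [← Matrix.mulVec_smul, ← hu, Matrix.mulVec_mulVec, Matrix.mulVec_mulVec, ← Units.val_mul, ← Units.val_mul]
      congr 2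
      group
    · intro hw
      refine ⟨((h⁻¹ : GL ι F) : Matrix ι ι F) *ᵥ w, fun n => ?_, inv_mulVec_cancel _ _⟩
      have hn' : h * (n : GL ι F) * h⁻¹ ∈ N := hn h hh n n.2
      have e := hw ⟨_, hn'⟩
      have e' : (⟨h⁻¹ * ((⟨_, hn'⟩ : N) : GL ι F) * h, by simpa using hn h⁻¹ (H.inv_mem hh) _ hn'⟩ : N) = n :=
        Subtype.ext (show h⁻¹ * (h * n * h⁻¹) * h = n by group)
      simp only [e'] at e
      rw [← Matrix.mulVec_smul, ← e, Matrix.mulVec_mulVec, Matrix.mulVec_mulVec, ← Units.val_mul, ← Units.val_mul]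
      congr 2
      group
  have hB : ∀ W ∈ B, ∃ χ : N → F, W = eig N χ := by
    rintro _ ⟨h, rfl⟩
    exact hact h h.2 χ₀
  have hmap : ∀ h ∈ H, ∀ W ∈ B, W.map (linEquiv h : (ι → F) →ₗ[F] (ι → F)) ∈ B := by
    rintro h hh _ ⟨k, rfl⟩
    refine ⟨⟨h, hh⟩ * k, ?_⟩
    dsimp only
    rw [← Submodule.map_comp]
    congr 1
    refine LinearMap.ext fun w => ?_
    exact (Matrix.mulVec_mulVec (w : ι → F) _ _).symm
  let e : Fin (Nat.card B) ≃ B := (Finite.equivFin B).symm
  let E : Fin (Nat.card B) → Submodule F (ι → F) := fun i => (e i : Submodule F (ι → F))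
  have hEinj : Function.Injective E := fun i j h => e.injective (Subtype.ext h)
  have hdim : ∀ i, Module.finrank F (E i) = Module.finrank F (eig N χ₀) := by
    intro i
    obtain ⟨h, hh⟩ := (e i).2
    show Module.finrank F ((e i : B) : Submodule F (ι → F)) = _
    rw [← hh]
    exact LinearEquiv.finrank_map_eq _ _
  choose ψ hψ using fun i => hB (E i) (e i).2
  have hψinj : Function.Injective ψ := fun i j h => hEinj (by rw [hψ i, hψ j, h])
  have hind : iSupIndep E := by
    rw [iSupIndep_iff_finset_sum_eq_zero_imp_eq_zero]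
    intro s w hw h0 i hi
    have hi' : Function.extend ψ w 0 (ψ i) = 0 := by
      refine eig_sum_eq_zero (s.image ψ) (Function.extend ψ w 0) ?_ ?_ (ψ i) (Finset.mem_image_of_mem _ hi)
      · intro χ hχ
        obtain ⟨j, hj, rfl⟩ := Finset.mem_image.1 hχ
        rw [hψinj.extend_apply]
        exact hψ j ▸ hw j hj
      · rw [Finset.sum_image fun a _ b _ h => hψinj h, Finset.sum_congr rfl fun a _ => hψinj.extend_apply w 0 a]
        exact h0
    rwa [hψinj.extend_apply] at hi'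
  have htop : iSup E = ⊤ := by
    have hrange : ∀ W ∈ B, W ≤ iSup E := fun W hW => le_iSup_of_le (e.symm ⟨W, hW⟩) (by simp only [E, Equiv.apply_symm_apply]; exact le_rfl)
    rcases actsIrreducibly_iff.1 hH (iSup E) (stable_matrixSet_iff.2 fun g hg w hw => by
        have hle : (iSup E).map (linEquiv g : (ι → F) →ₗ[F] (ι → F)) ≤ iSup E := by
          rw [Submodule.map_iSup]
          exact iSup_le fun i => hrange _ (hmap g hg _ (e i).2)
        exact hle ⟨w, hw, rfl⟩) with h | h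
    · exact absurd ((Submodule.eq_bot_iff _).1 h _
        (hrange _ ⟨1, rfl⟩ ⟨v, hχ₀, Matrix.one_mulVec v⟩)) hv0
    · exact h
  have hsum : Nat.card B * Module.finrank F (eig N χ₀) = r := by
    have h1 := (DirectSum.isInternal_submodule_of_iSupIndep_of_iSup_eq_top hind htop)
    have h2 : Module.finrank F (ι → F) = ∑ i, Module.finrank F (E i) := by
      rw [← Module.finrank_directSum, LinearEquiv.finrank_eq (LinearEquiv.ofBijective (DirectSum.coeLinearMap E) h1)]
    rw [Module.finrank_pi, hcard] at h2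
    rw [Finset.sum_congr rfl fun i _ => hdim i] at h2
    rw [Finset.sum_const, Finset.card_univ, Fintype.card_fin, smul_eq_mul] at h2
    exact h2.symm
  rcases (Nat.dvd_prime hr).1 ⟨_, hsum.symm⟩ with h1 | h1
  · exfalso
    apply hns
    intro n hn'
    have hT : eig N χ₀ = ⊤ := Submodule.eq_top_of_finrank_eq (by
      rw [h1, one_mul] at hsum
      rw [hsum, Module.finrank_pi, hcard])
    refine mem_scalars_of_coe (c := χ₀ ⟨n, hn'⟩) (Matrix.toLin'.injective (LinearMap.ext fun w => ?_))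
    have hw : w ∈ eig N χ₀ := hT ▸ Submodule.mem_top
    rw [Matrix.toLin'_apply, Matrix.toLin'_apply, Matrix.smul_mulVec, Matrix.one_mulVec]
    exact mem_eig.1 hw ⟨n, hn'⟩
  · have hm : Module.finrank F (eig N χ₀) = 1 := by
      rw [h1] at hsum
      exact Nat.eq_of_mul_eq_mul_left hr.pos (hsum.trans (mul_one r).symm)
    let ε : Fin r ≃ Fin (Nat.card B) := finCongr h1.symm
    refine ⟨E ∘ ε, ψ ∘ ε, ⟨hr.two_le, one_pos, fun i => (hdim (ε i)).trans hm, hind.comp ε.injective, ?_⟩, ?_,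
      hψinj.comp ε.injective, fun i => hψ (ε i)⟩
    · rw [← htop]
      exact ε.surjective.iSup_comp E
    · intro g hg
      let f : Fin r → Fin r := fun i => ε.symm (e.symm ⟨_, hmap g hg _ (e (ε i)).2⟩)
      have hf : ∀ i, (E (ε i)).map (linEquiv g : (ι → F) →ₗ[F] (ι → F)) = E (ε (f i)) := by
        intro i
        simp only [f, E, Equiv.apply_symm_apply]
      have hfinj : Function.Injective f := by
        intro i j h
        have := hf i
        rw [h, ← hf j] at this
        exact ε.injective (hEinj (Submodule.map_injective_of_injective (linEquiv g).injective this))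
      exact ⟨Equiv.ofBijective f ⟨hfinj, Finite.surjective_of_injective hfinj⟩, hf⟩

/-- Lines permuted by an irreducible group with a normal diagonalisable non-scalar subgroup. -/
theorem exists_lines [Finite F] {r : ℕ} (hr : r.Prime) {H N : Subgroup (GL (Fin r) F)}
    (hH : ActsIrreducibly (matrixSet H)) (hn : ∀ h ∈ H, ∀ x ∈ N, h * x * h⁻¹ ∈ N)
    (hns : ¬ N ≤ scalars (Fin r) F) {v : Fin r → F} (hv0 : v ≠ 0)
    (hv : ∀ n ∈ N, ∃ c : F, (n : Matrix (Fin r) (Fin r) F) *ᵥ v = c • v) :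
    ∃ D : Fin r → Submodule F (Fin r → F), IsMDecomposition 1 D ∧ H ≤ decompositionStabilizer D := by
  obtain ⟨D, ψ, hD, hle, -, -⟩ := exists_lines_eig hr (Fintype.card_fin r) hH hn hns hv0 hv
  exact ⟨D, hD, hle⟩

/-- Clifford's trichotomy in prime dimension. -/
theorem normal_cases [Finite F] {r : ℕ} (hr : r.Prime) {H N : Subgroup (GL (Fin r) F)}
    (hH : ActsIrreducibly (matrixSet H)) (hn : ∀ h ∈ H, ∀ x ∈ N, h * x * h⁻¹ ∈ N)
    (hns : ¬ N ≤ scalars (Fin r) F) :
    (∃ D : Fin r → Submodule F (Fin r → F), IsMDecomposition 1 D ∧ H ≤ decompositionStabilizer D) ∨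
      (∃ K : Subalgebra F (Matrix (Fin r) (Fin r) F), IsFieldSubalgebra r K ∧ H ≤ subalgebraNormalizer K) ∨
      ActsAbsolutelyIrreducibly (matrixSet N) := by
  have hr' : (Fintype.card (Fin r)).Prime := by rwa [Fintype.card_fin]
  rcases eigen_or_irred hr' hH hn with ⟨⟨v, hv0, hv⟩, -⟩ | hirr
  · exact Or.inl (exists_lines hr hH hn hns hv0 hv)
  · rcases commutant_cases hr' hirr with h | ⟨hK, -⟩
    · exact Or.inr (Or.inr h)
    · rw [Fintype.card_fin] at hK
      exact Or.inr (Or.inl ⟨_, hK, fun h hh => mem_subalgebraNormalizer_centralizer (hn h hh)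
        (fun x hx => by simpa using hn h⁻¹ (H.inv_mem hh) x hx)⟩)

end CfsgLib.Geo.Asch
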