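/-
An absolutely irreducible group with an abelian subgroup of small index is monomial over the field of its
eigenvalues.
-/
import Cfsg.Agent.Lib.Geo.Asch.Irred

set_option autoImplicit false

namespace CfsgLib.Geo.Asch

open Matrix Cfsg.Geo

variable {ι : Type} [Fintype ι] [DecidableEq ι] {F : Type*} [Field F] [Finite F]

/-- A common eigenvector of commuting matrices of exponent dividing `m`. -/
theorem exists_common_eigen [Nonempty ι] {A : Subgroup (GL ι F)} (hab : ∀ x ∈ A, ∀ y ∈ A, x * y = y * x) {m : ℕ}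
    (hm : (m : F) ≠ 0) (hexp : ∀ x ∈ A, x ^ m = 1) {ζ : F} (hζ : IsPrimitiveRoot ζ m) :
    ∃ v : ι → F, v ≠ 0 ∧ ∀ a ∈ A, ∃ j : ℕ, (a : Matrix ι ι F) *ᵥ v = ζ ^ j • v := by
  obtain ⟨U, hU0, hU, hUmin⟩ := exists_simple (matrixSet A)
  obtain ⟨u, hu, hu0⟩ := Submodule.exists_mem_ne_zero_of_ne_bot hU0
  have hm0 : m ≠ 0 := fun e => hm (by rw [e, Nat.cast_zero])
  refine ⟨u, hu0, fun a ha => ?_⟩
  let w : ℕ → ι → F := fun j => ∑ i ∈ Finset.range m, (ζ ^ j) ^ i • (((a ^ i : GL ι F) : Matrix ι ι F) *ᵥ u)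
  have hsum : ∑ j ∈ Finset.range m, w j = (m : F) • u := by
    simp only [w]
    rw [Finset.sum_comm]
    rw [Finset.sum_eq_single 0]
    · simp [Finset.sum_const, ← Nat.cast_smul_eq_nsmul F]
    · intro i hi hi0
      rw [← Finset.sum_smul]
      have hne : ζ ^ i ≠ 1 := hζ.pow_ne_one_of_pos_of_lt hi0 (Finset.mem_range.1 hi)
      have hg : ∑ j ∈ Finset.range m, (ζ ^ i) ^ j = 0 := by
        have h1 := geom_sum_mul (ζ ^ i) m
        rw [show (ζ ^ i) ^ m = 1 by rw [← pow_mul, mul_comm, pow_mul, hζ.pow_eq_one, one_pow], sub_self] at h1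
        exact (mul_eq_zero.1 h1).resolve_right (sub_ne_zero.2 hne)
      rw [show (∑ j ∈ Finset.range m, (ζ ^ j) ^ i) = ∑ j ∈ Finset.range m, (ζ ^ i) ^ j from
        Finset.sum_congr rfl fun j _ => by rw [← pow_mul, ← pow_mul, mul_comm], hg, zero_smul]
    · intro h
      exact absurd (Finset.mem_range.2 (Nat.pos_of_ne_zero hm0)) h
  obtain ⟨j, hj, hwj⟩ : ∃ j ∈ Finset.range m, w j ≠ 0 := by
    by_contra! hall
    rw [Finset.sum_eq_zero hall] at hsum
    exact smul_ne_zero hm hu0 hsum.symm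
  have hwU : w j ∈ U := Submodule.sum_mem _ fun i _ =>
    U.smul_mem _ (stable_matrixSet_iff.1 hU _ (A.pow_mem ha i) u hu)
  have heig : (a : Matrix ι ι F) *ᵥ w j = (ζ ^ j)⁻¹ • w j := by
    have hc : ζ ^ j ≠ 0 := pow_ne_zero _ (hζ.ne_zero hm0)
    have hcm : (ζ ^ j) ^ m = 1 := by rw [← pow_mul, mul_comm, pow_mul, hζ.pow_eq_one, one_pow]
    rw [eq_comm, inv_smul_eq_iff₀ hc]
    let b : ℕ → ι → F := fun i => (ζ ^ j) ^ i • (((a ^ i : GL ι F) : Matrix ι ι F) *ᵥ u)
    have hb : (ζ ^ j) • ((a : Matrix ι ι F) *ᵥ w j) = ∑ i ∈ Finset.range m, b (i + 1) := by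
      simp only [w, b, Matrix.mulVec_sum, Finset.smul_sum, Matrix.mulVec_smul, smul_smul, Matrix.mulVec_mulVec,
        ← Units.val_mul, ← pow_succ']
    rw [hb]
    show ∑ i ∈ Finset.range m, b i = _
    have h1 := Finset.sum_range_succ' b m
    rw [Finset.sum_range_succ, show b m = b 0 by simp only [b, hcm, hexp a ha, pow_zero]] at h1
    exact add_right_cancel h1
  let E : Submodule F (ι → F) :=
    U ⊓ LinearMap.ker (Matrix.toLin' (a : Matrix ι ι F) - (ζ ^ j)⁻¹ • LinearMap.id)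
  have hmemE : ∀ v, v ∈ E ↔ v ∈ U ∧ (a : Matrix ι ι F) *ᵥ v = (ζ ^ j)⁻¹ • v := fun v => by
    simp [E, sub_eq_zero]
  have hE : E = U := by
    refine (hUmin E inf_le_left (stable_matrixSet_iff.2 fun b hb v hv => (hmemE _).2
      ⟨stable_matrixSet_iff.1 hU b hb v ((hmemE v).1 hv).1, ?_⟩)).resolve_left fun h => ?_
    · rw [Matrix.mulVec_mulVec, ← Units.val_mul, hab a ha b hb, Units.val_mul, ← Matrix.mulVec_mulVec,
        ((hmemE v).1 hv).2, Matrix.mulVec_smul]
    · exact hwj ((Submodule.eq_bot_iff _).1 h _ ((hmemE _).2 ⟨hwU, heig⟩))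
  refine ⟨(m - 1) * j, ((hmemE u).1 (hE.symm ▸ hu)).2.trans ?_⟩
  congr 1
  refine inv_eq_of_mul_eq_one_left ?_
  rw [← pow_add, show (m - 1) * j + j = m * j by
    rw [← Nat.add_one_mul, Nat.sub_add_cancel (Nat.one_le_iff_ne_zero.2 hm0)], pow_mul, hζ.pow_eq_one, one_pow]

/-- Monomial realisation over the field of the eigenvalues. -/
theorem realisable_of_abelian [Nonempty ι] {N : Subgroup (GL ι F)} (hN : ActsIrreducibly (matrixSet N))
    {A : Subgroup (GL ι F)} (hAN : A ≤ N) (hab : ∀ x ∈ A, ∀ y ∈ A, x * y = y * x) {m : ℕ} (hm : (m : F) ≠ 0)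
    (hexp : ∀ x ∈ A, x ^ m = 1) {ζ : F} (hζ : IsPrimitiveRoot ζ m) {F₀ : Subfield F} (hζ₀ : ζ ∈ F₀)
    (hindex : Nat.card N ≤ Fintype.card ι * Nat.card A) : RealisableOver F₀ (matrixSet N) := by
  classical
  haveI : Finite (GL ι F) := Finite.of_injective (fun g : GL ι F => (g : Matrix ι ι F)) Units.val_injective
  obtain ⟨v, hv0, hv⟩ := exists_common_eigen hab hm hexp hζ
  set A' := A.subgroupOf N
  haveI := Fintype.ofFinite (N ⧸ A')
  have hcard : Fintype.card (N ⧸ A') ≤ Fintype.card ι := by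
    have h1 := Subgroup.card_eq_card_quotient_mul_card_subgroup A'
    rw [Nat.card_congr (Subgroup.subgroupOfEquivOfLe hAN).toEquiv, Nat.card_eq_fintype_card (α := N ⧸ A')] at h1
    exact Nat.le_of_mul_le_mul_right (h1 ▸ hindex) Nat.card_pos
  let w : N ⧸ A' → ι → F := fun q => (((q.out : N) : GL ι F) : Matrix ι ι F) *ᵥ v
  have hmap : ∀ n : N, ∀ q, ∃ j : ℕ, ((n : GL ι F) : Matrix ι ι F) *ᵥ w q = ζ ^ j • w ((n * q.out : N) : N ⧸ A') := by
    intro n q
    set q' : N ⧸ A' := ((n * q.out : N) : N ⧸ A') with hq'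
    have hmem : (q'.out)⁻¹ * (n * q.out) ∈ A' := QuotientGroup.eq.1 (q'.out_eq.trans hq')
    obtain ⟨j, hj⟩ := hv _ (show ((q'.out)⁻¹ * (n * q.out) : N).1 ∈ A from hmem)
    refine ⟨j, ?_⟩
    show ((n : GL ι F) : Matrix ι ι F) *ᵥ ((((q.out : N) : GL ι F) : Matrix ι ι F) *ᵥ v) = ζ ^ j • ((((q'.out : N) : GL ι F) : Matrix ι ι F) *ᵥ v)
    rw [← Matrix.mulVec_smul, ← hj, Matrix.mulVec_mulVec, Matrix.mulVec_mulVec, ← Units.val_mul, ← Units.val_mul]
    congr 2
    simp [mul_assoc]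
  have hspan : ⊤ ≤ Submodule.span F (Set.range w) := by
    rcases actsIrreducibly_iff.1 hN (Submodule.span F (Set.range w)) (stable_matrixSet_iff.2 fun n hn z hz => by
        have hle : Submodule.span F (Set.range w) ≤
            (Submodule.span F (Set.range w)).comap (Matrix.toLin' (n : Matrix ι ι F)) := by
          rw [Submodule.span_le]
          rintro _ ⟨q, rfl⟩
          obtain ⟨j, hj⟩ := hmap ⟨n, hn⟩ q
          rw [SetLike.mem_coe, Submodule.mem_comap]
          rw [Matrix.toLin'_apply, show (n : Matrix ι ι F) *ᵥ w q = _ from hj]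
          exact Submodule.smul_mem _ _ (Submodule.subset_span ⟨_, rfl⟩)
        simpa using hle hz) with h | h
    · refine absurd ((Submodule.eq_bot_iff _).1 h _ (Submodule.subset_span ⟨((1 : N) : N ⧸ A'), rfl⟩)) ?_
      exact mulVec_ne_zero (((((1 : N) : N ⧸ A').out : N) : GL ι F)) hv0
    · exact h.ge
  have hcard' : Fintype.card (N ⧸ A') = Fintype.card ι := by
    refine le_antisymm hcard ?_
    have h1 := finrank_range_le_card (R := F) w
    rw [Set.finrank, top_le_iff.1 hspan, finrank_top, Module.finrank_pi] at h1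
    exact h1
  have hli : LinearIndependent F w :=
    linearIndependent_of_top_le_span_of_card_eq_finrank hspan (by rw [Module.finrank_pi, hcard'])
  let e : ι ≃ N ⧸ A' := Fintype.equivOfCardEq hcard'.symm
  let M : Matrix ι ι F := Matrix.of fun x y => w (e y) x
  have hM : IsUnit M := Matrix.linearIndependent_cols_iff_isUnit.1 (hli.comp _ e.injective)
  refine ⟨hM.unit⁻¹, ?_⟩
  rintro _ ⟨n, hn, rfl⟩ x y
  rw [inv_inv]
  choose j hj using hmap ⟨n, hn⟩
  let T : Matrix ι ι F := Matrix.of fun a b =>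
    if a = e.symm (((⟨n, hn⟩ : N) * (e b).out : N) : N ⧸ A') then ζ ^ j (e b) else 0
  have hnM : (n : Matrix ι ι F) * M = M * T := by
    ext a b
    have h1 : ((n : Matrix ι ι F) * M) a b = ((n : Matrix ι ι F) *ᵥ w (e b)) a := rfl
    rw [h1, show (n : Matrix ι ι F) *ᵥ w (e b) = _ from hj (e b), Matrix.mul_apply,
      Finset.sum_eq_single (e.symm (((⟨n, hn⟩ : N) * (e b).out : N) : N ⧸ A'))]
    · simp [M, T, mul_comm]
    · intro c _ hc
      simp [T, hc]
    · simp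
  rw [show ((hM.unit⁻¹ : GL ι F) : Matrix ι ι F) * (n : Matrix ι ι F) * (hM.unit : Matrix ι ι F) = T by
    rw [hM.unit_spec, mul_assoc, hnM, ← mul_assoc, hM.val_inv_mul, one_mul]]
  simp only [T, Matrix.of_apply]
  split
  · exact pow_mem hζ₀ _
  · exact zero_mem _

end CfsgLib.Geo.Asch
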