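/-
Clifford theory for matrix groups: homogeneous components, and the central field of the commutant.
-/
import Cfsg.Agent.Lib.Geo.Asch.Irred

set_option autoImplicit false

namespace CfsgLib.Geo.Asch

open Matrix Cfsg.Geo

variable {ι : Type} [Fintype ι] [DecidableEq ι] {F : Type*} [Field F]

/-- A family of minimal stable subspaces spanning the space contains a direct decomposition. -/
theorem exists_internal [Finite F] {S : Set (Matrix ι ι F)} {T : Set (Submodule F (ι → F))}
    (hst : ∀ X ∈ T, Stable S X) (hmin : ∀ X ∈ T, ∀ U, U ≤ X → Stable S U → U = ⊥ ∨ U = X)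
    (h0 : ∀ X ∈ T, X ≠ ⊥) (htop : sSup T = ⊤) :
    ∃ (t : ℕ) (D : Fin t → Submodule F (ι → F)), (∀ i, D i ∈ T) ∧ iSupIndep D ∧ iSup D = ⊤ := by
  classical
  haveI : Finite (Submodule F (ι → F)) := Finite.of_injective _ SetLike.coe_injective
  have := Fintype.ofFinite (Submodule F (ι → F))
  have hne : {s : Finset (Submodule F (ι → F)) | ↑s ⊆ T ∧ s.SupIndep id}.Nonempty :=
    ⟨∅, by simp, Finset.supIndep_empty _⟩
  obtain ⟨s, ⟨hsT, hsI⟩, hmax⟩ := wellFounded_gt.has_min _ hne
  have hstab : Stable S (s.sup id) := by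
    intro g hg v hv
    have hle : (s.sup id).map (Matrix.toLin' g) ≤ s.sup id := by
      rw [Finset.sup_eq_iSup, Submodule.map_iSup]
      refine iSup_le fun X => ?_
      rw [Submodule.map_iSup]
      refine iSup_le fun hX => le_iSup₂_of_le X hX ?_
      rintro _ ⟨x, hx, rfl⟩
      rw [id, Matrix.toLin'_apply]
      exact hst X (hsT hX) g hg x hx
    exact hle ⟨v, hv, Matrix.toLin'_apply _ _⟩
  have hsup : s.sup id = ⊤ := by
    refine eq_top_iff.2 (htop ▸ sSup_le fun X hX => ?_)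
    by_contra hnle
    have hdis : X ⊓ s.sup id = ⊥ := by
      rcases hmin X hX (X ⊓ s.sup id) inf_le_left (fun g hg v hv => ⟨hst X hX g hg v hv.1, hstab g hg v hv.2⟩) with
        h | h
      · exact h
      · exact absurd (inf_eq_left.1 h) hnle
    have hnot : X ∉ s := fun h => hnle (Finset.le_sup (f := id) h)
    refine hmax (insert X s) ⟨?_, hsI.insert (disjoint_iff.2 hdis)⟩ ?_
    · rw [Finset.coe_insert]
      exact Set.insert_subset hX hsT
    · exact Finset.ssubset_insert hnot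
  refine ⟨s.card, fun i => ((s.equivFin.symm i : s) : Submodule F (ι → F)), fun i => hsT (s.equivFin.symm i).2, ?_, ?_⟩
  · exact (iSupIndep_comp_coe_iff_supIndep.2 hsI).comp s.equivFin.symm.injective
  · refine eq_top_iff.2 (hsup ▸ Finset.sup_le fun X hX => ?_)
    exact le_iSup_of_le (s.equivFin ⟨X, hX⟩) (by simp)

/-- The commutant of a matrix group. -/
abbrev comm (N : Subgroup (GL ι F)) : Subalgebra F (Matrix ι ι F) := Subalgebra.centralizer F (matrixSet N)

/-- The group together with its commutant. -/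
def NC (N : Subgroup (GL ι F)) : Set (Matrix ι ι F) := matrixSet N ∪ (comm N : Set (Matrix ι ι F))

/-- The space is homogeneous for `N`: irreducible under `N` together with its commutant. -/
def IsHomog (N : Subgroup (GL ι F)) : Prop := ActsIrreducibly (NC N)

/-- The centre of the commutant. -/
def centreComm (N : Subgroup (GL ι F)) : Subalgebra F (Matrix ι ι F) :=
  comm N ⊓ Subalgebra.centralizer F (comm N : Set (Matrix ι ι F))

theorem conj_mem_comm {N : Subgroup (GL ι F)} {h : GL ι F} (h₁ : ∀ x ∈ N, h * x * h⁻¹ ∈ N)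
    (h₂ : ∀ x ∈ N, h⁻¹ * x * h ∈ N) {X : Matrix ι ι F} (hX : X ∈ comm N) :
    (h : Matrix ι ι F) * X * ((h⁻¹ : GL ι F) : Matrix ι ι F) ∈ comm N ∧
      ((h⁻¹ : GL ι F) : Matrix ι ι F) * X * (h : Matrix ι ι F) ∈ comm N := by
  have h3 := mem_subalgebraNormalizer_centralizer (F := F) h₁ h₂
  refine ⟨(h3 X).1 hX, ?_⟩
  have := ((subalgebraNormalizer _).inv_mem h3 X).1 hX
  rwa [inv_inv] at this

theorem stable_NC_map {N : Subgroup (GL ι F)} {h : GL ι F} (h₁ : ∀ x ∈ N, h * x * h⁻¹ ∈ N)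
    (h₂ : ∀ x ∈ N, h⁻¹ * x * h ∈ N) {X : Submodule F (ι → F)} (hX : Stable (NC N) X) :
    Stable (NC N) (X.map (linEquiv h : (ι → F) →ₗ[F] (ι → F))) := by
  rintro s hs _ ⟨v, hv, rfl⟩
  have hs' : ((h⁻¹ : GL ι F) : Matrix ι ι F) * s * (h : Matrix ι ι F) ∈ NC N := by
    rcases hs with ⟨n, hn, rfl⟩ | hs
    · exact Or.inl ⟨h⁻¹ * n * h, h₂ n hn, by simp⟩
    · exact Or.inr (conj_mem_comm h₁ h₂ hs).2
  refine ⟨_, hX _ hs' v hv, ?_⟩
  show (h : Matrix ι ι F) *ᵥ _ = s *ᵥ ((h : Matrix ι ι F) *ᵥ v)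
  rw [← Matrix.mulVec_mulVec, ← Matrix.mulVec_mulVec, inv_mulVec_cancel]

/-- Clifford: an inhomogeneous restriction gives a system of imprimitivity. -/
theorem exists_decomposition [Finite F] [Nonempty ι] {H N : Subgroup (GL ι F)} (hH : ActsIrreducibly (matrixSet H))
    (hnH : ∀ h ∈ H, ∀ x ∈ N, h * x * h⁻¹ ∈ N) (hN : ¬ IsHomog N) :
    ∃ (t m : ℕ) (D : Fin t → Submodule F (ι → F)), IsMDecomposition m D ∧ H ≤ decompositionStabilizer D ∧
      (∀ i, Stable (NC N) (D i)) ∧ (∀ i, ∀ U, U ≤ D i → Stable (NC N) U → U = ⊥ ∨ U = D i) ∧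
      ∀ i j, ∃ h ∈ H, (D i).map (linEquiv h : (ι → F) →ₗ[F] (ι → F)) = D j := by
  classical
  obtain ⟨X₀, hX0, hX, hXmin⟩ := exists_simple (NC N)
  have h₂ : ∀ h ∈ H, ∀ x ∈ N, h⁻¹ * x * h ∈ N := fun h hh x hx => by simpa using hnH h⁻¹ (H.inv_mem hh) x hx
  let T : Set (Submodule F (ι → F)) :=
    Set.range fun h : H => X₀.map (linEquiv (h : GL ι F) : (ι → F) →ₗ[F] (ι → F))
  have hmapmap : ∀ (g h : GL ι F) (W : Submodule F (ι → F)),
      (W.map (linEquiv h : (ι → F) →ₗ[F] (ι → F))).map (linEquiv g : (ι → F) →ₗ[F] (ι → F)) =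
        W.map (linEquiv (g * h) : (ι → F) →ₗ[F] (ι → F)) := by
    intro g h W
    rw [← Submodule.map_comp]
    congr 1
    exact LinearMap.ext fun v => (Matrix.mulVec_mulVec _ _ _).trans (by rw [← Units.val_mul]; rfl)
  have hmap1 : ∀ W : Submodule F (ι → F), W.map (linEquiv (1 : GL ι F) : (ι → F) →ₗ[F] (ι → F)) = W := fun W => by
    rw [show (linEquiv (1 : GL ι F) : (ι → F) →ₗ[F] (ι → F)) = LinearMap.id from
      LinearMap.ext fun v => Matrix.one_mulVec v, Submodule.map_id]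
  have hTst : ∀ X ∈ T, Stable (NC N) X := by
    rintro _ ⟨h, rfl⟩
    exact stable_NC_map (hnH h h.2) (h₂ h h.2) hX
  have hTmin : ∀ X ∈ T, ∀ U, U ≤ X → Stable (NC N) U → U = ⊥ ∨ U = X := by
    rintro _ ⟨h, rfl⟩ U hU hUs
    have hU' := stable_NC_map (hnH _ (H.inv_mem h.2)) (h₂ _ (H.inv_mem h.2)) hUs
    have hle : U.map (linEquiv (h : GL ι F)⁻¹ : (ι → F) →ₗ[F] (ι → F)) ≤ X₀ := by
      refine (Submodule.map_mono hU).trans ?_
      rw [hmapmap, inv_mul_cancel, hmap1]
    have key : U = (U.map (linEquiv (h : GL ι F)⁻¹ : (ι → F) →ₗ[F] (ι → F))).map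
        (linEquiv (h : GL ι F) : (ι → F) →ₗ[F] (ι → F)) := by rw [hmapmap, mul_inv_cancel, hmap1]
    rcases hXmin _ hle hU' with e | e
    · left; rw [key, e, Submodule.map_bot]
    · right; rw [key, e]
  have hT0 : ∀ X ∈ T, X ≠ ⊥ := by
    rintro _ ⟨h, rfl⟩ e
    refine hX0 ?_
    rw [← hmap1 X₀, ← inv_mul_cancel (h : GL ι F), ← hmapmap, show X₀.map _ = ⊥ from e, Submodule.map_bot]
  have hTperm : ∀ h ∈ H, ∀ X ∈ T, X.map (linEquiv h : (ι → F) →ₗ[F] (ι → F)) ∈ T := by
    rintro h hh _ ⟨k, rfl⟩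
    exact ⟨⟨h, hh⟩ * k, (hmapmap _ _ _).symm⟩
  have htop : sSup T = ⊤ := by
    rcases actsIrreducibly_iff.1 hH (sSup T) (stable_matrixSet_iff.2 fun g hg v hv => by
        have hle : (sSup T).map (linEquiv g : (ι → F) →ₗ[F] (ι → F)) ≤ sSup T := by
          rw [sSup_eq_iSup, Submodule.map_iSup]
          refine iSup_le fun X => ?_
          rw [Submodule.map_iSup]
          refine iSup_le fun hX => ?_
          rw [← sSup_eq_iSup]
          exact le_sSup (hTperm g hg X hX)
        exact hle ⟨v, hv, rfl⟩) with h | h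
    · exact absurd (le_bot_iff.1 (h ▸ le_sSup ⟨1, hmap1 X₀⟩)) hX0
    · exact h
  obtain ⟨t, D, hDT, hind, hD⟩ := exists_internal hTst hTmin hT0 htop
  -- every minimal stable subspace is a member
  have hall : ∀ X, X ≠ ⊥ → (∀ U, U ≤ X → Stable (NC N) U → U = ⊥ ∨ U = X) → Stable (NC N) X → ∃ i, X = D i := by
    intro X hX0' hXm hXs
    have hc : ∀ i, IsCompl (D i) (⨆ j, ⨆ (_ : j ≠ i), D j) := fun i => by
      refine ⟨hind i, codisjoint_iff.2 (eq_top_iff.2 (hD ▸ iSup_le fun j => ?_))⟩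
      by_cases hj : j = i
      · exact hj ▸ le_sup_left
      · exact le_sup_of_le_right (le_iSup₂_of_le j hj le_rfl)
    have hπ : ∀ i, LinearMap.toMatrix' ((D i).projection _ (hc i)) ∈ comm N := by
      intro i
      rw [Subalgebra.mem_centralizer_iff]
      rintro _ ⟨n, hn, rfl⟩
      refine Matrix.toLin'.injective (LinearMap.ext fun v => ?_)
      simp only [Matrix.toLin'_mul, Matrix.toLin'_toMatrix', LinearMap.comp_apply, Matrix.toLin'_apply]
      set a := (D i).projection _ (hc i) v with ha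
      have h1 : (n : Matrix ι ι F) *ᵥ a ∈ D i :=
        hTst _ (hDT i) _ (Or.inl ⟨n, hn, rfl⟩) _ (Submodule.projection_apply_mem (hc i) v)
      have hst : ∀ w ∈ ⨆ j, ⨆ (_ : j ≠ i), D j, (n : Matrix ι ι F) *ᵥ w ∈ ⨆ j, ⨆ (_ : j ≠ i), D j := by
        intro w hw
        have hle : (⨆ j, ⨆ (_ : j ≠ i), D j).map (Matrix.toLin' (n : Matrix ι ι F)) ≤ ⨆ j, ⨆ (_ : j ≠ i), D j := by
          rw [Submodule.map_iSup]
          refine iSup_le fun j => ?_
          rw [Submodule.map_iSup]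
          refine iSup_le fun hj => le_iSup₂_of_le j hj ?_
          rintro _ ⟨x, hx, rfl⟩
          exact hTst _ (hDT j) _ (Or.inl ⟨n, hn, rfl⟩) x hx
        exact hle ⟨w, hw, Matrix.toLin'_apply _ _⟩
      have h2 := hst _ (Submodule.sub_projection_mem (hc i) v)
      rw [← ha] at h2
      conv_rhs => rw [show v = a + (v - a) by abel, Matrix.mulVec_add, map_add,
        Submodule.projection_apply_of_mem_left (hc i) h1,
        show (D i).projection _ (hc i) ((n : Matrix ι ι F) *ᵥ (v - a)) = 0 from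
          Submodule.projection_apply_right (hc i) ⟨_, h2⟩, add_zero]
    obtain ⟨x, hx, hx0⟩ := Submodule.exists_mem_ne_zero_of_ne_bot hX0'
    obtain ⟨i, hi⟩ : ∃ i, (D i).projection _ (hc i) x ≠ 0 := by
      by_contra! hz
      have hall' : ∀ i, x ∈ ⨆ j, ⨆ (_ : j ≠ i), D j := fun i => by
        have := Submodule.sub_projection_mem (hc i) x
        rwa [hz i, sub_zero] at this
      obtain ⟨c, hc'⟩ := (Submodule.mem_iSup_iff_exists_finsupp _ _).1 (hD.symm ▸ Submodule.mem_top : x ∈ iSup D)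
      refine hx0 ?_
      rw [← hc'.2]
      refine Finset.sum_eq_zero fun i _ => Submodule.disjoint_def.1 (hind i) _ (hc'.1 i) ?_
      have e : c i = x - ∑ j ∈ c.support.erase i, c j := by
        rw [← hc'.2, Finsupp.sum]
        by_cases hmem : i ∈ c.support
        · rw [← Finset.add_sum_erase _ _ hmem]; abel
        · rw [Finset.erase_eq_of_notMem hmem, Finsupp.notMem_support_iff.1 hmem]; simp
      rw [e]
      refine Submodule.sub_mem _ (hall' i) (Submodule.sum_mem _ fun j hj => ?_)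
      exact Submodule.mem_iSup_of_mem j (Submodule.mem_iSup_of_mem (Finset.ne_of_mem_erase hj) (hc'.1 j))
    refine ⟨i, ?_⟩
    have hmem : (D i).projection _ (hc i) x ∈ X := by
      have := hXs _ (Or.inr (hπ i)) x hx
      rwa [← Matrix.toLin'_apply, Matrix.toLin'_toMatrix'] at this
    have hinf : X ⊓ D i ≠ ⊥ := fun e => hi ((Submodule.eq_bot_iff _).1 e _
      ⟨hmem, Submodule.projection_apply_mem (hc i) x⟩)
    have hs : Stable (NC N) (X ⊓ D i) := fun s hs v hv => ⟨hXs s hs v hv.1, hTst _ (hDT i) s hs v hv.2⟩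
    exact ((hXm _ inf_le_left hs).resolve_left hinf).symm.trans
      ((hTmin _ (hDT i) _ inf_le_right hs).resolve_left hinf)
  have hfin : ∀ X ∈ T, ∃ i, X = D i := fun X hX => hall X (hT0 X hX) (hTmin X hX) (hTst X hX)
  have hdim : ∀ i, Module.finrank F (D i) = Module.finrank F X₀ := by
    intro i
    obtain ⟨h, hh⟩ := hDT i
    rw [← hh]
    exact LinearEquiv.finrank_map_eq (linEquiv (h : GL ι F)) X₀
  have hinj : Function.Injective D := hind.injective fun i => hT0 _ (hDT i)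
  have ht : 2 ≤ t := by
    by_contra hlt
    push Not at hlt
    interval_cases t
    · have : (⊤ : Submodule F (ι → F)) = ⊥ := by rw [← hD]; simp
      exact top_ne_bot this
    · have h1 : D 0 = ⊤ := by
        rw [← hD]
        exact le_antisymm (le_iSup D 0) (iSup_le fun i => by rw [Fin.fin_one_eq_zero i])
      refine hN (actsIrreducibly_iff.2 fun W hW => ?_)
      rcases hTmin _ (hDT 0) W (h1 ▸ le_top) hW with e | e
      · exact Or.inl e
      · exact Or.inr (e.trans h1)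
  refine ⟨t, Module.finrank F X₀, D, ⟨ht, Nat.pos_of_ne_zero fun e => hX0 (Submodule.finrank_eq_zero.1 e), hdim, hind,
    hD⟩, fun g hg => ?_, fun i => hTst _ (hDT i), fun i => hTmin _ (hDT i), fun i j => ?_⟩
  · choose π hπ using fun i => hfin _ (hTperm g hg _ (hDT i))
    have hπinj : Function.Injective π := fun i j e => hinj (Submodule.map_injective_of_injective
      (linEquiv g).injective ((hπ i).trans ((congrArg D e).trans (hπ j).symm)))
    refine ⟨Equiv.ofBijective π ⟨hπinj, Finite.injective_iff_surjective.1 hπinj⟩, fun i => ?_⟩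
    show (D i).map _ = D (π i)
    rw [← hπ i]
    rfl
  · obtain ⟨a, ha⟩ := hDT i
    obtain ⟨b, hb⟩ := hDT j
    refine ⟨b * (a : GL ι F)⁻¹, H.mul_mem b.2 (H.inv_mem a.2), ?_⟩
    rw [← ha, ← hb, hmapmap, inv_mul_cancel_right]

theorem centreComm_le {N : Subgroup (GL ι F)} : centreComm N ≤ comm N := inf_le_left

/-- In the homogeneous case the centre of the commutant is a field. -/
theorem centreComm_field [Finite F] [Nonempty ι] {N : Subgroup (GL ι F)} (hN : IsHomog N) :
    IsFieldSubalgebra (Module.finrank F (centreComm N)) (centreComm N) := by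
  have hcomm : ∀ x ∈ centreComm N, ∀ y ∈ centreComm N, x * y = y * x := fun x hx y hy =>
    (Subalgebra.mem_centralizer_iff F).1 hy.2 x hx.1
  have hmem : ∀ k ∈ centreComm N, k ∈ Subalgebra.centralizer F (NC N) := by
    intro k hk
    rw [Subalgebra.mem_centralizer_iff]
    rintro s (hs | hs)
    · exact (Subalgebra.mem_centralizer_iff F).1 hk.1 s hs
    · exact (Subalgebra.mem_centralizer_iff F).1 hk.2 s hs
  refine ⟨hcomm, fun x hx hx0 => ?_, rfl⟩
  haveI : Finite (centreComm N) := inferInstance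
  let L : centreComm N → centreComm N := fun y => ⟨x, hx⟩ * y
  have hinj : Function.Injective L := by
    intro a b hab
    have h0 : x * ((a : Matrix ι ι F) - b) = 0 := by
      rw [mul_sub, sub_eq_zero]
      exact congrArg Subtype.val hab
    refine Subtype.ext (sub_eq_zero.1 (Matrix.toLin'.injective (LinearMap.ext fun v => ?_)))
    rw [map_zero, LinearMap.zero_apply, Matrix.toLin'_apply]
    refine centralizer_inj hN (hmem x hx) hx0 ?_
    rw [Matrix.mulVec_mulVec, h0, Matrix.zero_mulVec]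
  obtain ⟨y, hy⟩ := Finite.injective_iff_surjective.1 hinj 1
  exact ⟨y, y.2, congrArg Subtype.val hy⟩

theorem mem_normalizer_centreComm {N : Subgroup (GL ι F)} {h : GL ι F} (h₁ : ∀ x ∈ N, h * x * h⁻¹ ∈ N)
    (h₂ : ∀ x ∈ N, h⁻¹ * x * h ∈ N) : h ∈ subalgebraNormalizer (centreComm N) := by
  have key : ∀ g : GL ι F, (∀ x ∈ N, g * x * g⁻¹ ∈ N) → (∀ x ∈ N, g⁻¹ * x * g ∈ N) → ∀ k ∈ centreComm N,
      (g : Matrix ι ι F) * k * ((g⁻¹ : GL ι F) : Matrix ι ι F) ∈ centreComm N := by
    intro g g₁ g₂ k hk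
    refine ⟨(conj_mem_comm g₁ g₂ hk.1).1, (Subalgebra.mem_centralizer_iff F).2 fun c hc => ?_⟩
    have h := (Subalgebra.mem_centralizer_iff F).1 hk.2 _ (conj_mem_comm g₁ g₂ hc).2
    have := congrArg (fun X => (g : Matrix ι ι F) * X * ((g⁻¹ : GL ι F) : Matrix ι ι F)) h
    simpa [mul_assoc, ← mul_assoc (g : Matrix ι ι F) ((g⁻¹ : GL ι F) : Matrix ι ι F)] using this
  intro k
  refine ⟨key h h₁ h₂ k, fun hk => ?_⟩
  have := key h⁻¹ (by simpa using h₂) (by simpa using h₁) _ hk
  simpa [mul_assoc, ← Units.val_mul] using this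

end CfsgLib.Geo.Asch
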