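/-
Burnside's theorem and subfield groups containing the normaliser of a group realisable over a subfield.
-/
import Cfsg.Agent.Lib.Geo.Asch.Irred

set_option autoImplicit false

namespace CfsgLib.Geo.Asch

open Matrix Cfsg.Geo

variable {ι : Type} [Fintype ι] [DecidableEq ι] {F : Type*} [Field F]

/-- Burnside: an absolutely irreducible group spans the matrix algebra. -/
theorem span_eq_top [Nonempty ι] {N : Subgroup (GL ι F)} (hN : ActsAbsolutelyIrreducibly (matrixSet N)) :
    Submodule.span F (matrixSet N) = ⊤ := by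
  classical
  set A := (Algebra.adjoin F (matrixSet N)).map
    (Matrix.toLinAlgEquiv' : Matrix ι ι F ≃ₐ[F] Module.End F (ι → F)).toAlgHom with hA
  have hmem : ∀ s ∈ matrixSet N, Matrix.toLinAlgEquiv' s ∈ A := fun s hs =>
    ⟨s, Algebra.subset_adjoin hs, rfl⟩
  have hsub : ∀ (U : Submodule A (ι → F)) (c : F) (v : ι → F), v ∈ U → c • v ∈ U := fun U c v hv => by
    have : (algebraMap F A c) • v ∈ U := U.smul_mem _ hv
    exact this
  have hsimple : IsSimpleModule A (ι → F) := by
    rw [isSimpleModule_iff]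
    have : Nontrivial (Submodule A (ι → F)) := (Submodule.nontrivial_iff A).2 inferInstance
    refine ⟨fun U => ?_⟩
    let U' : Submodule F (ι → F) :=
      { U.toAddSubmonoid with smul_mem' := fun c v hv => hsub U c v hv }
    rcases actsIrreducibly_iff.1 hN.1 U' (fun s hs v hv => by
        have : (⟨_, hmem s hs⟩ : A) • v ∈ U := U.smul_mem _ hv
        exact this) with h | h
    · exact Or.inl (SetLike.ext fun v => by simpa [U'] using SetLike.ext_iff.1 h v)
    · exact Or.inr (SetLike.ext fun v => by simpa [U'] using SetLike.ext_iff.1 h v)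
  have htop : ∀ T : Module.End F (ι → F), T ∈ A := by
    intro T
    have hscalar : ∀ g : Module.End A (ι → F), ∃ c : F, ∀ v, g v = c • v := by
      intro g
      let g' : Module.End F (ι → F) :=
        { toFun := g
          map_add' := map_add g
          map_smul' := fun c v => g.map_smul (algebraMap F A c) v }
      obtain ⟨c, hc⟩ := hN.2 (Matrix.toLinAlgEquiv'.symm g') (fun s hs => by
        apply Matrix.toLinAlgEquiv'.injective
        rw [map_mul, map_mul, AlgEquiv.apply_symm_apply]
        exact LinearMap.ext fun v => g.map_smul (⟨_, hmem s hs⟩ : A) v)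
      refine ⟨c, fun v => ?_⟩
      have := congrArg Matrix.toLinAlgEquiv' hc
      rw [AlgEquiv.apply_symm_apply, map_smul, map_one] at this
      exact LinearMap.congr_fun this v
    let f : Module.End (Module.End A (ι → F)) (ι → F) :=
      { toFun := T
        map_add' := map_add T
        map_smul' := fun g v => by
          obtain ⟨c, hc⟩ := hscalar g
          simp [hc] }
    obtain ⟨a, ha⟩ := jacobson_density (R := A) f (Finset.univ.image fun i : ι => (Pi.single i 1 : ι → F))
    have : T = (a : Module.End F (ι → F)) := (Pi.basisFun F ι).ext fun i => by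
      rw [Pi.basisFun_apply]
      exact ha _ (Finset.mem_image_of_mem _ (Finset.mem_univ i))
    rw [this]
    exact a.2
  have hcl : (Submonoid.closure (matrixSet N) : Set (Matrix ι ι F)) ⊆ matrixSet N := by
    have : Submonoid.closure (matrixSet N) ≤ N.toSubmonoid.map (Units.coeHom (Matrix ι ι F)) :=
      Submonoid.closure_le.2 fun _ h => h
    exact fun _ h => this h
  rw [eq_top_iff]
  intro M _
  obtain ⟨a, ha, e⟩ := htop (Matrix.toLinAlgEquiv' M)
  rw [Matrix.toLinAlgEquiv'.injective (show Matrix.toLinAlgEquiv' M = Matrix.toLinAlgEquiv' a from e.symm)]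
  have : a ∈ Subalgebra.toSubmodule (Algebra.adjoin F (matrixSet N)) := ha
  rw [Algebra.adjoin_eq_span] at this
  exact Submodule.span_mono hcl this

/-- Above every proper subfield of a finite field there is one of prime index. -/
theorem exists_prime_index [Fintype F] {F₀ : Subfield F} (h : F₀ ≠ ⊤) :
    ∃ (F₁ : Subfield F) (r : ℕ), F₀ ≤ F₁ ∧ r.Prime ∧ Fintype.card F = Nat.card F₁ ^ r := by
  have : IsGalois F₀ F := inferInstance
  have hcard : Nat.card (F ≃ₐ[F₀] F) = Module.finrank F₀ F := IsGalois.card_aut_eq_finrank F₀ F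
  have hne : Module.finrank F₀ F ≠ 1 := by
    intro h1
    refine h (SetLike.ext fun x => iff_of_true ?_ (Subfield.mem_top x))
    obtain ⟨c, hc⟩ := (finrank_eq_one_iff_of_nonzero' (1 : F) one_ne_zero).1 h1 x
    rw [← hc, Subfield.smul_def, smul_eq_mul, mul_one]
    exact c.2
  obtain ⟨r, hr, hdvd⟩ := Nat.exists_prime_and_dvd hne
  have : Fact r.Prime := ⟨hr⟩
  obtain ⟨g, hg⟩ := exists_prime_orderOf_dvd_card' (G := F ≃ₐ[F₀] F) r (by rwa [hcard])
  let E := IntermediateField.fixedField (Subgroup.zpowers g)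
  refine ⟨E.toSubfield, r, fun x hx => E.algebraMap_mem ⟨x, hx⟩, hr, ?_⟩
  have hE : Module.finrank E F = r := by
    rw [IntermediateField.finrank_fixedField_eq_card, Nat.card_zpowers, hg]
  rw [← Nat.card_eq_fintype_card, ← hE]
  exact Module.natCard_eq_pow_finrank (K := E) (V := F)

theorem subfieldSubgroup_mem {F₁ : Subfield F} {P h g : GL ι F} {c : Fˣ}
    (hg : ∀ i j, (g : Matrix ι ι F) i j ∈ F₁) (hh : P⁻¹ * h * P = g * Units.map (Matrix.scalar ι : F →+* Matrix ι ι F).toMonoidHom c) :
    h ∈ subfieldSubgroup F₁ P := by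
  let M : Matrix ι ι F₁ := fun i j => ⟨(g : Matrix ι ι F) i j, hg i j⟩
  have hM : M.map F₁.subtype = (g : Matrix ι ι F) := rfl
  have hdet : M.det ≠ 0 := by
    intro h0
    have := RingHom.map_det F₁.subtype M
    rw [h0, map_zero, RingHom.mapMatrix_apply, hM] at this
    exact (Matrix.GeneralLinearGroup.det g).ne_zero this.symm
  refine ⟨P⁻¹ * h * P, ?_, by simp [mul_assoc]⟩
  rw [hh]
  exact Subgroup.mul_mem_sup ⟨Matrix.GeneralLinearGroup.mkOfDetNeZero M hdet, Units.ext hM⟩ ⟨c, rfl⟩

/-- The normaliser of an absolutely irreducible group written over `F₀` by the basis change `B`. -/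
theorem le_subfieldSubgroup_of_realised [Nonempty ι] {H N : Subgroup (GL ι F)}
    (hn : ∀ h ∈ H, ∀ x ∈ N, h * x * h⁻¹ ∈ N) (hN : ActsAbsolutelyIrreducibly (matrixSet N))
    {F₀ F₁ : Subfield F} (hle : F₀ ≤ F₁) (B : GL ι F)
    (hB : ∀ s ∈ matrixSet N, ∀ i j,
      ((B : Matrix ι ι F) * s * ((B⁻¹ : GL ι F) : Matrix ι ι F)) i j ∈ F₀) :
    H ≤ subfieldSubgroup F₁ B⁻¹ := by
  classical
  intro h hh
  let conj : Matrix ι ι F →ₗ[F] Matrix ι ι F :=
    (LinearMap.mulLeft F (B : Matrix ι ι F)).comp (LinearMap.mulRight F ((B⁻¹ : GL ι F) : Matrix ι ι F))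
  let S₀ : Set (Matrix ι ι F₀) := {M | M.map F₀.subtype ∈ conj '' matrixSet N}
  have hS₀ : Submodule.span F₀ S₀ = ⊤ := by
    by_contra hne'
    obtain ⟨M, hM⟩ : ∃ M, M ∉ Submodule.span F₀ S₀ := by
      by_contra! h'
      exact hne' (Submodule.eq_top_iff'.2 h')
    obtain ⟨φ, hφM, hφ⟩ := Submodule.exists_dual_map_eq_bot_of_notMem hM inferInstance
    let Φ : Matrix ι ι F →ₗ[F] F :=
      { toFun := fun T => ∑ i, ∑ j, T i j * (φ (Matrix.single i j 1) : F)
        map_add' := fun a b => by simp [add_mul, Finset.sum_add_distrib]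
        map_smul' := fun c a => by simp [Finset.mul_sum, mul_assoc] }
    have hΦ : ∀ T : Matrix ι ι F₀, Φ (T.map F₀.subtype) = φ T := by
      intro T
      show (∑ i, ∑ j, (T i j : F) * (φ (Matrix.single i j 1) : F)) = _
      conv_rhs => rw [Matrix.matrix_eq_sum_single T]
      simp only [map_sum, AddSubmonoidClass.coe_finsetSum]
      refine Finset.sum_congr rfl fun i _ => Finset.sum_congr rfl fun j _ => ?_
      rw [show Matrix.single i j (T i j) = T i j • Matrix.single i j (1 : F₀) by
        rw [Matrix.smul_single, smul_eq_mul, mul_one], map_smul]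
      rfl
    have hz : Φ.comp conj = 0 := by
      refine LinearMap.ext_on (span_eq_top hN) ?_
      rintro s hs
      have he : ∀ i j, conj s i j ∈ F₀ := fun i j => by simpa [conj, mul_assoc] using hB s hs i j
      let T : Matrix ι ι F₀ := fun i j => ⟨conj s i j, he i j⟩
      have hT : T ∈ S₀ := ⟨s, hs, rfl⟩
      have : φ T ∈ (Submodule.span F₀ S₀).map φ := ⟨T, Submodule.subset_span hT, rfl⟩
      rw [hφ, Submodule.mem_bot] at this
      show Φ (conj s) = 0
      rw [show conj s = T.map F₀.subtype from rfl, hΦ, this]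
      rfl
    apply hφM
    apply Subtype.ext
    rw [← hΦ]
    have := LinearMap.congr_fun hz (((B⁻¹ : GL ι F) : Matrix ι ι F) * M.map F₀.subtype * (B : Matrix ι ι F))
    simpa [conj, mul_assoc] using this
  set g : GL ι F := B * h * B⁻¹ with hg
  have key : ∀ M : Matrix ι ι F₀, ∀ i j,
      ((g : Matrix ι ι F) * M.map F₀.subtype * ((g⁻¹ : GL ι F) : Matrix ι ι F)) i j ∈ F₀ := by
    intro M
    have hM : M ∈ Submodule.span F₀ S₀ := hS₀ ▸ Submodule.mem_top
    induction hM using Submodule.span_induction with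
    | mem x hx =>
      obtain ⟨_, ⟨n, hn', rfl⟩, e⟩ := hx
      intro i j
      have := hB _ (mem_matrixSet (hn h hh n hn')) i j
      rw [← e]
      simpa [conj, hg, mul_assoc] using this
    | zero => simp
    | add x y _ _ hx hy =>
      intro i j
      rw [Matrix.map_add _ (map_add _), mul_add, add_mul, Matrix.add_apply]
      exact add_mem (hx i j) (hy i j)
    | smul c x _ hx =>
      intro i j
      rw [show (c • x).map F₀.subtype = (c : F) • x.map F₀.subtype from rfl, Matrix.mul_smul, Matrix.smul_mul,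
        Matrix.smul_apply, smul_eq_mul]
      exact mul_mem c.2 (hx i j)
  obtain ⟨j, b, hjb⟩ : ∃ j b, ((g⁻¹ : GL ι F) : Matrix ι ι F) j b ≠ 0 := by
    by_contra! h'
    exact Units.ne_zero g⁻¹ (Matrix.ext h')
  set c := ((g⁻¹ : GL ι F) : Matrix ι ι F) j b with hc
  have hentry : ∀ a i, (g : Matrix ι ι F) a i * c ∈ F₀ := by
    intro a i
    have := key (Matrix.single i j 1) a b
    rwa [show (Matrix.single i j (1 : F₀)).map F₀.subtype = Matrix.single i j (1 : F) by
        rw [Matrix.map_single, map_one],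
      Matrix.mul_assoc, Matrix.mul_apply, Finset.sum_eq_single i, Matrix.single_mul_apply_same, one_mul] at this
    · intro k _ hk
      rw [Matrix.single_mul_apply_of_ne _ _ _ _ _ hk, mul_zero]
    · simp
  let z : GL ι F := Units.map (Matrix.scalar ι : F →+* Matrix ι ι F).toMonoidHom (Units.mk0 c hjb)
  refine subfieldSubgroup_mem (g := g * z) (c := (Units.mk0 c hjb)⁻¹) (fun a i => hle ?_) ?_
  · simpa [z, Matrix.mul_diagonal] using hentry a i
  · rw [inv_inv, map_inv, mul_inv_cancel_right]

/-- The normaliser of an absolutely irreducible group realisable over a subfield lies in a subfield group. -/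
theorem exists_subfieldSubgroup [Fintype F] [Nonempty ι] {H N : Subgroup (GL ι F)}
    (hn : ∀ h ∈ H, ∀ x ∈ N, h * x * h⁻¹ ∈ N) (hN : ActsAbsolutelyIrreducibly (matrixSet N))
    {F₀ : Subfield F} (hne : F₀ ≠ ⊤) (hreal : RealisableOver F₀ (matrixSet N)) :
    ∃ (F₁ : Subfield F) (r : ℕ) (P : GL ι F),
      r.Prime ∧ Fintype.card F = Nat.card F₁ ^ r ∧ H ≤ subfieldSubgroup F₁ P := by
  obtain ⟨F₁, r, hle, hr, hcard⟩ := exists_prime_index hne
  obtain ⟨B, hB⟩ := hreal
  exact ⟨F₁, r, B⁻¹, hr, hcard, le_subfieldSubgroup_of_realised hn hN hle B hB⟩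

end CfsgLib.Geo.Asch
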