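/-
Over the field with four elements the normaliser of a cubic field subalgebra lies in a subfield group.
-/
import Cfsg.Agent.Lib.Geo.Asch.Span

set_option autoImplicit false

namespace CfsgLib.Geo.Asch

set_option maxHeartbeats 400000

open Matrix Cfsg.Geo

variable {F : Type*} [Field F] [Fintype F]

/-- In SL_3(4) the normaliser of a field with 64 elements is defined over the field with two elements. -/
theorem field_four_le_subfield (hF : Fintype.card F = 4) {K : Subalgebra F (Matrix (Fin 3) (Fin 3) F)}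
    (hK : IsFieldSubalgebra 3 K) :
    ∃ (F₀ : Subfield F) (P : GL (Fin 3) F), Fintype.card F = Nat.card F₀ ^ 2 ∧
      subalgebraNormalizer K ⊓ specialLinear (Fin 3) F ≤ subfieldSubgroup F₀ P := by
  classical
  have h2 : (2 : F) = 0 := by
    by_contra h
    have := FiniteField.odd_card_of_char_ne_two (F := F) fun h' => h (by
      have := CharP.cast_eq_zero F (ringChar F)
      rw [h'] at this
      exact_mod_cast this)
    omega
  haveI hchar : CharP F 2 := (CharP.charP_iff_prime_eq_zero Nat.prime_two).2 (by exact_mod_cast h2)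
  have hfrob : ∀ c : F, c ^ 4 = c := fun c => by rw [← hF]; exact FiniteField.pow_card c
  have hu3 : ∀ c : F, c ≠ 0 → c ^ 3 = 1 := fun c hc => by
    have := FiniteField.pow_card_sub_one_eq_one c hc
    rwa [hF] at this
  -- K as a field
  have hfield : IsField K :=
    ⟨⟨0, 1, fun h => one_ne_zero (α := Matrix (Fin 3) (Fin 3) F) (congrArg Subtype.val h).symm⟩,
      fun a b => Subtype.ext (hK.comm a a.2 b b.2),
      fun {a} ha => by
        obtain ⟨b, hb, hab⟩ := hK.inv a a.2 fun h => ha (Subtype.ext h)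
        exact ⟨⟨b, hb⟩, Subtype.ext hab⟩⟩
  letI : Field K := hfield.toField
  haveI : Fintype K := Fintype.ofFinite K
  have hcardK : Fintype.card K = 64 := by
    rw [← Nat.card_eq_fintype_card, Module.natCard_eq_pow_finrank (K := F) (V := K), hK.finrank_eq,
      Nat.card_eq_fintype_card, hF]
    norm_num
  haveI : CharP K 2 := charP_of_injective_algebraMap' F 2
  have h63 : ∀ k : K, k ≠ 0 → k ^ 63 = 1 := fun k hk => by
    have := FiniteField.pow_card_sub_one_eq_one k hk
    rwa [hcardK] at this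
  -- fixed points of x ↦ x^4 are the scalars
  have hscal : ∀ k : K, k ^ 4 = k → ∃ c : F, k = algebraMap F K c := by
    intro k hk
    by_contra! hne
    let P : Polynomial K := Polynomial.X ^ 4 - Polynomial.X
    have hP : P.natDegree = 4 := by
      simpa [P] using FiniteField.X_pow_card_sub_X_natDegree_eq K (p := 4) (by norm_num)
    have hP0 : P ≠ 0 := fun h => by simp [h] at hP
    let S : Finset K := insert k (Finset.univ.image (algebraMap F K))
    have hS : S ⊆ P.roots.toFinset := by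
      intro z hz
      rw [Multiset.mem_toFinset, Polynomial.mem_roots hP0, Polynomial.IsRoot]
      rcases Finset.mem_insert.1 hz with rfl | hz
      · simp [P, hk]
      · obtain ⟨c, -, rfl⟩ := Finset.mem_image.1 hz
        simp [P, ← map_pow, hfrob]
    have hc : S.card = 5 := by
      rw [Finset.card_insert_of_notMem (by
          simp only [Finset.mem_image, Finset.mem_univ, true_and, not_exists]
          exact fun c hc => hne c hc.symm),
        Finset.card_image_of_injective _ (algebraMap F K).injective, Finset.card_univ, hF]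
    have := (Finset.card_le_card hS).trans ((Multiset.toFinset_card_le _).trans (Polynomial.card_roots' P))
    omega
  have hindep : ∀ k : K, (∀ c : F, k ≠ algebraMap F K c) → ∀ a b c : F,
      algebraMap F K a + algebraMap F K b * k + algebraMap F K c * k ^ 2 = 0 → a = 0 ∧ b = 0 ∧ c = 0 := by
    intro k hk a b c h0
    have h4 : ∀ z : K, algebraMap F K a + algebraMap F K b * z + algebraMap F K c * z ^ 2 = 0 →
        algebraMap F K a + algebraMap F K b * z ^ 4 + algebraMap F K c * (z ^ 4) ^ 2 = 0 := by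
      intro z hz
      have := congrArg (fun t => iterateFrobenius K 2 2 t) hz
      simp only [map_add, map_mul, map_zero, iterateFrobenius_def] at this
      simp only [show (2 : ℕ) ^ 2 = 4 from rfl, ← map_pow, hfrob] at this
      rw [← this]; ring
    have h16 := h4 _ (h4 k h0)
    have h1 := h4 k h0
    have d1 : k ^ 4 - k ≠ 0 := fun h => by
      obtain ⟨c, hc⟩ := hscal k (sub_eq_zero.1 h)
      exact hk c hc
    have hk0 : k ≠ 0 := fun h => hk 0 (by rw [h, map_zero])
    have d2 : (k ^ 4) ^ 4 - k ≠ 0 := fun h => by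
      apply d1
      have e := congrArg (fun t : K => t ^ 4) (sub_eq_zero.1 h)
      simp only [← pow_mul] at e
      rw [show 4 * 4 * 4 = 63 + 1 from rfl, pow_succ, h63 k hk0, one_mul] at e
      exact sub_eq_zero.2 e.symm
    have d3 : (k ^ 4) ^ 4 - k ^ 4 ≠ 0 := fun h => by
      apply d1
      have e : k ^ 256 = k ^ 64 := by
        rw [show k ^ 256 = ((k ^ 4) ^ 4) ^ 16 by ring, sub_eq_zero.1 h]; ring
      rw [show (256 : ℕ) = 63 * 4 + 4 from rfl, show (64 : ℕ) = 63 + 1 from rfl, pow_add, pow_mul, h63 k hk0,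
        one_pow, one_mul, pow_succ (n := 63), h63 k hk0, one_mul] at e
      exact sub_eq_zero.2 e
    have e1 : algebraMap F K b + algebraMap F K c * (k ^ 4 + k) = 0 :=
      (mul_eq_zero.1 (show (k ^ 4 - k) * _ = 0 by linear_combination h1 - h0)).resolve_left d1
    have e2 : algebraMap F K b + algebraMap F K c * ((k ^ 4) ^ 4 + k) = 0 :=
      (mul_eq_zero.1 (show ((k ^ 4) ^ 4 - k) * _ = 0 by linear_combination h16 - h0)).resolve_left d2
    have e3 : algebraMap F K c = 0 :=
      (mul_eq_zero.1 (show ((k ^ 4) ^ 4 - k ^ 4) * algebraMap F K c = 0 by linear_combination e2 - e1)).resolve_left d3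
    rw [e3, zero_mul, add_zero] at e1
    rw [e3, e1, zero_mul, zero_mul, add_zero, add_zero] at h0
    exact ⟨(algebraMap F K).injective (by rw [h0, map_zero]), (algebraMap F K).injective (by rw [e1, map_zero]),
      (algebraMap F K).injective (by rw [e3, map_zero])⟩
  -- an element of order 7
  obtain ⟨γ, hγ⟩ := IsCyclic.exists_generator (α := Kˣ)
  have hγo : orderOf γ = 63 := by
    rw [orderOf_eq_card_of_forall_mem_zpowers hγ, Nat.card_units, Nat.card_eq_fintype_card, hcardK]
  set β : K := ((γ ^ 9 : Kˣ) : K) with hβ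
  have hβroot : IsPrimitiveRoot β 7 := by
    have : orderOf (γ ^ 9) = 7 := by rw [orderOf_pow, hγo]; norm_num
    rw [hβ, ← this, ← orderOf_units]
    exact IsPrimitiveRoot.orderOf _
  have hβ8 : β ^ 8 = β := by rw [pow_succ, hβroot.pow_eq_one, one_mul]
  have hβs : ∀ c : F, β ≠ algebraMap F K c := by
    intro c hc
    have hc0 : c ≠ 0 := fun h => by simpa [h, hc] using hβroot.ne_zero (by norm_num)
    have h3 : β ^ 3 = 1 := by rw [hc, ← map_pow, hu3 c hc0, map_one]
    have := hβroot.dvd_of_pow_eq_one 3 h3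
    norm_num at this
  let F₀ : Subfield F := RingHom.eqLocusField (frobenius F 2) (RingHom.id F)
  have hF₀ : ∀ c : F, c ∈ F₀ ↔ c = 0 ∨ c = 1 := fun c => by
    show frobenius F 2 c = c ↔ _
    rw [frobenius_def]
    constructor
    · exact eq_zero_or_one_of_sq_eq_self
    · rintro (rfl | rfl) <;> simp
  have hcard₀ : Nat.card F₀ = 2 := by
    rw [show Nat.card F₀ = Set.ncard ({0, 1} : Set F) from ?_, Set.ncard_pair zero_ne_one]
    rw [← Nat.card_coe_set_eq]
    exact Nat.card_congr (Equiv.subtypeEquivRight fun c => by simpa using hF₀ c)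
  -- the eight roots of x^8 = x
  let φ : F₀ × F₀ × F₀ → K := fun t =>
    algebraMap F K t.1 + algebraMap F K t.2.1 * β + algebraMap F K t.2.2 * β ^ 2
  have hφinj : Function.Injective φ := by
    intro s t hst
    obtain ⟨ha, hb, hc⟩ := hindep β hβs ((s.1 : F) - t.1) ((s.2.1 : F) - t.2.1) ((s.2.2 : F) - t.2.2) (by
      simp only [map_sub]; linear_combination hst)
    exact Prod.ext (Subtype.ext (sub_eq_zero.1 ha)) (Prod.ext (Subtype.ext (sub_eq_zero.1 hb))
      (Subtype.ext (sub_eq_zero.1 hc)))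
  have hspan : ∀ k : K, k ^ 8 = k → ∃ t, φ t = k := by
    let L : Set K := {k | k ^ 8 = k}
    have h1 : Set.range φ ⊆ L := by
      rintro _ ⟨t, rfl⟩
      show (φ t) ^ 8 = φ t
      have h8 : ∀ c : F₀, (c : F) ^ 8 = c := fun c => by
        rcases (hF₀ c).1 c.2 with h | h <;> rw [h] <;> simp
      rw [show (φ t) ^ 8 = iterateFrobenius K 2 3 (φ t) from (iterateFrobenius_def 2 3 _).symm]
      simp only [φ, map_add, map_mul, iterateFrobenius_def, show (2 : ℕ) ^ 3 = 8 from rfl, ← map_pow, h8, hβ8]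
      rw [show (β ^ 2) ^ 8 = (β ^ 8) ^ 2 by ring, hβ8]
    have h2 : L ⊆ insert 0 (Set.range fun i : Fin 7 => β ^ (i : ℕ)) := by
      intro k hk
      by_cases h : k = 0
      · exact Or.inl h
      · have h7 : k ^ 7 = 1 := mul_right_cancel₀ h (by rw [← pow_succ, one_mul]; exact hk)
        obtain ⟨i, hi, rfl⟩ := hβroot.eq_pow_of_pow_eq_one h7
        exact Or.inr ⟨⟨i, hi⟩, rfl⟩
    have hcard : L.ncard ≤ (Set.range φ).ncard := by
      have hr8 : (Set.range φ).ncard = 8 := by
        rw [← Nat.card_coe_set_eq, Nat.card_range_of_injective hφinj, Nat.card_prod, Nat.card_prod, hcard₀]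
      rw [hr8]
      refine (Set.ncard_le_ncard h2).trans ((Set.ncard_insert_le _ _).trans ?_)
      have := Finite.card_range_le (fun i : Fin 7 => β ^ (i : ℕ))
      rw [← Nat.card_coe_set_eq]
      simp only [Nat.card_fin] at this
      omega
    intro k hk
    exact (Set.eq_of_subset_of_ncard_le h1 hcard).ge hk
  -- the basis e, β e, β² e
  let e : Fin 3 → F := Pi.single 0 1
  have he : e ≠ 0 := fun h => one_ne_zero (α := F) (by simpa [e] using congrFun h 0)
  have hinjv : ∀ k : K, (k : Matrix (Fin 3) (Fin 3) F) *ᵥ e = 0 → k = 0 := by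
    intro k hk
    by_contra h
    obtain ⟨k', hk'⟩ := hfield.mul_inv_cancel h
    apply he
    have hh := congrArg (fun v => ((k' : K) : Matrix (Fin 3) (Fin 3) F) *ᵥ v) hk
    simp only [Matrix.mulVec_mulVec, Matrix.mulVec_zero] at hh
    rwa [← Subalgebra.coe_mul, mul_comm k', hk', OneMemClass.coe_one, Matrix.one_mulVec] at hh
  have hbasis : ∀ k : K, (∀ c : F, k ≠ algebraMap F K c) →
      IsUnit (Matrix.of fun i j : Fin 3 => (((k ^ (j : ℕ) : K) : Matrix (Fin 3) (Fin 3) F) *ᵥ e) i) := by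
    intro k hk
    rw [← Matrix.linearIndependent_cols_iff_isUnit, Fintype.linearIndependent_iff]
    intro c hc
    have : (((algebraMap F K (c 0) + algebraMap F K (c 1) * k + algebraMap F K (c 2) * k ^ 2 : K)) :
        Matrix (Fin 3) (Fin 3) F) *ᵥ e = 0 := by
      rw [← hc, Fin.sum_univ_three]
      ext i
      simp [Algebra.algebraMap_eq_smul_one, Matrix.add_mulVec, Matrix.smul_mulVec, Matrix.col]
    obtain ⟨h0, h1, h2'⟩ := hindep k hk _ _ _ (hinjv _ this)
    intro i
    fin_cases i <;> assumption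
  set M := Matrix.of fun i j : Fin 3 => (((β ^ (j : ℕ) : K) : Matrix (Fin 3) (Fin 3) F) *ᵥ e) i with hM
  have hMu : IsUnit M := hbasis β hβs
  refine ⟨F₀, hMu.unit, by rw [hF, hcard₀]; norm_num, fun g hg => ?_⟩
  obtain ⟨hgK, hgdet⟩ := Subgroup.mem_inf.1 hg
  let θ : K → K := fun k => ⟨(g : Matrix (Fin 3) (Fin 3) F) * k * ((g⁻¹ : GL (Fin 3) F) : Matrix (Fin 3) (Fin 3) F),
    (hgK k).1 k.2⟩
  have hθmul : ∀ a b, θ (a * b) = θ a * θ b := fun a b => Subtype.ext (by
    simp only [θ, Subalgebra.coe_mul, mul_assoc]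
    rw [← mul_assoc ((g⁻¹ : GL (Fin 3) F) : Matrix (Fin 3) (Fin 3) F) (g : Matrix (Fin 3) (Fin 3) F),
      ← Units.val_mul, inv_mul_cancel, Units.val_one, one_mul])
  have hθ1 : θ 1 = 1 := Subtype.ext (by simp [θ])
  have hθpow : ∀ a (n : ℕ), θ (a ^ n) = θ a ^ n := by
    intro a n
    induction n with
    | zero => simpa using hθ1
    | succ n ih => rw [pow_succ, hθmul, ih, pow_succ]
  -- x with g e = x e
  obtain ⟨x, hx⟩ : ∃ x : K, (g : Matrix (Fin 3) (Fin 3) F) *ᵥ e = (x : Matrix (Fin 3) (Fin 3) F) *ᵥ e := by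
    obtain ⟨cc, hcc⟩ := (Matrix.mulVec_surjective_iff_isUnit.2 hMu) ((g : Matrix (Fin 3) (Fin 3) F) *ᵥ e)
    refine ⟨algebraMap F K (cc 0) + algebraMap F K (cc 1) * β + algebraMap F K (cc 2) * β ^ 2, ?_⟩
    rw [← hcc]
    ext i
    simp [hM, Matrix.mulVec, dotProduct, Fin.sum_univ_three, Algebra.algebraMap_eq_smul_one, Matrix.add_mulVec,
      Matrix.smul_mulVec]
    ring
  have hx0 : x ≠ 0 := fun h => mulVec_ne_zero g he (by rw [hx, h]; simp)
  have hgcol : ∀ j : Fin 3, (g : Matrix (Fin 3) (Fin 3) F) *ᵥ (((β ^ (j : ℕ) : K) : Matrix (Fin 3) (Fin 3) F) *ᵥ e) =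
      ((x * θ (β ^ (j : ℕ)) : K) : Matrix (Fin 3) (Fin 3) F) *ᵥ e := by
    intro j
    rw [mul_comm x, Subalgebra.coe_mul, ← Matrix.mulVec_mulVec, ← hx, Matrix.mulVec_mulVec, Matrix.mulVec_mulVec]
    congr 1
    show _ = (g : Matrix (Fin 3) (Fin 3) F) * _ * ((g⁻¹ : GL (Fin 3) F) : Matrix (Fin 3) (Fin 3) F) * g
    rw [mul_assoc _ ((g⁻¹ : GL (Fin 3) F) : Matrix (Fin 3) (Fin 3) F), ← Units.val_mul, inv_mul_cancel,
      Units.val_one, mul_one]
  -- rational matrix for a k⁸ = k multiplier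
  have hrat : ∀ b : K, b ^ 8 = b → ∃ G : Matrix (Fin 3) (Fin 3) F, (∀ i j, G i j ∈ F₀) ∧
      ∀ (z : K), M * G = Matrix.of (fun i j : Fin 3 => (((b * θ (β ^ (j : ℕ)) : K) : Matrix (Fin 3) (Fin 3) F) *ᵥ e) i) ∧
        (z : Matrix (Fin 3) (Fin 3) F) * (M * G) =
          Matrix.of (fun i j : Fin 3 => (((z * (b * θ (β ^ (j : ℕ))) : K) : Matrix (Fin 3) (Fin 3) F) *ᵥ e) i) := by
    intro b hb
    have h8 : ∀ j : Fin 3, (b * θ (β ^ (j : ℕ))) ^ 8 = b * θ (β ^ (j : ℕ)) := fun j => by
      rw [mul_pow, hb, ← hθpow, ← pow_mul, mul_comm (j : ℕ) 8, pow_mul, hβ8]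
    choose t ht using fun j => hspan _ (h8 j)
    let G : Matrix (Fin 3) (Fin 3) F := Matrix.of fun i j => ![((t j).1 : F), (t j).2.1, (t j).2.2] i
    have hMG : M * G = Matrix.of (fun i j : Fin 3 => (((b * θ (β ^ (j : ℕ)) : K) : Matrix (Fin 3) (Fin 3) F) *ᵥ e) i) := by
      ext i j
      rw [Matrix.mul_apply, Matrix.of_apply, ← ht j, Fin.sum_univ_three]
      simp [φ, hM, G, Algebra.algebraMap_eq_smul_one, Matrix.add_mulVec, Matrix.smul_mulVec]
      ring
    refine ⟨G, fun i j => by fin_cases i <;> simp [G], fun z => ⟨hMG, ?_⟩⟩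
    rw [hMG]
    ext i j
    simp only [Matrix.mul_apply, Matrix.of_apply, Subalgebra.coe_mul, ← Matrix.mulVec_mulVec]
    rfl
  have hgM : ∀ (a b : K) (G : Matrix (Fin 3) (Fin 3) F), x = a * b →
      (a : Matrix (Fin 3) (Fin 3) F) * (M * G) =
        Matrix.of (fun i j : Fin 3 => (((a * (b * θ (β ^ (j : ℕ))) : K) : Matrix (Fin 3) (Fin 3) F) *ᵥ e) i) →
      (g : Matrix (Fin 3) (Fin 3) F) * M = (a : Matrix (Fin 3) (Fin 3) F) * (M * G) := by
    intro a b G hab hG
    rw [hG]
    ext i j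
    rw [Matrix.of_apply, ← mul_assoc, ← hab, ← hgcol j]
    rfl
  -- det x = 1
  have hdetg : (g : Matrix (Fin 3) (Fin 3) F).det = 1 := congrArg Units.val (MonoidHom.mem_ker.1 hgdet)
  have hdetx : (x : Matrix (Fin 3) (Fin 3) F).det = 1 := by
    obtain ⟨G, hG, hG'⟩ := hrat 1 (one_pow 8)
    have h := congrArg Matrix.det (hgM x 1 G (mul_one x).symm (hG' x).2)
    rw [Matrix.det_mul, Matrix.det_mul, Matrix.det_mul, hdetg, one_mul] at h
    have hmem : G.det ∈ F₀ := by
      rw [Matrix.det_fin_three]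
      repeat' first | apply add_mem | apply sub_mem | apply mul_mem | exact hG _ _
    have hM0 : M.det ≠ 0 := ((Matrix.isUnit_iff_isUnit_det M).1 hMu).ne_zero
    rcases (hF₀ _).1 hmem with h1 | h1
    · rw [h1, mul_zero, mul_zero] at h
      exact absurd h hM0
    · rw [h1, mul_one] at h
      exact mul_right_cancel₀ hM0 (h.symm.trans (one_mul _).symm)
  obtain ⟨a, b, hab, ha9, hb7⟩ : ∃ a b : K, x = a * b ∧ a ^ 9 = 1 ∧ b ^ 7 = 1 :=
    ⟨x ^ 28, x ^ 36, by rw [← pow_add, show 28 + 36 = 63 + 1 from rfl, pow_succ, h63 x hx0, one_mul],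
      by rw [← pow_mul, show 28 * 9 = 63 * 4 from rfl, pow_mul, h63 x hx0, one_pow],
      by rw [← pow_mul, show 36 * 7 = 63 * 4 from rfl, pow_mul, h63 x hx0, one_pow]⟩
  have hdetb : (b : Matrix (Fin 3) (Fin 3) F).det = 1 := by
    have h7 : (b : Matrix (Fin 3) (Fin 3) F).det ^ 7 = 1 := by
      rw [← Matrix.det_pow, ← SubmonoidClass.coe_pow, hb7, OneMemClass.coe_one, Matrix.det_one]
    have hne : (b : Matrix (Fin 3) (Fin 3) F).det ≠ 0 := fun h => by rw [h] at h7; simp at h7
    rw [pow_succ, show (6 : ℕ) = 3 * 2 from rfl, pow_mul, hu3 _ hne, one_pow, one_mul] at h7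
    exact h7
  have hdeta : (a : Matrix (Fin 3) (Fin 3) F).det = 1 := by
    rwa [hab, Subalgebra.coe_mul, Matrix.det_mul, hdetb, mul_one] at hdetx
  obtain ⟨c, hc⟩ : ∃ c : F, a = algebraMap F K c := by
    by_contra! hne
    obtain ⟨w, hw⟩ := hscal (a ^ 3) (by
      rw [← pow_mul, show 3 * 4 = 9 + 3 from rfl, pow_add, ha9, one_mul])
    have hu := hbasis a hne
    set A := Matrix.of fun i j : Fin 3 => (((a ^ (j : ℕ) : K) : Matrix (Fin 3) (Fin 3) F) *ᵥ e) i with hA
    let C : Matrix (Fin 3) (Fin 3) F := !![0, 0, w; 1, 0, 0; 0, 1, 0]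
    have hAC : (a : Matrix (Fin 3) (Fin 3) F) * A = A * C := by
      have hcol : ∀ j : Fin 3, (a : Matrix (Fin 3) (Fin 3) F) *ᵥ (((a ^ (j : ℕ) : K) : Matrix (Fin 3) (Fin 3) F) *ᵥ e) =
          ((a ^ ((j : ℕ) + 1) : K) : Matrix (Fin 3) (Fin 3) F) *ᵥ e := fun j => by
        rw [Matrix.mulVec_mulVec, ← Subalgebra.coe_mul, ← pow_succ']
      ext i j
      refine (congrFun (hcol j) i).trans ?_
      rw [Matrix.mul_apply, Fin.sum_univ_three]
      fin_cases j
      · simp [hA, C]
      · simp [hA, C]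
      · simp [hA, C, hw, Algebra.algebraMap_eq_smul_one, Matrix.smul_mulVec, mul_comm]
    have hd := congrArg Matrix.det hAC
    rw [Matrix.det_mul, Matrix.det_mul, hdeta, one_mul] at hd
    have hC : C.det = 1 := (mul_right_eq_self₀.1 hd.symm).resolve_right
      ((Matrix.isUnit_iff_isUnit_det A).1 hu).ne_zero
    have hw1 : w = 1 := by simpa [C, Matrix.det_fin_three] using hC
    rw [hw1, map_one] at hw
    obtain ⟨c, hc⟩ := hscal a (by rw [pow_succ, hw, one_mul])
    exact hne c hc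
  obtain ⟨G, hG, hG'⟩ := hrat b (by rw [pow_succ, hb7, one_mul])
  have hgG := hgM a b G hab (hG' a).2
  have hc0 : c ≠ 0 := by
    rintro rfl
    rw [map_zero] at hc
    rw [hc, zero_mul] at hab
    exact hx0 hab
  let z : GL (Fin 3) F := Units.map (Matrix.scalar (Fin 3) : F →+* Matrix (Fin 3) (Fin 3) F).toMonoidHom (Units.mk0 c hc0)
  have hz : (z : Matrix (Fin 3) (Fin 3) F) = c • 1 := by simp [z, Matrix.smul_one_eq_diagonal]
  have hval : ((hMu.unit⁻¹ * g * hMu.unit : GL (Fin 3) F) : Matrix (Fin 3) (Fin 3) F) = c • G := by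
    rw [Units.val_mul, Units.val_mul, hMu.unit_spec, mul_assoc, hgG, hc,
      show ((algebraMap F K c : K) : Matrix (Fin 3) (Fin 3) F) = c • 1 by simp [Algebra.algebraMap_eq_smul_one],
      Matrix.smul_mul, one_mul, Matrix.mul_smul, ← mul_assoc]
    congr 1
    rw [hMu.val_inv_mul, one_mul]
  refine subfieldSubgroup_mem (g := hMu.unit⁻¹ * g * hMu.unit * z⁻¹) (c := Units.mk0 c hc0) (fun i j => ?_)
    (inv_mul_cancel_right _ _).symm
  have hz' : ((z⁻¹ : GL (Fin 3) F) : Matrix (Fin 3) (Fin 3) F) = c⁻¹ • 1 := by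
    simp [z, Matrix.smul_one_eq_diagonal]
  rw [Units.val_mul, hval, hz', Matrix.mul_smul, mul_one, smul_smul, inv_mul_cancel₀ hc0, one_smul]
  exact hG i j

end CfsgLib.Geo.Asch
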