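/-
Absolutely irreducible groups with scalar commutators in odd prime dimension: the standard frame.
-/
import Cfsg.Agent.Lib.Geo.Asch.Irred

set_option autoImplicit false

namespace CfsgLib.Geo.Asch

open Matrix Cfsg.Geo

variable {r : ℕ} {F : Type*} [Field F]

/-- The hypotheses of the symplectic-type case. -/
structure ScalarComm (r : ℕ) (N : Subgroup (GL (Fin r) F)) : Prop where
  prime : r.Prime
  odd : Odd r
  absIrred : ActsAbsolutelyIrreducibly (matrixSet N)
  det_one : N ≤ specialLinear (Fin r) F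
  comm : ∀ x ∈ N, ∀ y ∈ N, x * y * x⁻¹ * y⁻¹ ∈ scalars (Fin r) F

/-- A pair of elements of `N` with `y x = μ x y`, `μ` a primitive `r`th root of unity. -/
structure FramePair (r : ℕ) (N : Subgroup (GL (Fin r) F)) (μ : F) (x y : GL (Fin r) F) : Prop where
  mem_left : x ∈ N
  mem_right : y ∈ N
  root : IsPrimitiveRoot μ r
  conj : (y : Matrix (Fin r) (Fin r) F) * x = μ • ((x : Matrix (Fin r) (Fin r) F) * y)

variable {N : Subgroup (GL (Fin r) F)}

theorem det_eq_one_of_mem (h : ScalarComm r N) {n : GL (Fin r) F} (hn : n ∈ N) :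
    (n : Matrix (Fin r) (Fin r) F).det = 1 :=
  congrArg Units.val (MonoidHom.mem_ker.1 (h.det_one hn))

theorem exists_conj (h : ScalarComm r N) {x y : GL (Fin r) F} (hx : x ∈ N) (hy : y ∈ N) :
    ∃ μ : F, (y : Matrix (Fin r) (Fin r) F) * x = μ • ((x : Matrix (Fin r) (Fin r) F) * y) ∧ μ ^ r = 1 := by
  obtain ⟨c, hc⟩ := (mem_scalars_iff _).1 (h.comm y hy x hx)
  have e : y * x = (y * x * y⁻¹ * x⁻¹) * (x * y) := by group
  have hmul : (y : Matrix (Fin r) (Fin r) F) * x = (c : F) • ((x : Matrix (Fin r) (Fin r) F) * y) := by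
    have := congrArg (Units.val : GL (Fin r) F → Matrix (Fin r) (Fin r) F) e
    rw [Units.val_mul, Units.val_mul _ (x * y), hc, Units.val_mul] at this
    rw [this, Matrix.smul_mul, one_mul]
  refine ⟨c, hmul, ?_⟩
  have hd := congrArg Matrix.det hmul
  rw [Matrix.det_smul, Matrix.det_mul, Matrix.det_mul, det_eq_one_of_mem h hx, det_eq_one_of_mem h hy] at hd
  simpa using hd.symm

theorem isPrimitiveRoot_of_ne_one (hr : r.Prime) {μ : F} (hμ : μ ^ r = 1) (h1 : μ ≠ 1) : IsPrimitiveRoot μ r := by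
  haveI : Fact r.Prime := ⟨hr⟩
  have := IsPrimitiveRoot.orderOf μ
  rwa [orderOf_eq_prime hμ h1] at this

theorem linearIndependent_pow_of_conj (hr : 0 < r) {n m : GL (Fin r) F} {μ : F} (hμ : IsPrimitiveRoot μ r)
    (h : (m : Matrix (Fin r) (Fin r) F) * n = μ • ((n : Matrix (Fin r) (Fin r) F) * m)) :
    LinearIndependent F (fun i : Fin r => (n : Matrix (Fin r) (Fin r) F) ^ (i : ℕ)) := by
  let f : Module.End F (Matrix (Fin r) (Fin r) F) :=
    (LinearMap.mulLeft F (m : Matrix (Fin r) (Fin r) F)).comp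
      (LinearMap.mulRight F ((m⁻¹ : GL (Fin r) F) : Matrix (Fin r) (Fin r) F))
  have key : ∀ i : ℕ, (m : Matrix (Fin r) (Fin r) F) * (n : Matrix (Fin r) (Fin r) F) ^ i =
      μ ^ i • ((n : Matrix (Fin r) (Fin r) F) ^ i * m) := by
    intro i
    induction i with
    | zero => simp
    | succ i ih =>
      rw [pow_succ, ← mul_assoc, ih, Matrix.smul_mul, mul_assoc, h, Matrix.mul_smul, smul_smul, ← pow_succ,
        mul_assoc]
  refine Module.End.eigenvectors_linearIndependent' f (fun i : Fin r => μ ^ (i : ℕ))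
    (fun i j hij => Fin.ext (hμ.pow_inj i.2 j.2 hij)) _ (fun i => ⟨?_, ?_⟩)
  · rw [Module.End.mem_eigenspace_iff]
    show (m : Matrix (Fin r) (Fin r) F) *
      ((n : Matrix (Fin r) (Fin r) F) ^ (i : ℕ) * ((m⁻¹ : GL (Fin r) F) : Matrix (Fin r) (Fin r) F)) = _
    rw [← mul_assoc, key, Matrix.smul_mul, mul_assoc, ← Units.val_mul, mul_inv_cancel, Units.val_one, mul_one]
  · haveI : Nonempty (Fin r) := ⟨⟨0, hr⟩⟩
    rw [← Units.val_pow_eq_pow_val]
    exact Units.ne_zero _

theorem pow_r_eq_one (h : ScalarComm r N) {n : GL (Fin r) F} (hn : n ∈ N) : n ^ r = 1 := by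
  haveI : Nonempty (Fin r) := ⟨⟨0, h.prime.pos⟩⟩
  have hfix : ∀ m ∈ N, n ^ r * m = m * n ^ r := by
    intro m hm
    obtain ⟨μ, hμ, hμr⟩ := exists_conj h hn hm
    apply Units.ext
    have key : ∀ i : ℕ, (m : Matrix (Fin r) (Fin r) F) * (n : Matrix (Fin r) (Fin r) F) ^ i =
        μ ^ i • ((n : Matrix (Fin r) (Fin r) F) ^ i * m) := by
      intro i
      induction i with
      | zero => simp
      | succ i ih =>
        rw [pow_succ, ← mul_assoc, ih, Matrix.smul_mul, mul_assoc, hμ, Matrix.mul_smul, smul_smul, ← pow_succ,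
          mul_assoc]
    rw [Units.val_mul, Units.val_mul, Units.val_pow_eq_pow_val, key, hμr, one_smul]
  obtain ⟨c, hc⟩ := (mem_scalars_iff _).1 (mem_scalars_of_commute h.absIrred hfix)
  suffices hc1 : (c : F) = 1 by
    apply Units.ext
    rw [hc, hc1, one_smul, Units.val_one]
  by_cases hs : n ∈ scalars (Fin r) F
  · obtain ⟨d, hd⟩ := (mem_scalars_iff _).1 hs
    have hdet := det_eq_one_of_mem h hn
    rw [hd, Matrix.det_smul, Fintype.card_fin, Matrix.det_one, mul_one] at hdet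
    rw [Units.val_pow_eq_pow_val, hd, smul_pow, one_pow, hdet] at hc
    simpa using (congrFun (congrFun hc ⟨0, h.prime.pos⟩) ⟨0, h.prime.pos⟩).symm
  · obtain ⟨m, hm, hmn⟩ : ∃ m ∈ N, n * m ≠ m * n := by
      by_contra! hall
      exact hs (mem_scalars_of_commute h.absIrred hall)
    obtain ⟨μ, hμ, hμr⟩ := exists_conj h hn hm
    have hμ1 : μ ≠ 1 := by
      rintro rfl
      exact hmn (Units.ext (by rw [Units.val_mul, Units.val_mul, hμ, one_smul]))
    have hli := linearIndependent_pow_of_conj h.prime.pos (isPrimitiveRoot_of_ne_one h.prime hμr hμ1) hμ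
    set A := (n : Matrix (Fin r) (Fin r) F) with hA
    have hdeg : r ≤ (minpoly F A).natDegree := by
      by_contra! hlt
      have h0 := minpoly.aeval F A
      rw [Polynomial.aeval_eq_sum_range' (n := r) hlt, ← Fin.sum_univ_eq_sum_range (fun i => (minpoly F A).coeff i • A ^ i)] at h0
      have := Fintype.linearIndependent_iff.1 hli _ h0 ⟨_, hlt⟩
      simp [(minpoly.monic (Matrix.isIntegral A)).coeff_natDegree] at this
    have e1 : A.charpoly = minpoly F A :=
      Polynomial.eq_of_monic_of_dvd_of_natDegree_le (minpoly.monic (Matrix.isIntegral A)) A.charpoly_monic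
        (Matrix.minpoly_dvd_charpoly A) (by rw [Matrix.charpoly_natDegree_eq_dim, Fintype.card_fin]; exact hdeg)
    have e2 : (Polynomial.X ^ r - Polynomial.C (c : F)) = minpoly F A := by
      refine Polynomial.eq_of_monic_of_dvd_of_natDegree_le (minpoly.monic (Matrix.isIntegral A))
        (Polynomial.monic_X_pow_sub_C _ h.prime.ne_zero) (minpoly.dvd F A ?_) ?_
      · rw [map_sub, map_pow, Polynomial.aeval_X, Polynomial.aeval_C, hA, ← Units.val_pow_eq_pow_val, hc,
          Algebra.algebraMap_eq_smul_one, sub_self]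
      · rw [Polynomial.natDegree_X_pow_sub_C]; exact hdeg
    have hdet := det_eq_one_of_mem h hn
    rw [Matrix.det_eq_sign_charpoly_coeff, ← hA, e1, ← e2, Polynomial.coeff_sub, Polynomial.coeff_X_pow,
      if_neg h.prime.ne_zero.symm, Polynomial.coeff_C_zero, Fintype.card_fin, h.odd.neg_one_pow] at hdet
    simpa using hdet

variable [NeZero r]

/-- The diagonal standard generator. -/
def frameX (r : ℕ) (μ : F) : Matrix (Fin r) (Fin r) F := Matrix.diagonal fun i => μ⁻¹ ^ (i : ℕ)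

/-- The cyclic standard generator. -/
def frameY (r : ℕ) [NeZero r] : Matrix (Fin r) (Fin r) F :=
  fun i j => if i = j + 1 then 1 else 0

theorem frameY_mulVec (u : Fin r → F) (i : Fin r) : (frameY (F := F) r *ᵥ u) i = u (i - 1) := by
  simp [frameY, Matrix.mulVec, dotProduct, ite_mul, ← sub_eq_iff_eq_add]

theorem exists_framePair (h : ScalarComm r N) : ∃ μ x y, FramePair r N μ x y := by
  haveI : Nontrivial (Fin r) := Fin.nontrivial_iff_two_le.2 h.prime.two_le
  obtain ⟨x, hx, y, hy, hxy⟩ := not_abelian_of_absIrred h.absIrred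
  obtain ⟨μ, hμ, hμr⟩ := exists_conj h hx hy
  refine ⟨μ, x, y, hx, hy, isPrimitiveRoot_of_ne_one h.prime hμr ?_, hμ⟩
  rintro rfl
  exact hxy (Units.ext (by rw [Units.val_mul, Units.val_mul, hμ, one_smul]))

variable {μ : F} {x y : GL (Fin r) F}

theorem FramePair.left_conj (p : FramePair r N μ x y) :
    (x : Matrix (Fin r) (Fin r) F) * y = μ⁻¹ • ((y : Matrix (Fin r) (Fin r) F) * x) := by
  rw [p.conj, smul_smul, inv_mul_cancel₀ (p.root.ne_zero (NeZero.ne r)), one_smul]

/-- The change of basis to the standard frame. -/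
theorem exists_frame (h : ScalarComm r N) (p : FramePair r N μ x y) :
    ∃ B : GL (Fin r) F, (x : Matrix (Fin r) (Fin r) F) * (B : Matrix (Fin r) (Fin r) F) = (B : Matrix (Fin r) (Fin r) F) * frameX r μ ∧
      (y : Matrix (Fin r) (Fin r) F) * (B : Matrix (Fin r) (Fin r) F) = (B : Matrix (Fin r) (Fin r) F) * frameY r := by
  haveI : Nonempty (Fin r) := ⟨⟨0, h.prime.pos⟩⟩
  have hli := linearIndependent_pow_of_conj h.prime.pos p.root p.conj
  have hxr : (x : Matrix (Fin r) (Fin r) F) ^ r = 1 := by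
    rw [← Units.val_pow_eq_pow_val, pow_r_eq_one h p.mem_left, Units.val_one]
  set S := ∑ i ∈ Finset.range r, (x : Matrix (Fin r) (Fin r) F) ^ i with hS
  have hS0 : S ≠ 0 := by
    intro h0
    rw [hS, ← Fin.sum_univ_eq_sum_range (fun i => (x : Matrix (Fin r) (Fin r) F) ^ i)] at h0
    exact one_ne_zero (Fintype.linearIndependent_iff.1 hli (fun _ => (1 : F)) (by simpa using h0) ⟨0, h.prime.pos⟩)
  obtain ⟨w, hw⟩ : ∃ w, S *ᵥ w ≠ 0 := by
    by_contra! hall
    exact hS0 (Matrix.toLin'.injective (LinearMap.ext fun w => by simp [Matrix.toLin'_apply, hall w]))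
  set v := S *ᵥ w with hv
  have hxv : (x : Matrix (Fin r) (Fin r) F) *ᵥ v = v := by
    have : ((x : Matrix (Fin r) (Fin r) F) - 1) * S = 0 := by rw [hS, mul_geom_sum, hxr, sub_self]
    rw [sub_mul, one_mul, sub_eq_zero] at this
    rw [hv, Matrix.mulVec_mulVec, this]
  have key : ∀ i : ℕ, (x : Matrix (Fin r) (Fin r) F) * (y : Matrix (Fin r) (Fin r) F) ^ i =
      μ⁻¹ ^ i • ((y : Matrix (Fin r) (Fin r) F) ^ i * x) := by
    intro i
    induction i with
    | zero => simp
    | succ i ih =>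
      rw [pow_succ, ← mul_assoc, ih, Matrix.smul_mul, mul_assoc, p.left_conj, Matrix.mul_smul, smul_smul,
        ← pow_succ, mul_assoc]
  let e : Fin r → (Fin r → F) := fun i => (y : Matrix (Fin r) (Fin r) F) ^ (i : ℕ) *ᵥ v
  have hxe : ∀ i : Fin r, (x : Matrix (Fin r) (Fin r) F) *ᵥ e i = μ⁻¹ ^ (i : ℕ) • e i := by
    intro i
    simp only [e, Matrix.mulVec_mulVec]
    rw [key, Matrix.smul_mulVec, ← Matrix.mulVec_mulVec, hxv]
  have hye : ∀ i : Fin r, (y : Matrix (Fin r) (Fin r) F) *ᵥ e i = e (i + 1) := by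
    intro i
    simp only [e, Matrix.mulVec_mulVec, ← pow_succ']
    rw [← Units.val_pow_eq_pow_val, ← Units.val_pow_eq_pow_val]
    congr 2
    rw [pow_eq_pow_mod _ (pow_r_eq_one h p.mem_right)]
    simp [Fin.val_add]
  have hinv : IsPrimitiveRoot μ⁻¹ r := p.root.inv
  have hlie : LinearIndependent F e :=
    Module.End.eigenvectors_linearIndependent' (Matrix.toLin' (x : Matrix (Fin r) (Fin r) F))
      (fun i : Fin r => μ⁻¹ ^ (i : ℕ)) (fun i j hij => Fin.ext (hinv.pow_inj i.2 j.2 hij)) e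
      (fun i => ⟨Module.End.mem_eigenspace_iff.2 (by rw [Matrix.toLin'_apply]; exact hxe i), by
        simp only [e, ← Units.val_pow_eq_pow_val]
        exact mulVec_ne_zero _ hw⟩)
  let M : Matrix (Fin r) (Fin r) F := Matrix.of fun i j => e j i
  have hM : IsUnit M := Matrix.linearIndependent_cols_iff_isUnit.1 hlie
  refine ⟨hM.unit, ?_, ?_⟩
  · rw [hM.unit_spec]
    ext i j
    rw [frameX, Matrix.mul_diagonal]
    exact (congrFun (hxe j) i).trans (mul_comm _ _)
  · rw [hM.unit_spec]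
    ext i j
    refine (congrFun (hye j) i).trans ?_
    simp [M, frameY, Matrix.mul_apply]

open Fin.NatCast in
theorem commute_frame (hμ : IsPrimitiveRoot μ r) {M : Matrix (Fin r) (Fin r) F}
    (hX : M * frameX r μ = frameX r μ * M) (hY : M * frameY r = frameY r * M) :
    ∃ c : F, M = c • 1 := by
  have hoff : ∀ i j, i ≠ j → M i j = 0 := by
    intro i j hij
    have := congrFun (congrFun hX i) j
    rw [frameX, Matrix.mul_diagonal, Matrix.diagonal_mul] at this
    by_contra h0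
    have h' : μ⁻¹ ^ (j : ℕ) = μ⁻¹ ^ (i : ℕ) := mul_left_cancel₀ h0 (by rw [this, mul_comm])
    exact hij (Fin.ext (hμ.inv.pow_inj j.2 i.2 h').symm)
  have hstep : ∀ i : Fin r, M (i + 1) (i + 1) = M i i := by
    intro i
    have := congrFun (congrFun hY (i + 1)) i
    simpa [Matrix.mul_apply, frameY] using this
  refine ⟨M 0 0, Matrix.ext fun i j => ?_⟩
  by_cases hij : i = j
  · subst hij
    have : ∀ k : ℕ, M (k : Fin r) (k : Fin r) = M 0 0 := by
      intro k
      induction k with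
      | zero => simp
      | succ k ih => rw [Nat.cast_succ, hstep, ih]
    simpa using this i
  · simp [hoff i j hij, hij]

/-- The central commutator of a frame pair. -/
def frameZ (x y : GL (Fin r) F) : GL (Fin r) F := y * x * y⁻¹ * x⁻¹

theorem FramePair.coe_frameZ (p : FramePair r N μ x y) :
    ((frameZ x y : GL (Fin r) F) : Matrix (Fin r) (Fin r) F) = μ • 1 := by
  rw [frameZ, show y * x * y⁻¹ * x⁻¹ = (y * x) * (x * y)⁻¹ by group, Units.val_mul, Units.val_mul, p.conj,
    ← Units.val_mul x y, Matrix.smul_mul, ← Units.val_mul, mul_inv_cancel, Units.val_one]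

theorem FramePair.frameZ_mem (p : FramePair r N μ x y) : frameZ x y ∈ N :=
  N.mul_mem (N.mul_mem (N.mul_mem p.mem_right p.mem_left) (N.inv_mem p.mem_right)) (N.inv_mem p.mem_left)

theorem FramePair.conj_word_left (p : FramePair r N μ x y) (i j : ℕ) :
    (x : Matrix (Fin r) (Fin r) F) * ((x ^ i * y ^ j : GL (Fin r) F) : Matrix (Fin r) (Fin r) F) =
      μ⁻¹ ^ j • (((x ^ i * y ^ j : GL (Fin r) F) : Matrix (Fin r) (Fin r) F) * x) := by
  simp only [Units.val_mul, Units.val_pow_eq_pow_val]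
  induction j with
  | zero => simp [← pow_succ, ← pow_succ']
  | succ j ih =>
    rw [pow_succ, ← mul_assoc, ← mul_assoc, mul_assoc _ _ ((y : Matrix (Fin r) (Fin r) F) ^ j), ih,
      Matrix.smul_mul, mul_assoc, p.left_conj, Matrix.mul_smul, smul_smul, ← pow_succ]
    simp only [mul_assoc]

theorem FramePair.conj_word_right (p : FramePair r N μ x y) (i j : ℕ) :
    (y : Matrix (Fin r) (Fin r) F) * ((x ^ i * y ^ j : GL (Fin r) F) : Matrix (Fin r) (Fin r) F) =
      μ ^ i • (((x ^ i * y ^ j : GL (Fin r) F) : Matrix (Fin r) (Fin r) F) * y) := by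
  simp only [Units.val_mul, Units.val_pow_eq_pow_val]
  have key : (y : Matrix (Fin r) (Fin r) F) * (x : Matrix (Fin r) (Fin r) F) ^ i =
      μ ^ i • ((x : Matrix (Fin r) (Fin r) F) ^ i * y) := by
    induction i with
    | zero => simp
    | succ i ih =>
      rw [pow_succ, ← mul_assoc, ih, Matrix.smul_mul, mul_assoc, p.conj, Matrix.mul_smul, smul_smul,
        ← pow_succ, mul_assoc]
  rw [← mul_assoc, key, Matrix.smul_mul, mul_assoc, mul_assoc, ← pow_succ, ← pow_succ']

theorem FramePair.eq_word (h : ScalarComm r N) (p : FramePair r N μ x y) {n : GL (Fin r) F} (hn : n ∈ N) :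
    ∃ k i j : Fin r, n = frameZ x y ^ (k : ℕ) * (x ^ (i : ℕ) * y ^ (j : ℕ)) := by
  haveI : Nonempty (Fin r) := ⟨⟨0, h.prime.pos⟩⟩
  obtain ⟨α, hα, hαr⟩ := exists_conj h hn p.mem_left
  obtain ⟨β, hβ, hβr⟩ := exists_conj h hn p.mem_right
  obtain ⟨j, hj, hjα⟩ := p.root.inv.eq_pow_of_pow_eq_one hαr
  obtain ⟨i, hi, hiβ⟩ := p.root.eq_pow_of_pow_eq_one hβr
  set w : GL (Fin r) F := x ^ i * y ^ j with hw
  have step : ∀ (g : GL (Fin r) F) (a : F), a ≠ 0 →
      (g : Matrix (Fin r) (Fin r) F) * n = a • ((n : Matrix (Fin r) (Fin r) F) * g) →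
      (g : Matrix (Fin r) (Fin r) F) * w = a • ((w : Matrix (Fin r) (Fin r) F) * g) →
      ((n * w⁻¹ : GL (Fin r) F) : Matrix (Fin r) (Fin r) F) * g = g * ((n * w⁻¹ : GL (Fin r) F) : Matrix (Fin r) (Fin r) F) := by
    intro g a ha hgn hgw
    have e : ((w⁻¹ : GL (Fin r) F) : Matrix (Fin r) (Fin r) F) * g =
        a • ((g : Matrix (Fin r) (Fin r) F) * ((w⁻¹ : GL (Fin r) F) : Matrix (Fin r) (Fin r) F)) := by
      calc ((w⁻¹ : GL (Fin r) F) : Matrix (Fin r) (Fin r) F) * g
          = ((w⁻¹ : GL (Fin r) F) : Matrix (Fin r) (Fin r) F) * ((g : Matrix (Fin r) (Fin r) F) * w) *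
              ((w⁻¹ : GL (Fin r) F) : Matrix (Fin r) (Fin r) F) := by
            rw [mul_assoc, mul_assoc, ← Units.val_mul w, mul_inv_cancel, Units.val_one, mul_one]
        _ = _ := by
            rw [hgw, Matrix.mul_smul, Matrix.smul_mul, ← mul_assoc, ← Units.val_mul, inv_mul_cancel, Units.val_one,
              one_mul]
    rw [Units.val_mul, mul_assoc, e, ← mul_assoc, hgn, Matrix.mul_smul, Matrix.smul_mul, mul_assoc]
  have h1 := step x α (by rintro rfl; simp [zero_pow h.prime.ne_zero] at hαr) hα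
    (by rw [hw, ← hjα]; exact p.conj_word_left i j)
  have h2 := step y β (by rintro rfl; simp [zero_pow h.prime.ne_zero] at hβr) hβ
    (by rw [hw, ← hiβ]; exact p.conj_word_right i j)
  obtain ⟨B, hBx, hBy⟩ := exists_frame h p
  set M := ((n * w⁻¹ : GL (Fin r) F) : Matrix (Fin r) (Fin r) F) with hM
  have hBi : (B : Matrix (Fin r) (Fin r) F) * ((B⁻¹ : GL (Fin r) F) : Matrix (Fin r) (Fin r) F) = 1 := by
    rw [← Units.val_mul, mul_inv_cancel, Units.val_one]
  have hiB : ((B⁻¹ : GL (Fin r) F) : Matrix (Fin r) (Fin r) F) * (B : Matrix (Fin r) (Fin r) F) = 1 := by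
    rw [← Units.val_mul, inv_mul_cancel, Units.val_one]
  have tr : ∀ {g : GL (Fin r) F} {G : Matrix (Fin r) (Fin r) F},
      (g : Matrix (Fin r) (Fin r) F) * B = (B : Matrix (Fin r) (Fin r) F) * G → M * g = g * M →
      (((B⁻¹ : GL (Fin r) F) : Matrix (Fin r) (Fin r) F) * M * B) * G =
        G * (((B⁻¹ : GL (Fin r) F) : Matrix (Fin r) (Fin r) F) * M * B) := by
    intro g G hg hgM
    have hG : G = ((B⁻¹ : GL (Fin r) F) : Matrix (Fin r) (Fin r) F) * g * B := by
      rw [mul_assoc, hg, ← mul_assoc, hiB, one_mul]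
    have hgM' : ∀ Z, M * ((g : Matrix (Fin r) (Fin r) F) * Z) = g * (M * Z) := fun Z => by
      rw [← mul_assoc, hgM, mul_assoc]
    rw [hG]
    simp only [mul_assoc, ← mul_assoc (B : Matrix (Fin r) (Fin r) F), hBi, one_mul, hgM']
  obtain ⟨c, hc⟩ := commute_frame p.root (tr hBx h1) (tr hBy h2)
  have hMc : M = c • 1 := by
    have : M = (B : Matrix (Fin r) (Fin r) F) * (((B⁻¹ : GL (Fin r) F) : Matrix (Fin r) (Fin r) F) * M * B) *
        ((B⁻¹ : GL (Fin r) F) : Matrix (Fin r) (Fin r) F) := by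
      simp [mul_assoc, ← mul_assoc (B : Matrix (Fin r) (Fin r) F), hBi]
    rw [this, hc, Matrix.mul_smul, mul_one, Matrix.smul_mul, hBi]
  have hw' : n * w⁻¹ ∈ N := N.mul_mem hn (N.inv_mem (N.mul_mem (N.pow_mem p.mem_left i) (N.pow_mem p.mem_right j)))
  have hcr : c ^ r = 1 := by
    have := det_eq_one_of_mem h hw'
    rwa [← hM, hMc, Matrix.det_smul, Matrix.det_one, mul_one, Fintype.card_fin] at this
  obtain ⟨k, hk, hkc⟩ := p.root.eq_pow_of_pow_eq_one hcr
  refine ⟨⟨k, hk⟩, ⟨i, hi⟩, ⟨j, hj⟩, ?_⟩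
  rw [← mul_inv_eq_iff_eq_mul]
  apply Units.ext
  rw [← hw, ← hM, hMc, Units.val_pow_eq_pow_val, p.coe_frameZ, smul_pow, one_pow, hkc]

end CfsgLib.Geo.Asch
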