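/-
SL is contained in none of the geometric subgroups of the prime-degree classes.
-/
import Cfsg.Agent.Lib.Geo.Asch.Frame
import Cfsg.Agent.Lib.Geo.SubspaceMaximal

set_option autoImplicit false

namespace CfsgLib.Geo.Asch

open Matrix Cfsg.Geo

variable {ι : Type} [Fintype ι] [DecidableEq ι] {F : Type*} [Field F]

theorem not_le_subspaceStabilizer {W : Submodule F (ι → F)} (h0 : W ≠ ⊥) (h1 : W ≠ ⊤) :
    ¬ specialLinear ι F ≤ subspaceStabilizer W := by
  intro hle
  obtain ⟨w, hw, hw0⟩ := Submodule.exists_mem_ne_zero_of_ne_bot h0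
  obtain ⟨u, hu⟩ : ∃ u, u ∉ W := by
    by_contra! h
    exact h1 (Submodule.eq_top_iff'.2 h)
  obtain ⟨g, hg, -, hgW⟩ := exists_mover ⊤ W u w Submodule.mem_top hu hw (notMem_span_singleton hw hw0 hu)
  exact hgW (hle hg)

theorem not_le_decompositionStabilizer {t m : ℕ} {D : Fin t → Submodule F (ι → F)} (hD : IsMDecomposition m D) :
    ¬ specialLinear ι F ≤ decompositionStabilizer D := by
  intro hle
  have ht := hD.two_le
  let i : Fin t := ⟨0, by omega⟩
  let j : Fin t := ⟨1, by omega⟩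
  have hij : i ≠ j := by simp [i, j]
  have hne : ∀ k, D k ≠ ⊥ := fun k h => by
    have := hD.finrank_eq k
    rw [h, finrank_bot] at this
    exact hD.pos.ne this
  obtain ⟨u, hu, hu0⟩ := Submodule.exists_mem_ne_zero_of_ne_bot (hne i)
  obtain ⟨w, hw, hw0⟩ := Submodule.exists_mem_ne_zero_of_ne_bot (hne j)
  have huj : u ∉ D j := fun h => hu0 (Submodule.disjoint_def.1 (hD.indep.pairwiseDisjoint hij) u hu h)
  obtain ⟨φ, hφu, hφw⟩ := exists_functional u w (notMem_span_singleton hw hw0 huj)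
  obtain ⟨τ, hτ⟩ := hle (transvectionGL_mem_specialLinear φ u hφu)
  have hi : D (τ i) = D i := by
    have hmem : u ∈ D (τ i) := by
      rw [← hτ i]
      exact ⟨u, hu, by rw [Matrix.toLin'_apply, transvectionGL_mulVec, hφu, zero_smul, add_zero]⟩
    by_contra hne'
    exact hu0 (Submodule.disjoint_def.1 (hD.indep.pairwiseDisjoint fun e : τ i = i => hne' (congrArg D e)) u hmem hu)
  have hwu : w + u ∈ D (τ j) := by
    rw [← hτ j]
    exact ⟨w, hw, by rw [Matrix.toLin'_apply, transvectionGL_mulVec, hφw, one_smul]⟩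
  have hτj : τ j ≠ i := fun e => by
    have e' : D (τ j) = D (τ i) := by rw [e, hi]
    rw [e] at hwu
    exact hw0 (Submodule.disjoint_def.1 (hD.indep.pairwiseDisjoint hij.symm) w hw
      (by simpa using (D i).sub_mem hwu hu))
  by_cases h : τ j = j
  · rw [h] at hwu
    exact huj (by simpa using (D j).sub_mem hwu hw)
  · have hd : Disjoint (D (τ j)) (D i ⊔ D j) := by
      refine (hD.indep (τ j)).mono_right (sup_le ?_ ?_)
      · exact le_iSup₂_of_le i hτj.symm le_rfl
      · exact le_iSup₂_of_le j (Ne.symm h) le_rfl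
    have h0 := Submodule.disjoint_def.1 hd _ hwu (Submodule.add_mem _ (Submodule.mem_sup_right hw) (Submodule.mem_sup_left hu))
    exact huj (by rw [eq_neg_of_add_eq_zero_right h0]; exact (D j).neg_mem hw)

theorem not_le_subfieldSubgroup (hn : 2 ≤ Fintype.card ι) {F₀ : Subfield F} (hF₀ : F₀ ≠ ⊤) (P : GL ι F) :
    ¬ specialLinear ι F ≤ subfieldSubgroup F₀ P := by
  intro hle
  obtain ⟨i, j, hij⟩ := Fintype.exists_pair_of_one_lt_card (α := ι) (by omega)
  obtain ⟨c, hc⟩ : ∃ c, c ∉ F₀ := by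
    by_contra! h
    exact hF₀ (SetLike.ext fun x => iff_of_true (h x) (Subfield.mem_top x))
  set u : ι → F := Pi.single i c
  set φ : ι → F := Pi.single j 1
  have hφ : φ ⬝ᵥ u = 0 := by simp [φ, u, hij]
  set t := transvectionGL φ u hφ with ht
  have hmem : P * t * P⁻¹ ∈ specialLinear ι F := by
    have := transvectionGL_mem_specialLinear φ u hφ
    rw [specialLinear, MonoidHom.mem_ker] at this ⊢
    rw [map_mul, map_mul, this, mul_one, ← map_mul, mul_inv_cancel, map_one]
  obtain ⟨g, hg, e⟩ := hle hmem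
  have hgt : g = t := by
    have e' : P * g * P⁻¹ = P * t * P⁻¹ := e
    exact mul_left_cancel (mul_right_cancel e')
  subst hgt
  obtain ⟨a, ⟨A, rfl⟩, z, hz, hprod⟩ := Subgroup.mem_sup_of_normal_right.1 (show t ∈ _ ⊔ scalars ι F from hg)
  obtain ⟨d, hd⟩ := (mem_scalars_iff z).1 hz
  have hval := congrArg (Units.val : GL ι F → Matrix ι ι F) hprod
  rw [Units.val_mul, hd, Matrix.mul_smul, mul_one] at hval
  have hii := congrFun (congrFun hval i) i
  have hijv := congrFun (congrFun hval i) j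
  have ht1 : (t : Matrix ι ι F) i i = 1 := by
    show (1 + Matrix.vecMulVec u φ) i i = 1
    simp [Matrix.vecMulVec, φ, hij]
  have ht2 : (t : Matrix ι ι F) i j = c := by
    show (1 + Matrix.vecMulVec u φ) i j = c
    simp [Matrix.vecMulVec, φ, u, hij]
  rw [ht1, Matrix.smul_apply, smul_eq_mul] at hii
  rw [ht2, Matrix.smul_apply, smul_eq_mul] at hijv
  have hd0 : (d : F) ∈ F₀ := by
    rw [← inv_inv (d : F)]
    refine inv_mem ?_
    rw [inv_eq_of_mul_eq_one_right hii]
    exact ((A : Matrix ι ι F₀) i i).2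
  exact hc (hijv ▸ mul_mem hd0 ((A : Matrix ι ι F₀) i j).2)

theorem not_le_subalgebraNormalizer (hn : 3 ≤ Fintype.card ι) {K : Subalgebra F (Matrix ι ι F)} {m : ℕ}
    (hK : IsFieldSubalgebra m K) (hm : 1 < m) : ¬ specialLinear ι F ≤ subalgebraNormalizer K := by
  intro hle
  have : Nonempty ι := Fintype.card_pos_iff.1 (by omega)
  obtain ⟨k, hk, hns⟩ : ∃ k ∈ K, ∀ c : F, k ≠ c • 1 := by
    by_contra! h
    have hbot : K = ⊥ := by
      rw [eq_bot_iff]
      intro k hk
      obtain ⟨c, hc⟩ := h k hk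
      exact Algebra.mem_bot.2 ⟨c, by rw [hc, Algebra.algebraMap_eq_smul_one]⟩
    have := hK.finrank_eq
    rw [hbot, Subalgebra.finrank_bot] at this
    omega
  have hcomm : ∀ (φ u : ι → F), φ ⬝ᵥ u = 0 → Matrix.vecMulVec u φ * k = k * Matrix.vecMulVec u φ := by
    intro φ u h
    set t := transvectionGL φ u h with ht
    have hD := K.sub_mem ((hle (transvectionGL_mem_specialLinear φ u h) k).1 hk) hk
    by_contra hne
    have hD0 : (t : Matrix ι ι F) * k * ((t⁻¹ : GL ι F) : Matrix ι ι F) - k ≠ 0 := by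
      intro e
      rw [sub_eq_zero] at e
      have e2 : (t : Matrix ι ι F) * k = k * t := by
        conv_rhs => rw [← e, mul_assoc, ← Units.val_mul, inv_mul_cancel, Units.val_one, mul_one]
      have hval : (t : Matrix ι ι F) = 1 + Matrix.vecMulVec u φ := rfl
      rw [hval, add_mul, one_mul, mul_add, mul_one] at e2
      exact hne (add_left_cancel e2)
    obtain ⟨y, -, hy⟩ := hK.inv _ hD hD0
    have hspan : ∀ v : ι → F,
        ((t : Matrix ι ι F) * k * ((t⁻¹ : GL ι F) : Matrix ι ι F) - k) *ᵥ v ∈ Submodule.span F ({u, k *ᵥ u} : Set (ι → F)) := by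
      intro v
      set w := ((t⁻¹ : GL ι F) : Matrix ι ι F) *ᵥ v with hw
      have hv : v = w + (φ ⬝ᵥ w) • u := by
        rw [← transvectionGL_mulVec φ u h, hw, ← ht, inv_mulVec_cancel]
      have : ((t : Matrix ι ι F) * k * ((t⁻¹ : GL ι F) : Matrix ι ι F) - k) *ᵥ v =
          (φ ⬝ᵥ (k *ᵥ w)) • u - (φ ⬝ᵥ w) • (k *ᵥ u) := by
        rw [Matrix.sub_mulVec, ← Matrix.mulVec_mulVec, ← Matrix.mulVec_mulVec, ← hw, ht, transvectionGL_mulVec]
        conv_lhs => arg 2; rw [hv, Matrix.mulVec_add, Matrix.mulVec_smul]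
        abel
      rw [this]
      exact Submodule.sub_mem _ (Submodule.smul_mem _ _ (Submodule.subset_span (by simp)))
        (Submodule.smul_mem _ _ (Submodule.subset_span (by simp)))
    have htop : Submodule.span F ({u, k *ᵥ u} : Set (ι → F)) = ⊤ := Submodule.eq_top_iff'.2 fun v => by
      have := hspan (y *ᵥ v)
      rwa [Matrix.mulVec_mulVec, hy, Matrix.one_mulVec] at this
    classical
    have h1 := finrank_span_finset_le_card (R := F) ({u, k *ᵥ u} : Finset (ι → F))
    have h2 : Finset.card ({u, k *ᵥ u} : Finset (ι → F)) ≤ 2 := Finset.card_le_two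
    rw [Finset.coe_pair, Set.finrank, htop, finrank_top, Module.finrank_pi] at h1
    omega
  have heig : ∀ u : ι → F, ∃ a : F, k *ᵥ u = a • u := by
    intro u
    by_cases hu : u = 0
    · exact ⟨0, by simp [hu]⟩
    · obtain ⟨w, hw⟩ : ∃ w, w ∉ Submodule.span F {u} := by
        by_contra! hall
        have := finrank_span_singleton (K := F) hu
        rw [Submodule.eq_top_iff'.2 hall, finrank_top, Module.finrank_pi] at this
        omega
      obtain ⟨φ, h0, h1⟩ := exists_functional u w hw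
      have hv : ∀ z : ι → F, Matrix.vecMulVec u φ *ᵥ z = (φ ⬝ᵥ z) • u := fun z => by
        rw [Matrix.vecMulVec_mulVec]
        ext i
        simp [mul_comm]
      have := congrArg (fun A => A *ᵥ w) (hcomm φ u h0)
      simp only [← Matrix.mulVec_mulVec, hv, h1, one_smul] at this
      exact ⟨_, this.symm⟩
  obtain ⟨i₀⟩ := (inferInstance : Nonempty ι)
  choose a ha using heig
  refine hns (a (Pi.single i₀ 1)) (Matrix.toLin'.injective ((Pi.basisFun F ι).ext fun i => ?_))
  rw [Pi.basisFun_apply, Matrix.toLin'_apply, Matrix.toLin'_apply, Matrix.smul_mulVec, Matrix.one_mulVec, ha]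
  by_cases hi : i = i₀
  · rw [hi]
  · have hsum := ha (Pi.single i 1 + Pi.single i₀ 1)
    rw [Matrix.mulVec_add, ha, ha] at hsum
    have h1 := congrFun hsum i
    have h2 := congrFun hsum i₀
    simp [Pi.single_apply, hi, Ne.symm hi] at h1 h2
    rw [h1, h2]

theorem not_le_subgroupNormalizer {r : ℕ} [NeZero r] {F : Type*} [Field F] {N : Subgroup (GL (Fin r) F)}
    (h : ScalarComm r N) : ¬ specialLinear (Fin r) F ≤ subgroupNormalizer N := by
  intro hle
  haveI : Nonempty (Fin r) := ⟨⟨0, h.prime.pos⟩⟩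
  obtain ⟨μ, x, y, P⟩ := exists_framePair h
  obtain ⟨B, hBx, -⟩ := exists_frame h P
  obtain ⟨i, j, hij⟩ := Fintype.exists_pair_of_one_lt_card (α := Fin r) (by simpa using h.prime.one_lt)
  have hφ : (Pi.single j 1 : Fin r → F) ⬝ᵥ Pi.single i 1 = 0 := by simp [hij]
  set t0 := transvectionGL (Pi.single j 1 : Fin r → F) (Pi.single i 1) hφ
  set t := B * t0 * B⁻¹
  have htS : t ∈ specialLinear (Fin r) F := by
    have := transvectionGL_mem_specialLinear _ _ hφ
    rw [specialLinear, MonoidHom.mem_ker] at this ⊢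
    rw [show t = B * t0 * B⁻¹ from rfl, map_mul, map_mul, this, mul_one, ← map_mul, mul_inv_cancel, map_one]
  have hc : x * t * x⁻¹ * t⁻¹ ∈ N := by
    have h1 := (Subgroup.mem_normalizer_iff.1 (hle htS) x⁻¹).1 (N.inv_mem P.mem_left)
    simpa [mul_assoc] using N.mul_mem P.mem_left h1
  set E : Matrix (Fin r) (Fin r) F := Matrix.vecMulVec (Pi.single i 1) (Pi.single j 1) with hE
  have hE2 : E * E = 0 := by rw [hE, Matrix.vecMulVec_mul_vecMulVec, hφ, zero_smul, Matrix.vecMulVec_zero]
  set a : Fin r → F := fun k => μ⁻¹ ^ (k : ℕ) with ha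
  have hμ0 : μ ≠ 0 := P.root.ne_zero h.prime.ne_zero
  have ha0 : ∀ k, a k ≠ 0 := fun k => pow_ne_zero _ (inv_ne_zero hμ0)
  have hD : ((B⁻¹ * x * B : GL (Fin r) F) : Matrix (Fin r) (Fin r) F) = Matrix.diagonal a := by
    rw [Units.val_mul, Units.val_mul, mul_assoc, hBx, ← mul_assoc, ← Units.val_mul, inv_mul_cancel, Units.val_one,
      one_mul, frameX]
  have hDi : (((B⁻¹ * x * B)⁻¹ : GL (Fin r) F) : Matrix (Fin r) (Fin r) F) = Matrix.diagonal fun k => (a k)⁻¹ := by
    have h1 : (((B⁻¹ * x * B)⁻¹ : GL (Fin r) F) : Matrix (Fin r) (Fin r) F) * Matrix.diagonal a = 1 := by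
      rw [← hD, ← Units.val_mul, inv_mul_cancel, Units.val_one]
    have h2 : Matrix.diagonal a * Matrix.diagonal (fun k => (a k)⁻¹) = 1 := by
      rw [Matrix.diagonal_mul_diagonal]
      simp [ha0]
    calc _ = (((B⁻¹ * x * B)⁻¹ : GL (Fin r) F) : Matrix (Fin r) (Fin r) F) *
          (Matrix.diagonal a * Matrix.diagonal (fun k => (a k)⁻¹)) := by rw [h2, mul_one]
      _ = _ := by rw [← mul_assoc, h1, one_mul]
  set s := a i * (a j)⁻¹ - 1
  have hcore : ((B⁻¹ * (x * t * x⁻¹ * t⁻¹) * B : GL (Fin r) F) : Matrix (Fin r) (Fin r) F) = 1 + s • E := by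
    rw [show B⁻¹ * (x * t * x⁻¹ * t⁻¹) * B = (B⁻¹ * x * B) * t0 * (B⁻¹ * x * B)⁻¹ * t0⁻¹ by
      simp only [t]; group, Units.val_mul, Units.val_mul, Units.val_mul, hD, hDi]
    have hconj : Matrix.diagonal a * E * Matrix.diagonal (fun k => (a k)⁻¹) = (a i * (a j)⁻¹) • E := by
      ext k l
      simp only [Matrix.mul_diagonal, Matrix.diagonal_mul, Matrix.smul_apply, smul_eq_mul, hE,
        Matrix.vecMulVec_apply, Pi.single_apply]
      split_ifs with h1 h2 <;> first | (subst h1; subst h2; ring) | simp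
    show Matrix.diagonal a * (1 + E) * Matrix.diagonal (fun k => (a k)⁻¹) * (1 - E) = _
    rw [mul_add, mul_one, add_mul, Matrix.diagonal_mul_diagonal, hconj]
    simp only [ha0, ne_eq, not_false_eq_true, mul_inv_cancel₀, Matrix.diagonal_one]
    rw [add_mul, one_mul, mul_sub, mul_one, Matrix.smul_mul, hE2, smul_zero, sub_zero, sub_smul, one_smul]
    abel
  have hpow := congrArg (fun g : GL (Fin r) F => ((B⁻¹ * g * B : GL (Fin r) F) : Matrix (Fin r) (Fin r) F))
    (pow_r_eq_one h hc)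
  simp only [mul_one, inv_mul_cancel, Units.val_one] at hpow
  rw [show B⁻¹ * (x * t * x⁻¹ * t⁻¹) ^ r * B = (B⁻¹ * (x * t * x⁻¹ * t⁻¹) * B) ^ r by
    simpa using (map_pow (MulAut.conj B⁻¹) (x * t * x⁻¹ * t⁻¹) r), Units.val_pow_eq_pow_val, hcore] at hpow
  have hiter : ∀ m : ℕ, (1 + s • E) ^ m = 1 + ((m : F) * s) • E := by
    intro m
    induction m with
    | zero => simp
    | succ m ih =>
      rw [pow_succ, ih, add_mul, one_mul, mul_add, mul_one, Matrix.smul_mul, Matrix.mul_smul, hE2, smul_zero,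
        smul_zero, add_zero, Nat.cast_succ, add_mul, one_mul, add_smul]
      abel
  rw [hiter, add_eq_left] at hpow
  have hEij := congrFun (congrFun hpow i) j
  simp [hE, Matrix.vecMulVec_apply] at hEij
  rcases hEij with hr | hs
  · exact P.root.neZero'.out hr
  · have : a i = a j := by
      have := sub_eq_zero.1 hs
      field_simp [ha0 j] at this
      exact this
    exact hij (Fin.ext (P.root.inv.pow_inj i.2 j.2 this))

end CfsgLib.Geo.Asch
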