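/-
Forms fixed by absolutely irreducible groups and the similarity groups containing their normalisers.
-/
import Cfsg.Agent.Lib.Geo.Asch.Irred
import Cfsg.Agent.Lib.Geo.SubspaceMaximal

set_option autoImplicit false

namespace CfsgLib.Geo.Asch

open Matrix Cfsg.Geo

variable {ι : Type} [Fintype ι] [DecidableEq ι] {F : Type*} [Field F]

/-- `f` is linear in the first and `σ`-semilinear in the second argument. -/
structure IsSesqForm (σ : F ≃+* F) (f : (ι → F) → (ι → F) → F) : Prop where
  add_left : ∀ x y v, f (x + y) v = f x v + f y v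
  smul_left : ∀ (c : F) (x v : ι → F), f (c • x) v = c * f x v
  add_right : ∀ v x y, f v (x + y) = f v x + f v y
  smul_right : ∀ (c : F) (v x : ι → F), f v (c • x) = σ c * f v x

theorem isSesqForm_of_bilinear {f : (ι → F) → (ι → F) → F} (hf : IsBilinearForm f) :
    IsSesqForm (RingEquiv.refl F) f :=
  ⟨hf.add_left, hf.smul_left, hf.add_right, hf.smul_right⟩

theorem isSesqForm_of_unitary {σ : F ≃+* F} {f : (ι → F) → (ι → F) → F} (hf : IsUnitaryForm σ f) :
    IsSesqForm σ f :=
  ⟨hf.add_left, hf.smul_left,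
    fun v x y => by rw [hf.herm v, hf.add_left, map_add, ← hf.herm, ← hf.herm],
    fun c v x => by rw [hf.herm v, hf.smul_left, map_mul, ← hf.herm]⟩

variable {σ : F ≃+* F} {f g : (ι → F) → (ι → F) → F}

omit [DecidableEq ι] in
theorem IsSesqForm.map_zero_left (hf : IsSesqForm σ f) (v : ι → F) : f 0 v = 0 := by
  simpa using hf.smul_left 0 0 v

omit [DecidableEq ι] in
theorem IsSesqForm.map_zero_right (hf : IsSesqForm σ f) (v : ι → F) : f v 0 = 0 := by
  simpa using hf.smul_right 0 v 0

theorem IsSesqForm.ext_basis (hf : IsSesqForm σ f) (hg : IsSesqForm σ g) {u w : ι → F}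
    (h : ∀ i, f u (Pi.single i 1) = g w (Pi.single i 1)) (v : ι → F) : f u v = g w v := by
  suffices key : ∀ s : Finset ι, f u (∑ i ∈ s, v i • (Pi.single i 1 : ι → F)) =
      g w (∑ i ∈ s, v i • (Pi.single i 1 : ι → F)) by
    rw [pi_eq_sum_univ' v]
    exact key Finset.univ
  intro s
  induction s using Finset.cons_induction with
  | empty => simp [hf.map_zero_right, hg.map_zero_right]
  | cons i s his ih => simp only [Finset.sum_cons, hf.add_right, hg.add_right, hf.smul_right, hg.smul_right, h, ih]

/-- Two forms fixed by an absolutely irreducible group are proportional. -/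
theorem exists_smul_of_fixed {N : Subgroup (GL ι F)} (hN : ActsAbsolutelyIrreducibly (matrixSet N))
    (hf : IsSesqForm σ f) (hg : IsSesqForm σ g) (hnd : IsNondegenerateForm f)
    (hfix : FixesForm (matrixSet N) f) (gfix : FixesForm (matrixSet N) g) :
    ∃ c : F, ∀ u v, g u v = c * f u v := by
  let Φf : (ι → F) →ₗ[F] (ι → F) :=
    { toFun := fun u i => f u (Pi.single i 1)
      map_add' := fun a b => funext fun i => hf.add_left a b _
      map_smul' := fun c a => funext fun i => hf.smul_left c a _ }
  let Φg : (ι → F) →ₗ[F] (ι → F) :=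
    { toFun := fun u i => g u (Pi.single i 1)
      map_add' := fun a b => funext fun i => hg.add_left a b _
      map_smul' := fun c a => funext fun i => hg.smul_left c a _ }
  have hinj : Function.Injective Φf := by
    rw [injective_iff_map_eq_zero]
    intro u hu
    by_contra h0
    obtain ⟨x, hx⟩ := (hnd u h0).2
    refine hx ?_
    rw [hf.ext_basis hf (w := 0) (fun i => by rw [hf.map_zero_left]; exact congrFun hu i), hf.map_zero_left]
  let E := LinearEquiv.ofBijective Φf ⟨hinj, LinearMap.injective_iff_surjective.1 hinj⟩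
  let T : (ι → F) →ₗ[F] (ι → F) := E.symm.toLinearMap.comp Φg
  have hT : ∀ u v, g u v = f (T u) v := fun u v =>
    hg.ext_basis hf (fun i => (congrFun (E.apply_symm_apply (Φg u)) i).symm) v
  obtain ⟨c, hc⟩ := hN.2 (LinearMap.toMatrix' T) (by
    intro s hs
    refine Matrix.toLin'.injective (LinearMap.ext fun u => ?_)
    rw [Matrix.toLin'_mul, Matrix.toLin'_mul, Matrix.toLin'_toMatrix']
    simp only [LinearMap.comp_apply, Matrix.toLin'_apply]
    refine hinj (funext fun i => ?_)
    obtain ⟨n, hn, rfl⟩ := hs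
    show f (T ((n : Matrix ι ι F) *ᵥ u)) (Pi.single i 1) = f ((n : Matrix ι ι F) *ᵥ T u) (Pi.single i 1)
    rw [← inv_mulVec_cancel n (Pi.single i 1 : ι → F), ← hT, gfix _ ⟨n, hn, rfl⟩, hfix _ ⟨n, hn, rfl⟩, hT])
  refine ⟨c, fun u v => ?_⟩
  rw [hT, ← hf.smul_left]
  congr 1
  rw [← Matrix.toLin'_toMatrix' T, hc, Matrix.toLin'_apply, Matrix.smul_mulVec, Matrix.one_mulVec]

/-- The normaliser of an absolutely irreducible group fixing a form consists of similitudes. -/
theorem le_similarityGroup [Nonempty ι] {H N : Subgroup (GL ι F)} (hn : ∀ h ∈ H, ∀ x ∈ N, h * x * h⁻¹ ∈ N)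
    (hN : ActsAbsolutelyIrreducibly (matrixSet N)) (hf : IsSesqForm σ f) (hnd : IsNondegenerateForm f)
    (hfix : FixesForm (matrixSet N) f) : H ≤ similarityGroup f := by
  intro h hh
  let g : (ι → F) → (ι → F) → F := fun u v => f ((h : Matrix ι ι F) *ᵥ u) ((h : Matrix ι ι F) *ᵥ v)
  have hg : IsSesqForm σ g :=
    ⟨fun x y v => by simp only [g, Matrix.mulVec_add]; exact hf.add_left _ _ _,
      fun c x v => by simp only [g, Matrix.mulVec_smul]; exact hf.smul_left _ _ _,
      fun v x y => by simp only [g, Matrix.mulVec_add]; exact hf.add_right _ _ _,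
      fun c v x => by simp only [g, Matrix.mulVec_smul]; exact hf.smul_right _ _ _⟩
  obtain ⟨c, hc⟩ := exists_smul_of_fixed hN hf hg hnd hfix (by
    rintro _ ⟨n, hn', rfl⟩ u v
    have e : ∀ w : ι → F, (h : Matrix ι ι F) *ᵥ ((n : Matrix ι ι F) *ᵥ w) =
        ((h * n * h⁻¹ : GL ι F) : Matrix ι ι F) *ᵥ ((h : Matrix ι ι F) *ᵥ w) := by
      intro w
      rw [Matrix.mulVec_mulVec, Matrix.mulVec_mulVec, ← Units.val_mul, ← Units.val_mul, inv_mul_cancel_right]
    simp only [g, e]
    exact hfix _ (mem_matrixSet (hn h hh n hn')) _ _)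
  have hc0 : c ≠ 0 := by
    rintro rfl
    obtain ⟨v, hv⟩ := exists_ne (0 : ι → F)
    obtain ⟨x, hx⟩ := (hnd _ (mulVec_ne_zero h hv)).2
    rw [← inv_mulVec_cancel h x] at hx
    exact hx (by simpa [g] using hc v (((h⁻¹ : GL ι F) : Matrix ι ι F) *ᵥ x))
  exact ⟨Units.mk0 c hc0, hc⟩

/-- A non-degenerate alternating bilinear form lives in even dimension. -/
theorem not_alternating (hodd : Odd (Fintype.card ι)) (hb : IsBilinearForm f) (halt : ∀ v, f v v = 0)
    (hnd : IsNondegenerateForm f) : False := by
  have hskew : ∀ u v, f v u = - f u v := fun u v => by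
    have := halt (u + v)
    rw [hb.add_left, hb.add_right, hb.add_right, halt, halt] at this
    linear_combination this
  let G : Matrix ι ι F := fun a b => f (Pi.single a 1) (Pi.single b 1)
  have hd : G.det = 0 := by
    rw [Matrix.det_apply]
    refine Finset.sum_involution (fun τ _ => τ⁻¹) (fun τ _ => ?_) (fun τ _ hne heq => hne ?_)
      (fun τ _ => Finset.mem_univ _) (fun τ _ => inv_inv τ)
    · have hp : ∏ i, G (τ⁻¹ i) i = - ∏ i, G (τ i) i := by
        rw [← Equiv.prod_comp τ (fun i => G (τ⁻¹ i) i)]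
        have : ∀ i, G (τ⁻¹ (τ i)) (τ i) = (-1) * G (τ i) i := fun i => by
          rw [Equiv.Perm.coe_inv, Equiv.symm_apply_apply, neg_one_mul]
          exact hskew _ _
        rw [Finset.prod_congr rfl fun i _ => this i, Finset.prod_mul_distrib, Finset.prod_const,
          Finset.card_univ, hodd.neg_one_pow, neg_one_mul]
      rw [Equiv.Perm.sign_inv, hp, smul_neg, add_neg_cancel]
    · obtain ⟨i, hi⟩ : ∃ i, τ i = i := by
        by_contra! hfix
        have hsupp : τ.support = Finset.univ := Finset.eq_univ_of_forall fun i =>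
          Equiv.Perm.mem_support.2 (hfix i)
        have h2 : τ ^ 2 = 1 := by rw [pow_two]; nth_rw 1 [← heq]; exact inv_mul_cancel τ
        have := Equiv.Perm.two_dvd_card_support h2
        rw [hsupp, Finset.card_univ] at this
        exact (Nat.not_even_iff_odd.2 hodd) (even_iff_two_dvd.2 this)
      rw [Finset.prod_eq_zero (Finset.mem_univ i) (by rw [hi]; exact halt _), smul_zero]
  obtain ⟨x, hx0, hx⟩ := Matrix.exists_mulVec_eq_zero_iff.2 hd
  obtain ⟨y, hy⟩ := (hnd x hx0).1
  refine hy ?_
  have hsum : ∀ (u : ι → F) (s : Finset ι), f u (∑ j ∈ s, x j • (Pi.single j 1 : ι → F)) =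
      ∑ j ∈ s, x j * f u (Pi.single j 1) := by
    intro u s
    induction s using Finset.cons_induction with
    | empty => simpa using hb.smul_right 0 u 0
    | cons j s hjs ih => simp only [Finset.sum_cons, hb.add_right, hb.smul_right, ih]
  have hzero : ∀ i, f (Pi.single i 1) x = 0 := fun i => by
    conv_lhs => rw [pi_eq_sum_univ' x]
    rw [hsum]
    exact (Finset.sum_congr rfl fun j _ => mul_comm _ _).trans (congrFun hx i)
  rw [pi_eq_sum_univ' y]
  have : ∀ s : Finset ι, f (∑ j ∈ s, y j • (Pi.single j 1 : ι → F)) x = 0 := by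
    intro s
    induction s using Finset.cons_induction with
    | empty => simpa using hb.smul_left 0 0 x
    | cons j s hjs ih => simp only [Finset.sum_cons, hb.add_left, hb.smul_left, ih, hzero, mul_zero, add_zero]
  exact this _

omit [DecidableEq ι] [Fintype ι] in
theorem polar_self {Q : (ι → F) → F} (hQ : ∀ (c : F) (v : ι → F), Q (c • v) = c ^ 2 * Q v) (v : ι → F) :
    QuadraticMap.polar Q v v = 2 * Q v := by
  rw [QuadraticMap.polar, ← two_smul F v, hQ]
  ring

/-- In odd dimension a quadratic form fixed by an absolutely irreducible group forces odd characteristic, and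
the normaliser consists of similitudes. -/
theorem le_quadSimilarityGroup [Fintype F] [Nonempty ι] (hodd : Odd (Fintype.card ι)) {H N : Subgroup (GL ι F)}
    (hn : ∀ h ∈ H, ∀ x ∈ N, h * x * h⁻¹ ∈ N) (hN : ActsAbsolutelyIrreducibly (matrixSet N))
    {Q : (ι → F) → F} (hQ : IsNondegenerateQuadraticForm Q) (hfix : FixesQuadForm (matrixSet N) Q) :
    Odd (Fintype.card F) ∧ H ≤ quadSimilarityGroup Q := by
  have h2 : (2 : F) ≠ 0 := fun h2 =>
    not_alternating hodd hQ.polar_bilinear (fun v => by rw [polar_self hQ.smul, h2, zero_mul]) hQ.nondegenerate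
  have hq : Odd (Fintype.card F) := by
    rw [Nat.odd_iff]
    exact FiniteField.odd_card_of_char_ne_two fun h => h2 (by
      have := CharP.cast_eq_zero F (ringChar F)
      rw [h] at this
      exact_mod_cast this)
  refine ⟨hq, fun h hh => ?_⟩
  obtain ⟨c, hc⟩ := le_similarityGroup hn hN (isSesqForm_of_bilinear hQ.polar_bilinear) hQ.nondegenerate
    (fun s hs u v => by simp only [QuadraticMap.polar, ← Matrix.mulVec_add, hfix s hs]) hh
  refine ⟨c, fun v => mul_left_cancel₀ h2 ?_⟩
  have := hc v v
  rw [polar_self hQ.smul, polar_self hQ.smul] at this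
  linear_combination this

omit [DecidableEq ι] [Fintype ι] in
theorem polar_eq_of_sim {Q : (ι → F) → F} {M : (ι → F) → (ι → F)} (hM : ∀ u v, M (u + v) = M u + M v) {c : F}
    (h : ∀ v, Q (M v) = c * Q v) (u v : ι → F) :
    QuadraticMap.polar Q (M u) (M v) = c * QuadraticMap.polar Q u v := by
  simp only [QuadraticMap.polar, ← hM, h]
  ring

/-- In dimension at least three SL preserves no non-zero form up to scalars. -/
theorem not_specialLinear_le_similarityGroup [Finite F] (hn : 3 ≤ Fintype.card ι) (hf : IsSesqForm σ f)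
    (hnd : IsNondegenerateForm f) : ¬ specialLinear ι F ≤ similarityGroup f := by
  intro hle
  obtain ⟨p, hp⟩ := CharP.exists F
  haveI : Fact p.Prime := ⟨CharP.char_is_prime F p⟩
  have : Nonempty ι := Fintype.card_pos_iff.1 (by omega)
  have hzero : ∀ a v : ι → F, f a v = 0 := by
    intro a v
    have hW : Submodule.span F ({a, v} : Set (ι → F)) ≠ ⊤ := by
      intro h
      classical
      have h1 := finrank_span_finset_le_card (R := F) ({a, v} : Finset (ι → F))
      have h2 : Finset.card ({a, v} : Finset (ι → F)) ≤ 2 := Finset.card_le_two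
      rw [Finset.coe_pair, Set.finrank, h, finrank_top, Module.finrank_pi] at h1
      omega
    obtain ⟨x, hx⟩ : ∃ x, x ∉ Submodule.span F ({a, v} : Set (ι → F)) := by
      by_contra! h
      exact hW (Submodule.eq_top_iff'.2 h)
    obtain ⟨φ, hφx, hφ⟩ := exists_functional_vanishing _ x hx
    have hφa : φ ⬝ᵥ a = 0 := hφ a (Submodule.subset_span (by simp))
    have hφv : φ ⬝ᵥ v = 0 := hφ v (Submodule.subset_span (by simp))
    set t := transvectionGL φ a hφa with ht
    obtain ⟨c, hc⟩ := hle (transvectionGL_mem_specialLinear φ a hφa)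
    have hpow : t ^ p = 1 := by
      apply Units.ext
      have hM : (Matrix.vecMulVec a φ) ^ 2 = 0 := by
        rw [pow_two, Matrix.vecMulVec_mul_vecMulVec, hφa, zero_smul, Matrix.vecMulVec_zero]
      haveI : CharP (Matrix ι ι F) p := Matrix.charP p
      rw [Units.val_pow_eq_pow_val, Units.val_one]
      show (1 + Matrix.vecMulVec a φ) ^ p = 1
      rw [add_pow_char_of_commute _ (Commute.one_left _), one_pow, pow_eq_zero_of_le (Fact.out : p.Prime).two_le hM,
        add_zero]
    have hiter : ∀ (k : ℕ) (u w : ι → F),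
        f (((t ^ k : GL ι F) : Matrix ι ι F) *ᵥ u) (((t ^ k : GL ι F) : Matrix ι ι F) *ᵥ w) = (c : F) ^ k * f u w := by
      intro k
      induction k with
      | zero => simp
      | succ k ih =>
        intro u w
        rw [pow_succ', Units.val_mul, ← Matrix.mulVec_mulVec, ← Matrix.mulVec_mulVec, hc, ih, pow_succ']
        ring
    have hc1 : (c : F) = 1 := by
      obtain ⟨w, hw⟩ := exists_ne (0 : ι → F)
      obtain ⟨y, hy⟩ := (hnd w hw).2
      have := hiter p w y
      rw [hpow, Units.val_one, Matrix.one_mulVec, Matrix.one_mulVec] at this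
      have h1 : (c : F) ^ p = 1 := mul_right_cancel₀ hy (by rw [one_mul]; exact this.symm)
      exact frobenius_inj F p (by simpa [frobenius_def] using h1)
    have := hc x v
    rw [transvectionGL_mulVec, transvectionGL_mulVec, hφx, hφv, hc1, one_mul, one_smul, zero_smul, add_zero,
      hf.add_left] at this
    simpa using this
  obtain ⟨w, hw⟩ := exists_ne (0 : ι → F)
  obtain ⟨y, hy⟩ := (hnd w hw).2
  exact hy (hzero w y)

theorem not_specialLinear_le_quadSimilarityGroup [Finite F] (hn : 3 ≤ Fintype.card ι) {Q : (ι → F) → F}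
    (hQ : IsNondegenerateQuadraticForm Q) : ¬ specialLinear ι F ≤ quadSimilarityGroup Q := by
  refine fun hle => not_specialLinear_le_similarityGroup hn (isSesqForm_of_bilinear hQ.polar_bilinear)
    hQ.nondegenerate fun g hg => ?_
  obtain ⟨c, hc⟩ := hle hg
  exact ⟨c, fun u v => polar_eq_of_sim (Matrix.mulVec_add _) hc u v⟩

end CfsgLib.Geo.Asch
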