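/-
Stabilisers of decompositions into lines over fields with fewer than five elements.
-/
import Cfsg.Agent.Lib.Geo.Asch.Forms

set_option autoImplicit false

namespace CfsgLib.Geo.Asch

open Matrix Cfsg.Geo

variable {n : ℕ} {F : Type*} [Field F]

/-- The elements of the stabiliser of a decomposition into lines act monomially on a basis. -/
theorem exists_monomial_basis {D : Fin n → Submodule F (Fin n → F)} (hD : IsMDecomposition 1 D) :
    ∃ B : GL (Fin n) F, ∀ g ∈ decompositionStabilizer D, ∃ (τ : Equiv.Perm (Fin n)) (c : Fin n → F),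
      (∀ i, c i ≠ 0) ∧ ∀ (u : Fin n → F) (i : Fin n),
        (((B⁻¹ : GL (Fin n) F) : Matrix (Fin n) (Fin n) F) *ᵥ ((g : Matrix (Fin n) (Fin n) F) *ᵥ u)) (τ i) =
          c i * (((B⁻¹ : GL (Fin n) F) : Matrix (Fin n) (Fin n) F) *ᵥ u) i := by
  classical
  have hb : ∀ i, ∃ b : Fin n → F, b ∈ D i ∧ b ≠ 0 := fun i => by
    have : D i ≠ ⊥ := fun h => by
      have := hD.finrank_eq i
      rw [h, finrank_bot] at this
      omega
    obtain ⟨b, hb, hb0⟩ := Submodule.exists_mem_ne_zero_of_ne_bot this
    exact ⟨b, hb, hb0⟩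
  choose b hb hb0 using hb
  have hspan : ∀ i, ∀ w ∈ D i, ∃ c : F, w = c • b i := by
    intro i w hw
    obtain ⟨c, hc⟩ := (finrank_eq_one_iff_of_nonzero' (⟨b i, hb i⟩ : D i)
      (fun h => hb0 i (congrArg Subtype.val h))).1 (hD.finrank_eq i) ⟨w, hw⟩
    exact ⟨c, (congrArg Subtype.val hc).symm⟩
  have hli : LinearIndependent F b := hD.indep.linearIndependent (fun i => D i) hb hb0
  let M : Matrix (Fin n) (Fin n) F := Matrix.of fun i j => b j i
  have hM : IsUnit M := Matrix.linearIndependent_cols_iff_isUnit.1 hli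
  refine ⟨hM.unit, fun g hg => ?_⟩
  obtain ⟨τ, hτ⟩ := hg
  have hc : ∀ i, ∃ c : F, (g : Matrix (Fin n) (Fin n) F) *ᵥ b i = c • b (τ i) := fun i =>
    hspan (τ i) _ (hτ i ▸ ⟨b i, hb i, Matrix.toLin'_apply _ _⟩)
  choose c hc using hc
  refine ⟨τ, c, fun i h0 => mulVec_ne_zero g (hb0 i) (by rw [hc, h0, zero_smul]), fun u i => ?_⟩
  set w := ((hM.unit⁻¹ : GL (Fin n) F) : Matrix (Fin n) (Fin n) F) *ᵥ u with hw
  let z : Fin n → F := fun k => c (τ.symm k) * w (τ.symm k)
  have hMv : ∀ v : Fin n → F, M *ᵥ v = ∑ j, v j • b j := fun v => by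
    ext k
    simp [M, Matrix.mulVec, dotProduct, Finset.sum_apply, mul_comm]
  have hgu : (g : Matrix (Fin n) (Fin n) F) *ᵥ u = M *ᵥ z := by
    have hu : u = M *ᵥ w := by
      rw [hw, Matrix.mulVec_mulVec, hM.mul_val_inv, Matrix.one_mulVec]
    rw [hu, hMv, hMv, Matrix.mulVec_sum, ← Equiv.sum_comp τ (fun k => z k • b k)]
    refine Finset.sum_congr rfl fun j _ => ?_
    simp [z, Matrix.mulVec_smul, hc, smul_smul, mul_comm]
  rw [hgu, Matrix.mulVec_mulVec, hM.val_inv_mul, Matrix.one_mulVec]
  simp [z]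

/-- Over fewer than five elements a decomposition into lines refines to a fixed line, a quadratic form or a
unitary form. -/
theorem lines_small [Fintype F] (hn : 2 ≤ n) (hq : Fintype.card F < 5) {D : Fin n → Submodule F (Fin n → F)}
    (hD : IsMDecomposition 1 D) :
    (∃ W : Submodule F (Fin n → F), W ≠ ⊥ ∧ W ≠ ⊤ ∧ decompositionStabilizer D ≤ subspaceStabilizer W) ∨
    (Odd (Fintype.card F) ∧ ∃ Q : (Fin n → F) → F,
      IsNondegenerateQuadraticForm Q ∧ decompositionStabilizer D ≤ quadSimilarityGroup Q) ∨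
    (∃ (σ : F ≃+* F) (f : (Fin n → F) → (Fin n → F) → F),
      IsUnitaryForm σ f ∧ decompositionStabilizer D ≤ similarityGroup f) := by
  classical
  obtain ⟨B, hB⟩ := exists_monomial_basis hD
  obtain ⟨p, hp⟩ := CharP.exists F
  haveI : Fact p.Prime := ⟨CharP.char_is_prime F p⟩
  have h1 := Fintype.one_lt_card (α := F)
  have hpow : ∀ c : F, c ≠ 0 → c ^ (Fintype.card F - 1) = 1 := fun c hc => FiniteField.pow_card_sub_one_eq_one c hc
  set L := fun u : Fin n → F => ((B⁻¹ : GL (Fin n) F) : Matrix (Fin n) (Fin n) F) *ᵥ u with hL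
  obtain hq2 | hq3 | hq4 : Fintype.card F = 2 ∨ Fintype.card F = 3 ∨ Fintype.card F = 4 := by omega
  · left
    have hone : ∀ c : F, c ≠ 0 → c = 1 := fun c hc => by simpa [hq2] using hpow c hc
    set v := (B : Matrix (Fin n) (Fin n) F) *ᵥ fun _ => (1 : F) with hv
    have hv0 : v ≠ 0 := mulVec_ne_zero B fun h => one_ne_zero (α := F) (congrFun h ⟨0, by omega⟩)
    refine ⟨Submodule.span F {v}, by simp [hv0], fun h => ?_, fun g hg => ?_⟩
    · have := finrank_span_singleton (K := F) hv0
      rw [h, finrank_top, Module.finrank_pi, Fintype.card_fin] at this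
      omega
    · obtain ⟨τ, c, hc0, hc⟩ := hB g hg
      have hfix : (g : Matrix (Fin n) (Fin n) F) *ᵥ v = v := by
        have e : L ((g : Matrix (Fin n) (Fin n) F) *ᵥ v) = fun _ => 1 := funext fun k => by
          obtain ⟨i, rfl⟩ := τ.surjective k
          rw [hL]
          simp only [hc, hv, mulVec_inv_cancel, hone _ (hc0 i), one_mul]
        have h' := congrArg (fun w => (B : Matrix (Fin n) (Fin n) F) *ᵥ w) e
        simp only [hL, inv_mulVec_cancel] at h'
        exact h'
      intro w
      constructor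
      · intro hw
        obtain ⟨a, rfl⟩ := Submodule.mem_span_singleton.1 hw
        show (g : Matrix (Fin n) (Fin n) F) *ᵥ (a • v) ∈ Submodule.span F {v}
        rw [Matrix.mulVec_smul, hfix]
        exact Submodule.smul_mem _ _ (Submodule.mem_span_singleton_self v)
      · intro hw
        obtain ⟨a, ha⟩ := Submodule.mem_span_singleton.1 hw
        have ha' : a • v = (g : Matrix (Fin n) (Fin n) F) *ᵥ w := ha
        have : w = a • v := by
          rw [← mulVec_inv_cancel g w, ← ha', Matrix.mulVec_smul]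
          congr 1
          conv_lhs => rw [← hfix, mulVec_inv_cancel]
        rw [this]
        exact Submodule.smul_mem _ _ (Submodule.mem_span_singleton_self v)
  · right; left
    have hodd : Odd (Fintype.card F) := by rw [hq3]; decide
    have h2 : (2 : F) ≠ 0 := by
      intro h
      have h3 := FiniteField.cast_card_eq_zero F
      rw [hq3] at h3
      exact one_ne_zero (α := F) (by push_cast at h3; linear_combination h3 - h)
    let Q : (Fin n → F) → F := fun u => ∑ i, (L u i) ^ 2
    have hpolar : ∀ u v, QuadraticMap.polar Q u v = ∑ i, 2 * (L u i * L v i) := fun u v => by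
      simp only [QuadraticMap.polar, Q, ← Finset.sum_sub_distrib]
      refine Finset.sum_congr rfl fun i _ => ?_
      simp only [hL, Matrix.mulVec_add, Pi.add_apply]
      ring
    have hnd : ∀ v, v ≠ 0 → ∃ z, QuadraticMap.polar Q z v ≠ 0 := by
      intro v hv
      obtain ⟨i, hi⟩ := Function.ne_iff.1 (mulVec_ne_zero B⁻¹ hv)
      refine ⟨(B : Matrix (Fin n) (Fin n) F) *ᵥ Pi.single i 1, ?_⟩
      rw [hpolar, Finset.sum_eq_single i]
      · simp only [hL, mulVec_inv_cancel, Pi.single_eq_same, one_mul]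
        exact mul_ne_zero h2 hi
      · intro j _ hj; simp only [hL, mulVec_inv_cancel, Pi.single_eq_of_ne hj, zero_mul, mul_zero]
      · simp
    refine ⟨hodd, Q, ⟨fun c v => by simp [Q, hL, Matrix.mulVec_smul, mul_pow, Finset.mul_sum],
      ⟨fun x y v => by simp only [hpolar, ← Finset.sum_add_distrib, hL, Matrix.mulVec_add, Pi.add_apply]
                       exact Finset.sum_congr rfl fun i _ => by ring,
       fun c x v => by simp only [hpolar, Finset.mul_sum, hL, Matrix.mulVec_smul, Pi.smul_apply, smul_eq_mul]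
                       exact Finset.sum_congr rfl fun i _ => by ring,
       fun v x y => by simp only [hpolar, ← Finset.sum_add_distrib, hL, Matrix.mulVec_add, Pi.add_apply]
                       exact Finset.sum_congr rfl fun i _ => by ring,
       fun c v x => by simp only [hpolar, Finset.mul_sum, hL, Matrix.mulVec_smul, Pi.smul_apply, smul_eq_mul]
                       exact Finset.sum_congr rfl fun i _ => by ring⟩,
      fun v hv => ?_⟩, fun g hg => ⟨1, fun v => ?_⟩⟩
    · obtain ⟨z, hz⟩ := hnd v hv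
      exact ⟨⟨z, hz⟩, ⟨z, by rwa [QuadraticMap.polar_comm]⟩⟩
    · obtain ⟨τ, c, hc0, hc⟩ := hB g hg
      rw [Units.val_one, one_mul]
      simp only [Q, hL]
      rw [← Equiv.sum_comp τ]
      refine Finset.sum_congr rfl fun i _ => ?_
      rw [hc, mul_pow, show (c i) ^ 2 = 1 by simpa [hq3] using hpow _ (hc0 i), one_mul]
  · right; right
    have hp2 : p = 2 := by
      obtain ⟨k, -, hk⟩ := FiniteField.card F p
      rw [hq4] at hk
      have : p ∣ 2 ^ 2 := ⟨p ^ ((k : ℕ) - 1), by
        rw [← pow_succ', Nat.sub_add_cancel k.pos, ← hk]; norm_num⟩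
      exact (Nat.prime_dvd_prime_iff_eq Fact.out Nat.prime_two).1 ((Fact.out : p.Prime).dvd_of_dvd_pow this)
    subst hp2
    let σ : F ≃+* F := RingEquiv.ofBijective (frobenius F 2)
      (Finite.injective_iff_bijective.1 (frobenius F 2).injective)
    have hσ : ∀ a : F, σ a = a ^ 2 := fun a => frobenius_def 2 a
    have hinv : ∀ a : F, σ (σ a) = a := fun a => by
      rw [hσ, hσ, ← pow_mul, show 2 * 2 = Fintype.card F by rw [hq4], FiniteField.pow_card]
    have hne : σ ≠ RingEquiv.refl F := by
      intro h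
      have hsub : (Finset.univ : Finset F) ⊆ {0, 1} := fun a _ => by
        have : a ^ 2 = a := by rw [← hσ, h]; rfl
        rcases eq_zero_or_one_of_sq_eq_self this with rfl | rfl <;> simp
      have := (Finset.card_le_card hsub).trans Finset.card_le_two
      rw [Finset.card_univ, hq4] at this
      omega
    let f : (Fin n → F) → (Fin n → F) → F := fun u v => ∑ i, L u i * σ (L v i)
    have hher : ∀ u v, f u v = σ (f v u) := fun u v => by simp only [f, map_sum, map_mul, hinv, mul_comm]
    have hnd1 : ∀ v, v ≠ 0 → ∃ z, f v z ≠ 0 := by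
      intro v hv
      obtain ⟨i, hi⟩ := Function.ne_iff.1 (mulVec_ne_zero B⁻¹ hv)
      refine ⟨(B : Matrix (Fin n) (Fin n) F) *ᵥ Pi.single i 1, ?_⟩
      simp only [f, hL, mulVec_inv_cancel]
      rw [Finset.sum_eq_single i]
      · simpa using hi
      · intro j _ hj; simp [Pi.single_eq_of_ne hj]
      · simp
    refine ⟨σ, f, ⟨hne, hinv, fun x y v => by simp [f, hL, Matrix.mulVec_add, add_mul, Finset.sum_add_distrib],
      fun c x v => by simp [f, hL, Matrix.mulVec_smul, Finset.mul_sum, mul_assoc], hher, fun v hv => ?_⟩,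
      fun g hg => ⟨1, fun u v => ?_⟩⟩
    · obtain ⟨z, hz⟩ := hnd1 v hv
      exact ⟨⟨z, fun h0 => hz (by rw [hher, h0, map_zero])⟩, ⟨z, hz⟩⟩
    · obtain ⟨τ, c, hc0, hc⟩ := hB g hg
      rw [Units.val_one, one_mul]
      simp only [f, hL]
      rw [← Equiv.sum_comp τ]
      refine Finset.sum_congr rfl fun i _ => ?_
      have h3 : c i * σ (c i) = 1 := by rw [hσ, ← pow_succ']; simpa [hq4] using hpow _ (hc0 i)
      rw [hc, hc, map_mul, mul_mul_mul_comm, h3, one_mul]

end CfsgLib.Geo.Asch
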