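/-
The symplectic-type case: the group is extraspecial of order r^3, realisable over the field of the r-th roots
of unity, unitary when that field has even degree over the prime field.
-/
import Cfsg.Agent.Lib.Geo.Asch.Frame
import Cfsg.Agent.Lib.Geo.Asch.Span
import Cfsg.Agent.Lib.Geo.Asch.Forms

set_option autoImplicit false

namespace CfsgLib.Geo.Asch

open Matrix Cfsg.Geo

variable {r : ℕ} [NeZero r] {F : Type*} [Field F] {N : Subgroup (GL (Fin r) F)} {μ : F} {x y : GL (Fin r) F}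

theorem FramePair.le_of_mem (h : ScalarComm r N) (p : FramePair r N μ x y) {K : Subgroup (GL (Fin r) F)}
    (hx : x ∈ K) (hy : y ∈ K) : N ≤ K := by
  intro n hn
  obtain ⟨k, i, j, rfl⟩ := p.eq_word h hn
  exact K.mul_mem (K.pow_mem (K.mul_mem (K.mul_mem (K.mul_mem hy hx) (K.inv_mem hy)) (K.inv_mem hx)) _)
    (K.mul_mem (K.pow_mem hx _) (K.pow_mem hy _))

theorem FramePair.word_inj (h : ScalarComm r N) (p : FramePair r N μ x y) {a b : Fin r × Fin r × Fin r}
    (e : frameZ x y ^ (a.1 : ℕ) * (x ^ (a.2.1 : ℕ) * y ^ (a.2.2 : ℕ)) =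
      frameZ x y ^ (b.1 : ℕ) * (x ^ (b.2.1 : ℕ) * y ^ (b.2.2 : ℕ))) : a = b := by
  haveI : Nonempty (Fin r) := ⟨⟨0, h.prime.pos⟩⟩
  have hμ0 : μ ≠ 0 := p.root.ne_zero h.prime.ne_zero
  have coe : ∀ k i j : ℕ, ((frameZ x y ^ k * (x ^ i * y ^ j) : GL (Fin r) F) : Matrix (Fin r) (Fin r) F) =
      μ ^ k • ((x ^ i * y ^ j : GL (Fin r) F) : Matrix (Fin r) (Fin r) F) := by
    intro k i j
    rw [Units.val_mul, Units.val_pow_eq_pow_val, p.coe_frameZ, smul_pow, one_pow, Matrix.smul_mul, one_mul]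
  have key : ∀ (g : GL (Fin r) F) (u v : F) (A B : GL (Fin r) F),
      (g : Matrix (Fin r) (Fin r) F) * A = u • ((A : Matrix (Fin r) (Fin r) F) * g) →
      (g : Matrix (Fin r) (Fin r) F) * B = v • ((B : Matrix (Fin r) (Fin r) F) * g) →
      ∀ s t : F, t ≠ 0 → s • (A : Matrix (Fin r) (Fin r) F) = t • (B : Matrix (Fin r) (Fin r) F) → u = v := by
    intro g u v A B hA hB s t ht hAB
    have e1 : (g : Matrix (Fin r) (Fin r) F) * (s • (A : Matrix (Fin r) (Fin r) F)) =
        u • ((s • (A : Matrix (Fin r) (Fin r) F)) * g) := by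
      rw [Matrix.mul_smul, hA, Matrix.smul_mul, smul_comm]
    rw [hAB, Matrix.mul_smul, hB, Matrix.smul_mul, smul_comm t v, ← Matrix.smul_mul] at e1
    have hne : (t • (B : Matrix (Fin r) (Fin r) F)) * g ≠ 0 := by
      rw [Matrix.smul_mul, smul_ne_zero_iff, ← Units.val_mul]
      exact ⟨ht, Units.ne_zero _⟩
    exact (smul_left_injective F hne e1).symm
  have e' := congrArg (Units.val : GL (Fin r) F → Matrix (Fin r) (Fin r) F) e
  rw [coe, coe] at e'
  have hi := key y _ _ _ _ (p.conj_word_right _ _) (p.conj_word_right _ _) _ _ (pow_ne_zero _ hμ0) e'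
  have hj := key x _ _ _ _ (p.conj_word_left _ _) (p.conj_word_left _ _) _ _ (pow_ne_zero _ hμ0) e'
  have hi' : a.2.1 = b.2.1 := Fin.ext (p.root.pow_inj a.2.1.2 b.2.1.2 hi)
  have hj' : a.2.2 = b.2.2 := Fin.ext (p.root.inv.pow_inj a.2.2.2 b.2.2.2 hj)
  rw [hi', hj'] at e'
  have hk : a.1 = b.1 := Fin.ext (p.root.pow_inj a.1.2 b.1.2
    (smul_left_injective F (Units.ne_zero _) e'))
  exact Prod.ext hk (Prod.ext hi' hj')

theorem FramePair.card_eq (h : ScalarComm r N) (p : FramePair r N μ x y) : Nat.card N = r ^ 3 := by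
  let Φ : Fin r × Fin r × Fin r → N := fun a =>
    ⟨frameZ x y ^ (a.1 : ℕ) * (x ^ (a.2.1 : ℕ) * y ^ (a.2.2 : ℕ)),
      N.mul_mem (N.pow_mem p.frameZ_mem _) (N.mul_mem (N.pow_mem p.mem_left _) (N.pow_mem p.mem_right _))⟩
  have hbij : Function.Bijective Φ := by
    refine ⟨fun a b e => p.word_inj h (congrArg Subtype.val e), fun n => ?_⟩
    obtain ⟨k, i, j, e⟩ := p.eq_word h n.2
    exact ⟨(k, i, j), Subtype.ext e.symm⟩
  rw [← Nat.card_congr (Equiv.ofBijective Φ hbij)]
  simp only [Nat.card_eq_fintype_card, Fintype.card_prod, Fintype.card_fin]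
  ring

theorem FramePair.mem_center_iff (h : ScalarComm r N) (p : FramePair r N μ x y) (n : N) :
    n ∈ Subgroup.center N ↔ ∃ k : Fin r, (n : GL (Fin r) F) = frameZ x y ^ (k : ℕ) := by
  haveI : Nonempty (Fin r) := ⟨⟨0, h.prime.pos⟩⟩
  constructor
  · intro hn
    have hs : (n : GL (Fin r) F) ∈ scalars (Fin r) F := mem_scalars_of_commute h.absIrred fun m hm =>
      (congrArg Subtype.val (Subgroup.mem_center_iff.1 hn ⟨m, hm⟩)).symm
    obtain ⟨c, hc⟩ := (mem_scalars_iff _).1 hs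
    have hd := det_eq_one_of_mem h n.2
    rw [hc, Matrix.det_smul, Matrix.det_one, mul_one, Fintype.card_fin] at hd
    obtain ⟨k, hk, hkc⟩ := p.root.eq_pow_of_pow_eq_one hd
    exact ⟨⟨k, hk⟩, Units.ext (by rw [hc, Units.val_pow_eq_pow_val, p.coe_frameZ, smul_pow, one_pow, hkc])⟩
  · rintro ⟨k, hk⟩
    rw [Subgroup.mem_center_iff]
    intro m
    have hz : frameZ x y ∈ scalars (Fin r) F := mem_scalars_of_coe p.coe_frameZ
    exact Subtype.ext (by
      show (m : GL (Fin r) F) * n = n * m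
      rw [hk]
      exact (scalar_commute ((scalars (Fin r) F).pow_mem hz _) _).symm)

theorem FramePair.card_center (h : ScalarComm r N) (p : FramePair r N μ x y) :
    Nat.card (Subgroup.center N) = r := by
  let Φ : Fin r → Subgroup.center N := fun k =>
    ⟨⟨frameZ x y ^ (k : ℕ), N.pow_mem p.frameZ_mem _⟩, (p.mem_center_iff h _).2 ⟨k, rfl⟩⟩
  have hbij : Function.Bijective Φ := by
    refine ⟨fun a b e => ?_, fun n => ?_⟩
    · have e' : frameZ x y ^ (a : ℕ) = frameZ x y ^ (b : ℕ) := congrArg (fun n : Subgroup.center N => ((n : N) : GL (Fin r) F)) e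
      exact congrArg Prod.fst (p.word_inj h (a := (a, 0, 0)) (b := (b, 0, 0)) (by rw [e']))
    · obtain ⟨k, hk⟩ := (p.mem_center_iff h n.1).1 n.2
      exact ⟨k, Subtype.ext (Subtype.ext hk.symm)⟩
  rw [← Nat.card_congr (Equiv.ofBijective Φ hbij), Nat.card_eq_fintype_card, Fintype.card_fin]

/-- Any two frame pairs for the same root are conjugate in GL, by an element normalising `N`. -/
theorem exists_aut (h : ScalarComm r N) {a b : GL (Fin r) F} (p : FramePair r N μ x y) (p' : FramePair r N μ a b) :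
    ∃ e : N ≃* N, ∀ n : N, (n : GL (Fin r) F) = x → (e n : GL (Fin r) F) = a := by
  obtain ⟨B, hBx, hBy⟩ := exists_frame h p
  obtain ⟨B', hBa, hBb⟩ := exists_frame h p'
  set g := B' * B⁻¹ with hg
  have key : ∀ {u v : GL (Fin r) F} {G : Matrix (Fin r) (Fin r) F},
      (u : Matrix (Fin r) (Fin r) F) * (B : Matrix (Fin r) (Fin r) F) = (B : Matrix (Fin r) (Fin r) F) * G →
      (v : Matrix (Fin r) (Fin r) F) * (B' : Matrix (Fin r) (Fin r) F) = (B' : Matrix (Fin r) (Fin r) F) * G →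
      g * u * g⁻¹ = v := by
    intro u v G hu hv
    have : g * u * B = v * g * B := by
      apply Units.ext
      rw [hg, show B' * B⁻¹ * u * B = B' * B⁻¹ * (u * B) by group, show v * (B' * B⁻¹) * B = v * B' by group,
        Units.val_mul, Units.val_mul u, hu, ← mul_assoc, ← Units.val_mul, inv_mul_cancel_right,
        Units.val_mul v, hv]
    rw [mul_inv_eq_iff_eq_mul]
    exact mul_right_cancel this
  have ex := key hBx hBa
  have ey := key hBy hBb
  have hmap : N.map (MulAut.conj g).toMonoidHom = N := by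
    refine le_antisymm ?_ (p'.le_of_mem h ⟨x, p.mem_left, by simpa using ex⟩ ⟨y, p.mem_right, by simpa using ey⟩)
    rintro _ ⟨n, hn, rfl⟩
    have hle : N ≤ N.comap (MulAut.conj g).toMonoidHom := p.le_of_mem h
      (by simpa [Subgroup.mem_comap, ex] using p'.mem_left) (by simpa [Subgroup.mem_comap, ey] using p'.mem_right)
    exact hle hn
  refine ⟨((MulAut.conj g).subgroupMap N).trans (MulEquiv.subgroupCongr hmap), fun n hn => ?_⟩
  show g * (n : GL (Fin r) F) * g⁻¹ = a
  rw [hn, ex]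

theorem FramePair.swap (p : FramePair r N μ x y) : FramePair r N μ y x⁻¹ := by
  refine ⟨p.mem_right, N.inv_mem p.mem_left, p.root, ?_⟩
  have e := congrArg (fun M => ((x⁻¹ : GL (Fin r) F) : Matrix (Fin r) (Fin r) F) * M *
    ((x⁻¹ : GL (Fin r) F) : Matrix (Fin r) (Fin r) F)) p.conj
  have h1 : ((x⁻¹ : GL (Fin r) F) : Matrix (Fin r) (Fin r) F) * (x : Matrix (Fin r) (Fin r) F) = 1 := by
    rw [← Units.val_mul, inv_mul_cancel, Units.val_one]
  have h2 : (x : Matrix (Fin r) (Fin r) F) * ((x⁻¹ : GL (Fin r) F) : Matrix (Fin r) (Fin r) F) = 1 := by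
    rw [← Units.val_mul, mul_inv_cancel, Units.val_one]
  simpa [mul_assoc, h2, ← mul_assoc ((x⁻¹ : GL (Fin r) F) : Matrix (Fin r) (Fin r) F) (x : Matrix (Fin r) (Fin r) F), h1]
    using e

theorem isSymplecticTypeGroup (h : ScalarComm r N) (p : FramePair r N μ x y) : IsSymplecticTypeGroup r N := by
  haveI : Nonempty (Fin r) := ⟨⟨0, h.prime.pos⟩⟩
  have hexp : ∀ n : N, n ^ r = 1 := fun n => Subtype.ext (pow_r_eq_one h n.2)
  refine ⟨h.prime, fun n => ⟨1, by rw [pow_one]; exact hexp n⟩, fun A hA hAc => ?_, ?_⟩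
  · have hle : A ≤ Subgroup.center N := by
      intro a ha
      by_contra hac
      obtain ⟨m, hm, hne⟩ : ∃ m ∈ N, (a : GL (Fin r) F) * m ≠ m * a := by
        by_contra! hall
        exact hac (Subgroup.mem_center_iff.2 fun m => Subtype.ext (hall m m.2).symm)
      obtain ⟨ν, hν, hνr⟩ := exists_conj h a.2 hm
      have hν1 : ν ≠ 1 := by
        rintro rfl
        exact hne (Units.ext (by rw [Units.val_mul, Units.val_mul, hν, one_smul]))
      have p1 : FramePair r N ν a m := ⟨a.2, hm, isPrimitiveRoot_of_ne_one h.prime hνr hν1, hν⟩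
      obtain ⟨e, he⟩ := exists_aut h p1 p1.swap
      have hea : e a ∈ A := by
        rw [← Subgroup.characteristic_iff_map_eq.1 hA e]
        exact ⟨a, ha, rfl⟩
      have := hAc.is_comm.comm ⟨a, ha⟩ ⟨e a, hea⟩
      have hc := congrArg (fun t : A => ((t : N) : GL (Fin r) F)) this
      simp only [Subgroup.coe_mul, he a rfl] at hc
      exact hne hc
    haveI : Fact r.Prime := ⟨h.prime⟩
    haveI : IsCyclic (Subgroup.center N) := isCyclic_of_prime_card (p.card_center h)
    exact isCyclic_of_injective (Subgroup.inclusion hle) (Subgroup.inclusion_injective hle)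
  · have hg : Nat.gcd 2 r = 1 := Nat.coprime_two_left.2 h.odd
    rw [hg, mul_one]
    refine ((Nat.dvd_prime h.prime).1 (Monoid.exponent_dvd_of_forall_pow_eq_one hexp)).resolve_left fun h1 => ?_
    have hone : x = 1 := by
      have := Monoid.pow_exponent_eq_one (⟨x, p.mem_left⟩ : N)
      rw [h1, pow_one] at this
      exact congrArg Subtype.val this
    have := p.conj
    rw [hone, Units.val_one, mul_one, one_mul] at this
    exact p.root.ne_one h.prime.one_lt (smul_left_injective F (Units.ne_zero y)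
      (show μ • (y : Matrix (Fin r) (Fin r) F) = (1 : F) • (y : Matrix (Fin r) (Fin r) F) by rw [one_smul, ← this]))

theorem realisableOver (h : ScalarComm r N) (p : FramePair r N μ x y) {F₀ : Subfield F} (hμ : μ ∈ F₀) :
    RealisableOver F₀ (matrixSet N) := by
  obtain ⟨B, hBx, hBy⟩ := exists_frame h p
  let K : Submonoid (GL (Fin r) F) :=
    { carrier := {g | ∀ i j, (((B⁻¹ : GL (Fin r) F) : Matrix (Fin r) (Fin r) F) * g * B) i j ∈ F₀}
      mul_mem' := by
        intro a b ha hb i j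
        have e : ((B⁻¹ : GL (Fin r) F) : Matrix (Fin r) (Fin r) F) * ((a * b : GL (Fin r) F) : Matrix (Fin r) (Fin r) F) * B =
            (((B⁻¹ : GL (Fin r) F) : Matrix (Fin r) (Fin r) F) * a * B) *
            (((B⁻¹ : GL (Fin r) F) : Matrix (Fin r) (Fin r) F) * b * B) := by
          rw [← Units.val_mul, ← Units.val_mul, ← Units.val_mul, ← Units.val_mul, ← Units.val_mul, ← Units.val_mul,
            ← Units.val_mul]
          congr 1
          group
        rw [e, Matrix.mul_apply]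
        exact sum_mem fun k _ => mul_mem (ha i k) (hb k j)
      one_mem' := by
        intro i j
        rw [Units.val_one, mul_one, ← Units.val_mul, inv_mul_cancel, Units.val_one, Matrix.one_apply]
        split <;> simp [one_mem, zero_mem] }
  have hb : ∀ (g : GL (Fin r) F) (G : Matrix (Fin r) (Fin r) F),
      (g : Matrix (Fin r) (Fin r) F) * (B : Matrix (Fin r) (Fin r) F) = (B : Matrix (Fin r) (Fin r) F) * G →
      ((B⁻¹ : GL (Fin r) F) : Matrix (Fin r) (Fin r) F) * g * B = G := by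
    intro g G hg
    rw [mul_assoc, hg, ← mul_assoc, ← Units.val_mul, inv_mul_cancel, Units.val_one, one_mul]
  have hx : x ∈ K := fun i j => by
    rw [hb x _ hBx, frameX, Matrix.diagonal_apply]
    split
    · exact pow_mem (inv_mem hμ) _
    · exact zero_mem _
  have hy : y ∈ K := fun i j => by
    rw [hb y _ hBy]
    show (if i = j + 1 then (1 : F) else 0) ∈ F₀
    split
    · exact one_mem _
    · exact zero_mem _
  have hK : ∀ n ∈ N, n ∈ K := by
    intro n hn
    obtain ⟨k, i, j, rfl⟩ := p.eq_word h hn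
    have hinv : ∀ g ∈ N, g ∈ K → g⁻¹ ∈ K := by
      intro g hg hgK
      have : g⁻¹ = g ^ (r - 1) := by
        rw [inv_eq_iff_mul_eq_one, ← pow_succ', Nat.sub_add_cancel h.prime.one_le, pow_r_eq_one h hg]
      rw [this]
      exact K.pow_mem hgK _
    exact K.mul_mem (K.pow_mem (K.mul_mem (K.mul_mem (K.mul_mem hy hx) (hinv y p.mem_right hy))
      (hinv x p.mem_left hx)) _) (K.mul_mem (K.pow_mem hx _) (K.pow_mem hy _))
  refine ⟨B⁻¹, ?_⟩
  rintro _ ⟨n, hn, rfl⟩ i j
  rw [inv_inv]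
  exact hK n hn i j

theorem exists_unitary (h : ScalarComm r N) (p : FramePair r N μ x y) {σ : F ≃+* F} (hne : σ ≠ RingEquiv.refl F)
    (hinv : ∀ a, σ (σ a) = a) (hσ : μ * σ μ = 1) :
    ∃ f : (Fin r → F) → (Fin r → F) → F, IsUnitaryForm σ f ∧ FixesForm (matrixSet N) f := by
  obtain ⟨B, hBx, hBy⟩ := exists_frame h p
  let f : (Fin r → F) → (Fin r → F) → F := fun u v =>
    ∑ i, (((B⁻¹ : GL (Fin r) F) : Matrix (Fin r) (Fin r) F) *ᵥ u) i *
      σ ((((B⁻¹ : GL (Fin r) F) : Matrix (Fin r) (Fin r) F) *ᵥ v) i)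
  have hher : ∀ u v, f u v = σ (f v u) := fun u v => by
    simp only [f, map_sum, map_mul, hinv, mul_comm]
  have hnd1 : ∀ v, v ≠ 0 → ∃ z, f v z ≠ 0 := by
    intro v hv
    obtain ⟨i, hi⟩ := Function.ne_iff.1 (mulVec_ne_zero B⁻¹ hv)
    refine ⟨(B : Matrix (Fin r) (Fin r) F) *ᵥ Pi.single i 1, ?_⟩
    simp only [f, mulVec_inv_cancel]
    rw [Finset.sum_eq_single i]
    · simpa using hi
    · intro j _ hj; simp [Pi.single_eq_of_ne hj]
    · simp
  refine ⟨f, ⟨hne, hinv, fun a b v => by simp [f, Matrix.mulVec_add, add_mul, Finset.sum_add_distrib],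
    fun c a v => by simp [f, Matrix.mulVec_smul, Finset.mul_sum, mul_assoc], hher,
    fun v hv => ⟨?_, hnd1 v hv⟩⟩, ?_⟩
  · obtain ⟨z, hz⟩ := hnd1 v hv
    exact ⟨z, fun h0 => hz (by rw [hher, h0, map_zero])⟩
  let K : Subgroup (GL (Fin r) F) :=
    { carrier := {g | ∀ u v, f ((g : Matrix (Fin r) (Fin r) F) *ᵥ u) ((g : Matrix (Fin r) (Fin r) F) *ᵥ v) = f u v}
      mul_mem' := fun {a b} ha hb u v => by
        rw [Units.val_mul, ← Matrix.mulVec_mulVec, ← Matrix.mulVec_mulVec, ha, hb]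
      one_mem' := fun u v => by simp
      inv_mem' := fun {a} ha u v => by
        conv_rhs => rw [← inv_mulVec_cancel a u, ← inv_mulVec_cancel a v]
        rw [ha] }
  have hb : ∀ (g : GL (Fin r) F) (G : Matrix (Fin r) (Fin r) F),
      (g : Matrix (Fin r) (Fin r) F) * (B : Matrix (Fin r) (Fin r) F) = (B : Matrix (Fin r) (Fin r) F) * G →
      ∀ u : Fin r → F, ((B⁻¹ : GL (Fin r) F) : Matrix (Fin r) (Fin r) F) *ᵥ ((g : Matrix (Fin r) (Fin r) F) *ᵥ u) =
        G *ᵥ (((B⁻¹ : GL (Fin r) F) : Matrix (Fin r) (Fin r) F) *ᵥ u) := by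
    intro g G hg u
    conv_lhs => rw [← inv_mulVec_cancel B u, Matrix.mulVec_mulVec _ (g : Matrix (Fin r) (Fin r) F), hg]
    rw [← Matrix.mulVec_mulVec, mulVec_inv_cancel]
  have hμ0 : μ ≠ 0 := p.root.ne_zero h.prime.ne_zero
  have hx : x ∈ K := fun u v => by
    simp only [f, hb x _ hBx, frameX, Matrix.mulVec_diagonal, map_mul]
    refine Finset.sum_congr rfl fun i _ => ?_
    have : μ⁻¹ ^ (i : ℕ) * σ (μ⁻¹ ^ (i : ℕ)) = 1 := by
      rw [map_pow, map_inv₀, ← mul_pow, ← mul_inv, hσ, inv_one, one_pow]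
    rw [mul_mul_mul_comm, this, one_mul]
  have hy : y ∈ K := fun u v => by
    simp only [f, hb y _ hBy, frameY_mulVec]
    exact Equiv.sum_comp (Equiv.subRight (1 : Fin r)) fun i =>
      (((B⁻¹ : GL (Fin r) F) : Matrix (Fin r) (Fin r) F) *ᵥ u) i *
        σ ((((B⁻¹ : GL (Fin r) F) : Matrix (Fin r) (Fin r) F) *ᵥ v) i)
  rintro _ ⟨n, hn, rfl⟩
  exact p.le_of_mem h hx hy hn

/-- Either the group is written over a proper subfield, or the field is minimal for the `r`th roots of unity. -/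
theorem scalarComm_field [Fintype F] (h : ScalarComm r N) :
    (∃ F₀ : Subfield F, F₀ ≠ ⊤ ∧ RealisableOver F₀ (matrixSet N)) ∨
      ∃ p e : ℕ, p.Prime ∧ CharP F p ∧ Fintype.card F = p ^ e ∧ r ≠ p ∧ IsMinimalFieldFor r p e F := by
  haveI : Nonempty (Fin r) := ⟨⟨0, h.prime.pos⟩⟩
  obtain ⟨μ, x, y, P⟩ := exists_framePair h
  obtain ⟨p, hp⟩ := CharP.exists F
  have hpp : p.Prime := CharP.char_is_prime F p
  haveI : Fact p.Prime := ⟨hpp⟩
  haveI : Fact r.Prime := ⟨h.prime⟩
  obtain ⟨f, -, hcard⟩ := FiniteField.card F p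
  have hpr : r ≠ p := by
    rintro rfl
    exact P.root.ne_one h.prime.one_lt
      (frobenius_inj F r (by simp only [frobenius_def, one_pow]; exact P.root.pow_eq_one))
  have hiff : ∀ d : ℕ, r ∣ p ^ d - 1 ↔ (p : ZMod r) ^ d = 1 := by
    intro d
    rw [← Nat.modEq_iff_dvd' (Nat.one_le_pow _ _ hpp.pos), Nat.ModEq.comm, ← ZMod.natCast_eq_natCast_iff,
      Nat.cast_pow, Nat.cast_one]
  have hμdvd : ∀ m : ℕ, r ∣ m ↔ μ ^ m = 1 := fun m => (P.root.pow_eq_one_iff_dvd m).symm
  have hf : (p : ZMod r) ^ (f : ℕ) = 1 := by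
    rw [← hiff, hμdvd, ← hcard]
    exact FiniteField.pow_card_sub_one_eq_one μ (P.root.ne_zero h.prime.ne_zero)
  set e := orderOf (p : ZMod r) with he
  have hdvd : e ∣ (f : ℕ) := orderOf_dvd_of_pow_eq_one hf
  have he0 : 0 < e := (isOfFinOrder_iff_pow_eq_one.2 ⟨f, f.pos, hf⟩).orderOf_pos
  have hμe : μ ^ p ^ e = μ := by
    have : μ ^ (p ^ e - 1) = 1 := (hμdvd _).1 ((hiff e).2 (pow_orderOf_eq_one _))
    calc μ ^ p ^ e = μ ^ (p ^ e - 1) * μ := by
          rw [← pow_succ, Nat.sub_add_cancel (Nat.one_le_pow _ _ hpp.pos)]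
      _ = μ := by rw [this, one_mul]
  by_cases hef : e = f
  · refine Or.inr ⟨p, e, hpp, hp, by rw [hef]; exact hcard, hpr,
      hpp, hp, by rw [hef]; exact hcard, (hiff e).2 (pow_orderOf_eq_one _), fun d hd0 hd hdiv => ?_⟩
    exact hd.not_ge (orderOf_le_of_pow_eq_one hd0 ((hiff d).1 hdiv))
  · left
    let F₀ : Subfield F := RingHom.eqLocusField (iterateFrobenius F p e) (RingHom.id F)
    have hmem : ∀ a : F, a ∈ F₀ ↔ a ^ p ^ e = a := fun a => by
      show iterateFrobenius F p e a = a ↔ _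
      rw [iterateFrobenius_def]
    refine ⟨F₀, ?_, realisableOver h P ((hmem μ).2 hμe)⟩
    intro htop
    obtain ⟨g, hg⟩ := IsCyclic.exists_generator (α := Fˣ)
    have hgo : orderOf g = Fintype.card F - 1 := by
      rw [orderOf_eq_card_of_forall_mem_zpowers hg, Nat.card_units, Nat.card_eq_fintype_card]
    have h1 : g ^ (p ^ e - 1) = 1 := by
      have h2 : g ^ p ^ e = g := Units.ext (by
        rw [Units.val_pow_eq_pow_val]
        exact (hmem _).1 (htop ▸ Subfield.mem_top _))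
      apply mul_right_cancel (b := g)
      rw [one_mul, ← pow_succ, Nat.sub_add_cancel (Nat.one_le_pow _ _ hpp.pos), h2]
    have hdiv := orderOf_dvd_of_pow_eq_one h1
    rw [hgo, hcard] at hdiv
    have hpe : 0 < p ^ e - 1 := Nat.sub_pos_of_lt (Nat.one_lt_pow he0.ne' hpp.one_lt)
    have hle := Nat.le_of_dvd hpe hdiv
    have hlt : p ^ e < p ^ (f : ℕ) :=
      Nat.pow_lt_pow_right hpp.one_lt (lt_of_le_of_ne (Nat.le_of_dvd f.pos hdvd) hef)
    omega

/-- The outcome of the symplectic-type case. -/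
theorem scalarComm_cases [Fintype F] {H : Subgroup (GL (Fin r) F)} (h : ScalarComm r N)
    (hn : ∀ g ∈ H, ∀ a ∈ N, g * a * g⁻¹ ∈ N) :
    (∃ (F₀ : Subfield F) (s : ℕ) (P : GL (Fin r) F),
      s.Prime ∧ Fintype.card F = Nat.card F₀ ^ s ∧ H ≤ subfieldSubgroup F₀ P) ∨
    (∃ (σ : F ≃+* F) (f : (Fin r → F) → (Fin r → F) → F), IsUnitaryForm σ f ∧ H ≤ similarityGroup f) ∨
    (∃ p e : ℕ, p.Prime ∧ CharP F p ∧ Fintype.card F = p ^ e ∧ Odd e ∧ IsMinimalFieldFor r p e F ∧
      IsLinearSymplecticTypeData r N) := by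
  haveI : Nonempty (Fin r) := ⟨⟨0, h.prime.pos⟩⟩
  rcases scalarComm_field h with ⟨F₀, hne, hreal⟩ | ⟨p, e, hpp, hp, hcard, hpr, hmin⟩
  · exact Or.inl (exists_subfieldSubgroup hn h.absIrred hne hreal)
  · obtain ⟨μ, x, y, P⟩ := exists_framePair h
    haveI : Fact p.Prime := ⟨hpp⟩
    haveI := hp
    have hdvd : r ∣ p ^ e - 1 := hmin.2.2.2.1
    have hμdvd : ∀ m : ℕ, r ∣ m ↔ μ ^ m = 1 := fun m => (P.root.pow_eq_one_iff_dvd m).symm
    rcases Nat.even_or_odd e with hev | hodd
    · right; left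
      obtain ⟨d, hd⟩ := hev
      let σ : F ≃+* F := RingEquiv.ofBijective (iterateFrobenius F p d)
        (Finite.injective_iff_bijective.1 (iterateFrobenius F p d).injective)
      have hσ : ∀ a : F, σ a = a ^ p ^ d := fun a => iterateFrobenius_def p d a
      have hd0 : 0 < d := by
        have := Fintype.one_lt_card (α := F)
        rw [hcard, hd] at this
        rcases Nat.eq_zero_or_pos d with rfl | h0
        · simp at this
        · exact h0
      have hnot : ¬ r ∣ p ^ d - 1 := hmin.2.2.2.2 d hd0 (by omega)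
      have hne : σ ≠ RingEquiv.refl F := by
        intro hσ1
        apply hnot
        rw [hμdvd]
        have h1 : μ ^ p ^ d = μ := by rw [← hσ, hσ1]; rfl
        refine mul_right_cancel₀ (P.root.ne_zero h.prime.ne_zero) ?_
        rw [one_mul, ← pow_succ, Nat.sub_add_cancel (Nat.one_le_pow _ _ hpp.pos), h1]
      have hinv : ∀ a : F, σ (σ a) = a := fun a => by
        rw [hσ, hσ, ← pow_mul, ← pow_add, ← hd, ← hcard, FiniteField.pow_card]
      have hσμ : μ * σ μ = 1 := by
        rw [hσ, ← pow_succ', ← hμdvd]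
        have hdiv : r ∣ (p ^ d - 1) * (p ^ d + 1) := by
          have : (p ^ d - 1) * (p ^ d + 1) = p ^ e - 1 := by
            rw [hd, mul_comm, ← Nat.sq_sub_sq, one_pow, pow_add, pow_two]
          rw [this]
          exact hdvd
        exact (h.prime.dvd_mul.1 hdiv).resolve_left hnot
      obtain ⟨g, hg, hfix⟩ := exists_unitary h P hne hinv hσμ
      exact ⟨σ, g, hg, le_similarityGroup hn h.absIrred (isSesqForm_of_unitary hg) hg.nondegenerate hfix⟩
    · right; right
      refine ⟨p, e, hpp, hp, hcard, hodd, hmin, ?_⟩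
      exact
        { symplecticType := isSymplecticTypeGroup h P
          absIrred := h.absIrred
          field := ⟨p, e, hpr, by rw [P.card_center h]; exact hmin,
            Or.inl ⟨h.odd, hodd, P.card_center h, 1, le_rfl, P.card_eq h⟩⟩ }

end CfsgLib.Geo.Asch
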