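/-
Maximal subgroups of SL_r for an odd prime r: Aschbacher's dichotomy.
-/
import Cfsg.Agent.Lib.Geo.Asch.SympType
import Cfsg.Agent.Lib.Geo.Asch.FieldFour
import Cfsg.Agent.Lib.Geo.Asch.SmallLines
import Cfsg.Agent.Lib.Geo.Asch.NotLe

set_option autoImplicit false

namespace CfsgLib.Geo.Asch

open Matrix Cfsg.Geo
open scoped commutatorElement

section Group

variable {G : Type*} [Group G]

theorem conj_mem_commutator {H N : Subgroup G} (hn : ∀ h ∈ H, ∀ x ∈ N, h * x * h⁻¹ ∈ N) :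
    ∀ h ∈ H, ∀ x ∈ ⁅N, N⁆, h * x * h⁻¹ ∈ ⁅N, N⁆ := by
  intro h hh x hx
  have hle : N.map (MulAut.conj h).toMonoidHom ≤ N := by
    rintro _ ⟨a, ha, rfl⟩
    exact hn h hh a ha
  have h1 : h * x * h⁻¹ ∈ ⁅N, N⁆.map (MulAut.conj h).toMonoidHom := ⟨x, hx, rfl⟩
  rw [Subgroup.map_commutator] at h1
  exact Subgroup.commutator_mono hle hle h1

/-- Elements commuting with a perfect subgroup modulo the centre commute with it. -/
theorem commute_of_perfect {Z P : Subgroup G} (hZ : Z ≤ Subgroup.center G) (hP : ⁅P, P⁆ = P) {h : G}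
    (hh : ∀ x ∈ P, h * x * h⁻¹ * x⁻¹ ∈ Z) : ∀ x ∈ P, h * x = x * h := by
  have hc : ∀ x ∈ P, ∀ g : G, g * (h * x * h⁻¹ * x⁻¹) = (h * x * h⁻¹ * x⁻¹) * g := fun x hx g =>
    Subgroup.mem_center_iff.1 (hZ (hh x hx)) g
  suffices key : ⁅P, P⁆ ≤ Subgroup.centralizer {h} by
    intro x hx
    exact Subgroup.mem_centralizer_iff.1 (key (hP.symm ▸ hx)) h (Set.mem_singleton h)
  rw [Subgroup.commutator_le]
  intro a ha b hb
  rw [Subgroup.mem_centralizer_iff]
  rintro g (rfl : g = h)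
  set za := g * a * g⁻¹ * a⁻¹ with hza
  set zb := g * b * g⁻¹ * b⁻¹ with hzb
  have ea : g * a * g⁻¹ = za * a := by rw [hza]; group
  have eb : g * b * g⁻¹ = zb * b := by rw [hzb]; group
  have hz1 : ∀ y, za * y = y * za := fun y => (hc a ha y).symm
  have hz2 : ∀ y, zb * y = y * zb := fun y => (hc b hb y).symm
  have e : g * ⁅a, b⁆ * g⁻¹ = ⁅a, b⁆ := by
    rw [commutatorElement_def, show g * (a * b * a⁻¹ * b⁻¹) * g⁻¹ =
      (g * a * g⁻¹) * (g * b * g⁻¹) * (g * a * g⁻¹)⁻¹ * (g * b * g⁻¹)⁻¹ by group, ea, eb,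
      show za * a * (zb * b) * (za * a)⁻¹ * (zb * b)⁻¹ = za * (a * zb) * b * (a⁻¹ * za⁻¹) * (b⁻¹ * zb⁻¹) by group,
      ← hz2 a, show za * (zb * a) * b * (a⁻¹ * za⁻¹) * (b⁻¹ * zb⁻¹) = za * (zb * (a * b * a⁻¹) * za⁻¹) * (b⁻¹ * zb⁻¹) by group,
      hz2 (a * b * a⁻¹),
      show za * (a * b * a⁻¹ * zb * za⁻¹) * (b⁻¹ * zb⁻¹) = (za * (a * b * a⁻¹)) * (zb * (za⁻¹ * b⁻¹)) * zb⁻¹ by group,
      hz2 (za⁻¹ * b⁻¹), hz1 (a * b * a⁻¹)]
    group
  calc g * ⁅a, b⁆ = g * ⁅a, b⁆ * g⁻¹ * g := by group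
    _ = ⁅a, b⁆ * g := by rw [e]

end Group

variable {ι : Type} [Fintype ι] [DecidableEq ι] {F : Type*} [Field F]

theorem scalars_le_center : scalars ι F ≤ Subgroup.center (GL ι F) := fun _ hg =>
  Subgroup.mem_center_iff.2 fun h => (scalar_commute hg h).symm

variable [Finite F]

/-- A minimal non-scalar normal subgroup that is perfect and absolutely irreducible gives a simple socle. -/
theorem simple_mod_scalars (hr : (Fintype.card ι).Prime) {H N : Subgroup (GL ι F)}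
    (hnH : ∀ h ∈ H, ∀ x ∈ N, h * x * h⁻¹ ∈ N)
    (hmin : ∀ L : Subgroup (GL ι F), L ≤ N → (∀ h ∈ H, ∀ x ∈ L, h * x * h⁻¹ ∈ L) → ¬ L ≤ scalars ι F → L = N)
    (hN : ActsAbsolutelyIrreducibly (matrixSet N)) (hperf : ⁅N, N⁆ = N) (hNH : N ≤ H) :
    ∀ L : Subgroup (GL ι F), L ≤ N → (∀ x ∈ N, ∀ y ∈ L, x * y * x⁻¹ ∈ L) → ¬ L ≤ scalars ι F → L = N := by
  haveI : Nonempty ι := Fintype.card_pos_iff.1 hr.pos
  haveI : Nontrivial ι := Fintype.one_lt_card_iff_nontrivial.1 hr.one_lt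
  haveI : Finite (GL ι F) := Finite.of_injective (fun g : GL ι F => (g : Matrix ι ι F)) Units.val_injective
  haveI : Finite (Subgroup (GL ι F)) := Finite.of_injective (fun K => (K : Set (GL ι F))) SetLike.coe_injective
  intro L₀ hL₀ hL₀n hL₀s
  let 𝒮 := {M : Subgroup (GL ι F) | M ≤ L₀ ∧ (∀ x ∈ N, ∀ y ∈ M, x * y * x⁻¹ ∈ M) ∧ ¬ M ≤ scalars ι F}
  obtain ⟨M, ⟨hML, hMn, hMs⟩, hMmin⟩ := wellFounded_lt.has_min 𝒮 ⟨L₀, le_rfl, hL₀n, hL₀s⟩
  have hMN : M ≤ N := hML.trans hL₀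
  suffices M = N from le_antisymm hL₀ (this ▸ hML)
  let T : H → Subgroup (GL ι F) := fun h => M.map (MulAut.conj (h : GL ι F)).toMonoidHom
  have hTN : ∀ h, T h ≤ N := by
    rintro h _ ⟨m, hm, rfl⟩
    exact hnH h h.2 m (hMN hm)
  have hTn : ∀ h, ∀ x ∈ N, ∀ y ∈ T h, x * y * x⁻¹ ∈ T h := by
    rintro h x hx _ ⟨m, hm, rfl⟩
    refine ⟨((h : GL ι F)⁻¹ * x * h) * m * ((h : GL ι F)⁻¹ * x * h)⁻¹,
      hMn _ (by simpa using hnH _ (H.inv_mem h.2) x hx) m hm, ?_⟩
    show (h : GL ι F) * _ * (h : GL ι F)⁻¹ = x * ((h : GL ι F) * m * (h : GL ι F)⁻¹) * x⁻¹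
    group
  -- a conjugate different from M commutes with it modulo scalars
  have hdisj : ∀ h, T h ≠ M → ∀ a ∈ M, ∀ b ∈ T h, a * b * a⁻¹ * b⁻¹ ∈ scalars ι F := by
    intro h hne a ha b hb
    have hmem : a * b * a⁻¹ * b⁻¹ ∈ M ⊓ T h := by
      refine ⟨?_, (T h).mul_mem (hTn h a (hMN ha) b hb) ((T h).inv_mem hb)⟩
      have := M.mul_mem ha (hMn b (hTN h hb) a⁻¹ (M.inv_mem ha))
      simpa [mul_assoc] using this
    by_contra hns
    have hI : M ⊓ T h ∈ 𝒮 := ⟨inf_le_left.trans hML, fun x hx y hy => ⟨hMn x hx y hy.1, hTn h x hx y hy.2⟩,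
      fun hle => hns (hle hmem)⟩
    have hMT : M ≤ T h := by
      by_contra hnot
      exact hMmin _ hI (lt_of_le_of_ne inf_le_left fun e => hnot (e ▸ inf_le_right))
    have : Nat.card (T h) = Nat.card M := Subgroup.card_map_of_injective (MulAut.conj (h : GL ι F)).injective
    exact hne (Subgroup.eq_of_le_of_card_ge hMT this.le).symm
  by_cases hab : ∀ a ∈ M, ∀ b ∈ M, a * b * a⁻¹ * b⁻¹ ∈ scalars ι F
  · -- every conjugate is abelian modulo scalars, so N would be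
    exfalso
    let J := Subgroup.closure (⋃ h, (T h : Set (GL ι F)))
    have hJN : J ≤ N := (Subgroup.closure_le _).2 (Set.iUnion_subset hTN)
    have hJn : ∀ h ∈ H, ∀ x ∈ J, h * x * h⁻¹ ∈ J := by
      intro h hh x hx
      have : J.map (MulAut.conj h).toMonoidHom ≤ J := by
        rw [MonoidHom.map_closure, Subgroup.closure_le]
        rintro _ ⟨y, hy, rfl⟩
        obtain ⟨k, m, hm, rfl⟩ := Set.mem_iUnion.1 hy
        refine Subgroup.subset_closure (Set.mem_iUnion.2 ⟨⟨h, hh⟩ * k, m, hm, ?_⟩)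
        show h * (k : GL ι F) * m * (h * (k : GL ι F))⁻¹ = h * ((k : GL ι F) * m * (k : GL ι F)⁻¹) * h⁻¹
        group
      exact this ⟨x, hx, rfl⟩
    have hMJ : M ≤ J := fun m hm => Subgroup.subset_closure (Set.mem_iUnion.2 ⟨1, m, hm, by simp⟩)
    have hJ : J = N := hmin J hJN hJn fun hle => hMs (hMJ.trans hle)
    let π := QuotientGroup.mk' (scalars ι F)
    have hπ : ∀ {a b : GL ι F}, a * b * a⁻¹ * b⁻¹ ∈ scalars ι F → π a * π b = π b * π a := by
      intro a b hz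
      have h1 : π (a * b * a⁻¹ * b⁻¹) = 1 := (QuotientGroup.eq_one_iff _).2 hz
      rw [map_mul, map_mul, map_mul, map_inv, map_inv] at h1
      rw [mul_inv_eq_one, mul_inv_eq_iff_eq_mul] at h1
      exact h1
    have hgen : ∀ a ∈ ⋃ h, (T h : Set (GL ι F)), ∀ b ∈ ⋃ h, (T h : Set (GL ι F)), π a * π b = π b * π a := by
      intro a ha b hb
      obtain ⟨k, m, hm, rfl⟩ := Set.mem_iUnion.1 ha
      obtain ⟨l, m', hm', rfl⟩ := Set.mem_iUnion.1 hb
      have key : ∀ (g : H) (n : GL ι F), n ∈ T g → π m * π n = π n * π m := by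
        intro g n hn
        by_cases e : T g = M
        · exact hπ (hab m hm n (e ▸ hn))
        · exact hπ (hdisj g e m hm n hn)
      have hn : ((k : GL ι F)⁻¹ * ((l : GL ι F) * m' * (l : GL ι F)⁻¹) * k) ∈ T (k⁻¹ * l) := by
        refine ⟨m', hm', ?_⟩
        show (k : GL ι F)⁻¹ * l * m' * ((k : GL ι F)⁻¹ * l)⁻¹ = _
        group
      have e := congrArg (fun q => π (k : GL ι F) * q * (π (k : GL ι F))⁻¹) (key _ _ hn)
      simp only [map_mul, map_inv] at e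
      show π ((k : GL ι F) * m * (k : GL ι F)⁻¹) * π ((l : GL ι F) * m' * (l : GL ι F)⁻¹) =
        π ((l : GL ι F) * m' * (l : GL ι F)⁻¹) * π ((k : GL ι F) * m * (k : GL ι F)⁻¹)
      simp only [map_mul, map_inv]
      simpa [mul_assoc] using e
    have hcomm : ∀ a ∈ J, ∀ b ∈ J, π a * π b = π b * π a := by
      intro a ha b hb
      induction ha, hb using Subgroup.closure_induction₂ with
      | mem x y hx hy => exact hgen x hx y hy
      | one_left x hx => simp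
      | one_right x hx => simp
      | mul_left x y z hx hy hz h1 h2 => simp only [map_mul]; rw [mul_assoc, h2, ← mul_assoc, h1, mul_assoc]
      | mul_right x y z hy hz hx h1 h2 => simp only [map_mul]; rw [← mul_assoc, h1, mul_assoc, h2, ← mul_assoc]
      | inv_left x y hx hy h1 => simp only [map_inv]; exact (Commute.inv_left h1).eq
      | inv_right x y hx hy h1 => simp only [map_inv]; exact (Commute.inv_right h1).eq
    have hsc : ⁅N, N⁆ ≤ scalars ι F := by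
      rw [Subgroup.commutator_le]
      intro a ha b hb
      refine (QuotientGroup.eq_one_iff _).1 ?_
      show π ⁅a, b⁆ = 1
      rw [map_commutatorElement, commutatorElement_eq_one_iff_mul_comm]
      exact hcomm a (hJ.symm ▸ ha) b (hJ.symm ▸ hb)
    obtain ⟨x, hx, y, hy, hxy⟩ := not_abelian_of_absIrred hN
    rw [hperf] at hsc
    exact hxy (scalar_commute (hsc hx) y)
  · -- M is perfect and absolutely irreducible
    push Not at hab
    obtain ⟨a, ha, b, hb, hab⟩ := hab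
    have hMM : ⁅M, M⁆ ≤ M := by
      rw [Subgroup.commutator_le]
      intro x hx y hy
      exact M.mul_mem (M.mul_mem (M.mul_mem hx hy) (M.inv_mem hx)) (M.inv_mem hy)
    have hperfM : ⁅M, M⁆ = M := by
      by_contra hne
      refine hMmin ⁅M, M⁆ ⟨hMM.trans hML, conj_mem_commutator hMn, fun hle => hab (hle ?_)⟩ (lt_of_le_of_ne hMM hne)
      exact Subgroup.commutator_mem_commutator ha hb
    have hMabs : ActsAbsolutelyIrreducibly (matrixSet M) := by
      refine absIrred_of_normal_nonabelian hr hN.1 hMn ⟨a, ha, b, hb, fun e => hab ?_⟩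
      rw [e, mul_inv_cancel_right, mul_inv_cancel]
      exact (scalars ι F).one_mem
    have hall : ∀ h, T h = M := by
      intro h
      by_contra hne
      apply hMs
      intro m hm
      have hsc : T h ≤ scalars ι F := by
        intro t ht
        refine mem_scalars_of_commute hMabs (commute_of_perfect scalars_le_center hperfM fun x hx => ?_)
        have := (scalars ι F).inv_mem (hdisj h hne x hx t ht)
        simpa [mul_assoc] using this
      obtain ⟨c, hc⟩ := (mem_scalars_iff _).1 (hsc ⟨m, hm, rfl⟩)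
      have hm' : m = (h : GL ι F)⁻¹ * ((h : GL ι F) * m * (h : GL ι F)⁻¹) * (h : GL ι F) := by group
      rw [hm', mul_assoc, scalar_commute (g := (h : GL ι F) * m * (h : GL ι F)⁻¹) ((mem_scalars_iff _).2 ⟨c, hc⟩)]
      simpa [mul_assoc] using hsc ⟨m, hm, rfl⟩
    exact hmin M hMN (fun h hh x hx => (hall ⟨h, hh⟩).le ⟨x, hx, rfl⟩) hMs

theorem isResidualCore_of_minimal (hr : (Fintype.card ι).Prime) {H N : Subgroup (GL ι F)} (hNH : N ≤ H)
    (hnH : ∀ h ∈ H, ∀ x ∈ N, h * x * h⁻¹ ∈ N)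
    (hmin : ∀ L : Subgroup (GL ι F), L ≤ N → (∀ h ∈ H, ∀ x ∈ L, h * x * h⁻¹ ∈ L) → ¬ L ≤ scalars ι F → L = N)
    (hN : ActsAbsolutelyIrreducibly (matrixSet N)) (hperf : ⁅N, N⁆ = N)
    (hsub : ∀ F₀ : Subfield F, F₀ ≠ ⊤ → ¬ RealisableOver F₀ (matrixSet N)) : IsResidualCore H N := by
  haveI : Nonempty ι := Fintype.card_pos_iff.1 hr.pos
  haveI : Nontrivial ι := Fintype.one_lt_card_iff_nontrivial.1 hr.one_lt
  have hsimple := simple_mod_scalars hr hnH hmin hN hperf hNH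
  have hNs : ¬ N ≤ scalars ι F := fun hle => by
    obtain ⟨x, hx, y, hy, hxy⟩ := not_abelian_of_absIrred hN
    exact hxy (scalar_commute (hle hx) y)
  have hne : (scalars ι F).subgroupOf N ≠ ⊤ := fun h => hNs (Subgroup.subgroupOf_eq_top.1 h)
  refine ⟨hNH, hnH, hperf, ?_, ?_, fun h hh hc =>
    mem_scalars_of_commute hN (commute_of_perfect scalars_le_center hperf hc), hN, hsub⟩
  · haveI : Nontrivial (N ⧸ (scalars ι F).subgroupOf N) := QuotientGroup.nontrivial_iff.2 hne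
    refine ⟨fun L hL => ?_⟩
    set π := QuotientGroup.mk' ((scalars ι F).subgroupOf N)
    have hLc : (L.comap π).Normal := hL.comap π
    let K := (L.comap π).map N.subtype
    have hKN : K ≤ N := Subgroup.map_subtype_le _
    have hKn : ∀ x ∈ N, ∀ y ∈ K, x * y * x⁻¹ ∈ K := by
      rintro x hx _ ⟨y, hy, rfl⟩
      exact ⟨⟨x, hx⟩ * y * ⟨x, hx⟩⁻¹, hLc.conj_mem y hy _, rfl⟩
    by_cases hK : K ≤ scalars ι F
    · left
      rw [eq_bot_iff]
      intro q hq
      obtain ⟨n, rfl⟩ := QuotientGroup.mk'_surjective _ q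
      exact Subgroup.mem_bot.2 ((QuotientGroup.eq_one_iff _).2 (hK ⟨n, hq, rfl⟩))
    · right
      rw [eq_top_iff]
      intro q _
      obtain ⟨n, rfl⟩ := QuotientGroup.mk'_surjective _ q
      obtain ⟨n', hn', e⟩ := (hsimple K hKN hKn hK).ge n.2
      rw [show n = n' from Subtype.ext e.symm]
      exact hn'
  · intro hc
    refine hNs ?_
    rw [← hperf, Subgroup.commutator_le]
    intro a ha b hb
    have e := hc.is_comm.comm (QuotientGroup.mk' _ (⟨a, ha⟩ : N)) (QuotientGroup.mk' _ (⟨b, hb⟩ : N))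
    rw [← commutatorElement_eq_one_iff_mul_comm, ← map_commutatorElement] at e
    have := (QuotientGroup.eq_one_iff (N := (scalars ι F).subgroupOf N) ⁅(⟨a, ha⟩ : N), ⟨b, hb⟩⁆).1 e
    exact this

omit [Finite F]

/-- Aschbacher's dichotomy for SL in odd prime dimension. -/
theorem linear_cases [Fintype F] {r : ℕ} (hr : r.Prime) (hodd : Odd r) {H : Subgroup (GL (Fin r) F)}
    (hH : IsMaximalIn (specialLinear (Fin r) F) H) :
    (∃ W : Submodule F (Fin r → F), W ≠ ⊥ ∧ W ≠ ⊤ ∧ H = subspaceStabilizer W ⊓ specialLinear (Fin r) F) ∨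
    (5 ≤ Fintype.card F ∧ ∃ D : Fin r → Submodule F (Fin r → F), IsMDecomposition 1 D ∧
      H = decompositionStabilizer D ⊓ specialLinear (Fin r) F) ∨
    (¬ (r = 3 ∧ Fintype.card F = 4) ∧ ∃ K : Subalgebra F (Matrix (Fin r) (Fin r) F), IsFieldSubalgebra r K ∧
      H = subalgebraNormalizer K ⊓ specialLinear (Fin r) F) ∨
    (∃ (F₀ : Subfield F) (s : ℕ) (P : GL (Fin r) F), s.Prime ∧ Fintype.card F = Nat.card F₀ ^ s ∧
      H = subfieldSubgroup F₀ P ⊓ specialLinear (Fin r) F) ∨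
    (∃ (p e : ℕ) (R : Subgroup (GL (Fin r) F)), p.Prime ∧ CharP F p ∧ Fintype.card F = p ^ e ∧ Odd e ∧
      IsMinimalFieldFor r p e F ∧ IsLinearSymplecticTypeData r R ∧
      H = subgroupNormalizer R ⊓ specialLinear (Fin r) F) ∨
    (Odd (Fintype.card F) ∧ ∃ Q : (Fin r → F) → F, IsNondegenerateQuadraticForm Q ∧
      H = quadSimilarityGroup Q ⊓ specialLinear (Fin r) F) ∨
    (∃ (σ : F ≃+* F) (f : (Fin r → F) → (Fin r → F) → F), IsUnitaryForm σ f ∧
      H = similarityGroup f ⊓ specialLinear (Fin r) F) ∨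
    InLinearResidualClass H := by
  classical
  haveI : NeZero r := ⟨hr.ne_zero⟩
  haveI : Nonempty (Fin r) := ⟨⟨0, hr.pos⟩⟩
  haveI : Nontrivial (Fin r) := Fin.nontrivial_iff_two_le.2 hr.two_le
  have hr3 : 3 ≤ r := by
    rcases hr.two_le.lt_or_eq with h | h
    · omega
    · exact absurd hodd (by rw [← h]; decide)
  have hr' : (Fintype.card (Fin r)).Prime := by rwa [Fintype.card_fin]
  have hr3' : 3 ≤ Fintype.card (Fin r) := by rwa [Fintype.card_fin]
  have hodd' : Odd (Fintype.card (Fin r)) := by rwa [Fintype.card_fin]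
  obtain ⟨⟨hle, hnle⟩, hmax⟩ := hH
  have eqn : ∀ M : Subgroup (GL (Fin r) F), H ≤ M → ¬ specialLinear (Fin r) F ≤ M →
      H = M ⊓ specialLinear (Fin r) F := by
    intro M hHM hSM
    rcases hmax (M ⊓ specialLinear (Fin r) F) (le_inf hHM hle) inf_le_right with h | h
    · exact h.symm
    · exact absurd (h ▸ inf_le_left) hSM
  have topSub : ∀ {F₀ : Subfield F} {s : ℕ}, s.Prime → Fintype.card F = Nat.card F₀ ^ s → F₀ ≠ ⊤ := by
    intro F₀ s hs hc htop
    have e : Nat.card F₀ = Fintype.card F := by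
      rw [htop, ← Nat.card_eq_fintype_card]
      exact Nat.card_congr Subfield.topEquiv.toEquiv
    rw [e] at hc
    have h1 := Nat.pow_lt_pow_right (Fintype.one_lt_card (α := F)) hs.one_lt
    rw [pow_one, ← hc] at h1
    exact lt_irrefl _ h1
  have subf : ∀ (F₀ : Subfield F) (s : ℕ) (P : GL (Fin r) F), s.Prime → Fintype.card F = Nat.card F₀ ^ s →
      H ≤ subfieldSubgroup F₀ P → H = subfieldSubgroup F₀ P ⊓ specialLinear (Fin r) F := fun F₀ s P hs hc hh =>
    eqn _ hh (not_le_subfieldSubgroup (by omega) (topSub hs hc) P)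
  by_cases hirr : ActsIrreducibly (matrixSet H)
  swap
  · rw [actsIrreducibly_iff] at hirr
    push Not at hirr
    obtain ⟨W, hW, hW0, hW1⟩ := hirr
    refine Or.inl ⟨W, hW0, hW1, eqn _ (fun g hg => (mem_subspaceStabilizer_iff W g).2 fun v => ⟨fun hv =>
      stable_matrixSet_iff.1 hW g hg v hv, fun hv => ?_⟩) (not_le_subspaceStabilizer hW0 hW1)⟩
    simpa [mulVec_inv_cancel] using stable_matrixSet_iff.1 hW g⁻¹ (H.inv_mem hg) _ hv
  have fieldCase : ∀ K : Subalgebra F (Matrix (Fin r) (Fin r) F), IsFieldSubalgebra r K →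
      H ≤ subalgebraNormalizer K →
      (¬ (r = 3 ∧ Fintype.card F = 4) ∧ H = subalgebraNormalizer K ⊓ specialLinear (Fin r) F) ∨
      (∃ (F₀ : Subfield F) (s : ℕ) (P : GL (Fin r) F), s.Prime ∧ Fintype.card F = Nat.card F₀ ^ s ∧
        H = subfieldSubgroup F₀ P ⊓ specialLinear (Fin r) F) := by
    intro K hK hHK
    by_cases h34 : r = 3 ∧ Fintype.card F = 4
    · obtain ⟨rfl, h4⟩ := h34
      obtain ⟨F₀, P, hc, hP⟩ := field_four_le_subfield h4 hK
      exact Or.inr ⟨F₀, 2, P, Nat.prime_two, hc, subf F₀ 2 P Nat.prime_two hc ((le_inf hHK hle).trans hP)⟩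
    · exact Or.inl ⟨h34, eqn _ hHK (not_le_subalgebraNormalizer hr3' hK hr.one_lt)⟩
  have lineCase : ∀ D : Fin r → Submodule F (Fin r → F), IsMDecomposition 1 D → H ≤ decompositionStabilizer D →
      (5 ≤ Fintype.card F ∧ H = decompositionStabilizer D ⊓ specialLinear (Fin r) F) ∨
      (Odd (Fintype.card F) ∧ ∃ Q : (Fin r → F) → F, IsNondegenerateQuadraticForm Q ∧
        H = quadSimilarityGroup Q ⊓ specialLinear (Fin r) F) ∨
      (∃ (σ : F ≃+* F) (f : (Fin r → F) → (Fin r → F) → F), IsUnitaryForm σ f ∧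
        H = similarityGroup f ⊓ specialLinear (Fin r) F) := by
    intro D hD hHD
    by_cases h5 : 5 ≤ Fintype.card F
    · exact Or.inl ⟨h5, eqn _ hHD (not_le_decompositionStabilizer hD)⟩
    rcases lines_small hr.two_le (not_le.1 h5) hD with ⟨W, hW0, hW1, hW⟩ | ⟨ho, Q, hQ, hQle⟩ | ⟨σ, f, hf, hfle⟩
    · exfalso
      rcases actsIrreducibly_iff.1 hirr W (stable_matrixSet_iff.2 fun g hg v hv =>
        ((mem_subspaceStabilizer_iff W g).1 (hW (hHD hg)) v).1 hv) with h | h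
      · exact hW0 h
      · exact hW1 h
    · exact Or.inr (Or.inl ⟨ho, Q, hQ, eqn _ (hHD.trans hQle) (not_specialLinear_le_quadSimilarityGroup hr3' hQ)⟩)
    · exact Or.inr (Or.inr ⟨σ, f, hf, eqn _ (hHD.trans hfle)
        (not_specialLinear_le_similarityGroup hr3' (isSesqForm_of_unitary hf) hf.nondegenerate)⟩)
  rcases commutant_cases hr' hirr with habs | ⟨hK, -⟩
  swap
  · rw [Fintype.card_fin] at hK
    rcases fieldCase _ hK (fun h hh => mem_subalgebraNormalizer_centralizer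
      (fun x hx => H.mul_mem (H.mul_mem hh hx) (H.inv_mem hh))
      (fun x hx => H.mul_mem (H.mul_mem (H.inv_mem hh) hx) hh)) with h | h
    · exact Or.inr (Or.inr (Or.inl ⟨h.1, _, hK, h.2⟩))
    · exact Or.inr (Or.inr (Or.inr (Or.inl h)))
  -- a minimal non-scalar normal subgroup
  haveI : Finite (GL (Fin r) F) := Finite.of_injective (fun g : GL (Fin r) F => (g : Matrix (Fin r) (Fin r) F)) Units.val_injective
  haveI : Finite (Subgroup (GL (Fin r) F)) :=
    Finite.of_injective (fun K => (K : Set (GL (Fin r) F))) SetLike.coe_injective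
  let 𝒩 := {L : Subgroup (GL (Fin r) F) | L ≤ H ∧ (∀ h ∈ H, ∀ x ∈ L, h * x * h⁻¹ ∈ L) ∧ ¬ L ≤ scalars (Fin r) F}
  have hHn : H ∈ 𝒩 := ⟨le_rfl, fun h hh x hx => H.mul_mem (H.mul_mem hh hx) (H.inv_mem hh), fun hs => by
    obtain ⟨x, hx, y, hy, hxy⟩ := not_abelian_of_absIrred habs
    exact hxy (scalar_commute (hs hx) y)⟩
  obtain ⟨N, ⟨hNH, hnH, hNs⟩, hmin'⟩ := wellFounded_lt.has_min 𝒩 ⟨H, hHn⟩
  have hmin : ∀ L : Subgroup (GL (Fin r) F), L ≤ N → (∀ h ∈ H, ∀ x ∈ L, h * x * h⁻¹ ∈ L) →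
      ¬ L ≤ scalars (Fin r) F → L = N := fun L hL hLn hLs => by
    by_contra hne
    exact hmin' L ⟨hL.trans hNH, hLn, hLs⟩ (lt_of_le_of_ne hL hne)
  rcases normal_cases hr hirr hnH hNs with ⟨D, hD, hHD⟩ | ⟨K, hK, hHK⟩ | hN
  · rcases lineCase D hD hHD with ⟨h5, h⟩ | h | h
    · exact Or.inr (Or.inl ⟨h5, D, hD, h⟩)
    · exact Or.inr (Or.inr (Or.inr (Or.inr (Or.inr (Or.inl h)))))
    · exact Or.inr (Or.inr (Or.inr (Or.inr (Or.inr (Or.inr (Or.inl h))))))
  · rcases fieldCase K hK hHK with h | h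
    · exact Or.inr (Or.inr (Or.inl ⟨h.1, K, hK, h.2⟩))
    · exact Or.inr (Or.inr (Or.inr (Or.inl h)))
  by_cases hcomm : ⁅N, N⁆ ≤ scalars (Fin r) F
  · have hSC : ScalarComm r N := ⟨hr, hodd, hN, hNH.trans hle,
      fun x hx y hy => hcomm (Subgroup.commutator_mem_commutator hx hy)⟩
    rcases scalarComm_cases hSC hnH with ⟨F₀, s, P, hs, hc, h⟩ | ⟨σ, f, hf, h⟩ | ⟨p, e, hp, hch, hc, he, hmf, hdata⟩
    · exact Or.inr (Or.inr (Or.inr (Or.inl ⟨F₀, s, P, hs, hc, subf F₀ s P hs hc h⟩)))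
    · exact Or.inr (Or.inr (Or.inr (Or.inr (Or.inr (Or.inr (Or.inl ⟨σ, f, hf, eqn _ h
        (not_specialLinear_le_similarityGroup hr3' (isSesqForm_of_unitary hf) hf.nondegenerate)⟩))))))
    · refine Or.inr (Or.inr (Or.inr (Or.inr (Or.inl ⟨p, e, N, hp, hch, hc, he, hmf, hdata,
        eqn _ (fun h hh => Subgroup.mem_normalizer_iff.2 fun x => ⟨hnH h hh x, fun hx => ?_⟩)
          (not_le_subgroupNormalizer hSC)⟩))))
      simpa [mul_assoc] using hnH h⁻¹ (H.inv_mem hh) _ hx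
  have hperf : ⁅N, N⁆ = N := by
    refine hmin _ ?_ (conj_mem_commutator hnH) hcomm
    rw [Subgroup.commutator_le]
    exact fun x hx y hy => N.mul_mem (N.mul_mem (N.mul_mem hx hy) (N.inv_mem hx)) (N.inv_mem hy)
  by_cases hreal : ∃ F₀ : Subfield F, F₀ ≠ ⊤ ∧ RealisableOver F₀ (matrixSet N)
  · obtain ⟨F₀, hne, hre⟩ := hreal
    obtain ⟨F₁, s, P, hs, hc, h⟩ := exists_subfieldSubgroup hnH hN hne hre
    exact Or.inr (Or.inr (Or.inr (Or.inl ⟨F₁, s, P, hs, hc, subf F₁ s P hs hc h⟩)))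
  push Not at hreal
  by_cases hQ : ∃ Q : (Fin r → F) → F, IsNondegenerateQuadraticForm Q ∧ FixesQuadForm (matrixSet N) Q
  · obtain ⟨Q, hQ, hfix⟩ := hQ
    obtain ⟨ho, h⟩ := le_quadSimilarityGroup hodd' hnH hN hQ hfix
    exact Or.inr (Or.inr (Or.inr (Or.inr (Or.inr (Or.inl ⟨ho, Q, hQ,
      eqn _ h (not_specialLinear_le_quadSimilarityGroup hr3' hQ)⟩)))))
  by_cases hU : ∃ (σ : F ≃+* F) (f : (Fin r → F) → (Fin r → F) → F), IsUnitaryForm σ f ∧ FixesForm (matrixSet N) f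
  · obtain ⟨σ, f, hf, hfix⟩ := hU
    exact Or.inr (Or.inr (Or.inr (Or.inr (Or.inr (Or.inr (Or.inl ⟨σ, f, hf,
      eqn _ (le_similarityGroup hnH hN (isSesqForm_of_unitary hf) hf.nondegenerate hfix)
        (not_specialLinear_le_similarityGroup hr3' (isSesqForm_of_unitary hf) hf.nondegenerate)⟩))))))
  exact Or.inr (Or.inr (Or.inr (Or.inr (Or.inr (Or.inr (Or.inr ⟨N,
    isResidualCore_of_minimal hr' hNH hnH hmin hN hperf hreal, hQ,
    fun ⟨f, hf, _⟩ => not_alternating hodd' hf.bilinear hf.alternating hf.nondegenerate, hU⟩))))))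

end CfsgLib.Geo.Asch

namespace CfsgLib.Geo.Asch

/-- The residues allowed by a minimal field condition. -/
theorem minimalField_residue {r p e : ℕ} {F : Type*} [Field F] [Fintype F] (hr : r.Prime)
    (h : Cfsg.Geo.IsMinimalFieldFor r p e F) :
    ∃ a < r, p % r = a ∧ e < r ∧ 0 < e ∧ a ^ e % r = 1 ∧ ∀ d, d < e → 0 < d → a ^ d % r ≠ 1 := by
  obtain ⟨hp, -, hc, hdvd, hmin⟩ := h
  have he : 0 < e := by
    rcases Nat.eq_zero_or_pos e with rfl | he
    · have := Fintype.one_lt_card (α := F)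
      rw [hc, pow_zero] at this
      exact absurd this (lt_irrefl 1)
    · exact he
  have hiff : ∀ d, r ∣ p ^ d - 1 ↔ (p % r) ^ d % r = 1 := fun d => by
    rw [← Nat.modEq_iff_dvd' (Nat.one_le_pow _ _ hp.pos), Nat.ModEq, ← Nat.pow_mod, Nat.mod_eq_of_lt hr.one_lt]
    exact eq_comm
  refine ⟨p % r, Nat.mod_lt _ hr.pos, rfl, ?_, he, (hiff e).1 hdvd, fun d hd hd0 hh => hmin d hd0 hd ((hiff d).2 hh)⟩
  by_contra! hge
  refine hmin (r - 1) (by have := hr.two_le; omega) (by omega) ((hiff _).2 ?_)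
  have hnd : ¬ r ∣ p := fun hrp => by
    have h1 := (hiff e).1 hdvd
    rw [Nat.mod_eq_zero_of_dvd hrp, zero_pow he.ne', Nat.zero_mod] at h1
    exact absurd h1 (by omega)
  rw [← Nat.pow_mod]
  have h2 : p ^ (r - 1) % r = 1 % r := by
    rw [← Nat.totient_prime hr]
    exact Nat.ModEq.pow_totient (hr.coprime_iff_not_dvd.2 hnd).symm
  rw [h2, Nat.mod_eq_of_lt hr.one_lt]

end CfsgLib.Geo.Asch
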