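/-
Components of a perfect minimal normal subgroup modulo a central subgroup.
-/
import Cfsg.Agent.Lib.Geo.Asch.Linear

set_option autoImplicit false

namespace CfsgLib.Geo.Asch

open scoped commutatorElement

variable {G : Type*} [Group G] [Finite G]

/-- The components: pairwise commuting perfect subgroups permuted transitively by `H`. -/
structure IsComponents (Z H N : Subgroup G) {t : ℕ} (M : Fin t → Subgroup G) : Prop where
  two_le : 2 ≤ t
  injective : Function.Injective M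
  le : ∀ i, M i ≤ N
  not_le : ∀ i, ¬ M i ≤ Z
  normal : ∀ i, ∀ x ∈ N, ∀ y ∈ M i, x * y * x⁻¹ ∈ M i
  perfect : ∀ i, ⁅M i, M i⁆ = M i
  commute : ∀ i j, i ≠ j → ∀ x ∈ M i, ∀ y ∈ M j, x * y = y * x
  iSup_eq : ⨆ i, M i = N
  permuted : ∀ h ∈ H, ∃ π : Equiv.Perm (Fin t), ∀ i, (M i).map (MulAut.conj h).toMonoidHom = M (π i)
  transitive : ∀ i j, ∃ h ∈ H, (M i).map (MulAut.conj h).toMonoidHom = M j

/-- A perfect minimal normal subgroup is simple modulo the central subgroup or a product of components. -/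
theorem exists_components {Z H N : Subgroup G} (hZ : Z ≤ Subgroup.center G)
    (hnH : ∀ h ∈ H, ∀ x ∈ N, h * x * h⁻¹ ∈ N)
    (hmin : ∀ L : Subgroup G, L ≤ N → (∀ h ∈ H, ∀ x ∈ L, h * x * h⁻¹ ∈ L) → ¬ L ≤ Z → L = N)
    (hperf : ⁅N, N⁆ = N) (hNZ : ¬ N ≤ Z) :
    (∀ L : Subgroup G, L ≤ N → (∀ x ∈ N, ∀ y ∈ L, x * y * x⁻¹ ∈ L) → ¬ L ≤ Z → L = N) ∨
    ∃ (t : ℕ) (M : Fin t → Subgroup G), IsComponents Z H N M := by
  classical
  haveI : Z.Normal := ⟨fun z hz g => by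
    rw [Subgroup.mem_center_iff.1 (hZ hz) g, mul_inv_cancel_right]; exact hz⟩
  haveI : Finite (Subgroup G) := Finite.of_injective (fun K => (K : Set G)) SetLike.coe_injective
  by_cases hs : ∀ L : Subgroup G, L ≤ N → (∀ x ∈ N, ∀ y ∈ L, x * y * x⁻¹ ∈ L) → ¬ L ≤ Z → L = N
  · exact Or.inl hs
  right
  push Not at hs
  obtain ⟨L₀, hL₀, hL₀n, hL₀s, hL₀ne⟩ := hs
  let 𝒮 := {M : Subgroup G | M ≤ L₀ ∧ (∀ x ∈ N, ∀ y ∈ M, x * y * x⁻¹ ∈ M) ∧ ¬ M ≤ Z}
  obtain ⟨M₀, ⟨hML, hMn, hMs⟩, hMmin⟩ := wellFounded_lt.has_min 𝒮 ⟨L₀, le_rfl, hL₀n, hL₀s⟩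
  have hMN : M₀ ≤ N := hML.trans hL₀
  let T : Set (Subgroup G) := Set.range fun h : H => M₀.map (MulAut.conj (h : G)).toMonoidHom
  have hmapmap : ∀ (g h : G) (W : Subgroup G),
      (W.map (MulAut.conj h).toMonoidHom).map (MulAut.conj g).toMonoidHom = W.map (MulAut.conj (g * h)).toMonoidHom := by
    intro g h W
    rw [Subgroup.map_map]
    congr 1
    refine MonoidHom.ext fun x => ?_
    simp [mul_assoc]
  have hmap1 : ∀ W : Subgroup G, W.map (MulAut.conj (1 : G)).toMonoidHom = W := fun W => by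
    rw [show (MulAut.conj (1 : G)).toMonoidHom = MonoidHom.id G from MonoidHom.ext fun x => by simp, Subgroup.map_id]
  have hTN : ∀ X ∈ T, X ≤ N := by
    rintro _ ⟨h, rfl⟩ _ ⟨m, hm, rfl⟩
    exact hnH h h.2 m (hMN hm)
  have hTn : ∀ X ∈ T, ∀ x ∈ N, ∀ y ∈ X, x * y * x⁻¹ ∈ X := by
    rintro _ ⟨h, rfl⟩ x hx _ ⟨m, hm, rfl⟩
    refine ⟨((h : G)⁻¹ * x * h) * m * ((h : G)⁻¹ * x * h)⁻¹,
      hMn _ (by simpa using hnH _ (H.inv_mem h.2) x hx) m hm, ?_⟩
    show (h : G) * _ * (h : G)⁻¹ = x * ((h : G) * m * (h : G)⁻¹) * x⁻¹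
    group
  have hTs : ∀ X ∈ T, ¬ X ≤ Z := by
    rintro _ ⟨h, rfl⟩ hle
    refine hMs fun m hm => ?_
    have h1 : (h : G) * m * (h : G)⁻¹ ∈ Z := hle ⟨m, hm, rfl⟩
    have h2 := (inferInstance : Z.Normal).conj_mem _ h1 (h : G)⁻¹
    rwa [show (h : G)⁻¹ * ((h : G) * m * (h : G)⁻¹) * ((h : G)⁻¹)⁻¹ = m by group] at h2
  have hTmin : ∀ X ∈ T, ∀ W, W ≤ X → (∀ x ∈ N, ∀ y ∈ W, x * y * x⁻¹ ∈ W) → ¬ W ≤ Z → W = X := by
    rintro _ ⟨h, rfl⟩ W hW hWn hWs
    set W' := W.map (MulAut.conj (h : G)⁻¹).toMonoidHom with hW'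
    have hle : W' ≤ M₀ := by
      refine (Subgroup.map_mono hW).trans ?_
      rw [hmapmap, inv_mul_cancel, hmap1]
    have hback : W'.map (MulAut.conj (h : G)).toMonoidHom = W := by rw [hW', hmapmap, mul_inv_cancel, hmap1]
    have hmem : W' ∈ 𝒮 := by
      refine ⟨hle.trans hML, ?_, fun hs' => hWs ?_⟩
      · rintro x hx _ ⟨w, hw, rfl⟩
        refine ⟨((h : G) * x * (h : G)⁻¹) * w * ((h : G) * x * (h : G)⁻¹)⁻¹, hWn _ (hnH h h.2 x hx) w hw, ?_⟩
        show (h : G)⁻¹ * _ * ((h : G)⁻¹)⁻¹ = x * ((h : G)⁻¹ * w * ((h : G)⁻¹)⁻¹) * x⁻¹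
        group
      · rw [← hback]
        rintro _ ⟨z, hz, rfl⟩
        exact (inferInstance : Z.Normal).conj_mem _ (hs' hz) _
    have e : W' = M₀ := by
      by_contra hne
      exact hMmin W' hmem (lt_of_le_of_ne hle hne)
    rw [← hback, e]
  have hdisj : ∀ X ∈ T, ∀ Y ∈ T, X ≠ Y → ∀ a ∈ X, ∀ b ∈ Y, a * b * a⁻¹ * b⁻¹ ∈ Z := by
    intro X hX Y hY hne a ha b hb
    have hmem : a * b * a⁻¹ * b⁻¹ ∈ X ⊓ Y := by
      refine ⟨?_, Y.mul_mem (hTn Y hY a (hTN X hX ha) b hb) (Y.inv_mem hb)⟩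
      have := X.mul_mem ha (hTn X hX b (hTN Y hY hb) a⁻¹ (X.inv_mem ha))
      simpa [mul_assoc] using this
    by_contra hns
    have hn : ∀ x ∈ N, ∀ y ∈ X ⊓ Y, x * y * x⁻¹ ∈ X ⊓ Y := fun x hx y hy =>
      ⟨hTn X hX x hx y hy.1, hTn Y hY x hx y hy.2⟩
    exact hne ((hTmin X hX _ inf_le_left hn fun hle => hns (hle hmem)).symm.trans
      (hTmin Y hY _ inf_le_right hn fun hle => hns (hle hmem)))
  have hperm : ∀ h ∈ H, ∀ X ∈ T, X.map (MulAut.conj h).toMonoidHom ∈ T := by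
    rintro h hh _ ⟨k, rfl⟩
    exact ⟨⟨h, hh⟩ * k, (hmapmap _ _ _).symm⟩
  have hSn : ∀ h ∈ H, ∀ x ∈ sSup T, h * x * h⁻¹ ∈ sSup T := by
    intro h hh x hx
    have hle : (sSup T).map (MulAut.conj h).toMonoidHom ≤ sSup T := by
      rw [sSup_eq_iSup, Subgroup.map_iSup]
      refine iSup_le fun X => ?_
      rw [Subgroup.map_iSup]
      refine iSup_le fun hX => ?_
      rw [← sSup_eq_iSup]
      exact le_sSup (hperm h hh X hX)
    exact hle ⟨x, hx, rfl⟩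
  have hM0T : M₀ ∈ T := ⟨1, hmap1 M₀⟩
  have hsup : sSup T = N := hmin _ (sSup_le hTN) hSn fun hle => hMs ((le_sSup hM0T).trans hle)
  let π := QuotientGroup.mk' Z
  have hπ : ∀ {a b : G}, a * b * a⁻¹ * b⁻¹ ∈ Z → π a * π b = π b * π a := by
    intro a b hz
    have h1 : π (a * b * a⁻¹ * b⁻¹) = 1 := (QuotientGroup.eq_one_iff _).2 hz
    rw [map_mul, map_mul, map_mul, map_inv, map_inv] at h1
    rw [mul_inv_eq_one, mul_inv_eq_iff_eq_mul] at h1
    exact h1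
  have hTperf : ∀ X ∈ T, ⁅X, X⁆ = X := by
    intro X hX
    by_contra hne
    have hXX : ⁅X, X⁆ ≤ X := by
      rw [Subgroup.commutator_le]
      exact fun x hx y hy => X.mul_mem (X.mul_mem (X.mul_mem hx hy) (X.inv_mem hx)) (X.inv_mem hy)
    by_cases hab : ⁅X, X⁆ ≤ Z
    swap
    · exact hne (hTmin X hX _ hXX (conj_mem_commutator (hTn X hX)) hab)
    -- then every member is abelian modulo Z, hence N is
    have habY : ∀ Y ∈ T, ∀ a ∈ Y, ∀ b ∈ Y, a * b * a⁻¹ * b⁻¹ ∈ Z := by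
      intro Y hY a ha b hb
      obtain ⟨k, rfl⟩ := hX
      obtain ⟨l, rfl⟩ := hY
      obtain ⟨a', ha', rfl⟩ := ha
      obtain ⟨b', hb', rfl⟩ := hb
      have h1 : ((k : G) * a' * (k : G)⁻¹) * ((k : G) * b' * (k : G)⁻¹) * ((k : G) * a' * (k : G)⁻¹)⁻¹ *
          ((k : G) * b' * (k : G)⁻¹)⁻¹ ∈ Z :=
        hab (Subgroup.commutator_mem_commutator ⟨a', ha', rfl⟩ ⟨b', hb', rfl⟩)
      have h2 := (inferInstance : Z.Normal).conj_mem _ h1 ((l : G) * (k : G)⁻¹)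
      show ((l : G) * a' * (l : G)⁻¹) * ((l : G) * b' * (l : G)⁻¹) * ((l : G) * a' * (l : G)⁻¹)⁻¹ *
        ((l : G) * b' * (l : G)⁻¹)⁻¹ ∈ Z
      convert h2 using 1
      group
    have hgen : ∀ a ∈ ⋃ Y : T, ((Y : Subgroup G) : Set G), ∀ b ∈ ⋃ Y : T, ((Y : Subgroup G) : Set G),
        π a * π b = π b * π a := by
      intro a ha b hb
      obtain ⟨Y, hYa⟩ := Set.mem_iUnion.1 ha
      obtain ⟨Y', hYb⟩ := Set.mem_iUnion.1 hb
      by_cases e : (Y : Subgroup G) = Y'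
      · exact hπ (habY Y Y.2 a hYa b (e ▸ hYb))
      · exact hπ (hdisj Y Y.2 Y' Y'.2 e a hYa b hYb)
    have hcl : N = Subgroup.closure (⋃ Y : T, ((Y : Subgroup G) : Set G)) := by
      rw [Subgroup.closure_iUnion, ← hsup, sSup_eq_iSup']
      simp [Subgroup.closure_eq]
    have hcomm : ∀ a ∈ N, ∀ b ∈ N, π a * π b = π b * π a := by
      rw [hcl]
      intro a ha b hb
      induction ha, hb using Subgroup.closure_induction₂ with
      | mem x y hx hy => exact hgen x hx y hy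
      | one_left x hx => simp
      | one_right x hx => simp
      | mul_left x y z hx hy hz h1 h2 => simp only [map_mul]; rw [mul_assoc, h2, ← mul_assoc, h1, mul_assoc]
      | mul_right x y z hy hz hx h1 h2 => simp only [map_mul]; rw [← mul_assoc, h1, mul_assoc, h2, ← mul_assoc]
      | inv_left x y hx hy h1 => simp only [map_inv]; exact (Commute.inv_left h1).eq
      | inv_right x y hx hy h1 => simp only [map_inv]; exact (Commute.inv_right h1).eq
    apply hNZ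
    rw [← hperf, Subgroup.commutator_le]
    intro a ha b hb
    refine (QuotientGroup.eq_one_iff _).1 ?_
    show π ⁅a, b⁆ = 1
    rw [map_commutatorElement, commutatorElement_eq_one_iff_mul_comm]
    exact hcomm a ha b hb
  have hcommute : ∀ X ∈ T, ∀ Y ∈ T, X ≠ Y → ∀ x ∈ X, ∀ y ∈ Y, x * y = y * x := by
    intro X hX Y hY hne x hx y hy
    refine (commute_of_perfect hZ (hTperf X hX) (fun a ha => ?_) x hx).symm
    exact hdisj Y hY X hX hne.symm y hy a ha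
  haveI := Fintype.ofFinite T
  let M : Fin (Fintype.card T) → Subgroup G := fun i => ((Fintype.equivFin T).symm i : Subgroup G)
  have hMT : ∀ i, M i ∈ T := fun i => ((Fintype.equivFin T).symm i).2
  have hsurj : ∀ X ∈ T, ∃ i, M i = X := fun X hX => ⟨Fintype.equivFin T ⟨X, hX⟩, by simp [M]⟩
  have hinj : Function.Injective M := Subtype.val_injective.comp (Fintype.equivFin T).symm.injective
  refine ⟨_, M, ?_, hinj, fun i => hTN _ (hMT i), fun i => hTs _ (hMT i), fun i => hTn _ (hMT i),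
    fun i => hTperf _ (hMT i), fun i j hij => hcommute _ (hMT i) _ (hMT j) (hinj.ne hij), ?_, fun h hh => ?_,
    fun i j => ?_⟩
  · by_contra hlt
    have hall : ∀ X ∈ T, X = M₀ := fun X hX => by
      obtain ⟨i, rfl⟩ := hsurj X hX
      obtain ⟨j, hj⟩ := hsurj M₀ hM0T
      rw [← hj]
      exact congrArg M (Fin.ext (by have := i.2; have := j.2; omega))
    have hM0n : ∀ h ∈ H, ∀ x ∈ M₀, h * x * h⁻¹ ∈ M₀ := fun h hh x hx =>
      (hall _ ⟨⟨h, hh⟩, rfl⟩).le ⟨x, hx, rfl⟩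
    exact hL₀ne (le_antisymm hL₀ ((hmin M₀ hMN hM0n hMs).ge.trans hML))
  · refine le_antisymm (iSup_le fun i => hTN _ (hMT i)) ?_
    rw [← hsup]
    exact sSup_le fun X hX => by obtain ⟨i, rfl⟩ := hsurj X hX; exact le_iSup M i
  · choose f hf using fun i => hsurj _ (hperm h hh _ (hMT i))
    have hfinj : Function.Injective f := fun i j e => hinj (Subgroup.map_injective
      (f := (MulAut.conj h).toMonoidHom) (MulAut.conj h).injective ((hf i).symm.trans ((congrArg M e).trans (hf j))))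
    exact ⟨Equiv.ofBijective f ⟨hfinj, Finite.injective_iff_surjective.1 hfinj⟩, fun i => (hf i).symm⟩
  · obtain ⟨a, ha⟩ := hMT i
    obtain ⟨b, hb⟩ := hMT j
    refine ⟨b * (a : G)⁻¹, H.mul_mem b.2 (H.inv_mem a.2), ?_⟩
    rw [← ha, ← hb, hmapmap, inv_mul_cancel_right]

end CfsgLib.Geo.Asch
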