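/-
Coordinates for a homogeneous, absolutely homogeneous normal subgroup: a tensor decomposition.
-/
import Cfsg.Agent.Lib.Geo.Asch.Clifford

set_option autoImplicit false

namespace CfsgLib.Geo.Asch

open Matrix Cfsg.Geo
open scoped Kronecker

variable {ι : Type} [Fintype ι] [DecidableEq ι] {F : Type*} [Field F]
variable {κ : Type} [Fintype κ] [DecidableEq κ]

/-- The matrix `M` in the basis given by the columns of `P`, indexed along `e`. -/
def coord (e : ι ≃ κ) (P : GL ι F) (M : Matrix ι ι F) : Matrix κ κ F :=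
  (((P⁻¹ : GL ι F) : Matrix ι ι F) * M * (P : Matrix ι ι F)).submatrix e.symm e.symm

theorem coord_mul (e : ι ≃ κ) (P : GL ι F) (M M' : Matrix ι ι F) :
    coord e P (M * M') = coord e P M * coord e P M' := by
  rw [coord, coord, coord, Matrix.submatrix_mul_equiv]
  congr 1
  simp [mul_assoc]

theorem coord_one (e : ι ≃ κ) (P : GL ι F) : coord e P (1 : Matrix ι ι F) = 1 := by
  simp [coord, Matrix.submatrix_one_equiv]

theorem coord_injective (e : ι ≃ κ) (P : GL ι F) : Function.Injective (coord e P) := by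
  intro M M' h
  have h1 : ((P⁻¹ : GL ι F) : Matrix ι ι F) * M * (P : Matrix ι ι F) =
      ((P⁻¹ : GL ι F) : Matrix ι ι F) * M' * (P : Matrix ι ι F) := by
    ext i j
    simpa [coord] using congrFun (congrFun h (e i)) (e j)
  exact (IsUnit.mul_right_inj (Units.isUnit P⁻¹)).1 ((IsUnit.mul_left_inj P.isUnit).1 h1)

theorem coord_smul (e : ι ≃ κ) (P : GL ι F) (c : F) (M : Matrix ι ι F) : coord e P (c • M) = c • coord e P M := by
  ext i j
  simp [coord, Matrix.mul_smul, Matrix.smul_mul]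

theorem coord_surjective (e : ι ≃ κ) (P : GL ι F) : Function.Surjective (coord e P) := fun X =>
  ⟨(P : Matrix ι ι F) * X.submatrix e e * ((P⁻¹ : GL ι F) : Matrix ι ι F), by
    rw [coord, ← mul_assoc, ← mul_assoc, ← Units.val_mul, inv_mul_cancel, Units.val_one, one_mul, mul_assoc,
      ← Units.val_mul, inv_mul_cancel, Units.val_one, mul_one]
    ext i j
    simp⟩

theorem det_coord_ne_zero (e : ι ≃ κ) (P g : GL ι F) : (coord e P (g : Matrix ι ι F)).det ≠ 0 := by
  rw [coord, Matrix.det_submatrix_equiv_self, ← Units.val_mul, ← Units.val_mul]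
  exact ((P⁻¹ * g * P).isUnit.map Matrix.detMonoidHom).ne_zero

theorem mem_tensorProductSubgroup_iff {d k : ℕ} (e : ι ≃ Fin d × Fin k) (P g : GL ι F) :
    g ∈ tensorProductSubgroup d k e P ↔ ∃ (a : GL (Fin d) F) (b : GL (Fin k) F),
      coord e P (g : Matrix ι ι F) = (a : Matrix (Fin d) (Fin d) F) ⊗ₖ (b : Matrix (Fin k) (Fin k) F) := by
  constructor
  · rintro ⟨_, ⟨u, ⟨a, b, hu⟩, rfl⟩, rfl⟩
    refine ⟨a, b, ?_⟩
    rw [← hu]
    ext i j
    simp [coord, glReindex, mul_assoc, ← mul_assoc ((P⁻¹ : GL ι F) : Matrix ι ι F)]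
  · rintro ⟨a, b, h⟩
    refine ⟨P⁻¹ * g * P, ⟨glReindex (F := F) e (P⁻¹ * g * P), ⟨a, b, ?_⟩, ?_⟩, ?_⟩
    · rw [← h]
      simp [coord, glReindex]
    · refine Units.ext ?_
      ext i j
      simp [glReindex]
    · show P * (P⁻¹ * g * P) * P⁻¹ = g
      group

/-- A non-zero intertwiner of an irreducible representation is invertible. -/
theorem det_ne_zero_of_intertwine {α : Type*} {d : ℕ} {A A' : α → Matrix (Fin d) (Fin d) F} {s : Set α}
    (hA : ActsIrreducibly (A '' s)) {X : Matrix (Fin d) (Fin d) F} (hX : X ≠ 0)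
    (h : ∀ n ∈ s, X * A n = A' n * X) : X.det ≠ 0 := by
  intro h0
  obtain ⟨v, hv0, hv⟩ := Matrix.exists_mulVec_eq_zero_iff.2 h0
  rcases actsIrreducibly_iff.1 hA (LinearMap.ker (Matrix.toLin' X)) (by
      rintro _ ⟨n, hn, rfl⟩ w hw
      rw [LinearMap.mem_ker, Matrix.toLin'_apply] at hw ⊢
      rw [Matrix.mulVec_mulVec, h n hn, ← Matrix.mulVec_mulVec, hw, Matrix.mulVec_zero]) with e | e
  · exact hv0 ((Submodule.eq_bot_iff _).1 e v (by rw [LinearMap.mem_ker, Matrix.toLin'_apply, hv]))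
  · exact hX ((LinearEquiv.map_eq_zero_iff _).1 (LinearMap.ker_eq_top.1 e))

/-- The (a, b) block of a matrix on `Fin d × Fin k`. -/
def blk {d k : ℕ} (M : Matrix (Fin d × Fin k) (Fin d × Fin k) F) (a b : Fin k) : Matrix (Fin d) (Fin d) F :=
  fun i j => M (i, a) (j, b)

theorem blk_kron_mul {d k : ℕ} (X : Matrix (Fin d) (Fin d) F) (M : Matrix (Fin d × Fin k) (Fin d × Fin k) F)
    (a b : Fin k) : blk ((X ⊗ₖ (1 : Matrix (Fin k) (Fin k) F)) * M) a b = X * blk M a b := by
  ext i j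
  simp [blk, Matrix.mul_apply, Fintype.sum_prod_type, Matrix.one_apply]

theorem blk_mul_kron {d k : ℕ} (X : Matrix (Fin d) (Fin d) F) (M : Matrix (Fin d × Fin k) (Fin d × Fin k) F)
    (a b : Fin k) : blk (M * (X ⊗ₖ (1 : Matrix (Fin k) (Fin k) F))) a b = blk M a b * X := by
  ext i j
  simp [blk, Matrix.mul_apply, Fintype.sum_prod_type, Matrix.one_apply]

theorem kron_one_injective {d k : ℕ} (hk : 0 < k) :
    Function.Injective fun X : Matrix (Fin d) (Fin d) F => X ⊗ₖ (1 : Matrix (Fin k) (Fin k) F) := by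
  intro X Y h
  ext i j
  simpa using congrFun (congrFun h (i, ⟨0, hk⟩)) (j, ⟨0, hk⟩)

/-- Coordinates in which the group is `A ⊗ 1` with `A` absolutely irreducible. -/
structure TensorCoords (N : Subgroup (GL ι F)) (d k : ℕ) (e : ι ≃ Fin d × Fin k) (P : GL ι F)
    (A : GL ι F → Matrix (Fin d) (Fin d) F) : Prop where
  coord_eq : ∀ n ∈ N, coord e P (n : Matrix ι ι F) = A n ⊗ₖ (1 : Matrix (Fin k) (Fin k) F)
  absIrred : ActsAbsolutelyIrreducibly (A '' (N : Set (GL ι F)))
  pos_left : 0 < d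
  pos_right : 0 < k

/-- An element normalising the group is a Kronecker product in those coordinates. -/
theorem TensorCoords.normaliser {N : Subgroup (GL ι F)} {d k : ℕ} {e : ι ≃ Fin d × Fin k} {P : GL ι F}
    {A : GL ι F → Matrix (Fin d) (Fin d) F} (hc : TensorCoords N d k e P A) {h : GL ι F}
    (hn : ∀ x ∈ N, h * x * h⁻¹ ∈ N) :
    ∃ (a : GL (Fin d) F) (b : GL (Fin k) F),
      coord e P (h : Matrix ι ι F) = (a : Matrix (Fin d) (Fin d) F) ⊗ₖ (b : Matrix (Fin k) (Fin k) F) ∧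
      ∀ n ∈ N, (a : Matrix (Fin d) (Fin d) F) * A n = A (h * n * h⁻¹) * (a : Matrix (Fin d) (Fin d) F) := by
  set M := coord e P (h : Matrix ι ι F) with hM
  have hint : ∀ n ∈ N, ∀ a b, blk M a b * A n = A (h * n * h⁻¹) * blk M a b := by
    intro n hnN a b
    rw [← blk_mul_kron, ← blk_kron_mul, ← hc.coord_eq n hnN, ← hc.coord_eq _ (hn n hnN), hM, ← coord_mul,
      ← coord_mul, ← Units.val_mul, ← Units.val_mul, inv_mul_cancel_right]
  have hM0 : M.det ≠ 0 := det_coord_ne_zero e P h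
  obtain ⟨a₀, b₀, hne⟩ : ∃ a b, blk M a b ≠ 0 := by
    by_contra! hall
    have hz : M = 0 := by
      ext ⟨i, a⟩ ⟨j, b⟩
      exact congrFun (congrFun (hall a b) i) j
    haveI : Nonempty (Fin d × Fin k) := ⟨(⟨0, hc.pos_left⟩, ⟨0, hc.pos_right⟩)⟩
    rw [hz, Matrix.det_zero] at hM0
    exact hM0 rfl
  set X := blk M a₀ b₀ with hX
  have hdet := det_ne_zero_of_intertwine hc.absIrred.1 hne fun n hn' => hint n hn' a₀ b₀
  let u := Matrix.GeneralLinearGroup.mkOfDetNeZero X hdet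
  have hu : (u : Matrix (Fin d) (Fin d) F) = X := rfl
  have hscal : ∀ a b, ∃ c : F, blk M a b = c • X := by
    intro a b
    obtain ⟨c, hc'⟩ := hc.absIrred.2 (((u⁻¹ : GL (Fin d) F) : Matrix (Fin d) (Fin d) F) * blk M a b) (by
      rintro _ ⟨n, hn', rfl⟩
      have e1 : ((u⁻¹ : GL (Fin d) F) : Matrix (Fin d) (Fin d) F) * A (h * n * h⁻¹) =
          A n * ((u⁻¹ : GL (Fin d) F) : Matrix (Fin d) (Fin d) F) := by
        have h1 := congrArg (fun Z => ((u⁻¹ : GL (Fin d) F) : Matrix (Fin d) (Fin d) F) * Z *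
          ((u⁻¹ : GL (Fin d) F) : Matrix (Fin d) (Fin d) F)) (hint n hn' a₀ b₀)
        rw [← hX, ← hu] at h1
        simp only [← mul_assoc, u.inv_mul, one_mul] at h1
        rw [mul_assoc _ (u : Matrix (Fin d) (Fin d) F), u.mul_inv, mul_one] at h1
        exact h1.symm
      rw [mul_assoc, hint n hn', ← mul_assoc, e1, mul_assoc])
    refine ⟨c, ?_⟩
    rw [← hu, ← mul_one (u : Matrix (Fin d) (Fin d) F), ← Matrix.mul_smul, ← hc', ← mul_assoc, u.mul_inv, one_mul]
  choose B hB using hscal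
  have hMB : M = X ⊗ₖ Matrix.of B := by
    ext ⟨i, a⟩ ⟨j, b⟩
    rw [Matrix.kronecker_apply, Matrix.of_apply]
    exact (congrFun (congrFun (hB a b) i) j).trans (mul_comm _ _)
  have hBdet : (Matrix.of B).det ≠ 0 := by
    intro h0
    apply hM0
    rw [hMB, Matrix.det_kronecker, h0, zero_pow (by rw [Fintype.card_fin]; exact hc.pos_left.ne'), mul_zero]
  exact ⟨u, Matrix.GeneralLinearGroup.mkOfDetNeZero _ hBdet, hMB, fun n hn' => hint n hn' a₀ b₀⟩

theorem TensorCoords.le_tensorProductSubgroup {N : Subgroup (GL ι F)} {d k : ℕ} {e : ι ≃ Fin d × Fin k}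
    {P : GL ι F} {A : GL ι F → Matrix (Fin d) (Fin d) F} (hc : TensorCoords N d k e P A) {H : Subgroup (GL ι F)}
    (hn : ∀ h ∈ H, ∀ x ∈ N, h * x * h⁻¹ ∈ N) : H ≤ tensorProductSubgroup d k e P := fun h hh => by
  obtain ⟨a, b, hab, -⟩ := hc.normaliser (hn h hh)
  exact (mem_tensorProductSubgroup_iff e P h).2 ⟨a, b, hab⟩

theorem TensorCoords.two_le {N : Subgroup (GL ι F)} {d k : ℕ} {e : ι ≃ Fin d × Fin k}
    {P : GL ι F} {A : GL ι F → Matrix (Fin d) (Fin d) F} (hc : TensorCoords N d k e P A)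
    (hN : ¬ N ≤ scalars ι F) : 2 ≤ d := by
  by_contra hlt
  obtain rfl : d = 1 := by have := hc.pos_left; omega
  refine hN fun n hn => ?_
  haveI : Nonempty ι := ⟨e.symm (0, ⟨0, hc.pos_right⟩)⟩
  refine mem_scalars_of_coe (c := A n 0 0) (coord_injective e P ?_)
  rw [hc.coord_eq n hn, coord_smul, coord_one]
  ext ⟨i, a⟩ ⟨j, b⟩
  rw [Fin.fin_one_eq_zero i, Fin.fin_one_eq_zero j]
  simp [Matrix.one_apply]

theorem TensorCoords.absIrred_of_one {N : Subgroup (GL ι F)} {d : ℕ} {e : ι ≃ Fin d × Fin 1}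
    {P : GL ι F} {A : GL ι F → Matrix (Fin d) (Fin d) F} (hc : TensorCoords N d 1 e P A) (hN : IsHomog N) :
    ActsAbsolutelyIrreducibly (matrixSet N) := by
  have key : ∀ M : Matrix ι ι F, M ∈ comm N → ∃ c : F, M = c • (1 : Matrix ι ι F) := by
    intro M hM
    obtain ⟨c, hc'⟩ := hc.absIrred.2 (blk (coord e P M) 0 0) (by
      rintro _ ⟨n, hn, rfl⟩
      rw [← blk_mul_kron, ← blk_kron_mul, ← hc.coord_eq n hn, ← coord_mul, ← coord_mul,
        (Subalgebra.mem_centralizer_iff F).1 hM _ (mem_matrixSet hn)])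
    refine ⟨c, coord_injective e P ?_⟩
    rw [coord_smul, coord_one]
    ext ⟨i, a⟩ ⟨j, b⟩
    rw [Fin.fin_one_eq_zero a, Fin.fin_one_eq_zero b]
    have := congrFun (congrFun hc' i) j
    simpa [blk, Matrix.one_apply] using this
  refine ⟨actsIrreducibly_iff.2 fun W hW => actsIrreducibly_iff.1 hN W ?_, fun M hM => key M ?_⟩
  · rintro s (hs | hs) v hv
    · exact hW s hs v hv
    · obtain ⟨c, rfl⟩ := key s hs
      rw [Matrix.smul_mulVec, Matrix.one_mulVec]
      exact W.smul_mem c hv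
  · exact (Subalgebra.mem_centralizer_iff F).2 fun s hs => (hM s hs).symm

/-- Coordinates exist when the space is homogeneous and the centre of the commutant is scalar. -/
theorem exists_tensorCoords [Finite F] [Nonempty ι] {N : Subgroup (GL ι F)} (hN : IsHomog N)
    (hK : ∀ x ∈ centreComm N, ∃ c : F, x = c • (1 : Matrix ι ι F)) :
    ∃ (d k : ℕ) (e : ι ≃ Fin d × Fin k) (P : GL ι F) (A : GL ι F → Matrix (Fin d) (Fin d) F),
      TensorCoords N d k e P A := by
  classical
  obtain ⟨U, hU0, hU, hUmin⟩ := exists_simple (matrixSet N)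
  let T : Set (Submodule F (ι → F)) :=
    {X | X ≠ ⊥ ∧ ∃ c ∈ comm N, X = U.map (Matrix.toLin' c)}
  have hTst : ∀ X ∈ T, Stable (matrixSet N) X := by
    rintro _ ⟨-, c, hc, rfl⟩ s hs _ ⟨v, hv, rfl⟩
    refine ⟨_, hU s hs v hv, ?_⟩
    rw [Matrix.toLin'_apply, Matrix.toLin'_apply, Matrix.mulVec_mulVec, Matrix.mulVec_mulVec,
      (Subalgebra.mem_centralizer_iff F).1 hc s hs]
  have hker : ∀ c ∈ comm N, U.map (Matrix.toLin' c) ≠ ⊥ → ∀ u ∈ U, c *ᵥ u = 0 → u = 0 := by
    intro c hc hne u hu hcu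
    rcases hUmin (U ⊓ LinearMap.ker (Matrix.toLin' c)) inf_le_left (fun s hs v hv => ⟨hU s hs v hv.1, by
        have h2 : Matrix.toLin' c v = 0 := hv.2
        show Matrix.toLin' c (s *ᵥ v) = 0
        rw [Matrix.toLin'_apply] at h2 ⊢
        rw [Matrix.mulVec_mulVec, ← (Subalgebra.mem_centralizer_iff F).1 hc s hs, ← Matrix.mulVec_mulVec, h2,
          Matrix.mulVec_zero]⟩) with h | h
    · exact (Submodule.eq_bot_iff _).1 h u ⟨hu, show Matrix.toLin' c u = 0 by rw [Matrix.toLin'_apply, hcu]⟩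
    · refine absurd ((Submodule.eq_bot_iff _).2 ?_) hne
      rintro _ ⟨w, hw, rfl⟩
      exact (h.ge hw).2
  have hTmin : ∀ X ∈ T, ∀ W, W ≤ X → Stable (matrixSet N) W → W = ⊥ ∨ W = X := by
    rintro _ ⟨hne, c, hc, rfl⟩ W hW hWs
    rcases hUmin (U ⊓ W.comap (Matrix.toLin' c)) inf_le_left (fun s hs v hv => ⟨hU s hs v hv.1, by
        show Matrix.toLin' c (s *ᵥ v) ∈ W
        rw [Matrix.toLin'_apply, Matrix.mulVec_mulVec, ← (Subalgebra.mem_centralizer_iff F).1 hc s hs,
          ← Matrix.mulVec_mulVec]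
        exact hWs s hs _ (by rw [← Matrix.toLin'_apply]; exact hv.2)⟩) with h | h
    · left
      rw [Submodule.eq_bot_iff]
      intro w hw
      obtain ⟨u, hu, rfl⟩ := hW hw
      rw [(Submodule.eq_bot_iff _).1 h u ⟨hu, hw⟩, map_zero]
    · right
      refine le_antisymm hW ?_
      rintro _ ⟨u, hu, rfl⟩
      exact (h.ge hu).2
  have htop : sSup T = ⊤ := by
    rcases actsIrreducibly_iff.1 hN (sSup T) (fun s hs v hv => by
        have hle : (sSup T).map (Matrix.toLin' s) ≤ sSup T := by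
          rw [sSup_eq_iSup, Submodule.map_iSup]
          refine iSup_le fun X => ?_
          rw [Submodule.map_iSup]
          refine iSup_le fun hX => ?_
          rw [← sSup_eq_iSup]
          obtain ⟨hne, c, hc, rfl⟩ := hX
          rcases hs with hs | hs
          · refine le_trans ?_ (le_sSup ⟨hne, c, hc, rfl⟩)
            rintro _ ⟨w, hw, rfl⟩
            rw [Matrix.toLin'_apply]
            exact hTst _ ⟨hne, c, hc, rfl⟩ s hs w hw
          · rw [← Submodule.map_comp, ← Matrix.toLin'_mul]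
            by_cases h0 : U.map (Matrix.toLin' (s * c)) = ⊥
            · rw [h0]; exact bot_le
            · exact le_sSup ⟨h0, s * c, (comm N).mul_mem hs hc, rfl⟩
        exact hle ⟨v, hv, Matrix.toLin'_apply _ _⟩) with h | h
    · refine absurd (le_bot_iff.1 (h ▸ le_sSup (a := U) ⟨hU0, 1, (comm N).one_mem, ?_⟩)) hU0
      rw [Matrix.toLin'_one, Submodule.map_id]
    · exact h
  obtain ⟨k, D, hDT, hind, hD⟩ := exists_internal hTst hTmin (fun X hX => hX.1) htop
  choose hDne c hc hDc using hDT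
  set d := Module.finrank F U with hd
  let s := Module.finBasis F U
  -- the adapted basis
  have hcinj : ∀ i, Function.Injective ((Matrix.toLin' (c i)).domRestrict U) := fun i => by
    rw [← LinearMap.ker_eq_bot, LinearMap.ker_eq_bot']
    intro u hu
    exact Subtype.ext (hker _ (hc i) (hDc i ▸ hDne i) u u.2 (by simpa using hu))
  let bD : ∀ i, Module.Basis (Fin d) F (D i) := fun i =>
    s.map ((LinearEquiv.ofInjective _ (hcinj i)).trans
      (LinearEquiv.ofEq _ _ (by rw [LinearMap.range_domRestrict, hDc i])))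
  have hint : DirectSum.IsInternal D :=
    (DirectSum.isInternal_submodule_iff_iSupIndep_and_iSup_eq_top D).2 ⟨hind, hD⟩
  let b := (hint.collectedBasis bD).reindex ((Equiv.sigmaEquivProd _ _).trans (Equiv.prodComm _ _))
  have hb : ∀ (j : Fin d) (i : Fin k), b (j, i) = c i *ᵥ (s j : ι → F) := fun j i => by
    simp [b, bD, DirectSum.IsInternal.collectedBasis_coe]
  let e : ι ≃ Fin d × Fin k := (Pi.basisFun F ι).indexEquiv b
  let Pm : Matrix ι ι F := Matrix.of fun x y => b (e y) x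
  have hPm : IsUnit Pm := Matrix.linearIndependent_cols_iff_isUnit.1 (b.linearIndependent.comp _ e.injective)
  let A : GL ι F → Matrix (Fin d) (Fin d) F := fun n => Matrix.of fun l j =>
    if hn : n ∈ N then s.repr ⟨_, hU _ (mem_matrixSet hn) _ (s j).2⟩ l else 0
  have hA : ∀ n, n ∈ N → ∀ j, (n : Matrix ι ι F) *ᵥ (s j : ι → F) = ∑ l, A n l j • (s l : ι → F) := by
    intro n hn j
    have h1 := congrArg Subtype.val (s.sum_repr ⟨_, hU _ (mem_matrixSet hn) _ (s j).2⟩)
    simp only [Submodule.coe_sum, Submodule.coe_smul] at h1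
    rw [← h1]
    exact Finset.sum_congr rfl fun l _ => by simp [A, hn]
  have hcoord : ∀ n ∈ N, coord e hPm.unit (n : Matrix ι ι F) = A n ⊗ₖ (1 : Matrix (Fin k) (Fin k) F) := by
    intro n hn
    have hnP : (n : Matrix ι ι F) * Pm = Pm * (A n ⊗ₖ (1 : Matrix (Fin k) (Fin k) F)).submatrix e e := by
      ext x y
      rcases hey : e y with ⟨j, i⟩
      have h1 : ((n : Matrix ι ι F) * Pm) x y = ((n : Matrix ι ι F) *ᵥ b (j, i)) x := by rw [← hey]; rfl
      rw [h1, hb, Matrix.mulVec_mulVec, (Subalgebra.mem_centralizer_iff F).1 (hc i) _ (mem_matrixSet hn),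
        ← Matrix.mulVec_mulVec, hA n hn, Matrix.mulVec_sum, Finset.sum_apply, Matrix.mul_apply,
        ← e.symm.sum_comp, Fintype.sum_prod_type]
      refine Finset.sum_congr rfl fun l _ => ?_
      rw [Finset.sum_eq_single i]
      · simp [Pm, hb, hey, Matrix.mulVec_smul, mul_comm]
      · intro q _ hq
        simp [hey, Matrix.one_apply_ne hq]
      · simp
    rw [coord, mul_assoc, hPm.unit_spec, hnP, ← mul_assoc, hPm.val_inv_mul, one_mul]
    ext i j
    simp
  obtain ⟨u₀, hu₀, hu₀0⟩ := Submodule.exists_mem_ne_zero_of_ne_bot hU0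
  have hd0 : 0 < d := by
    haveI : Nontrivial U := ⟨⟨⟨u₀, hu₀⟩, 0, fun h => hu₀0 (congrArg Subtype.val h)⟩⟩
    exact Module.finrank_pos
  have hk0 : 0 < k := by
    rcases Nat.eq_zero_or_pos k with rfl | h
    · exact absurd (hD.symm.trans (by simp)) (top_ne_bot (α := Submodule F (ι → F)))
    · exact h
  have hirr : ActsIrreducibly (A '' (N : Set (GL ι F))) := by
    rw [actsIrreducibly_iff]
    intro W hW
    let L : (Fin d → F) →ₗ[F] (ι → F) := U.subtype.comp (s.equivFun.symm : (Fin d → F) →ₗ[F] U)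
    have hL : ∀ w : Fin d → F, L w = ∑ l, w l • (s l : ι → F) := fun w => by
      simp [L, Module.Basis.equivFun_symm_apply]
      rfl
    have hLn : ∀ n ∈ N, ∀ w, (n : Matrix ι ι F) *ᵥ L w = L (A n *ᵥ w) := by
      intro n hn w
      rw [hL, hL, Matrix.mulVec_sum]
      simp only [Matrix.mulVec_smul, hA n hn, Finset.smul_sum, smul_smul]
      rw [Finset.sum_comm]
      refine Finset.sum_congr rfl fun l _ => ?_
      rw [← Finset.sum_smul]
      congr 1
      exact Finset.sum_congr rfl fun j _ => mul_comm _ _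
    have hLinj : Function.Injective L := U.injective_subtype.comp s.equivFun.symm.injective
    rcases hUmin (W.map L) (by rintro _ ⟨w, -, rfl⟩; exact (s.equivFun.symm w).2)
        (stable_matrixSet_iff.2 fun n hn v hv => by
          obtain ⟨w, hw, rfl⟩ := hv
          exact ⟨_, hW _ ⟨n, hn, rfl⟩ w hw, (hLn n hn w).symm⟩) with h | h
    · left
      exact Submodule.map_injective_of_injective hLinj (h.trans (Submodule.map_bot L).symm)
    · right
      refine Submodule.map_injective_of_injective hLinj (h.trans ?_)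
      refine le_antisymm (fun u hu => ⟨s.equivFun ⟨u, hu⟩, trivial, ?_⟩)
        (by rintro _ ⟨w, -, rfl⟩; exact (s.equivFun.symm w).2)
      exact congrArg Subtype.val (s.equivFun.symm_apply_apply ⟨u, hu⟩)
  refine ⟨d, k, e, hPm.unit, A, hcoord, ⟨hirr, fun X hX => ?_⟩, hd0, hk0⟩
  haveI : Nonempty (Fin d) := ⟨⟨0, hd0⟩⟩
  obtain ⟨Y, hY⟩ := coord_surjective e hPm.unit (X ⊗ₖ (1 : Matrix (Fin k) (Fin k) F))
  have hYc : Y ∈ comm N := by
    rw [Subalgebra.mem_centralizer_iff]
    rintro _ ⟨n, hn, rfl⟩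
    refine coord_injective e hPm.unit ?_
    rw [coord_mul, coord_mul, hY, hcoord n hn, ← Matrix.mul_kronecker_mul, ← Matrix.mul_kronecker_mul,
      hX _ ⟨n, hn, rfl⟩]
  have hF := centralizer_isField hirr
  have hXc : X ∈ Subalgebra.centralizer F (A '' (N : Set (GL ι F))) :=
    (Subalgebra.mem_centralizer_iff F).2 fun z hz => (hX z hz).symm
  obtain ⟨c₀, hc₀⟩ := hK Y ⟨hYc, (Subalgebra.mem_centralizer_iff F).2 fun Z hZ => by
    refine coord_injective e hPm.unit ?_
    rw [coord_mul, coord_mul, hY]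
    ext ⟨i, a⟩ ⟨j, q⟩
    have hZc : blk (coord e hPm.unit Z) a q ∈ Subalgebra.centralizer F (A '' (N : Set (GL ι F))) := by
      rw [Subalgebra.mem_centralizer_iff]
      rintro _ ⟨n, hn, rfl⟩
      rw [← blk_mul_kron, ← blk_kron_mul, ← hcoord n hn, ← coord_mul, ← coord_mul,
        (Subalgebra.mem_centralizer_iff F).1 hZ _ (mem_matrixSet hn)]
    have h2 := congrArg Subtype.val (hF.mul_comm ⟨_, hZc⟩ ⟨X, hXc⟩)
    have h3 : blk (coord e hPm.unit Z * (X ⊗ₖ 1)) a q = blk ((X ⊗ₖ 1) * coord e hPm.unit Z) a q := by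
      rw [blk_mul_kron, blk_kron_mul]
      exact h2
    exact congrFun (congrFun h3 i) j⟩
  refine ⟨c₀, kron_one_injective hk0 ?_⟩
  show X ⊗ₖ (1 : Matrix (Fin k) (Fin k) F) = (c₀ • (1 : Matrix (Fin d) (Fin d) F)) ⊗ₖ 1
  rw [← hY, hc₀, coord_smul, coord_one, Matrix.smul_kronecker, Matrix.one_kronecker_one]

end CfsgLib.Geo.Asch
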