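/-
Tensor powers of the matrix algebra: pure tensors, factor permutations, and normalisers of factor groups.
-/
import Cfsg.Agent.Lib.Geo.Asch.TensorSplit

set_option autoImplicit false

namespace CfsgLib.Geo.Asch

open Matrix Cfsg.Geo

variable {F : Type*} [Field F] {d t : ℕ}

/-- Pure tensors, as a monoid homomorphism. -/
def pureT (d t : ℕ) (F : Type*) [Field F] :
    (Fin t → Matrix (Fin d) (Fin d) F) →* Matrix (Fin t → Fin d) (Fin t → Fin d) F where
  toFun gs := Matrix.of fun x y => ∏ i, gs i (x i) (y i)
  map_one' := by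
    ext x y
    by_cases h : x = y
    · subst h; simp
    · obtain ⟨i, hi⟩ := Function.ne_iff.1 h
      rw [Matrix.one_apply_ne h]
      exact Finset.prod_eq_zero (Finset.mem_univ i) (Matrix.one_apply_ne hi)
  map_mul' gs hs := by
    ext x y
    simp only [Pi.mul_apply, Matrix.of_apply, Matrix.mul_apply, ← Finset.prod_mul_distrib]
    exact Fintype.prod_sum fun i p => gs i (x i) p * hs i p (y i)

theorem pureT_apply (gs : Fin t → Matrix (Fin d) (Fin d) F) (x y : Fin t → Fin d) :
    pureT d t F gs x y = ∏ i, gs i (x i) (y i) := rfl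

/-- A pure tensor with one non-trivial factor. -/
def factor (i : Fin t) (X : Matrix (Fin d) (Fin d) F) : Matrix (Fin t → Fin d) (Fin t → Fin d) F :=
  pureT d t F (Pi.mulSingle i X)

theorem factor_apply (i : Fin t) (X : Matrix (Fin d) (Fin d) F) (x y : Fin t → Fin d) :
    factor i X x y = if ∀ j, j ≠ i → x j = y j then X (x i) (y i) else 0 := by
  rw [factor, pureT_apply]
  split_ifs with h
  · rw [Finset.prod_eq_single i]
    · simp
    · intro j _ hj
      rw [Pi.mulSingle_eq_of_ne hj, h j hj, Matrix.one_apply_eq]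
    · simp
  · push Not at h
    obtain ⟨j, hj, hne⟩ := h
    exact Finset.prod_eq_zero (Finset.mem_univ j) (by rw [Pi.mulSingle_eq_of_ne hj, Matrix.one_apply_ne hne])

theorem factor_mul_apply (i : Fin t) (X : Matrix (Fin d) (Fin d) F) (M : Matrix (Fin t → Fin d) (Fin t → Fin d) F)
    (x y : Fin t → Fin d) : (factor i X * M) x y = ∑ p, X (x i) p * M (Function.update x i p) y := by
  rw [Matrix.mul_apply]
  symm
  rw [← Finset.sum_map Finset.univ ⟨fun p => Function.update x i p, Function.update_injective x i⟩
    (fun z => X (x i) (z i) * M z y) |>.trans (Finset.sum_congr rfl fun p _ => by simp)]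
  rw [← Finset.sum_subset (Finset.subset_univ _)]
  · refine Finset.sum_congr rfl fun z hz => ?_
    obtain ⟨p, -, rfl⟩ := Finset.mem_map.1 hz
    simp only [Function.Embedding.coeFn_mk]
    rw [factor_apply, if_pos fun j hj => (Function.update_of_ne hj _ _).symm]
  · intro z _ hz
    rw [factor_apply, if_neg, zero_mul]
    intro h
    refine hz (Finset.mem_map.2 ⟨z i, Finset.mem_univ _, ?_⟩)
    ext j
    by_cases hj : j = i
    · subst hj; simp
    · simp [Function.update_of_ne hj, h j hj]

theorem mul_factor_apply (i : Fin t) (X : Matrix (Fin d) (Fin d) F) (M : Matrix (Fin t → Fin d) (Fin t → Fin d) F)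
    (x y : Fin t → Fin d) : (M * factor i X) x y = ∑ p, M x (Function.update y i p) * X p (y i) := by
  have h := factor_mul_apply i Xᵀ Mᵀ y x
  have e : (factor i X)ᵀ = factor i Xᵀ := by
    ext a b
    rw [Matrix.transpose_apply, factor_apply, factor_apply]
    simp [eq_comm]
  rw [← e, ← Matrix.transpose_mul, Matrix.transpose_apply] at h
  rw [h]
  exact Finset.sum_congr rfl fun p _ => mul_comm _ _

/-- The matrix permuting the factors. -/
def permT (d : ℕ) (F : Type*) [Field F] (π : Equiv.Perm (Fin t)) :
    Matrix (Fin t → Fin d) (Fin t → Fin d) F :=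
  Matrix.of fun x y => if y = x ∘ π then 1 else 0

theorem permT_mul (π : Equiv.Perm (Fin t)) (M : Matrix (Fin t → Fin d) (Fin t → Fin d) F) (x y : Fin t → Fin d) :
    (permT d F π * M) x y = M (x ∘ π) y := by
  simp [permT, Matrix.mul_apply]

theorem mul_permT (π : Equiv.Perm (Fin t)) (M : Matrix (Fin t → Fin d) (Fin t → Fin d) F) (x y : Fin t → Fin d) :
    (M * permT d F π) x y = M x (y ∘ π.symm) := by
  rw [Matrix.mul_apply, Finset.sum_eq_single (y ∘ π.symm)]
  · simp [permT, Function.comp_assoc]
  · intro z _ hz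
    rw [permT, Matrix.of_apply, if_neg, mul_zero]
    intro e
    exact hz (by rw [e, Function.comp_assoc, Equiv.self_comp_symm, Function.comp_id])
  · simp

theorem permT_mul_permT_symm (π : Equiv.Perm (Fin t)) :
    permT d F π * permT d F π.symm = (1 : Matrix (Fin t → Fin d) (Fin t → Fin d) F) := by
  ext x y
  rw [permT_mul]
  simp [permT, Matrix.one_apply, Function.comp_assoc, eq_comm]

theorem permT_factor (π : Equiv.Perm (Fin t)) (i : Fin t) (X : Matrix (Fin d) (Fin d) F) :
    permT d F π * factor i X = factor (π i) X * permT d F π := by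
  ext x y
  rw [permT_mul, mul_permT, factor_apply, factor_apply]
  simp only [Function.comp_apply, Equiv.symm_apply_apply]
  refine if_congr ?_ rfl rfl
  constructor
  · intro h j hj
    have := h (π.symm j) fun e => hj (by rw [← e, Equiv.apply_symm_apply])
    simpa using this
  · intro h j hj
    simpa using h (π j) fun e => hj (π.injective e)

/-- Membership in the tensor-wreath subgroup in coordinates. -/
theorem mem_tensorWreathSubgroup_of_coord {ι : Type} [Fintype ι] [DecidableEq ι] {e : ι ≃ (Fin t → Fin d)}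
    {P g : GL ι F} (π : Equiv.Perm (Fin t)) (gs : Fin t → GL (Fin d) F)
    (h : coord e P (g : Matrix ι ι F) = pureT d t F (fun i => (gs i : Matrix (Fin d) (Fin d) F)) * permT d F π) :
    g ∈ tensorWreathSubgroup d t e P := by
  let u₁ : GL (Fin t → Fin d) F := Units.map (pureT d t F) (MulEquiv.piUnits.symm gs)
  let u₂ : GL (Fin t → Fin d) F := ⟨permT d F π, permT d F π.symm, permT_mul_permT_symm π, by
    simpa using permT_mul_permT_symm (F := F) (d := d) π.symm⟩
  have hu : u₁ * u₂ ∈ tensorWreathStandard d t F :=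
    Subgroup.mul_mem _ (Subgroup.subset_closure (Or.inl ⟨gs, fun x y => rfl⟩))
      (Subgroup.subset_closure (Or.inr ⟨π, fun x y => rfl⟩))
  refine ⟨P⁻¹ * g * P, ⟨u₁ * u₂, hu, ?_⟩, by show P * (P⁻¹ * g * P) * P⁻¹ = g; group⟩
  refine Units.ext ?_
  show ((u₁ * u₂ : GL (Fin t → Fin d) F) : Matrix (Fin t → Fin d) (Fin t → Fin d) F).submatrix e.symm.symm e.symm.symm =
    _
  rw [show ((u₁ * u₂ : GL (Fin t → Fin d) F) : Matrix (Fin t → Fin d) (Fin t → Fin d) F) =
    pureT d t F (fun i => (gs i : Matrix (Fin d) (Fin d) F)) * permT d F π from rfl, ← h, coord]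
  ext i j
  simp [mul_assoc]

/-- Coordinates in which each of the commuting subgroups acts on its own factor. -/
structure FactorCoords {ι : Type} [Fintype ι] [DecidableEq ι] (d : ℕ) (M : Fin t → Subgroup (GL ι F))
    (e : ι ≃ (Fin t → Fin d)) (P : GL ι F) (A : Fin t → GL ι F → Matrix (Fin d) (Fin d) F) : Prop where
  coord_eq : ∀ i, ∀ n ∈ M i, coord e P (n : Matrix ι ι F) = factor i (A i n)
  irred : ∀ i, ActsIrreducibly (A i '' (M i : Set (GL ι F)))
  absIrred : ActsAbsolutelyIrreducibly (matrixSet (⨆ i, M i))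

/-- An element permuting the subgroups lies in the tensor-wreath subgroup. -/
theorem FactorCoords.mem_tensorWreath {ι : Type} [Fintype ι] [DecidableEq ι] {M : Fin t → Subgroup (GL ι F)}
    {e : ι ≃ (Fin t → Fin d)} {P : GL ι F} {A : Fin t → GL ι F → Matrix (Fin d) (Fin d) F}
    (hc : FactorCoords d M e P A) (hd : 0 < d) (ht : 0 < t) {g : GL ι F} (π : Equiv.Perm (Fin t))
    (hg : ∀ i, ∀ n ∈ M i, g * n * g⁻¹ ∈ M (π i)) : g ∈ tensorWreathSubgroup d t e P := by
  classical
  set C := coord e P (g : Matrix ι ι F) * permT d F π.symm with hC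
  have hperm : permT d F π.symm * permT d F π = (1 : Matrix (Fin t → Fin d) (Fin t → Fin d) F) := by
    simpa using permT_mul_permT_symm (F := F) (d := d) π.symm
  -- C intertwines the factor of M i with the factor of M (π i) at position π i
  have hint : ∀ i, ∀ n ∈ M i, C * factor (π i) (A i n) = factor (π i) (A (π i) (g * n * g⁻¹)) * C := by
    intro i n hn
    have h1 : coord e P (g : Matrix ι ι F) * coord e P (n : Matrix ι ι F) =
        coord e P ((g * n * g⁻¹ : GL ι F) : Matrix ι ι F) * coord e P (g : Matrix ι ι F) := by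
      rw [← coord_mul, ← coord_mul, ← Units.val_mul, ← Units.val_mul, inv_mul_cancel_right]
    rw [hc.coord_eq i n hn, hc.coord_eq _ _ (hg i n hn)] at h1
    have h2 := permT_factor π.symm (π i) (A i n)
    rw [Equiv.symm_apply_apply] at h2
    rw [hC, mul_assoc, h2, ← mul_assoc, h1, mul_assoc]
  have hdet : C.det ≠ 0 := by
    rw [hC, Matrix.det_mul]
    refine mul_ne_zero (det_coord_ne_zero e P g) fun h0 => ?_
    have := congrArg Matrix.det hperm
    rw [Matrix.det_mul, h0, zero_mul, Matrix.det_one] at this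
    exact zero_ne_one this
  haveI : Nonempty (Fin t → Fin d) := ⟨fun _ => ⟨0, hd⟩⟩
  obtain ⟨x₀, y₀, hne⟩ : ∃ x y, C x y ≠ 0 := by
    by_contra! h0
    rw [show C = 0 from Matrix.ext h0, Matrix.det_zero] at hdet
    exact hdet rfl
  have hslice : ∀ i, ∃ a : GL (Fin d) F, ∀ n ∈ M i,
      (a : Matrix (Fin d) (Fin d) F) * A i n = A (π i) (g * n * g⁻¹) * (a : Matrix (Fin d) (Fin d) F) := by
    intro i
    let S : Matrix (Fin d) (Fin d) F := Matrix.of fun p q => C (Function.update x₀ (π i) p) (Function.update y₀ (π i) q)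
    have hS : ∀ n ∈ M i, S * A i n = A (π i) (g * n * g⁻¹) * S := by
      intro n hn
      ext p q
      have h := congrFun (congrFun (hint i n hn) (Function.update x₀ (π i) p)) (Function.update y₀ (π i) q)
      rw [mul_factor_apply, factor_mul_apply] at h
      simpa [S, Matrix.mul_apply, Function.update_idem] using h
    have hS0 : S ≠ 0 := fun h0 => hne (by
      have := congrFun (congrFun h0 (x₀ (π i))) (y₀ (π i))
      simpa [S] using this)
    exact ⟨Matrix.GeneralLinearGroup.mkOfDetNeZero S (det_ne_zero_of_intertwine (hc.irred i) hS0 hS), hS⟩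
  choose a ha using hslice
  let gs : Fin t → GL (Fin d) F := fun j => a (π.symm j)
  let T := pureT d t F fun j => (gs j : Matrix (Fin d) (Fin d) F)
  let Ti := pureT d t F fun j => (((gs j)⁻¹ : GL (Fin d) F) : Matrix (Fin d) (Fin d) F)
  have hTTi : T * Ti = 1 := by
    rw [← map_mul, ← map_one (pureT d t F)]
    congr 1
    funext j
    exact (gs j).mul_inv
  have hTiT : Ti * T = 1 := by
    rw [← map_mul, ← map_one (pureT d t F)]
    congr 1
    funext j
    exact (gs j).inv_mul
  have hTcomm : ∀ i, ∀ n ∈ M i, T * factor (π i) (A i n) = factor (π i) (A (π i) (g * n * g⁻¹)) * T := by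
    intro i n hn
    show pureT d t F _ * pureT d t F _ = pureT d t F _ * pureT d t F _
    rw [← map_mul, ← map_mul]
    congr 1
    funext j
    by_cases hj : j = π i
    · subst hj
      simp only [gs, Pi.mul_apply, Pi.mulSingle_eq_same, Equiv.symm_apply_apply]
      exact ha i n hn
    · simp [Pi.mulSingle_eq_of_ne hj]
  obtain ⟨X, hX⟩ := coord_surjective e P (permT d F π.symm * (Ti * C) * permT d F π)
  have hperm' : permT d F π * permT d F π.symm = (1 : Matrix (Fin t → Fin d) (Fin t → Fin d) F) :=
    permT_mul_permT_symm π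
  have hcomm : ∀ i, ∀ n ∈ M i, X * (n : Matrix ι ι F) = (n : Matrix ι ι F) * X := by
    intro i n hn
    refine coord_injective e P ?_
    rw [coord_mul, coord_mul, hX, hc.coord_eq i n hn]
    have h1 : (Ti * C) * factor (π i) (A i n) = factor (π i) (A i n) * (Ti * C) := by
      have key : Ti * factor (π i) (A (π i) (g * n * g⁻¹)) = factor (π i) (A i n) * Ti :=
        calc Ti * factor (π i) (A (π i) (g * n * g⁻¹))
            = Ti * factor (π i) (A (π i) (g * n * g⁻¹)) * (T * Ti) := by rw [hTTi, mul_one]
          _ = Ti * (T * factor (π i) (A i n)) * Ti := by rw [hTcomm i n hn]; simp only [mul_assoc]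
          _ = factor (π i) (A i n) * Ti := by rw [← mul_assoc Ti, hTiT, one_mul]
      rw [mul_assoc, hint i n hn, ← mul_assoc, key, mul_assoc]
    have h2 := permT_factor (F := F) π.symm (π i) (A i n)
    rw [Equiv.symm_apply_apply] at h2
    calc permT d F π.symm * (Ti * C) * permT d F π * factor i (A i n)
        = permT d F π.symm * ((Ti * C) * factor (π i) (A i n)) * permT d F π := by
          rw [mul_assoc _ (permT d F π) (factor i _), permT_factor]; simp only [mul_assoc]
      _ = (permT d F π.symm * factor (π i) (A i n)) * (Ti * C) * permT d F π := by rw [h1]; simp only [mul_assoc]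
      _ = factor i (A i n) * (permT d F π.symm * (Ti * C) * permT d F π) := by rw [h2]; simp only [mul_assoc]
  obtain ⟨c, hcX⟩ := hc.absIrred.2 X (by
    rintro _ ⟨n, hn, rfl⟩
    show X * (n : Matrix ι ι F) = (n : Matrix ι ι F) * X
    induction hn using Subgroup.iSup_induction' with
    | hp i n hn => exact hcomm i n hn
    | h1 => simp
    | hmul a b _ _ h1 h2 => rw [Units.val_mul, ← mul_assoc, h1, mul_assoc, h2, mul_assoc])
  have hTiC : Ti * C = c • (1 : Matrix (Fin t → Fin d) (Fin t → Fin d) F) := by
    have h1 : permT d F π.symm * (Ti * C) * permT d F π = c • (1 : Matrix (Fin t → Fin d) (Fin t → Fin d) F) := by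
      rw [← hX, hcX, coord_smul, coord_one]
    calc Ti * C = permT d F π * (permT d F π.symm * (Ti * C) * permT d F π) * permT d F π.symm := by
          simp only [← mul_assoc, hperm', one_mul]; simp only [mul_assoc, hperm', mul_one]
      _ = _ := by rw [h1, Matrix.mul_smul, Matrix.smul_mul, mul_one, hperm']
  have hc0 : c ≠ 0 := by
    intro h0
    rw [h0, zero_smul] at hTiC
    have : C = 0 := by rw [← one_mul C, ← hTTi, mul_assoc, hTiC, mul_zero]
    rw [this, Matrix.det_zero] at hdet
    exact hdet rfl
  let i₀ : Fin t := ⟨0, ht⟩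
  let gs' : Fin t → GL (Fin d) F := fun j =>
    (if j = i₀ then Units.map (Matrix.scalar (Fin d)).toMonoidHom (Units.mk0 c hc0) else 1) * gs j
  refine mem_tensorWreathSubgroup_of_coord π gs' ?_
  have hT' : pureT d t F (fun j => (gs' j : Matrix (Fin d) (Fin d) F)) = c • T := by
    ext x y
    rw [Matrix.smul_apply]
    show ∏ j, (gs' j : Matrix (Fin d) (Fin d) F) (x j) (y j) = c * ∏ j, (gs j : Matrix (Fin d) (Fin d) F) (x j) (y j)
    have : ∀ j, (gs' j : Matrix (Fin d) (Fin d) F) (x j) (y j) =
        (if j = i₀ then c else 1) * (gs j : Matrix (Fin d) (Fin d) F) (x j) (y j) := fun j => by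
      by_cases hj : j = i₀ <;> simp [gs', hj, Matrix.scalar, Matrix.diagonal_mul]
    rw [Finset.prod_congr rfl fun j _ => this j, Finset.prod_mul_distrib, Finset.prod_ite_eq']
    simp
  rw [hT']
  calc coord e P (g : Matrix ι ι F) = C * permT d F π := by rw [hC, mul_assoc, hperm, mul_one]
    _ = (T * (Ti * C)) * permT d F π := by rw [← mul_assoc T, hTTi, one_mul]
    _ = _ := by rw [hTiC, Matrix.mul_smul, mul_one]

end CfsgLib.Geo.Asch
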