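/-
Commuting subgroups generating an absolutely irreducible group split the space as a tensor product.
-/
import Cfsg.Agent.Lib.Geo.Asch.TensorPower
import Cfsg.Agent.Lib.Geo.Asch.Span

set_option autoImplicit false

namespace CfsgLib.Geo.Asch

open Matrix Cfsg.Geo
open scoped Kronecker

variable {ι : Type} [Fintype ι] [DecidableEq ι] {F : Type*} [Field F] {κ : Type} [Fintype κ] [DecidableEq κ]

/-- A linear map of matrix spaces that is multiplicative. -/
structure MatEmb (κ ι : Type) [Fintype κ] [DecidableEq κ] [Fintype ι] [DecidableEq ι] (F : Type*) [Field F] where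
  toLin : Matrix κ κ F →ₗ[F] Matrix ι ι F
  map_one : toLin 1 = 1
  map_mul : ∀ X Y, toLin (X * Y) = toLin X * toLin Y
  injective : Function.Injective toLin

/-- The induced homomorphism of invertible matrices. -/
def MatEmb.gl (φ : MatEmb κ ι F) : GL κ F →* GL ι F :=
  Units.map ({ toFun := φ.toLin, map_one' := φ.map_one, map_mul' := φ.map_mul } : Matrix κ κ F →* Matrix ι ι F)

theorem MatEmb.coe_gl (φ : MatEmb κ ι F) (u : GL κ F) :
    (φ.gl u : Matrix ι ι F) = φ.toLin (u : Matrix κ κ F) := rfl

theorem MatEmb.gl_injective (φ : MatEmb κ ι F) : Function.Injective φ.gl := fun _ _ h =>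
  Units.ext (φ.injective (congrArg Units.val h))

theorem MatEmb.mem_range (φ : MatEmb κ ι F) {n : GL ι F} {X : Matrix κ κ F} (h : φ.toLin X = (n : Matrix ι ι F)) :
    n ∈ φ.gl.range := by
  have hX : X.det ≠ 0 := by
    intro h0
    obtain ⟨v, hv0, hv⟩ := Matrix.exists_mulVec_eq_zero_iff.2 h0
    let R : Matrix κ κ F := Matrix.of fun a _ => v a
    have hR : X * R = 0 := by
      ext a b
      exact congrFun hv a
    have hR0 : φ.toLin R = 0 := by
      have h1 : (n : Matrix ι ι F) * φ.toLin R = 0 := by rw [← h, ← φ.map_mul, hR, map_zero]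
      rw [← one_mul (φ.toLin R), ← n.inv_mul, mul_assoc, h1, mul_zero]
    obtain ⟨a, ha⟩ := Function.ne_iff.1 hv0
    exact ha (congrFun (congrFun (φ.injective (hR0.trans (map_zero φ.toLin).symm)) a) a)
  exact ⟨Matrix.GeneralLinearGroup.mkOfDetNeZero X hX, Units.ext h⟩

theorem MatEmb.finrank_span (φ : MatEmb κ ι F) {S : Subgroup (GL ι F)} (hS : S ≤ φ.gl.range) :
    Module.finrank F (Submodule.span F (matrixSet S)) =
      Module.finrank F (Submodule.span F (matrixSet (S.comap φ.gl))) := by
  have e : matrixSet S = φ.toLin '' matrixSet (S.comap φ.gl) := by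
    ext x
    constructor
    · rintro ⟨n, hn, rfl⟩
      obtain ⟨u, rfl⟩ := hS hn
      exact ⟨_, ⟨u, hn, rfl⟩, rfl⟩
    · rintro ⟨_, ⟨u, hu, rfl⟩, rfl⟩
      exact ⟨φ.gl u, hu, rfl⟩
  rw [e, ← Submodule.map_span]
  exact (LinearEquiv.finrank_eq (Submodule.equivMapOfInjective φ.toLin φ.injective _)).symm

/-- `X ↦ X ⊗ 1` in coordinates. -/
noncomputable def embLeft {d k : ℕ} (hk : 0 < k) (e : ι ≃ Fin d × Fin k) (P : GL ι F) : MatEmb (Fin d) ι F where
  toLin :=
    { toFun := fun X => (P : Matrix ι ι F) * (X ⊗ₖ (1 : Matrix (Fin k) (Fin k) F)).submatrix e e *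
        ((P⁻¹ : GL ι F) : Matrix ι ι F)
      map_add' := fun X Y => by
        rw [Matrix.add_kronecker, ← Matrix.add_mul, ← Matrix.mul_add]
        rfl
      map_smul' := fun c X => by
        rw [Matrix.smul_kronecker, Matrix.submatrix_smul, RingHom.id_apply, ← Matrix.smul_mul, ← Matrix.mul_smul]
        rfl }
  map_one := by simp [Matrix.submatrix_one_equiv]
  map_mul X Y := by
    show _ * ((X * Y) ⊗ₖ (1 : Matrix (Fin k) (Fin k) F)).submatrix e e * _ = _
    conv_lhs => rw [← one_mul (1 : Matrix (Fin k) (Fin k) F), Matrix.mul_kronecker_mul, ← Matrix.submatrix_mul_equiv _ _ _ e]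
    simp only [mul_assoc, LinearMap.coe_mk, AddHom.coe_mk]
    rw [← mul_assoc ((P⁻¹ : GL ι F) : Matrix ι ι F) (P : Matrix ι ι F), P.inv_mul, one_mul]
  injective := fun X Y h => kron_one_injective hk (by
    have h1 := (IsUnit.mul_right_inj P.isUnit).1 ((IsUnit.mul_left_inj (Units.isUnit P⁻¹)).1 h)
    ext a b
    simpa using congrFun (congrFun h1 (e.symm a)) (e.symm b))

/-- `X ↦ 1 ⊗ X` in coordinates. -/
noncomputable def embRight {d k : ℕ} (hd : 0 < d) (e : ι ≃ Fin d × Fin k) (P : GL ι F) : MatEmb (Fin k) ι F where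
  toLin :=
    { toFun := fun X => (P : Matrix ι ι F) * ((1 : Matrix (Fin d) (Fin d) F) ⊗ₖ X).submatrix e e *
        ((P⁻¹ : GL ι F) : Matrix ι ι F)
      map_add' := fun X Y => by
        rw [Matrix.kronecker_add, ← Matrix.add_mul, ← Matrix.mul_add]
        rfl
      map_smul' := fun c X => by
        rw [Matrix.kronecker_smul, Matrix.submatrix_smul, RingHom.id_apply, ← Matrix.smul_mul, ← Matrix.mul_smul]
        rfl }
  map_one := by simp [Matrix.submatrix_one_equiv]
  map_mul X Y := by
    show _ * ((1 : Matrix (Fin d) (Fin d) F) ⊗ₖ (X * Y)).submatrix e e * _ = _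
    conv_lhs => rw [← one_mul (1 : Matrix (Fin d) (Fin d) F), Matrix.mul_kronecker_mul, ← Matrix.submatrix_mul_equiv _ _ _ e]
    simp only [mul_assoc, LinearMap.coe_mk, AddHom.coe_mk]
    rw [← mul_assoc ((P⁻¹ : GL ι F) : Matrix ι ι F) (P : Matrix ι ι F), P.inv_mul, one_mul]
  injective := fun X Y h => by
    have h1 := (IsUnit.mul_right_inj P.isUnit).1 ((IsUnit.mul_left_inj (Units.isUnit P⁻¹)).1 h)
    ext a b
    simpa using congrFun (congrFun h1 (e.symm (⟨0, hd⟩, a))) (e.symm (⟨0, hd⟩, b))

theorem coord_embLeft {d k : ℕ} (hk : 0 < k) (e : ι ≃ Fin d × Fin k) (P : GL ι F) (X : Matrix (Fin d) (Fin d) F) :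
    coord e P ((embLeft hk e P).toLin X) = X ⊗ₖ (1 : Matrix (Fin k) (Fin k) F) := by
  ext a b
  simp [coord, embLeft, mul_assoc, ← mul_assoc ((P⁻¹ : GL ι F) : Matrix ι ι F)]

theorem coord_embRight {d k : ℕ} (hd : 0 < d) (e : ι ≃ Fin d × Fin k) (P : GL ι F) (X : Matrix (Fin k) (Fin k) F) :
    coord e P ((embRight hd e P).toLin X) = (1 : Matrix (Fin d) (Fin d) F) ⊗ₖ X := by
  ext a b
  simp [coord, embRight, mul_assoc, ← mul_assoc ((P⁻¹ : GL ι F) : Matrix ι ι F)]

/-- A matrix commuting with `A ⊗ 1` is `1 ⊗ B`. -/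
theorem TensorCoords.exists_right {N : Subgroup (GL ι F)} {d k : ℕ} {e : ι ≃ Fin d × Fin k} {P : GL ι F}
    {A : GL ι F → Matrix (Fin d) (Fin d) F} (hc : TensorCoords N d k e P A) {M : Matrix ι ι F} (hM : M ∈ comm N) :
    ∃ B, (embRight hc.pos_left e P).toLin B = M := by
  have hblk : ∀ a b, ∃ c : F, blk (coord e P M) a b = c • (1 : Matrix (Fin d) (Fin d) F) := fun a b =>
    hc.absIrred.2 _ (by
      rintro _ ⟨n, hn, rfl⟩
      rw [← blk_mul_kron, ← blk_kron_mul, ← hc.coord_eq n hn, ← coord_mul, ← coord_mul,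
        (Subalgebra.mem_centralizer_iff F).1 hM _ (mem_matrixSet hn)])
  choose B hB using hblk
  refine ⟨Matrix.of B, coord_injective e P ?_⟩
  rw [coord_embRight]
  ext ⟨i, a⟩ ⟨j, b⟩
  have := congrFun (congrFun (hB a b) i) j
  rw [show blk (coord e P M) a b i j = coord e P M (i, a) (j, b) from rfl] at this
  rw [this]
  simp [Matrix.one_apply, mul_comm]

theorem coord_trans {μ : Type} [Fintype μ] [DecidableEq μ] (e : ι ≃ κ) (f : κ ≃ μ) (P Q : GL ι F) (X : Matrix ι ι F) :
    coord (e.trans f) (Q * P) X =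
      (coord e P (((Q⁻¹ : GL ι F) : Matrix ι ι F) * X * (Q : Matrix ι ι F))).submatrix f.symm f.symm := by
  simp [coord, Matrix.submatrix_submatrix, mul_assoc, Function.comp_def]

theorem card_eq_one_of_absIrred_bot [Nonempty ι]
    (h : ActsAbsolutelyIrreducibly (matrixSet (⊥ : Subgroup (GL ι F)))) : Fintype.card ι = 1 := by
  refine le_antisymm (Fintype.card_le_one_iff.2 fun i j => ?_) Fintype.card_pos
  by_contra hij
  obtain ⟨c, hc⟩ := h.2 (Matrix.single i j 1) (by
    rintro _ ⟨g, hg, rfl⟩
    rw [Subgroup.mem_bot.1 hg]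
    simp)
  have := congrFun (congrFun hc i) j
  simp [Matrix.one_apply_ne hij] at this

/-- Tensor coordinates for one of several commuting subgroups generating an absolutely irreducible group. -/
theorem exists_tensor_first [Finite F] [Nonempty ι] {t : ℕ} (M : Fin t → Subgroup (GL ι F))
    (hcomm : ∀ i j, i ≠ j → ∀ x ∈ M i, ∀ y ∈ M j, x * y = y * x)
    (habs : ActsAbsolutelyIrreducibly (matrixSet (⨆ i, M i))) (i₀ : Fin t) :
    ∃ (d k : ℕ) (e : ι ≃ Fin d × Fin k) (P : GL ι F) (A : GL ι F → Matrix (Fin d) (Fin d) F),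
      TensorCoords (M i₀) d k e P A := by
  classical
  have hnorm : ∀ h ∈ ⨆ i, M i, ∀ x ∈ M i₀, h * x * h⁻¹ ∈ M i₀ := by
    intro h hh
    induction hh using Subgroup.iSup_induction' with
    | hp i g hg =>
      intro x hx
      by_cases hi : i = i₀
      · rw [hi] at hg; exact (M i₀).mul_mem ((M i₀).mul_mem hg hx) ((M i₀).inv_mem hg)
      · rw [hcomm i i₀ hi g hg x hx, mul_inv_cancel_right]; exact hx
    | h1 => intro x hx; simpa using hx
    | hmul a b _ _ h1 h2 =>
      intro x hx
      have := h1 _ (h2 x hx)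
      rwa [show a * b * x * (a * b)⁻¹ = a * (b * x * b⁻¹) * a⁻¹ by group]
  have hin : ∀ i, ∀ g ∈ M i, (g : Matrix ι ι F) ∈ NC (M i₀) := by
    intro i g hg
    by_cases hi : i = i₀
    · rw [hi] at hg; exact Or.inl (mem_matrixSet hg)
    · refine Or.inr ((Subalgebra.mem_centralizer_iff F).2 ?_)
      rintro _ ⟨x, hx, rfl⟩
      rw [← Units.val_mul, ← Units.val_mul, hcomm i i₀ hi g hg x hx]
  have hstab : ∀ W, Stable (NC (M i₀)) W → W = ⊥ ∨ W = ⊤ := by
    intro W hW
    refine actsIrreducibly_iff.1 habs.1 W (stable_matrixSet_iff.2 fun g hg => ?_)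
    induction hg using Subgroup.iSup_induction' with
    | hp i g hg => exact hW _ (hin i g hg)
    | h1 => intro v hv; simpa using hv
    | hmul a b _ _ h1 h2 =>
      intro v hv
      rw [Units.val_mul, ← Matrix.mulVec_mulVec]
      exact h1 _ (h2 v hv)
  have hhom : IsHomog (M i₀) := actsIrreducibly_iff.2 hstab
  have hK : ∀ x ∈ centreComm (M i₀), ∃ c : F, x = c • (1 : Matrix ι ι F) := by
    intro x hx
    refine habs.2 x ?_
    rintro _ ⟨g, hg, rfl⟩
    show x * (g : Matrix ι ι F) = (g : Matrix ι ι F) * x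
    induction hg using Subgroup.iSup_induction' with
    | hp i g hg =>
      rcases hin i g hg with h | h
      · exact ((Subalgebra.mem_centralizer_iff F).1 hx.1 _ h).symm
      · exact ((Subalgebra.mem_centralizer_iff F).1 hx.2 _ h).symm
    | h1 => simp
    | hmul a b _ _ h1 h2 => rw [Units.val_mul, ← mul_assoc, h1, mul_assoc, h2, mul_assoc]
  obtain ⟨d, k, e, P, A, hc⟩ := exists_tensorCoords hhom hK
  exact ⟨d, k, e, P, A, hc⟩

/-- Existence of factor coordinates. -/
theorem exists_factorCoords [Finite F] {d : ℕ} (hd : 0 < d) :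
    ∀ (t : ℕ) {ι : Type} [Fintype ι] [DecidableEq ι] [Nonempty ι] (M : Fin t → Subgroup (GL ι F)),
      (∀ i j, i ≠ j → ∀ x ∈ M i, ∀ y ∈ M j, x * y = y * x) →
      ActsAbsolutelyIrreducibly (matrixSet (⨆ i, M i)) →
      (∀ i, Module.finrank F (Submodule.span F (matrixSet (M i))) = d * d) →
      ∃ (e : ι ≃ (Fin t → Fin d)) (P : GL ι F) (A : Fin t → GL ι F → Matrix (Fin d) (Fin d) F),
        FactorCoords d M e P A := by
  intro t
  induction t with
  | zero =>
    intro ι _ _ _ M _ habs _
    have h0 : (⨆ i, M i) = ⊥ := by simp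
    haveI : Subsingleton ι := Fintype.card_le_one_iff_subsingleton.1 (card_eq_one_of_absIrred_bot (h0 ▸ habs)).le
    let e : ι ≃ (Fin 0 → Fin d) :=
      { toFun := fun _ => Fin.elim0
        invFun := fun _ => Classical.arbitrary ι
        left_inv := fun x => Subsingleton.elim _ _
        right_inv := fun x => funext fun i => i.elim0 }
    exact ⟨e, 1, fun i => i.elim0, fun i => i.elim0, fun i => i.elim0, habs⟩
  | succ t ih =>
    intro ι _ _ _ M hcomm habs hspan
    classical
    obtain ⟨d', k, e₀, P₀, A₀, hc⟩ := exists_tensor_first M hcomm habs 0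
    set ψ := embLeft hc.pos_right e₀ P₀ with hψ
    set φ := embRight hc.pos_left e₀ P₀ with hφ
    have hψeq : ∀ n ∈ M 0, ψ.toLin (A₀ n) = (n : Matrix ι ι F) := fun n hn =>
      coord_injective e₀ P₀ (by rw [hψ, coord_embLeft, hc.coord_eq n hn])
    have hL : M 0 ≤ ψ.gl.range := fun n hn => ψ.mem_range (hψeq n hn)
    haveI : Nonempty (Fin d') := ⟨⟨0, hc.pos_left⟩⟩
    haveI : Nonempty (Fin k) := ⟨⟨0, hc.pos_right⟩⟩
    have hA₀ : matrixSet ((M 0).comap ψ.gl) = A₀ '' (M 0 : Set (GL ι F)) := by
      ext x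
      constructor
      · rintro ⟨u, hu, rfl⟩
        exact ⟨ψ.gl u, hu, ψ.injective (hψeq _ hu)⟩
      · rintro ⟨n, hn, rfl⟩
        obtain ⟨u, rfl⟩ := hL hn
        exact ⟨u, hn, (ψ.injective (hψeq _ hn)).symm⟩
    have hd' : d' = d := by
      have h1 := ψ.finrank_span hL
      rw [hspan 0, span_eq_top (N := (M 0).comap ψ.gl) (by rw [hA₀]; exact hc.absIrred), finrank_top,
        Module.finrank_matrix] at h1
      simp at h1
      exact (Nat.mul_self_inj.1 h1).symm
    subst hd'
    have hR : ∀ j : Fin t, M j.succ ≤ φ.gl.range := by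
      intro j g hg
      obtain ⟨B, hB⟩ := hc.exists_right (M := (g : Matrix ι ι F)) ((Subalgebra.mem_centralizer_iff F).2 (by
        rintro _ ⟨x, hx, rfl⟩
        rw [← Units.val_mul, ← Units.val_mul, hcomm j.succ 0 (Fin.succ_ne_zero j) g hg x hx]))
      exact φ.mem_range hB
    let M' : Fin t → Subgroup (GL (Fin k) F) := fun j => (M j.succ).comap φ.gl
    have hmap : (⨆ j, M' j).map φ.gl = ⨆ j : Fin t, M j.succ := by
      rw [Subgroup.map_iSup]
      exact iSup_congr fun j => Subgroup.map_comap_eq_self (hR j)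
    have hcomm' : ∀ i j, i ≠ j → ∀ x ∈ M' i, ∀ y ∈ M' j, x * y = y * x := by
      intro i j hij x hx y hy
      refine φ.gl_injective ?_
      rw [map_mul, map_mul]
      exact hcomm _ _ (fun h => hij (Fin.succ_injective t h)) _ hx _ hy
    have habs' : ActsAbsolutelyIrreducibly (matrixSet (⨆ j, M' j)) := by
      have hM0 : ∀ Y, ∀ n ∈ M 0, φ.toLin Y * (n : Matrix ι ι F) = (n : Matrix ι ι F) * φ.toLin Y := by
        intro Y n hn
        refine coord_injective e₀ P₀ ?_
        rw [coord_mul, coord_mul, hφ, coord_embRight, hc.coord_eq n hn, ← Matrix.mul_kronecker_mul,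
          ← Matrix.mul_kronecker_mul, one_mul, mul_one, one_mul, mul_one]
      have hall : ∀ Q : Matrix ι ι F → Prop, Q 1 → (∀ a b, Q a → Q b → Q (a * b)) →
          (∀ n ∈ M 0, Q (n : Matrix ι ι F)) → (∀ j, ∀ u ∈ M' j, Q (φ.toLin (u : Matrix (Fin k) (Fin k) F))) →
          ∀ g ∈ ⨆ i, M i, Q (g : Matrix ι ι F) := by
        intro Q h1 hmul h0 hs g hg
        induction hg using Subgroup.iSup_induction' with
        | hp i g hg =>
          refine Fin.cases (motive := fun i => g ∈ M i → Q (g : Matrix ι ι F)) (fun h => h0 g h) (fun j h => ?_) i hg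
          obtain ⟨u, rfl⟩ := hR j h
          exact hs j u h
        | h1 => simpa using h1
        | hmul a b _ _ ha hb => rw [Units.val_mul]; exact hmul _ _ ha hb
      constructor
      · rw [actsIrreducibly_iff]
        intro W hW
        obtain ⟨W', hW'⟩ := W.exists_isCompl
        set p := LinearMap.toMatrix' (W.projection W' hW') with hp
        have hpv : ∀ v, p *ᵥ v = W.projection W' hW' v := fun v => by
          rw [← Matrix.toLin'_apply, hp, Matrix.toLin'_toMatrix']
        have hpW : ∀ v ∈ W, p *ᵥ v = v := fun v hv => by rw [hpv, Submodule.projection_apply_of_mem_left hW' hv]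
        have hpm : ∀ v, p *ᵥ v ∈ W := fun v => by rw [hpv]; exact Submodule.projection_apply_mem hW' v
        let U : Submodule F (ι → F) := LinearMap.range (Matrix.toLin' (φ.toLin p))
        have hQ : ∀ g ∈ ⨆ i, M i, (g : Matrix ι ι F) * φ.toLin p =
            φ.toLin p * ((g : Matrix ι ι F) * φ.toLin p) := by
          have hpp : p * p = p := Matrix.toLin'.injective (LinearMap.ext fun v => by
            rw [Matrix.toLin'_apply, Matrix.toLin'_apply, ← Matrix.mulVec_mulVec, hpW _ (hpm v)])
          refine hall (fun g => g * φ.toLin p = φ.toLin p * (g * φ.toLin p)) ?_ ?_ ?_ ?_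
          · rw [one_mul, ← φ.map_mul, hpp]
          · intro a b ha hb
            calc a * b * φ.toLin p = a * φ.toLin p * (b * φ.toLin p) := by conv_lhs => rw [mul_assoc, hb, ← mul_assoc]
              _ = φ.toLin p * (a * φ.toLin p) * (b * φ.toLin p) := by rw [← ha]
              _ = φ.toLin p * (a * (φ.toLin p * (b * φ.toLin p))) := by simp only [mul_assoc]
              _ = φ.toLin p * (a * b * φ.toLin p) := by rw [← hb, mul_assoc]
          · intro n hn
            rw [← hM0 p n hn, ← mul_assoc, ← φ.map_mul, hpp]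
          · intro j u hu
            rw [← φ.map_mul, ← φ.map_mul]
            congr 1
            refine Matrix.toLin'.injective (LinearMap.ext fun v => ?_)
            rw [Matrix.toLin'_apply, Matrix.toLin'_apply, ← Matrix.mulVec_mulVec, ← Matrix.mulVec_mulVec,
              ← Matrix.mulVec_mulVec, hpW ((u : Matrix (Fin k) (Fin k) F) *ᵥ (p *ᵥ v))
                (stable_matrixSet_iff.1 hW u (le_iSup M' j hu) _ (hpm v))]
        rcases actsIrreducibly_iff.1 habs.1 U (stable_matrixSet_iff.2 fun g hg v hv => by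
            obtain ⟨w, rfl⟩ := hv
            refine ⟨((g : Matrix ι ι F) * φ.toLin p) *ᵥ w, ?_⟩
            rw [Matrix.toLin'_apply, Matrix.toLin'_apply, Matrix.mulVec_mulVec, Matrix.mulVec_mulVec, ← hQ g hg]) with
          h | h
        · left
          have hp0 : p = 0 := φ.injective ((LinearEquiv.map_eq_zero_iff _).1 (LinearMap.range_eq_bot.1 h) |>.trans
            (map_zero φ.toLin).symm)
          rw [Submodule.eq_bot_iff]
          intro v hv
          rw [← hpW v hv, hp0, Matrix.zero_mulVec]
        · right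
          have hu : IsUnit (φ.toLin p) := by
            rw [Matrix.isUnit_iff_isUnit_det, isUnit_iff_ne_zero]
            intro h0
            obtain ⟨v, hv0, hv⟩ := Matrix.exists_mulVec_eq_zero_iff.2 h0
            exact hv0 (LinearMap.injective_iff_surjective.2 (LinearMap.range_eq_top.1 h)
              (by rw [Matrix.toLin'_apply, Matrix.toLin'_apply, hv, Matrix.mulVec_zero]))
          have h1 : φ.toLin p * φ.toLin p = φ.toLin p * 1 := by
            have := hQ 1 (one_mem _)
            rw [Units.val_one, one_mul] at this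
            rw [mul_one]; exact this.symm
          have hp1 : p = 1 := φ.injective ((hu.mul_right_inj.1 h1).trans φ.map_one.symm)
          rw [eq_top_iff]
          intro v _
          have := hpm v
          rwa [hp1, Matrix.one_mulVec] at this
      · intro Y hY
        obtain ⟨c, hcY⟩ := habs.2 (φ.toLin Y) (by
          rintro _ ⟨g, hg, rfl⟩
          refine hall (fun g => φ.toLin Y * g = g * φ.toLin Y) (by rw [mul_one, one_mul]) ?_ (hM0 Y) ?_ g hg
          · intro a b ha hb
            rw [← mul_assoc, ha, mul_assoc, hb, mul_assoc]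
          · intro j u hu
            rw [← φ.map_mul, ← φ.map_mul, hY _ (mem_matrixSet (le_iSup M' j hu))])
        exact ⟨c, φ.injective (by rw [hcY, map_smul, φ.map_one])⟩
    obtain ⟨e', P', A', hc'⟩ := ih M' hcomm' habs' fun j => by rw [← hspan j.succ, φ.finrank_span (hR j)]
    let f : Fin d' × Fin k ≃ (Fin (t + 1) → Fin d') :=
      ((Equiv.refl _).prodCongr e').trans (Fin.consEquiv fun _ => Fin d')
    have hf : ∀ x, f.symm x = (x 0, e'.symm (Fin.tail x)) := fun x => rfl
    let A : Fin (t + 1) → GL ι F → Matrix (Fin d') (Fin d') F :=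
      Fin.cases A₀ fun j g => A' j (Function.invFun φ.gl g)
    have hQ : ((φ.gl P')⁻¹ : GL ι F) = φ.gl P'⁻¹ := (map_inv _ _).symm
    refine ⟨e₀.trans f, φ.gl P' * P₀, A, ⟨?_, ?_, habs⟩⟩
    · intro i n hn
      revert hn
      refine Fin.cases (motive := fun i => n ∈ M i → coord (e₀.trans f) (φ.gl P' * P₀) (n : Matrix ι ι F) =
        factor i (A i n)) ?_ ?_ i
      · intro hn
        rw [coord_trans, coord_mul, coord_mul, hQ, φ.coe_gl, φ.coe_gl, hφ, coord_embRight, coord_embRight,
          hc.coord_eq n hn, ← Matrix.mul_kronecker_mul, ← Matrix.mul_kronecker_mul, one_mul, mul_one, mul_one,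
          Units.inv_mul]
        ext x y
        rw [Matrix.submatrix_apply, hf, hf, Matrix.kronecker_apply, factor_apply, Matrix.one_apply]
        simp only [EmbeddingLike.apply_eq_iff_eq, A, Fin.cases_zero]
        split_ifs with h1 h2 h2
        · rw [mul_one]
        · exact absurd (fun j hj => by
            obtain ⟨l, rfl⟩ := Fin.exists_succ_eq.2 hj
            exact congrFun h1 l) h2
        · exact absurd (funext fun l => h2 l.succ (Fin.succ_ne_zero l)) h1
        · rw [mul_zero]
      · intro j hn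
        obtain ⟨u, hu⟩ := hR j hn
        subst hu
        have hAu : A j.succ (φ.gl u) = A' j u := by
          show A' j (Function.invFun φ.gl (φ.gl u)) = A' j u
          rw [Function.leftInverse_invFun φ.gl_injective u]
        rw [coord_trans, coord_mul, coord_mul, hQ, φ.coe_gl, φ.coe_gl, φ.coe_gl, hφ, coord_embRight, coord_embRight,
          coord_embRight, ← Matrix.mul_kronecker_mul, ← Matrix.mul_kronecker_mul, one_mul, one_mul, hAu]
        ext x y
        have h2 := congrFun (congrFun (hc'.coord_eq j u hn) (Fin.tail x)) (Fin.tail y)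
        rw [coord, Matrix.submatrix_apply] at h2
        rw [Matrix.submatrix_apply, hf, hf, Matrix.kronecker_apply, h2, factor_apply, factor_apply, Matrix.one_apply]
        by_cases hx : x 0 = y 0
        · rw [if_pos hx, one_mul]
          refine if_congr ?_ rfl rfl
          constructor
          · intro h l hl
            refine Fin.cases (motive := fun l => l ≠ j.succ → x l = y l) (fun _ => hx)
              (fun l hl => h l fun e => hl (congrArg Fin.succ e)) l hl
          · exact fun h l hl => h l.succ fun e => hl (Fin.succ_injective t e)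
        · rw [if_neg hx, zero_mul, if_neg fun h => hx (h 0 (Fin.succ_ne_zero j).symm)]
    · intro i
      refine Fin.cases (motive := fun i => ActsIrreducibly (A i '' (M i : Set (GL ι F)))) ?_ ?_ i
      · exact hc.absIrred.1
      · intro j
        have : A j.succ '' (M j.succ : Set (GL ι F)) = A' j '' (M' j : Set (GL (Fin k) F)) := by
          ext x
          constructor
          · rintro ⟨n, hn, rfl⟩
            obtain ⟨u, rfl⟩ := hR j hn
            exact ⟨u, hn, congrArg (A' j) (Function.leftInverse_invFun φ.gl_injective u).symm⟩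
          · rintro ⟨u, hu, rfl⟩
            exact ⟨φ.gl u, hu, congrArg (A' j) (Function.leftInverse_invFun φ.gl_injective u)⟩
        rw [this]
        exact hc'.irred j

end CfsgLib.Geo.Asch
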