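/-
A field subalgebra of the matrix algebra contains one of prime degree, normalised by its whole normaliser.
-/
import Cfsg.Agent.Lib.Geo.FieldNormalizer

set_option autoImplicit false

namespace CfsgLib.Geo.Asch

open Matrix Cfsg.Geo

variable {ι : Type} [Fintype ι] [DecidableEq ι] {F : Type*} [Field F]

theorem exists_prime_subalgebra' [Fintype F] [Nonempty ι] {e : ℕ} {K : Subalgebra F (Matrix ι ι F)}
    (hK : IsFieldSubalgebra e K) (he : e ≠ 1) :
    ∃ (r : ℕ) (L : Subalgebra F (Matrix ι ι F)), r.Prime ∧ r ∣ e ∧ L ≤ K ∧ IsFieldSubalgebra r L ∧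
      subalgebraNormalizer K ≤ subalgebraNormalizer L ∧
      ∀ x, x ∈ L ↔ x ∈ K ∧ x ^ (Fintype.card F ^ r) = x := by
  classical
  haveI : Nontrivial (Matrix ι ι F) := inferInstance
  have hKf : IsField K :=
    { exists_pair_ne := ⟨0, 1, fun h => zero_ne_one (congrArg Subtype.val h)⟩
      mul_comm := fun a b => Subtype.ext (hK.comm _ a.2 _ b.2)
      mul_inv_cancel := fun {a} ha => by
        obtain ⟨y, hy, hy'⟩ := hK.inv a a.2 fun h => ha (Subtype.ext h)
        exact ⟨⟨y, hy⟩, Subtype.ext hy'⟩ }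
  letI : Field K := hKf.toField
  haveI : Finite K := inferInstance
  obtain ⟨p, hp⟩ := CharP.exists F
  haveI : Fact p.Prime := ⟨CharP.char_is_prime F p⟩
  haveI : CharP (Matrix ι ι F) p := Matrix.charP p
  obtain ⟨a, -, ha⟩ := FiniteField.card F p
  have he0 : 0 < e := hK.finrank_eq ▸ Module.finrank_pos
  obtain ⟨r, hr, hre⟩ := Nat.exists_prime_and_dvd he
  set q := Fintype.card F with hq
  set Q := q ^ r with hQ
  have hQp : Q = p ^ ((a : ℕ) * r) := by rw [hQ, ha, pow_mul]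
  have hq2 : 2 ≤ q := Fintype.one_lt_card
  have hQ1 : 1 < Q := Nat.one_lt_pow hr.ne_zero hq2
  have hscal : ∀ c : F, (algebraMap F (Matrix ι ι F) c) ^ Q = algebraMap F (Matrix ι ι F) c := fun c => by
    rw [← map_pow, hQ, FiniteField.pow_card_pow]
  let L : Subalgebra F (Matrix ι ι F) :=
    { carrier := {x | x ∈ K ∧ x ^ Q = x}
      mul_mem' := fun {x y} hx hy => ⟨K.mul_mem hx.1 hy.1, by
        rw [Commute.mul_pow (hK.comm x hx.1 y hy.1), hx.2, hy.2]⟩
      one_mem' := ⟨K.one_mem, one_pow _⟩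
      add_mem' := fun {x y} hx hy => ⟨K.add_mem hx.1 hy.1, by
        rw [hQp, add_pow_char_pow_of_commute _ _ (hK.comm x hx.1 y hy.1), ← hQp, hx.2, hy.2]⟩
      zero_mem' := ⟨K.zero_mem, zero_pow (by omega)⟩
      algebraMap_mem' := fun c => ⟨K.algebraMap_mem c, hscal c⟩ }
  have hmem : ∀ x, x ∈ L ↔ x ∈ K ∧ x ^ Q = x := fun x => Iff.rfl
  have hLK : L ≤ K := fun x hx => hx.1
  have hcardK : Nat.card K = q ^ e := by
    rw [Module.natCard_eq_pow_finrank (K := F), hK.finrank_eq, Nat.card_eq_fintype_card]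
  have hker : Nat.card (powMonoidHom (Q - 1) : Kˣ →* Kˣ).ker = Q - 1 := by
    rw [IsCyclic.card_powMonoidHom_ker, Nat.card_units, hcardK]
    obtain ⟨b, rfl⟩ := hre
    exact Nat.gcd_eq_right (by rw [pow_mul]; simpa only [one_pow] using Nat.sub_dvd_pow_sub_pow (q ^ r) 1 b)
  have hcardL : Nat.card L = q ^ r := by
    let φ : Option (powMonoidHom (Q - 1) : Kˣ →* Kˣ).ker → L := fun o => o.elim ⟨0, L.zero_mem⟩ fun u =>
      ⟨((u : Kˣ) : K), (hmem _).2 ⟨((u : Kˣ) : K).2, by
        have hu : ((u : Kˣ) : K) ^ Q = (u : Kˣ) := by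
          rw [show ((u : Kˣ) : K) ^ Q = ((u : Kˣ) : K) ^ (Q - 1 + 1) from
            congrArg (((u : Kˣ) : K) ^ ·) (Nat.sub_add_cancel hQ1.le).symm]
          rw [pow_succ, ← Units.val_pow_eq_pow_val, show (u : Kˣ) ^ (Q - 1) = 1 from u.2, Units.val_one, one_mul]
        exact congrArg Subtype.val hu⟩⟩
    have hφ : Function.Bijective φ := by
      constructor
      · rintro (_ | u) (_ | v) h
        · rfl
        · have h1 : (0 : Matrix ι ι F) = (((v : Kˣ) : K) : Matrix ι ι F) := congrArg Subtype.val h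
          exact absurd (Subtype.ext h1.symm) (v : Kˣ).ne_zero
        · have h1 : (((u : Kˣ) : K) : Matrix ι ι F) = 0 := congrArg Subtype.val h
          exact absurd (Subtype.ext h1) (u : Kˣ).ne_zero
        · have h1 : (((u : Kˣ) : K) : Matrix ι ι F) = (((v : Kˣ) : K) : Matrix ι ι F) := congrArg (fun z : L => (z : Matrix ι ι F)) h
          exact congrArg some (Subtype.ext (Units.ext (Subtype.ext h1)))
      · intro x
        by_cases h0 : (x : Matrix ι ι F) = 0
        · exact ⟨none, Subtype.ext h0.symm⟩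
        · obtain ⟨hxK, hxQ⟩ := (hmem _).1 x.2
          have hne : (⟨x, hxK⟩ : K) ≠ 0 := fun h => h0 (congrArg Subtype.val h)
          refine ⟨some ⟨Units.mk0 _ hne, Units.ext ?_⟩, rfl⟩
          show ((⟨x, hxK⟩ : K)) ^ (Q - 1) = 1
          refine mul_right_cancel₀ hne ?_
          rw [← pow_succ, show Q - 1 + 1 = Q by omega, one_mul]
          exact Subtype.ext hxQ
    rw [← Nat.card_eq_of_bijective φ hφ, Finite.card_option, hker]
    omega
  refine ⟨r, L, hr, hre, hLK, ⟨fun x hx y hy => hK.comm x (hLK hx) y (hLK hy),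
    fun x hx hx0 => CfsgLib.Geo.inv_mem_of_le K L hK.inv hK.comm hLK x hx hx0, ?_⟩, fun g hg k => ?_, hmem⟩
  · rw [Module.natCard_eq_pow_finrank (K := F), Nat.card_eq_fintype_card] at hcardL
    exact Nat.pow_right_injective hq2 hcardL
  · rw [hmem, hmem, Units.conj_pow]
    refine and_congr (hg k) ?_
    rw [IsUnit.mul_left_inj (Units.isUnit g⁻¹), IsUnit.mul_right_inj g.isUnit]

theorem exists_prime_subalgebra [Fintype F] [Nonempty ι] {e : ℕ} {K : Subalgebra F (Matrix ι ι F)}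
    (hK : IsFieldSubalgebra e K) (he : e ≠ 1) :
    ∃ (r : ℕ) (L : Subalgebra F (Matrix ι ι F)), r.Prime ∧ r ∣ e ∧ L ≤ K ∧ IsFieldSubalgebra r L ∧
      subalgebraNormalizer K ≤ subalgebraNormalizer L := by
  obtain ⟨r, L, hr, hre, hle, hL, hn, -⟩ := exists_prime_subalgebra' hK he
  exact ⟨r, L, hr, hre, hle, hL, hn⟩

end CfsgLib.Geo.Asch
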