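/-
Fixed forms by averaging, and their normal shape.
-/
import Cfsg.Agent.Lib.Geo.Asch.Forms

set_option autoImplicit false

namespace CfsgLib.Geo.Asch

open Matrix Cfsg.Geo

variable {ι : Type} [Fintype ι] [DecidableEq ι] {F : Type*} [Field F] {σ : F ≃+* F}

/-- A non-zero trace average gives a fixed non-degenerate form. -/
theorem exists_fixed_form {N : Subgroup (GL ι F)} [Fintype N] (hN : ActsIrreducibly (matrixSet N))
    (hT : ∑ x : N, ((x : GL ι F) : Matrix ι ι F).trace * σ ((x : GL ι F) : Matrix ι ι F).trace ≠ 0) :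
    ∃ f : (ι → F) → (ι → F) → F, IsSesqForm σ f ∧ IsNondegenerateForm f ∧ FixesForm (matrixSet N) f := by
  let g : ι → ι → (ι → F) → (ι → F) → F := fun a b u v =>
    ∑ x : N, (((x : GL ι F) : Matrix ι ι F) *ᵥ u) a * σ ((((x : GL ι F) : Matrix ι ι F) *ᵥ v) b)
  have hs : ∀ a b, IsSesqForm σ (g a b) := fun a b =>
    { add_left := fun x y v => by simp [g, Matrix.mulVec_add, add_mul, Finset.sum_add_distrib]
      smul_left := fun c x v => by simp [g, Matrix.mulVec_smul, Finset.mul_sum, mul_assoc]
      add_right := fun v x y => by simp [g, Matrix.mulVec_add, mul_add, Finset.sum_add_distrib]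
      smul_right := fun c v x => by
        simp only [g, Matrix.mulVec_smul, Pi.smul_apply, smul_eq_mul, map_mul, Finset.mul_sum]
        exact Finset.sum_congr rfl fun x _ => by ring }
  have hfix : ∀ a b, FixesForm (matrixSet N) (g a b) := by
    rintro a b _ ⟨n, hn, rfl⟩ u v
    simp only [g, Matrix.mulVec_mulVec]
    exact Fintype.sum_equiv (Equiv.mulRight (⟨n, hn⟩ : N)) _ _ fun x => by simp
  obtain ⟨a, b, u₀, v₀, hne⟩ : ∃ a b u v, g a b u v ≠ 0 := by
    by_contra! hall
    apply hT
    have : ∀ x : N, ((x : GL ι F) : Matrix ι ι F).trace * σ ((x : GL ι F) : Matrix ι ι F).trace =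
        ∑ a, ∑ b, (((x : GL ι F) : Matrix ι ι F) *ᵥ Pi.single a 1) a *
          σ ((((x : GL ι F) : Matrix ι ι F) *ᵥ Pi.single b 1) b) := fun x => by
      simp [Matrix.trace, Matrix.diag, map_sum, Finset.sum_mul_sum]
    rw [Finset.sum_congr rfl fun x _ => this x, Finset.sum_comm]
    refine Finset.sum_eq_zero fun a _ => ?_
    rw [Finset.sum_comm]
    exact Finset.sum_eq_zero fun b _ => hall a b (Pi.single a 1) (Pi.single b 1)
  set f := g a b with hf
  have hfs : IsSesqForm σ f := hs a b
  have hfixf : FixesForm (matrixSet N) f := hfix a b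
  refine ⟨f, hfs, fun v hv => ?_, hfixf⟩
  let Rl : Submodule F (ι → F) :=
    { carrier := {v | ∀ x, f v x = 0}
      add_mem' := fun {p q} hp hq x => by rw [hfs.add_left, hp, hq, add_zero]
      zero_mem' := fun x => hfs.map_zero_left x
      smul_mem' := fun c p hp x => by rw [hfs.smul_left, hp, mul_zero] }
  let Rr : Submodule F (ι → F) :=
    { carrier := {v | ∀ x, f x v = 0}
      add_mem' := fun {p q} hp hq x => by rw [hfs.add_right, hp, hq, add_zero]
      zero_mem' := fun x => hfs.map_zero_right x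
      smul_mem' := fun c p hp x => by rw [hfs.smul_right, hp, mul_zero] }
  have hl : Rl = ⊥ := by
    rcases actsIrreducibly_iff.1 hN Rl (stable_matrixSet_iff.2 fun n hn p hp x => by
        rw [← inv_mulVec_cancel n x, hfixf _ (mem_matrixSet hn)]
        exact hp _) with h | h
    · exact h
    · exact absurd ((h ▸ Submodule.mem_top : u₀ ∈ Rl) v₀) hne
  have hr : Rr = ⊥ := by
    rcases actsIrreducibly_iff.1 hN Rr (stable_matrixSet_iff.2 fun n hn p hp x => by
        rw [← inv_mulVec_cancel n x, hfixf _ (mem_matrixSet hn)]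
        exact hp _) with h | h
    · exact h
    · exact absurd ((h ▸ Submodule.mem_top : v₀ ∈ Rr) u₀) hne
  constructor
  · by_contra! hall
    exact hv ((Submodule.eq_bot_iff _).1 hr v hall)
  · by_contra! hall
    exact hv ((Submodule.eq_bot_iff _).1 hl v hall)

/-- The similarity classes containing the normaliser of an absolutely irreducible group with a fixed form. -/
def InFormClass (H N : Subgroup (GL ι F)) [Fintype F] : Prop :=
  (Odd (Fintype.card F) ∧ ∃ Q : (ι → F) → F, IsNondegenerateQuadraticForm Q ∧ FixesQuadForm (matrixSet N) Q ∧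
    H ≤ quadSimilarityGroup Q) ∨
  (∃ f : (ι → F) → (ι → F) → F, IsSymplecticForm f ∧ FixesForm (matrixSet N) f ∧ H ≤ similarityGroup f) ∨
  (∃ (σ : F ≃+* F) (f : (ι → F) → (ι → F) → F), IsUnitaryForm σ f ∧ FixesForm (matrixSet N) f ∧
    H ≤ similarityGroup f)

variable [Fintype F] [Nonempty ι] {H N : Subgroup (GL ι F)}

omit [Nonempty ι] in
theorem odd_card_iff_two_ne_zero : Odd (Fintype.card F) ↔ (2 : F) ≠ 0 := by
  constructor
  · intro hodd h
    obtain ⟨k, hk⟩ := hodd
    have h0 : (Fintype.card F : F) = 0 := Nat.cast_card_eq_zero F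
    rw [hk] at h0
    push_cast at h0
    rw [h, zero_mul, zero_add] at h0
    exact one_ne_zero h0
  · intro h2
    rw [Nat.odd_iff]
    exact FiniteField.odd_card_of_char_ne_two fun h => h2 (by
      have := CharP.cast_eq_zero F (ringChar F)
      rw [h] at this
      exact_mod_cast this)

/-- A fixed quadratic form. -/
theorem inFormClass_of_quad (hn : ∀ h ∈ H, ∀ x ∈ N, h * x * h⁻¹ ∈ N) (hN : ActsAbsolutelyIrreducibly (matrixSet N))
    {Q : (ι → F) → F} (hQ : IsNondegenerateQuadraticForm Q) (hfix : FixesQuadForm (matrixSet N) Q) :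
    InFormClass H N := by
  have hpfix : FixesForm (matrixSet N) (QuadraticMap.polar Q) := fun s hs u v => by
    simp only [QuadraticMap.polar, ← Matrix.mulVec_add, hfix s hs]
  have hsim := le_similarityGroup hn hN (isSesqForm_of_bilinear hQ.polar_bilinear) hQ.nondegenerate hpfix
  by_cases h2 : (2 : F) = 0
  · refine Or.inr (Or.inl ⟨_, ⟨hQ.polar_bilinear, fun u v => ?_, fun v => ?_, hQ.nondegenerate⟩, hpfix, hsim⟩)
    · rw [QuadraticMap.polar_comm, ← one_mul (- _), mul_neg, ← neg_mul,
        show (-1 : F) = 1 by linear_combination -h2, one_mul]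
    · rw [polar_self hQ.smul, h2, zero_mul]
  · refine Or.inl ⟨odd_card_iff_two_ne_zero.2 h2, Q, hQ, hfix, fun h hh => ?_⟩
    obtain ⟨c, hc⟩ := hsim hh
    refine ⟨c, fun v => mul_left_cancel₀ h2 ?_⟩
    have := hc v v
    rw [polar_self hQ.smul, polar_self hQ.smul] at this
    linear_combination this

/-- A fixed bilinear form is a multiple of a symmetric or an alternating one. -/
theorem inFormClass_of_bilinear (hn : ∀ h ∈ H, ∀ x ∈ N, h * x * h⁻¹ ∈ N)
    (hN : ActsAbsolutelyIrreducibly (matrixSet N)) {f : (ι → F) → (ι → F) → F}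
    (hf : IsSesqForm (RingEquiv.refl F) f) (hnd : IsNondegenerateForm f) (hfix : FixesForm (matrixSet N) f)
    (h2 : (2 : F) ≠ 0) : InFormClass H N := by
  have hb : IsBilinearForm f := ⟨hf.add_left, hf.smul_left, hf.add_right, hf.smul_right⟩
  have hg : IsSesqForm (RingEquiv.refl F) (fun u v => f v u) :=
    ⟨fun x y v => hb.add_right v x y, fun c x v => hb.smul_right c v x, fun v x y => hb.add_left x y v,
      fun c v x => hb.smul_left c x v⟩
  obtain ⟨c, hc⟩ := exists_smul_of_fixed hN hf hg hnd hfix fun s hs u v => hfix s hs v u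
  obtain ⟨v₀, hv₀⟩ := exists_ne (0 : ι → F)
  obtain ⟨x₀, hx₀⟩ := (hnd v₀ hv₀).2
  have hc2 : c * c = 1 := by
    refine mul_right_cancel₀ hx₀ ?_
    rw [mul_assoc, ← hc, ← hc, one_mul]
  rcases mul_self_eq_one_iff.1 hc2 with rfl | rfl
  · have hsymm : ∀ u v, f u v = f v u := fun u v => ((hc u v).trans (one_mul _)).symm
    have hpol : ∀ u v, QuadraticMap.polar (fun w => f w w / 2) u v = f u v := fun u v => by
      simp only [QuadraticMap.polar, hb.add_left, hb.add_right, hsymm v u]
      field_simp
      ring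
    have hpol' : QuadraticMap.polar (fun w => f w w / 2) = f := funext fun u => funext fun v => hpol u v
    refine inFormClass_of_quad hn hN (Q := fun w => f w w / 2)
      ⟨fun c v => by simp only [hb.smul_left, hb.smul_right]; ring, by rw [hpol']; exact hb, by rw [hpol']; exact hnd⟩ fun s hs v => ?_
    simp only [hfix s hs]
  · have hskew : ∀ u v, f u v = - f v u := fun u v => by rw [hc u v, neg_one_mul, neg_neg]
    refine Or.inr (Or.inl ⟨f, ⟨hb, hskew, fun v => ?_, hnd⟩, hfix, le_similarityGroup hn hN hf hnd hfix⟩)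
    have h := hskew v v
    have h' : (2 : F) * f v v = 0 := by linear_combination h
    exact (mul_eq_zero.1 h').resolve_left h2

/-- A fixed sesquilinear form is a multiple of a hermitian one. -/
theorem inFormClass_of_sesq (hn : ∀ h ∈ H, ∀ x ∈ N, h * x * h⁻¹ ∈ N)
    (hN : ActsAbsolutelyIrreducibly (matrixSet N)) (hne : σ ≠ RingEquiv.refl F) (hinv : ∀ a, σ (σ a) = a)
    {f : (ι → F) → (ι → F) → F} (hf : IsSesqForm σ f) (hnd : IsNondegenerateForm f)
    (hfix : FixesForm (matrixSet N) f) : InFormClass H N := by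
  have hg : IsSesqForm σ (fun u v => σ (f v u)) :=
    ⟨fun x y v => by simp only [hf.add_right, map_add], fun c x v => by simp only [hf.smul_right, map_mul, hinv],
      fun v x y => by simp only [hf.add_left, map_add], fun c v x => by simp only [hf.smul_left, map_mul]⟩
  obtain ⟨c, hc⟩ := exists_smul_of_fixed hN hf hg hnd hfix fun s hs u v => by simp only [hfix s hs]
  obtain ⟨v₀, hv₀⟩ := exists_ne (0 : ι → F)
  obtain ⟨x₀, hx₀⟩ := (hnd v₀ hv₀).2
  have hc1 : c * σ c = 1 := by
    refine mul_right_cancel₀ hx₀ ?_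
    have h1 := congrArg σ (hc x₀ v₀)
    rw [hinv, map_mul, hc v₀ x₀] at h1
    rw [one_mul]
    conv_rhs => rw [h1]
    ring
  obtain ⟨w, hw⟩ : ∃ w, w + c * σ w ≠ 0 := by
    by_contra! hall
    refine hne (RingEquiv.ext fun a => ?_)
    have h1 := hall 1
    rw [map_one, mul_one] at h1
    have h2 := hall a
    rw [show c = -1 by linear_combination h1] at h2
    show σ a = a
    linear_combination -h2
  set l := w + c * σ w with hl
  have hσl : σ l * c = l := by
    rw [hl, map_add, map_mul, hinv]
    linear_combination w * hc1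
  have hu : IsUnitaryForm σ (fun u v => l * f u v) :=
    { ne_refl := hne
      involutive := hinv
      add_left := fun x y v => by simp only [hf.add_left, mul_add]
      smul_left := fun a x v => by simp only [hf.smul_left]; ring
      herm := fun u v => by
        simp only [map_mul]
        rw [hc u v, ← mul_assoc, hσl]
      nondegenerate := fun v hv => by
        obtain ⟨⟨x, hx⟩, ⟨y, hy⟩⟩ := hnd v hv
        exact ⟨⟨x, mul_ne_zero hw hx⟩, ⟨y, mul_ne_zero hw hy⟩⟩ }
  have hfix' : FixesForm (matrixSet N) (fun u v => l * f u v) := fun s hs u v => by simp only [hfix s hs]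
  exact Or.inr (Or.inr ⟨σ, _, hu, hfix', le_similarityGroup hn hN (isSesqForm_of_unitary hu) hu.nondegenerate hfix'⟩)

end CfsgLib.Geo.Asch
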