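/-
A minimal normal subgroup that is abelian modulo scalars and absolutely irreducible is of symplectic type.
-/
import Cfsg.Agent.Lib.Geo.Asch.Span
import Cfsg.Agent.Lib.Geo.Asch.InvForm
import Cfsg.Agent.Lib.Geo.Asch.AbelianRealise

set_option autoImplicit false

namespace CfsgLib.Geo.Asch

open Matrix Cfsg.Geo
open scoped commutatorElement

section Group

variable {G : Type*} [Group G]

theorem pow_conj_rule {x y c : G} (hc : ∀ g, c * g = g * c) (h : y * x = c * (x * y)) (k : ℕ) :
    y ^ k * x = c ^ k * (x * y ^ k) := by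
  induction k with
  | zero => simp
  | succ k ih =>
    calc y ^ (k + 1) * x = y ^ k * (y * x) := by rw [pow_succ, mul_assoc]
      _ = (y ^ k * c) * (x * y) := by rw [h, mul_assoc]
      _ = c * (y ^ k * x) * y := by rw [← hc]; simp [mul_assoc]
      _ = c ^ (k + 1) * (x * y ^ (k + 1)) := by rw [ih, pow_succ' c, pow_succ y]; simp [mul_assoc]

theorem mul_pow_rule {x y c : G} (hc : ∀ g, c * g = g * c) (h : y * x = c * (x * y)) (k : ℕ) :
    (x * y) ^ k = c ^ (k.choose 2) * (x ^ k * y ^ k) := by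
  induction k with
  | zero => simp
  | succ k ih =>
    have hcc : ∀ g, c ^ k * g = g * c ^ k := fun g => (Commute.pow_left (hc g) k).eq
    calc (x * y) ^ (k + 1) = c ^ (k.choose 2) * (x ^ k * (y ^ k * x) * y) := by
          rw [pow_succ, ih]; simp [mul_assoc]
      _ = c ^ (k.choose 2) * ((x ^ k * c ^ k) * (x * y ^ k * y)) := by rw [pow_conj_rule hc h]; simp [mul_assoc]
      _ = c ^ (k.choose 2) * (c ^ k * (x ^ (k + 1) * y ^ (k + 1))) := by
          rw [← hcc, pow_succ x, pow_succ y]; simp [mul_assoc]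
      _ = _ := by rw [← mul_assoc, ← pow_add, Nat.choose_succ_succ' k 1, Nat.choose_one_right, add_comm]

end Group

variable {ι : Type} [Fintype ι] [DecidableEq ι] {F : Type*} [Field F]

/-- The setting: `N` is absolutely irreducible, minimal normal in `H` above the scalars, abelian modulo them. -/
structure ScalarComm' (H N : Subgroup (GL ι F)) : Prop where
  le : N ≤ H
  normal : ∀ h ∈ H, ∀ x ∈ N, h * x * h⁻¹ ∈ N
  min : ∀ L : Subgroup (GL ι F), L ≤ N → (∀ h ∈ H, ∀ x ∈ L, h * x * h⁻¹ ∈ L) → ¬ L ≤ scalars ι F → L = N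
  absIrred : ActsAbsolutelyIrreducibly (matrixSet N)
  comm : ⁅N, N⁆ ≤ scalars ι F

variable {H N : Subgroup (GL ι F)}

theorem ScalarComm'.char_le (h : ScalarComm' H N) (A : Subgroup N) [hA : A.Characteristic] :
    A.map N.subtype = N ∨ A.map N.subtype ≤ scalars ι F := by
  by_cases hs : A.map N.subtype ≤ scalars ι F
  · exact Or.inr hs
  refine Or.inl (h.min _ (Subgroup.map_subtype_le A) (fun g hg x hx => ?_) hs)
  obtain ⟨a, ha, rfl⟩ := hx
  let φ : N ≃* N :=
    { toFun := fun y => ⟨g * y * g⁻¹, h.normal g hg y y.2⟩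
      invFun := fun y => ⟨g⁻¹ * y * g, by simpa using h.normal g⁻¹ (H.inv_mem hg) y y.2⟩
      left_inv := fun y => Subtype.ext (by simp [mul_assoc])
      right_inv := fun y => Subtype.ext (by simp [mul_assoc])
      map_mul' := fun y z => Subtype.ext (by simp [mul_assoc]) }
  exact ⟨φ a, (Subgroup.characteristic_iff_map_le.1 hA φ) ⟨a, ha, rfl⟩, rfl⟩

theorem ScalarComm'.center_eq [Nonempty ι] (h : ScalarComm' H N) (z : N) :
    z ∈ Subgroup.center N ↔ (z : GL ι F) ∈ scalars ι F := by
  constructor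
  · intro hz
    refine mem_scalars_of_commute h.absIrred fun x hx => ?_
    exact (congrArg Subtype.val (Subgroup.mem_center_iff.1 hz ⟨x, hx⟩)).symm
  · exact fun hz => Subgroup.mem_center_iff.2 fun g => Subtype.ext (scalar_commute hz (g : GL ι F)).symm

theorem ScalarComm'.commutator_central [Nonempty ι] (h : ScalarComm' H N) (x y : N) :
    ∃ c : N, c ∈ Subgroup.center N ∧ y * x = c * (x * y) := by
  refine ⟨⁅y, x⁆, (h.center_eq _).2 ?_, by simp [commutatorElement_def, mul_assoc]⟩
  exact h.comm (Subgroup.commutator_mem_commutator y.2 x.2)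

variable [Fintype F]

/-- The structure of `N`: an `r`-group with centre of order `z` and order `z n²`. -/
theorem ScalarComm'.structure_thm (h : ScalarComm' H N) (hn : 2 ≤ Fintype.card ι) :
    ∃ r m z : ℕ, r.Prime ∧ (r : F) ≠ 0 ∧ 1 ≤ m ∧ Fintype.card ι = r ^ m ∧ IsSymplecticTypeGroup r N ∧
      Nat.card (Subgroup.center N) = z ∧ Nat.card N = z * Fintype.card ι ^ 2 ∧
      ((Odd r ∧ z = r) ∨ (r = 2 ∧ (z = 2 ∨ z = 4))) ∧
      (∀ x : N, x ^ (r * Nat.gcd 2 r) = 1) ∧
      (∀ x : N, x ∉ Subgroup.center N → ((x : GL ι F) : Matrix ι ι F).trace = 0) ∧ IsCyclic (Subgroup.center N) := by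
  classical
  haveI : Nonempty ι := Fintype.card_pos_iff.1 (by omega)
  haveI : Nontrivial ι := Fintype.one_lt_card_iff_nontrivial.1 hn
  haveI : Finite (GL ι F) := Finite.of_injective (fun g : GL ι F => (g : Matrix ι ι F)) Units.val_injective
  obtain ⟨x₀, hx₀, y₀, hy₀, hxy⟩ := not_abelian_of_absIrred h.absIrred
  have hZne : Subgroup.center N ≠ ⊤ := fun e => hxy (congrArg Subtype.val
    (Subgroup.mem_center_iff.1 (e ▸ Subgroup.mem_top (⟨y₀, hy₀⟩ : N)) ⟨x₀, hx₀⟩))
  haveI : Group.IsNilpotent N := by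
    letI : CommGroup (N ⧸ Subgroup.center N) :=
      { (inferInstance : Group (N ⧸ Subgroup.center N)) with
        mul_comm := fun a b => by
          obtain ⟨x, rfl⟩ := QuotientGroup.mk'_surjective _ a
          obtain ⟨y, rfl⟩ := QuotientGroup.mk'_surjective _ b
          obtain ⟨c, hc, e⟩ := h.commutator_central x y
          rw [← map_mul, ← map_mul, e, map_mul _ c, show QuotientGroup.mk' _ c = 1 from (QuotientGroup.eq_one_iff c).2 hc,
            one_mul] }
    exact isNilpotent_of_ker_le_center (QuotientGroup.mk' (Subgroup.center N)) (QuotientGroup.ker_mk' _).le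
  obtain ⟨r, hr, P, hP⟩ : ∃ r, ∃ _ : Fact r.Prime, ∃ P : Sylow r N, ¬ (P : Subgroup N) ≤ Subgroup.center N := by
    by_contra! hall
    apply hZne
    refine Subgroup.eq_top_of_card_eq _ (Nat.dvd_antisymm (Subgroup.card_subgroup_dvd_card _) ?_)
    rw [← Nat.factorization_le_iff_dvd Nat.card_pos.ne' Nat.card_pos.ne']
    intro p
    by_cases hp : p.Prime
    swap
    · simp [Nat.factorization_eq_zero_of_not_prime _ hp]
    obtain ⟨P⟩ : Nonempty (Sylow p N) := inferInstance
    haveI := Fact.mk hp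
    have h1 := Subgroup.card_dvd_of_le (hall p ⟨hp⟩ P)
    rw [Sylow.card_eq_multiplicity] at h1
    exact (hp.pow_dvd_iff_le_factorization Nat.card_pos.ne').1 h1
  haveI := hr
  have hP' : (P : Subgroup N) = ⊤ := by
    haveI : (P : Subgroup N).Characteristic := P.characteristic_of_normal inferInstance
    rcases h.char_le (P : Subgroup N) with e | e
    · exact Subgroup.map_injective N.subtype_injective (e.trans (by rw [← MonoidHom.range_eq_map, Subgroup.range_subtype]))
    · exact absurd (fun x hx => (h.center_eq x).2 (e ⟨x, hx, rfl⟩)) hP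
  have hpg : IsPGroup r N := by
    intro g
    obtain ⟨k, hk⟩ := P.isPGroup' ⟨g, show g ∈ (P : Subgroup N) from hP' ▸ Subgroup.mem_top g⟩
    exact ⟨k, congrArg Subtype.val hk⟩
  set Z := Subgroup.center N with hZ
  -- scalars of the central elements
  have hscal : ∀ z : N, z ∈ Subgroup.center N → ∃ c : F, ((z : GL ι F) : Matrix ι ι F) = c • 1 := fun z hz =>
    let ⟨c, hc⟩ := (mem_scalars_iff _).1 ((h.center_eq z).1 hz)
    ⟨c, hc⟩
  choose sc hsc using hscal
  let ψ : Subgroup.center N →* F :=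
    { toFun := fun z => sc z z.2
      map_one' := smul_left_injective F (one_ne_zero (α := Matrix ι ι F)) (by
        show sc (1 : Subgroup.center N) _ • (1 : Matrix ι ι F) = (1 : F) • 1
        rw [← hsc, one_smul]; rfl)
      map_mul' := fun a b => smul_left_injective F (one_ne_zero (α := Matrix ι ι F)) (by
        show sc (a * b : Subgroup.center N) _ • (1 : Matrix ι ι F) = (sc a a.2 * sc b b.2) • 1
        rw [← hsc, mul_smul, ← hsc b.1 b.2, ← one_mul ((b.1 : GL ι F) : Matrix ι ι F), ← Matrix.smul_mul,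
          ← hsc a.1 a.2]
        rfl) }
  have hψ : Function.Injective ψ := fun a b e => Subtype.ext (Subtype.ext (Units.ext (by
    rw [hsc a.1 a.2, hsc b.1 b.2, show sc a.1 a.2 = sc b.1 b.2 from e])))
  have hcyc : IsCyclic (Subgroup.center N) := isCyclic_of_injective_ringHom ψ hψ
  have hrF : (r : F) ≠ 0 := by
    intro hr0
    haveI : CharP F r := (CharP.charP_iff_prime_eq_zero hr.out).2 hr0
    apply hZne
    rw [eq_top_iff]
    intro y _
    rw [Subgroup.mem_center_iff]
    intro x
    obtain ⟨c, hc, e⟩ := h.commutator_central x y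
    obtain ⟨k, hk⟩ := hpg c
    have h1 : ψ ⟨c, hc⟩ ^ r ^ k = 1 := by
      rw [← map_pow, show (⟨c, hc⟩ : Subgroup.center N) ^ r ^ k = 1 from Subtype.ext hk, map_one]
    have h2 : ψ ⟨c, hc⟩ = 1 := by
      have h3 : iterateFrobenius F r k (ψ ⟨c, hc⟩) = iterateFrobenius F r k 1 := by
        rw [iterateFrobenius_def, iterateFrobenius_def, h1, one_pow]
      exact (iterateFrobenius F r k).injective h3
    have hc1 : (⟨c, hc⟩ : Subgroup.center N) = 1 := hψ (h2.trans (map_one ψ).symm)
    rw [e, show c = 1 from congrArg Subtype.val hc1, one_mul]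
  -- r-th powers are central
  have hpow : ∀ x : N, x ^ r ∈ Subgroup.center N := by
    let L : Subgroup N := Subgroup.closure (Set.range fun x : N => x ^ r)
    haveI : L.Characteristic := by
      rw [Subgroup.characteristic_iff_map_le]
      intro φ
      rw [MonoidHom.map_closure, Subgroup.closure_le]
      rintro _ ⟨_, ⟨x, rfl⟩, rfl⟩
      exact Subgroup.subset_closure ⟨φ x, (map_pow φ x r).symm⟩
    rcases h.char_le L with e | e
    swap
    · exact fun x => (h.center_eq _).2 (e ⟨x ^ r, Subgroup.subset_closure ⟨x, rfl⟩, rfl⟩)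
    exfalso
    obtain ⟨a, ha⟩ := IsPGroup.iff_card.1 hpg
    have hL : L = ⊤ := Subgroup.map_injective N.subtype_injective
      (e.trans (by rw [← MonoidHom.range_eq_map, Subgroup.range_subtype]))
    have ha0 : a ≠ 0 := by
      rintro rfl
      haveI := (Nat.card_eq_one_iff_unique.1 (ha.trans (pow_zero r))).1
      exact hxy (congrArg Subtype.val (Subsingleton.elim ((⟨x₀, hx₀⟩ : N) * ⟨y₀, hy₀⟩) (⟨y₀, hy₀⟩ * ⟨x₀, hx₀⟩)))
    obtain ⟨M, hM⟩ := Sylow.exists_subgroup_card_pow_prime (G := N) r (n := a - 1) (by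
      rw [ha]; exact pow_dvd_pow r (Nat.sub_le a 1))
    have hidx : M.index = r := by
      have h1 := M.card_mul_index
      rw [hM, ha] at h1
      refine Nat.eq_of_mul_eq_mul_left (pow_pos hr.out.pos (a - 1)) (h1.trans ?_)
      rw [← pow_succ, Nat.sub_add_cancel (Nat.pos_of_ne_zero ha0)]
    haveI : M.Normal := Subgroup.normal_of_index_eq_minFac_card (by rw [hidx, ha, Nat.Prime.pow_minFac hr.out ha0])
    have hLM : L ≤ M := by
      rw [Subgroup.closure_le]
      rintro _ ⟨x, rfl⟩
      show x ^ r ∈ M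
      rw [← hidx]
      exact M.pow_index_mem x
    rw [hL, top_le_iff] at hLM
    rw [hLM, Subgroup.index_top] at hidx
    exact hr.out.ne_one hidx.symm
  have hcr : ∀ x y c : N, c ∈ Subgroup.center N → y * x = c * (x * y) → c ^ r = 1 := by
    intro x y c hc e
    have h1 := pow_conj_rule (fun g => (Subgroup.mem_center_iff.1 hc g).symm) e r
    rw [← Subgroup.mem_center_iff.1 (hpow y) x] at h1
    exact mul_eq_right.1 h1.symm
  have htr : ∀ x : N, x ∉ Subgroup.center N → ((x : GL ι F) : Matrix ι ι F).trace = 0 := by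
    intro x hx
    obtain ⟨y, hy⟩ : ∃ y, y * x ≠ x * y := by
      by_contra! hall
      exact hx (Subgroup.mem_center_iff.2 hall)
    obtain ⟨c, hc, e⟩ := h.commutator_central x y
    have hne : sc c hc ≠ 1 := fun e1 => hy (by
      have : (⟨c, hc⟩ : Subgroup.center N) = 1 := hψ ((show ψ ⟨c, hc⟩ = 1 from e1).trans (map_one ψ).symm)
      rw [e, show c = 1 from congrArg Subtype.val this, one_mul])
    have e2 : y * x * y⁻¹ = c * x := by rw [e]; simp [mul_assoc]
    have h1 := congrArg (fun g : N => ((g : GL ι F) : Matrix ι ι F).trace) e2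
    simp only [Subgroup.coe_mul, Subgroup.coe_inv, Units.val_mul] at h1
    rw [Matrix.trace_units_conj, hsc c hc, Matrix.smul_mul, one_mul, Matrix.trace_smul, smul_eq_mul] at h1
    by_contra h0
    exact hne (mul_right_cancel₀ h0 (h1.symm.trans (one_mul _).symm))
  -- counting
  haveI := Fintype.ofFinite (N ⧸ Z)
  let v : N ⧸ Z → Matrix ι ι F := fun q => (((q.out : N) : GL ι F) : Matrix ι ι F)
  have hspan : ⊤ ≤ Submodule.span F (Set.range v) := by
    rw [← span_eq_top h.absIrred, Submodule.span_le]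
    rintro _ ⟨g, hg, rfl⟩
    set q : N ⧸ Z := ((⟨g, hg⟩ : N) : N ⧸ Z) with hq
    have hmem : (q.out)⁻¹ * ⟨g, hg⟩ ∈ Z := QuotientGroup.eq.1 (q.out_eq.trans hq)
    have e : (g : Matrix ι ι F) = sc _ hmem • v q := by
      have e' : (g : Matrix ι ι F) = v q * ((((q.out)⁻¹ * ⟨g, hg⟩ : N) : GL ι F) : Matrix ι ι F) := by
        simp [v, ← Units.val_mul]
      exact e'.trans (by rw [hsc _ hmem, Matrix.mul_smul, mul_one])
    show (g : Matrix ι ι F) ∈ _
    rw [e]
    exact Submodule.smul_mem _ _ (Submodule.subset_span ⟨q, rfl⟩)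
  have hnF : (Fintype.card ι : F) ≠ 0 := by
    intro h0
    obtain ⟨i⟩ := (inferInstance : Nonempty ι)
    have hle : Submodule.span F (Set.range v) ≤ LinearMap.ker (Matrix.traceLinearMap ι F F) := by
      rw [Submodule.span_le]
      rintro _ ⟨q, rfl⟩
      show (v q).trace = 0
      by_cases hq : q.out ∈ Z
      · simp only [v]
        rw [hsc _ hq, Matrix.trace_smul, Matrix.trace_one, h0, smul_zero]
      · exact htr _ hq
    have := hle (hspan (Submodule.mem_top (x := Matrix.single i i (1 : F))))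
    simp at this
  have hli : LinearIndependent F v := by
    rw [Fintype.linearIndependent_iff]
    intro g hg q
    have h1 := congrArg (fun M => ((((q.out : N) : GL ι F)⁻¹ : GL ι F) : Matrix ι ι F) * M) hg
    simp only [Finset.mul_sum, Matrix.mul_smul, mul_zero] at h1
    have h2 := congrArg Matrix.trace h1
    rw [Matrix.trace_sum, Matrix.trace_zero, Finset.sum_eq_single q] at h2
    · simp only [v] at h2
      rw [Units.inv_mul, Matrix.trace_smul, Matrix.trace_one, smul_eq_mul] at h2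
      exact (mul_eq_zero.1 h2).resolve_right hnF
    · intro p _ hp
      have hne : (q.out)⁻¹ * p.out ∉ Z := fun hm => hp (by
        rw [← QuotientGroup.out_eq' p, ← QuotientGroup.out_eq' q]
        exact (QuotientGroup.eq.2 hm).symm)
      have := htr _ hne
      simp only [v, ← Units.val_mul, Matrix.trace_smul]
      rw [show (((q.out : N) : GL ι F))⁻¹ * ((p.out : N) : GL ι F) = (((q.out)⁻¹ * p.out : N) : GL ι F) from rfl,
        this, smul_zero]
    · simp
  have hcardQ : Fintype.card (N ⧸ Z) = Fintype.card ι ^ 2 := by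
    have hb := Module.Basis.mk hli hspan
    have h1 := Module.finrank_eq_card_basis hb
    rw [Module.finrank_matrix] at h1
    simp at h1
    rw [← h1]; ring
  have hN : Nat.card N = Nat.card Z * Fintype.card ι ^ 2 := by
    rw [Subgroup.card_eq_card_quotient_mul_card_subgroup Z, Nat.card_eq_fintype_card (α := N ⧸ Z), hcardQ, mul_comm]
  obtain ⟨a, ha⟩ := IsPGroup.iff_card.1 hpg
  obtain ⟨m, -, hm⟩ := (Nat.dvd_prime_pow hr.out).1 (show Fintype.card ι ∣ r ^ a from
    ha ▸ hN ▸ (dvd_pow_self _ two_ne_zero).mul_left _)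
  have hm1 : 1 ≤ m := by
    rcases Nat.eq_zero_or_pos m with rfl | hm1
    · rw [pow_zero] at hm; omega
    · exact hm1
  obtain ⟨c, -, hzc⟩ := (Nat.dvd_prime_pow hr.out).1 (ha ▸ Subgroup.card_subgroup_dvd_card Z)
  obtain ⟨c₀, hc₀, hce⟩ := h.commutator_central ⟨x₀, hx₀⟩ ⟨y₀, hy₀⟩
  have hc₀1 : c₀ ≠ 1 := fun e => hxy (congrArg Subtype.val (by rw [hce, e, one_mul] :
    (⟨y₀, hy₀⟩ : N) * ⟨x₀, hx₀⟩ = ⟨x₀, hx₀⟩ * ⟨y₀, hy₀⟩)).symm
  have hcpos : 1 ≤ c := by
    rcases Nat.eq_zero_or_pos c with rfl | h1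
    · haveI := (Nat.card_eq_one_iff_unique.1 (hzc.trans (pow_zero r))).1
      exact absurd (congrArg Subtype.val (Subsingleton.elim (⟨c₀, hc₀⟩ : Z) 1)) hc₀1
    · exact h1
  -- the exponent
  set e := r * Nat.gcd 2 r with he
  have hre : r ∣ e := dvd_mul_right _ _
  have hre2 : r ∣ e.choose 2 := by
    rcases hr.out.eq_two_or_odd' with rfl | hodd
    · simp [he]; decide
    · have h2 : Nat.gcd 2 r = 1 := Nat.coprime_two_left.2 hodd
      rw [he, h2, mul_one, Nat.choose_two_right]
      obtain ⟨k, hk⟩ := hodd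
      exact ⟨k, by rw [hk, Nat.add_sub_cancel, ← mul_assoc, mul_comm _ 2, mul_assoc, Nat.mul_div_cancel_left _ two_pos]⟩
  let Φ : N →* Z :=
    { toFun := fun x => ⟨x ^ e, by obtain ⟨k, hk⟩ := hre; rw [hk, pow_mul]; exact Z.pow_mem (hpow x) k⟩
      map_one' := Subtype.ext (one_pow e)
      map_mul' := fun x y => Subtype.ext (by
        obtain ⟨c, hc, hc'⟩ := h.commutator_central x y
        obtain ⟨k, hk⟩ := hre2
        show (x * y) ^ e = x ^ e * y ^ e
        rw [mul_pow_rule (fun g => (Subgroup.mem_center_iff.1 hc g).symm) hc', hk, pow_mul, hcr x y c hc hc', one_pow,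
          one_mul]) }
  haveI : Φ.ker.Characteristic := by
    rw [Subgroup.characteristic_iff_map_le]
    rintro φ _ ⟨x, hx, rfl⟩
    have hx' : x ^ e = 1 := congrArg Subtype.val hx
    exact Subtype.ext (show (φ x) ^ e = 1 by rw [← map_pow, hx', map_one])
  have hexp : ∀ x : N, x ^ e = 1 := by
    rcases h.char_le Φ.ker with e' | e'
    · intro x
      obtain ⟨y, hy, hyx⟩ := e'.ge x.2
      exact congrArg Subtype.val ((show y = x from Subtype.ext hyx) ▸ hy)
    exfalso
    have hsmall : Nat.card Φ.ker ≤ e := by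
      have hle : Φ.ker ≤ Z := fun x hx => (h.center_eq x).2 (e' ⟨x, hx, rfl⟩)
      haveI : IsCyclic Φ.ker := isCyclic_of_injective (Subgroup.inclusion hle) (Subgroup.inclusion_injective hle)
      obtain ⟨g, hg⟩ := IsCyclic.exists_generator (α := Φ.ker)
      rw [← orderOf_eq_card_of_forall_mem_zpowers hg]
      exact Nat.le_of_dvd (Nat.mul_pos hr.out.pos (Nat.gcd_pos_of_pos_left _ two_pos))
        (orderOf_dvd_of_pow_eq_one (Subtype.ext (show ((g ^ e : Φ.ker) : N) = 1 from congrArg Subtype.val (show Φ (g : N) = 1 from g.2))))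
    have hmul : Nat.card N = Nat.card Φ.ker * Nat.card Φ.range := by
      rw [← Φ.ker.card_mul_index, Subgroup.index_ker]
    have hmb : r ^ 2 ≤ Fintype.card ι ^ 2 := Nat.pow_le_pow_left (hm ▸ Nat.le_self_pow (by omega) r) 2
    rcases hr.out.eq_two_or_odd' with rfl | hodd
    · have he4 : e = 4 := by simp [he]
      -- the range consists of squares of central elements
      letI : CommGroup Z :=
        { (inferInstance : Group Z) with
          mul_comm := fun a b => Subtype.ext (Subgroup.mem_center_iff.1 b.2 a) }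
      let sq : Z →* Z := powMonoidHom 2
      have hrange : Φ.range ≤ sq.range := by
        rintro _ ⟨x, rfl⟩
        refine ⟨⟨x ^ 2, hpow x⟩, Subtype.ext ?_⟩
        show (x ^ 2) ^ 2 = x ^ e
        rw [← pow_mul, he4]
      have hker2 : 2 ≤ Nat.card sq.ker := by
        have h1 : (⟨c₀, hc₀⟩ : Z) ∈ sq.ker := Subtype.ext (hcr _ _ _ hc₀ hce)
        have : Nontrivial sq.ker := ⟨⟨⟨_, h1⟩, 1, fun e0 => hc₀1 (congrArg (fun q : sq.ker => ((q : Z) : N)) e0)⟩⟩
        exact Finite.one_lt_card
      have hmul2 : Nat.card Z = Nat.card sq.ker * Nat.card sq.range := by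
        rw [← sq.ker.card_mul_index, Subgroup.index_ker]
      have hR := Nat.le_of_dvd Nat.card_pos (Subgroup.card_dvd_of_le hrange)
      have hR0 : 0 < Nat.card Φ.range := Nat.card_pos
      have h3 : 2 * Nat.card Φ.range ≤ Nat.card Z := hmul2 ▸ Nat.mul_le_mul hker2 hR
      rw [hN] at hmul
      rw [he4] at hsmall
      have h4 := Nat.mul_le_mul_right (Nat.card Φ.range) hsmall
      have h6 : 0 < Nat.card (Subgroup.center N) := Nat.card_pos
      have h5 := Nat.mul_le_mul_left (Nat.card (Subgroup.center N)) hmb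
      nlinarith
    · have he1 : e = r := by rw [he, Nat.coprime_two_left.2 hodd, mul_one]
      have hR : Nat.card Φ.range ≤ Nat.card Z := Subgroup.card_le_card_group _
      rw [hN] at hmul
      rw [he1] at hsmall
      have hr3 : 2 ≤ r := hr.out.two_le
      have hZpos : 0 < Nat.card Z := Nat.card_pos
      nlinarith [Nat.mul_le_mul hsmall hR, Nat.mul_le_mul_left (Nat.card Z) hmb, Nat.mul_le_mul_left (Nat.card Z * r) hr3, Nat.mul_pos hZpos hr.out.pos]
  have hZe : Nat.card Z ∣ e := by
    rw [← IsCyclic.exponent_eq_card (α := Z)]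
    exact Monoid.exponent_dvd_of_forall_pow_eq_one fun z => Subtype.ext (hexp z)
  have hzcase : (Odd r ∧ Nat.card Z = r) ∨ (r = 2 ∧ (Nat.card Z = 2 ∨ Nat.card Z = 4)) := by
    rcases hr.out.eq_two_or_odd' with rfl | hodd
    · refine Or.inr ⟨rfl, ?_⟩
      rw [show e = 2 ^ 2 by simp [he], hzc] at hZe
      have h2 := (Nat.pow_dvd_pow_iff_le_right one_lt_two).1 hZe
      rw [hzc]
      interval_cases c <;> simp
    · refine Or.inl ⟨hodd, ?_⟩
      rw [show e = r ^ 1 by rw [he, Nat.coprime_two_left.2 hodd, mul_one, pow_one], hzc] at hZe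
      have h2 := (Nat.pow_dvd_pow_iff_le_right hr.out.one_lt).1 hZe
      rw [hzc, le_antisymm h2 hcpos, pow_one]
  have hst : IsSymplecticTypeGroup r N := by
    refine ⟨hr.out, hpg, fun A hA hAc => ?_, ?_⟩
    · rcases h.char_le A with e' | e'
      · refine absurd ?_ hxy
        obtain ⟨a, ha, ea⟩ := e'.ge hx₀
        obtain ⟨b, hb, eb⟩ := e'.ge hy₀
        rw [← ea, ← eb]
        exact congrArg (fun t : A => ((t : N) : GL ι F)) (hAc.is_comm.comm ⟨a, ha⟩ ⟨b, hb⟩)
      · have hle : A ≤ Z := fun x hx => (h.center_eq x).2 (e' ⟨x, hx, rfl⟩)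
        exact isCyclic_of_injective (Subgroup.inclusion hle) (Subgroup.inclusion_injective hle)
    · refine Nat.dvd_antisymm (Monoid.exponent_dvd_of_forall_pow_eq_one hexp) ?_
      rcases hr.out.eq_two_or_odd' with rfl | hodd
      · obtain ⟨k, hk, hk'⟩ := (Nat.dvd_prime_pow Nat.prime_two).1
          (show Monoid.exponent N ∣ 2 ^ 2 from Monoid.exponent_dvd_of_forall_pow_eq_one (by simpa [he] using hexp))
        have h2 : ¬ Monoid.exponent N ∣ 2 := fun hd => hxy (congrArg Subtype.val
          (show (⟨x₀, hx₀⟩ : N) * ⟨y₀, hy₀⟩ = ⟨y₀, hy₀⟩ * ⟨x₀, hx₀⟩ by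
            have hsq : ∀ g : N, g * g = 1 := fun g => by
              rw [← pow_two]; exact Monoid.exponent_dvd_iff_forall_pow_eq_one.1 hd g
            calc (⟨x₀, hx₀⟩ : N) * ⟨y₀, hy₀⟩ = (⟨x₀, hx₀⟩ * ⟨y₀, hy₀⟩)⁻¹ := (inv_eq_of_mul_eq_one_right (hsq _)).symm
              _ = _ := by
                rw [_root_.mul_inv_rev, inv_eq_of_mul_eq_one_right (hsq _), inv_eq_of_mul_eq_one_right (hsq _)]))
        rcases (by omega : k = 0 ∨ k = 1 ∨ k = 2) with rfl | rfl | rfl
        · exact absurd (hk' ▸ one_dvd 2) h2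
        · exact absurd (hk' ▸ dvd_rfl) h2
        · rw [hk']; simp
      · rw [Nat.coprime_two_left.2 hodd, mul_one]
        obtain ⟨k, hk, hk'⟩ := (Nat.dvd_prime_pow hr.out).1
          (show Monoid.exponent N ∣ r ^ 1 from Monoid.exponent_dvd_of_forall_pow_eq_one
            (by simpa [he, Nat.coprime_two_left.2 hodd] using hexp))
        rcases Nat.eq_zero_or_pos k with rfl | hk0
        · refine absurd (congrArg Subtype.val (show (⟨x₀, hx₀⟩ : N) * ⟨y₀, hy₀⟩ = ⟨y₀, hy₀⟩ * ⟨x₀, hx₀⟩ from ?_)) hxy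
          rw [← pow_one (⟨x₀, hx₀⟩ : N), show (⟨x₀, hx₀⟩ : N) ^ 1 = 1 from
            (pow_zero r ▸ hk') ▸ Monoid.pow_exponent_eq_one (⟨x₀, hx₀⟩ : N)]
          simp
        · rw [hk']; exact dvd_pow_self r (by omega)
  exact ⟨r, m, Nat.card Z, hr.out, hrF, hm1, hm, hst, rfl, hN, hzcase, hexp, htr, hcyc⟩

end CfsgLib.Geo.Asch
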