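/-
Symplectic-type groups: the field of the centre, fixed forms, and the class-6 data.
-/
import Cfsg.Agent.Lib.Geo.Asch.SympGroup

set_option autoImplicit false

namespace CfsgLib.Geo.Asch

open Matrix Cfsg.Geo
open scoped commutatorElement

variable {ι : Type} [Fintype ι] [DecidableEq ι] {F : Type*} [Field F] [Fintype F] {H N : Subgroup (GL ι F)}

/-- A maximal abelian subgroup of a group of class two has small index. -/
theorem ScalarComm'.exists_abelian [Nonempty ι] (h : ScalarComm' H N) {z : ℕ}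
    (hZ : Nat.card (Subgroup.center N) = z)
    (hcard : Nat.card N = z * Fintype.card ι ^ 2) :
    ∃ A : Subgroup (GL ι F), A ≤ N ∧ (∀ x ∈ A, ∀ y ∈ A, x * y = y * x) ∧
      Nat.card N ≤ Fintype.card ι * Nat.card A := by
  classical
  haveI : Finite (GL ι F) := Finite.of_injective (fun g : GL ι F => (g : Matrix ι ι F)) Units.val_injective
  haveI : Finite (Subgroup N) := Finite.of_injective (fun K => (K : Set N)) SetLike.coe_injective
  obtain ⟨A, ⟨hZA, hAab⟩, hmax⟩ := wellFounded_gt.has_min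
    {A : Subgroup N | Subgroup.center N ≤ A ∧ ∀ x ∈ A, ∀ y ∈ A, x * y = y * x}
    ⟨Subgroup.center N, le_rfl, fun x hx y _ => (Subgroup.mem_center_iff.1 hx y).symm⟩
  have hcent : ∀ g : N, (∀ a ∈ A, g * a = a * g) → g ∈ A := by
    intro g hg
    by_contra hgA
    refine hmax (Subgroup.closure (insert g (A : Set N))) ⟨fun x hx => Subgroup.subset_closure (Or.inr (hZA hx)), ?_⟩ ?_
    · intro x hx y hy
      induction hx, hy using Subgroup.closure_induction₂ with
      | mem x y hx hy =>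
        rcases hx with rfl | hx <;> rcases hy with rfl | hy
        · rfl
        · exact hg y hy
        · exact (hg x hx).symm
        · exact hAab x hx y hy
      | one_left x _ => simp
      | one_right x _ => simp
      | mul_left x y z _ _ _ h1 h2 => exact (Commute.mul_left h1 h2).eq
      | mul_right x y z _ _ _ h1 h2 => exact (Commute.mul_right h1 h2).eq
      | inv_left x y _ _ h1 => exact (Commute.inv_left h1).eq
      | inv_right x y _ _ h1 => exact (Commute.inv_right h1).eq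
    · exact lt_of_le_of_ne (fun x hx => Subgroup.subset_closure (Or.inr hx))
        fun e => hgA (e ▸ Subgroup.subset_closure (Or.inl rfl))
  have hscal : ∀ c : N, c ∈ Subgroup.center N → ∃ l : F, ((c : GL ι F) : Matrix ι ι F) = l • 1 := fun c hc =>
    let ⟨l, hl⟩ := (mem_scalars_iff _).1 ((h.center_eq c).1 hc)
    ⟨l, hl⟩
  choose sc hsc using hscal
  -- the pairing N × A → F
  have hc : ∀ g a : N, g * a * g⁻¹ * a⁻¹ ∈ Subgroup.center N := fun g a =>
    (h.center_eq _).2 (h.comm (Subgroup.commutator_mem_commutator g.2 a.2))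
  set ZA := (Subgroup.center N).subgroupOf A with hZAdef
  let χ : N → A → F := fun g a => sc _ (hc g a)
  have hχmul : ∀ g a b, χ g (a * b) = χ g a * χ g b := by
    intro g a b
    refine smul_left_injective F (one_ne_zero (α := Matrix ι ι F)) ?_
    show sc _ (hc g (a * b : A)) • (1 : Matrix ι ι F) = (sc _ (hc g a) * sc _ (hc g b)) • 1
    rw [mul_smul, ← hsc _ (hc g (a * b : A)), ← hsc _ (hc g b)]
    refine Eq.trans ?_ (smul_one_mul (sc _ (hc g a)) _)
    rw [← hsc _ (hc g a), ← Units.val_mul]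
    congr 1
    rw [← Subgroup.coe_mul, Subgroup.coe_mul A]
    congr 1
    have hz := Subgroup.mem_center_iff.1 (hc g b) (a : N)⁻¹
    calc g * ((a : N) * b) * g⁻¹ * ((a : N) * b)⁻¹
        = g * a * g⁻¹ * ((g * b * g⁻¹ * (b : N)⁻¹) * (a : N)⁻¹) := by group
      _ = g * a * g⁻¹ * ((a : N)⁻¹ * (g * b * g⁻¹ * (b : N)⁻¹)) := by rw [hz]
      _ = _ := by group
  have hχone : ∀ g, χ g 1 = 1 := fun g => smul_left_injective F (one_ne_zero (α := Matrix ι ι F)) (by
    show sc _ (hc g (1 : A)) • (1 : Matrix ι ι F) = (1 : F) • 1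
    rw [← hsc, one_smul]
    simp)
  let φ : N → (A →* F) := fun g => ⟨⟨χ g, hχone g⟩, hχmul g⟩
  have hφZ : ∀ g, ∀ a ∈ ZA, φ g a = 1 := by
    intro g a ha
    refine smul_left_injective F (one_ne_zero (α := Matrix ι ι F)) ?_
    show sc _ (hc g a) • (1 : Matrix ι ι F) = (1 : F) • 1
    rw [← hsc, one_smul, show g * (a : N) * g⁻¹ * (a : N)⁻¹ = 1 by
      rw [Subgroup.mem_center_iff.1 (show (a : N) ∈ Subgroup.center N from ha) g, mul_inv_cancel_right, mul_inv_cancel]]
    rfl
  haveI := Fintype.ofFinite (A ⧸ ZA)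
  let lift : N → (A ⧸ ZA) → F := fun g q => φ g q.out
  have hsame : ∀ g g', lift g = lift g' → g'⁻¹ * g ∈ A := by
    intro g g' he
    refine hcent _ fun a ha => ?_
    have hval : ∀ g, φ g ⟨a, ha⟩ = lift g (⟨a, ha⟩ : A) := by
      intro g
      set q : A ⧸ ZA := ((⟨a, ha⟩ : A) : A ⧸ ZA) with hq
      have hm : (q.out)⁻¹ * ⟨a, ha⟩ ∈ ZA := QuotientGroup.eq.1 (q.out_eq.trans hq)
      conv_lhs => rw [show (⟨a, ha⟩ : A) = q.out * ((q.out)⁻¹ * ⟨a, ha⟩) by simp, map_mul, hφZ g _ hm, mul_one]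
    have e : sc _ (hc g a) = sc _ (hc g' a) := by
      show φ g ⟨a, ha⟩ = φ g' ⟨a, ha⟩
      rw [hval g, hval g', he]
    have e2 : g * a * g⁻¹ * a⁻¹ = g' * a * g'⁻¹ * a⁻¹ := Subtype.ext (Units.ext (by
      rw [hsc _ (hc g a), hsc _ (hc g' a), e]))
    have e3 := mul_right_cancel e2
    calc g'⁻¹ * g * a = g'⁻¹ * (g * a * g⁻¹) * g := by group
      _ = g'⁻¹ * (g' * a * g'⁻¹) * g := by rw [e3]
      _ = a * (g'⁻¹ * g) := by group
  haveI := Fintype.ofFinite (N ⧸ A)
  let L : N ⧸ A → (A ⧸ ZA) → F := fun p => lift p.out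
  have hLinj : Function.Injective L := fun p p' he => by
    have := hsame _ _ he
    rw [← QuotientGroup.out_eq' p, ← QuotientGroup.out_eq' p']
    exact (QuotientGroup.eq.2 this).symm
  have hLli : LinearIndependent F L := by
    rw [Fintype.linearIndependent_iff]
    intro co hco p
    let ev : (N ⧸ A) → (A →* F) := fun p => φ p.out
    have hev : Function.Injective ev := fun p p' he => hLinj (funext fun q => DFunLike.congr_fun he q.out)
    have hl := (linearIndependent_monoidHom A F).comp ev hev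
    rw [Fintype.linearIndependent_iff] at hl
    refine hl co (funext fun a => ?_) p
    set q : A ⧸ ZA := (a : A ⧸ ZA) with hq
    have hm : (q.out)⁻¹ * a ∈ ZA := QuotientGroup.eq.1 (q.out_eq.trans hq)
    have h1 := congrFun hco q
    simp only [Finset.sum_apply, Pi.smul_apply, smul_eq_mul, Pi.zero_apply, Function.comp_apply] at h1 ⊢
    rw [← h1]
    refine Finset.sum_congr rfl fun p _ => ?_
    show co p * ev p a = co p * lift p.out q
    conv_lhs => rw [show a = q.out * ((q.out)⁻¹ * a) by simp, show ev p = φ p.out from rfl, map_mul, hφZ _ _ hm,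
      mul_one]
  have hbound : Nat.card (N ⧸ A) ≤ Nat.card (A ⧸ ZA) := by
    have := hLli.fintype_card_le_finrank
    rw [Module.finrank_pi] at this
    rwa [Nat.card_eq_fintype_card, Nat.card_eq_fintype_card]
  refine ⟨A.map N.subtype, Subgroup.map_subtype_le A, ?_, ?_⟩
  · rintro _ ⟨x, hx, rfl⟩ _ ⟨y, hy, rfl⟩
    exact congrArg Subtype.val (hAab x hx y hy)
  rw [Subgroup.card_map_of_injective N.subtype_injective]
  have h1 := Subgroup.card_eq_card_quotient_mul_card_subgroup A
  have h2 := Subgroup.card_eq_card_quotient_mul_card_subgroup ZA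
  rw [hZAdef, Nat.card_congr (Subgroup.subgroupOfEquivOfLe hZA).toEquiv, hZ, ← hZAdef] at h2
  have hz0 : 0 < z := hZ ▸ Nat.card_pos
  have h3 : Nat.card N * z ≤ Nat.card A * Nat.card A := by
    rw [h1, mul_right_comm]
    exact Nat.mul_le_mul_right _ (h2 ▸ Nat.mul_le_mul_right z hbound)
  rw [hcard] at h3 ⊢
  have h4 : z * Fintype.card ι ≤ Nat.card A := by nlinarith
  calc z * Fintype.card ι ^ 2 = Fintype.card ι * (z * Fintype.card ι) := by ring
    _ ≤ _ := Nat.mul_le_mul_left _ h4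

/-- The trace average of a symplectic-type group is non-zero when `σ` inverts the centre. -/
theorem ScalarComm'.sum_trace_ne_zero [Nonempty ι] (h : ScalarComm' H N) {σ : F ≃+* F} [Fintype N]
    (hn : (Fintype.card ι : F) ≠ 0) (hZ : (Nat.card (Subgroup.center N) : F) ≠ 0)
    (htr : ∀ x : N, x ∉ Subgroup.center N → ((x : GL ι F) : Matrix ι ι F).trace = 0)
    (hσ : ∀ c : F, (∃ x : N, x ∈ Subgroup.center N ∧ ((x : GL ι F) : Matrix ι ι F) = c • 1) → c * σ c = 1) :
    ∑ x : N, ((x : GL ι F) : Matrix ι ι F).trace * σ ((x : GL ι F) : Matrix ι ι F).trace ≠ 0 := by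
  classical
  have h1 : ∀ x : N, ((x : GL ι F) : Matrix ι ι F).trace * σ ((x : GL ι F) : Matrix ι ι F).trace =
      if x ∈ Subgroup.center N then (Fintype.card ι : F) * Fintype.card ι else 0 := by
    intro x
    split_ifs with hx
    · obtain ⟨c, hc⟩ := (mem_scalars_iff _).1 ((h.center_eq x).1 hx)
      rw [hc, Matrix.trace_smul, Matrix.trace_one, smul_eq_mul, map_mul, map_natCast, mul_mul_mul_comm,
        hσ c ⟨x, hx, hc⟩, one_mul]
    · rw [htr x hx, zero_mul]
  rw [Finset.sum_congr rfl fun x _ => h1 x, ← Finset.sum_filter, Finset.sum_const, nsmul_eq_mul,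
    show ((Finset.univ.filter fun x : N => x ∈ Subgroup.center N).card : ℕ) = Nat.card (Subgroup.center N) by
      rw [← Fintype.card_subtype, Nat.card_eq_fintype_card]]
  exact mul_ne_zero hZ (mul_ne_zero hn hn)

/-- The symplectic-type case of the linear dichotomy. -/
theorem symp_cases (h : ScalarComm' H N) (hn : 3 ≤ Fintype.card ι)
    (hreal : ∀ F₀ : Subfield F, F₀ ≠ ⊤ → ¬ RealisableOver F₀ (matrixSet N)) :
    InFormClass H N ∨ ∃ r, IsLinearSymplecticTypeData r N := by
  classical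
  haveI : Nonempty ι := Fintype.card_pos_iff.1 (by omega)
  haveI : Finite (GL ι F) := Finite.of_injective (fun g : GL ι F => (g : Matrix ι ι F)) Units.val_injective
  haveI := Fintype.ofFinite N
  obtain ⟨r, m, z, hr, hrF, hm1, hm, hst, hZ, hcard, hz, hexp, htr, hcyc⟩ := h.structure_thm (by omega)
  have hnF : (Fintype.card ι : F) ≠ 0 := by rw [hm, Nat.cast_pow]; exact pow_ne_zero _ hrF
  obtain ⟨k, hk⟩ : ∃ k, z = r ^ k := by
    rcases hz with ⟨-, rfl⟩ | ⟨rfl, rfl | rfl⟩
    exacts [⟨1, (pow_one z).symm⟩, ⟨1, rfl⟩, ⟨2, rfl⟩]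
  have hzF : (z : F) ≠ 0 := by rw [hk, Nat.cast_pow]; exact pow_ne_zero _ hrF
  obtain ⟨g, hg⟩ := hcyc.exists_generator
  obtain ⟨c₀, hc₀⟩ := (mem_scalars_iff _).1 ((h.center_eq g.1).1 g.2)
  set ζ := (c₀ : F) with hζ
  have hpow : ∀ j : ℕ, (((g ^ j : Subgroup.center N) : N) : GL ι F).val = ζ ^ j • (1 : Matrix ι ι F) := fun j => by
    rw [SubmonoidClass.coe_pow, SubmonoidClass.coe_pow, Units.val_pow_eq_pow_val, hc₀, smul_pow, one_pow]
  have hord : orderOf g = z := by rw [orderOf_eq_card_of_forall_mem_zpowers hg, hZ]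
  have hprim : IsPrimitiveRoot ζ z := by
    rw [IsPrimitiveRoot.iff_def]
    have key : ∀ j : ℕ, g ^ j = 1 ↔ ζ ^ j = 1 := by
      intro j
      constructor
      · intro e
        have h1 := hpow j
        rw [e] at h1
        exact smul_left_injective F (one_ne_zero (α := Matrix ι ι F)) (by simpa using h1.symm)
      · intro e
        refine Subtype.ext (Subtype.ext (Units.ext ?_))
        rw [hpow j, e, one_smul]
        rfl
    exact ⟨(key z).1 (hord ▸ pow_orderOf_eq_one g), fun l hl => hord ▸ orderOf_dvd_of_pow_eq_one ((key l).2 hl)⟩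
  have hcent : ∀ c : F, (∃ x : N, x ∈ Subgroup.center N ∧ ((x : GL ι F) : Matrix ι ι F) = c • 1) →
      ∃ j : ℕ, c = ζ ^ j := by
    rintro c ⟨x, hx, hxc⟩
    obtain ⟨j, hj⟩ := (isOfFinOrder_of_finite g).mem_powers_iff_mem_zpowers.2 (hg ⟨x, hx⟩)
    refine ⟨j, smul_left_injective F (one_ne_zero (α := Matrix ι ι F)) (hxc.symm.trans ?_)⟩
    have e : ((g ^ j : Subgroup.center N) : N) = x := congrArg Subtype.val hj
    rw [← e]
    exact hpow j
  -- centre of order two: a bilinear form
  by_cases hz2 : z = 2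
  · left
    have h2F : (2 : F) ≠ 0 := by rw [hz2] at hzF; exact_mod_cast hzF
    obtain ⟨f, hf, hnd, hfix⟩ := exists_fixed_form (σ := RingEquiv.refl F) h.absIrred.1
      (h.sum_trace_ne_zero hnF (hZ.symm ▸ hzF) htr fun c hc => by
        obtain ⟨j, rfl⟩ := hcent c hc
        rw [RingEquiv.refl_apply, ← pow_add, ← two_mul, pow_mul, ← hz2, hprim.pow_eq_one, one_pow])
    exact inFormClass_of_bilinear h.normal h.absIrred hf hnd hfix h2F
  obtain ⟨p, hp⟩ := CharP.exists F
  haveI : Fact p.Prime := ⟨CharP.char_is_prime F p⟩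
  obtain ⟨e, -, he⟩ := FiniteField.card F p
  have hrp : r ≠ p := fun e' => hrF (e' ▸ CharP.cast_eq_zero F p)
  have hzdvd : z ∣ p ^ (e : ℕ) - 1 := by
    rw [← he]
    exact hprim.dvd_of_pow_eq_one _ (FiniteField.pow_card_sub_one_eq_one _ (hprim.ne_zero (by rw [hk]; exact pow_ne_zero _ hr.ne_zero)))
  -- realisability forces the field to be minimal
  have hminimal : ∀ d : ℕ, 0 < d → d < e → ¬ z ∣ p ^ d - 1 := by
    intro d hd hde hdvd
    let φ : F →+* F := iterateFrobenius F p d
    let F₀ : Subfield F := RingHom.eqLocusField φ (RingHom.id F)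
    have hmem : ∀ x, x ∈ F₀ ↔ x ^ p ^ d = x := fun x => Iff.rfl
    have hζ₀ : ζ ∈ F₀ := by
      rw [hmem]
      obtain ⟨l, hl⟩ := hdvd
      calc ζ ^ p ^ d = ζ ^ (z * l + 1) := by rw [← hl, Nat.sub_add_cancel (Nat.one_le_pow _ _ (Fact.out (p := p.Prime)).pos)]
        _ = ζ := by rw [pow_succ, pow_mul, hprim.pow_eq_one, one_pow, one_mul]
    have hne : F₀ ≠ ⊤ := by
      intro htop
      obtain ⟨u, hu⟩ := IsCyclic.exists_generator (α := Fˣ)
      have h1 : (u : F) ^ p ^ d = u := (hmem _).1 (htop ▸ Subfield.mem_top _)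
      have h2 : u ^ (p ^ d - 1) = 1 := Units.ext (mul_right_cancel₀ u.ne_zero (by
        rw [Units.val_pow_eq_pow_val, ← pow_succ, Nat.sub_add_cancel (Nat.one_le_pow _ _ (Fact.out (p := p.Prime)).pos),
          Units.val_one, one_mul, h1]))
      have h3 := orderOf_dvd_of_pow_eq_one h2
      rw [orderOf_eq_card_of_forall_mem_zpowers hu, Nat.card_units, Nat.card_eq_fintype_card, he] at h3
      have h4 : p ^ d < p ^ (e : ℕ) := Nat.pow_lt_pow_right (Fact.out (p := p.Prime)).one_lt hde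
      have h5 : 1 < p ^ d := Nat.one_lt_pow hd.ne' (Fact.out (p := p.Prime)).one_lt
      have h6 := Nat.le_of_dvd (by omega) h3
      omega
    refine hreal F₀ hne ?_
    obtain ⟨A, hAN, hAab, hidx⟩ := h.exists_abelian hZ hcard
    refine realisable_of_abelian h.absIrred.1 hAN hAab hzF (fun x hx => ?_) hprim hζ₀ hidx
    have hx' := congrArg Subtype.val (hexp ⟨x, hAN hx⟩)
    rcases hz with ⟨hodd, rfl⟩ | ⟨rfl, rfl | rfl⟩
    · rw [Nat.coprime_two_left.2 hodd, mul_one] at hx'
      exact hx'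
    · exact absurd rfl hz2
    · simpa using hx'
  have hmin : IsMinimalFieldFor (Nat.card (Subgroup.center N)) p e F := by
    rw [hZ]
    exact ⟨Fact.out, hp, he, hzdvd, hminimal⟩
  have hp4 : z = 4 → p % 2 = 1 := fun h4 => by
    rcases (Fact.out (p := p.Prime)).eq_two_or_odd with rfl | hodd
    · rw [h4] at hzF
      exact absurd (by rw [show (4 : ℕ) = 2 * 2 by norm_num, Nat.cast_mul, CharP.cast_eq_zero, zero_mul]) hzF
    · exact hodd
  by_cases hev : Even (e : ℕ)
  · left
    obtain ⟨b, hb⟩ := hev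
    have hb0 : 0 < b := by have := e.pos; omega
    let σ : F ≃+* F := RingEquiv.ofBijective (iterateFrobenius F p b)
      ⟨(iterateFrobenius F p b).injective, Finite.injective_iff_surjective.1 (iterateFrobenius F p b).injective⟩
    have hσ : ∀ x, σ x = x ^ p ^ b := fun x => rfl
    have hinv : ∀ x, σ (σ x) = x := fun x => by
      rw [hσ, hσ, ← pow_mul, ← pow_add, ← hb, ← he, FiniteField.pow_card]
    set a := p ^ b with ha
    have ha1 : 1 ≤ a := Nat.one_le_pow _ _ (Fact.out (p := p.Prime)).pos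
    have hna : ¬ z ∣ a - 1 := hminimal b hb0 (by omega)
    have hza : z ∣ a + 1 := by
      have haa : z ∣ a * a - 1 := by rwa [ha, ← pow_add, ← hb]
      rcases hz with ⟨-, rfl⟩ | ⟨rfl, rfl | rfl⟩
      · have e' : a * a - 1 = (a + 1) * (a - 1) := by
          have := Nat.sq_sub_sq a 1
          simpa [pow_two] using this
        rw [e'] at haa
        exact (hr.dvd_mul.1 haa).resolve_right hna
      · exact absurd rfl hz2
      · have hodd : a % 2 = 1 := by
          rw [ha, Nat.pow_mod, hp4 rfl, one_pow, Nat.one_mod]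
        omega
    have hne : σ ≠ RingEquiv.refl F := fun e' => hna (hprim.dvd_of_pow_eq_one _ (by
      have h1 : ζ ^ a = ζ := (hσ ζ).symm.trans (by rw [e']; rfl)
      refine mul_right_cancel₀ (hprim.ne_zero (by rw [hk]; exact pow_ne_zero _ hr.ne_zero)) ?_
      rw [← pow_succ, Nat.sub_add_cancel ha1, one_mul, h1]))
    obtain ⟨f, hf, hnd, hfix⟩ := exists_fixed_form (σ := σ) h.absIrred.1
      (h.sum_trace_ne_zero hnF (hZ.symm ▸ hzF) htr fun c hc => by
        obtain ⟨j, rfl⟩ := hcent c hc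
        obtain ⟨l, hl⟩ := hza
        rw [map_pow, ← mul_pow, hσ, ← pow_succ', hl, pow_mul, hprim.pow_eq_one, one_pow, one_pow])
    exact inFormClass_of_sesq h.normal h.absIrred hne hinv hf hnd hfix
  right
  refine ⟨r, hst, h.absIrred, p, e, hrp, hmin, ?_⟩
  rcases hz with ⟨hodd, rfl⟩ | ⟨rfl, rfl | rfl⟩
  · refine Or.inl ⟨hodd, Nat.not_even_iff_odd.1 hev, hZ, m, hm1, ?_⟩
    rw [hcard, hm, ← pow_mul, ← pow_succ']
    ring_nf
  · exact absurd rfl hz2
  · have he1 : (e : ℕ) = 1 := by
      by_contra he1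
      have h3 : 2 < (e : ℕ) := by
        have := e.pos
        rcases Nat.not_even_iff_odd.1 hev with ⟨t, ht⟩
        omega
      refine hminimal 2 two_pos h3 ?_
      have hodd := hp4 rfl
      obtain ⟨t, rfl⟩ : ∃ t, p = 2 * t + 1 := ⟨p / 2, by omega⟩
      exact ⟨t * t + t, by rw [show (2 * t + 1) ^ 2 = 4 * (t * t + t) + 1 by ring, Nat.add_sub_cancel]⟩
    refine Or.inr (Or.inl ⟨rfl, he1, hZ, ?_, m, ?_⟩)
    · rw [hm] at hn ⊢
      rcases Nat.lt_or_ge m 2 with h' | h'
      · interval_cases m; norm_num at hn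
      · calc 4 = 2 ^ 2 := rfl
          _ ≤ 2 ^ m := Nat.pow_le_pow_right two_pos h'
    · rw [hcard, hm, ← pow_mul, pow_add, mul_comm m 2]
      norm_num

end CfsgLib.Geo.Asch
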