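/-
The dichotomy for absolutely irreducible groups in arbitrary dimension.
-/
import Cfsg.Agent.Lib.Geo.Asch.Components
import Cfsg.Agent.Lib.Geo.Asch.FactorExist
import Cfsg.Agent.Lib.Geo.Asch.FieldSub
import Cfsg.Agent.Lib.Geo.Asch.SympField

set_option autoImplicit false

namespace CfsgLib.Geo.Asch

open Matrix Cfsg.Geo
open scoped commutatorElement

variable {ι : Type} [Fintype ι] [DecidableEq ι] {F : Type*} [Field F]

/-- Conjugation does not change the dimension of the spanned algebra. -/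
theorem finrank_span_conj (M : Subgroup (GL ι F)) (h : GL ι F) :
    Module.finrank F (Submodule.span F (matrixSet (M.map (MulAut.conj h).toMonoidHom))) =
      Module.finrank F (Submodule.span F (matrixSet M)) := by
  let c : Matrix ι ι F →ₗ[F] Matrix ι ι F :=
    { toFun := fun X => (h : Matrix ι ι F) * X * ((h⁻¹ : GL ι F) : Matrix ι ι F)
      map_add' := fun X Y => by rw [mul_add, add_mul]
      map_smul' := fun a X => by rw [Matrix.mul_smul, Matrix.smul_mul, RingHom.id_apply] }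
  have hc : Function.Injective c := fun X Y e =>
    (IsUnit.mul_right_inj h.isUnit).1 ((IsUnit.mul_left_inj (Units.isUnit h⁻¹)).1 e)
  have e : matrixSet (M.map (MulAut.conj h).toMonoidHom) = c '' matrixSet M := by
    ext x
    constructor
    · rintro ⟨_, ⟨m, hm, rfl⟩, rfl⟩
      exact ⟨_, ⟨m, hm, rfl⟩, rfl⟩
    · rintro ⟨_, ⟨m, hm, rfl⟩, rfl⟩
      exact ⟨_, ⟨m, hm, rfl⟩, rfl⟩
  rw [e, ← Submodule.map_span]
  exact (LinearEquiv.finrank_eq (Submodule.equivMapOfInjective c hc _)).symm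

/-- Several components give a tensor-wreath structure. -/
theorem exists_tensorWreath [Finite F] [Nonempty ι] {H N : Subgroup (GL ι F)} (hN : ActsAbsolutelyIrreducibly (matrixSet N))
    {t : ℕ} {M : Fin t → Subgroup (GL ι F)} (hM : IsComponents (scalars ι F) H N M) :
    ∃ (d : ℕ) (e : ι ≃ (Fin t → Fin d)) (P : GL ι F) (A : Fin t → GL ι F → Matrix (Fin d) (Fin d) F),
      2 ≤ d ∧ FactorCoords d M e P A ∧ H ≤ tensorWreathSubgroup d t e P := by
  have ht : 0 < t := lt_of_lt_of_le two_pos hM.two_le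
  have habs : ActsAbsolutelyIrreducibly (matrixSet (⨆ i, M i)) := hM.iSup_eq.symm ▸ hN
  obtain ⟨d, k, e₀, P₀, A₀, hc⟩ := exists_tensor_first M hM.commute habs ⟨0, ht⟩
  have hd2 := hc.two_le (hM.not_le _)
  haveI : Nonempty (Fin d) := ⟨⟨0, hc.pos_left⟩⟩
  set ψ := embLeft hc.pos_right e₀ P₀ with hψ
  have hψeq : ∀ n ∈ M ⟨0, ht⟩, ψ.toLin (A₀ n) = (n : Matrix ι ι F) := fun n hn =>
    coord_injective e₀ P₀ (by rw [hψ, coord_embLeft, hc.coord_eq n hn])
  have hL : M ⟨0, ht⟩ ≤ ψ.gl.range := fun n hn => ψ.mem_range (hψeq n hn)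
  have hA₀ : matrixSet ((M ⟨0, ht⟩).comap ψ.gl) = A₀ '' (M ⟨0, ht⟩ : Set (GL ι F)) := by
    ext x
    constructor
    · rintro ⟨u, hu, rfl⟩
      exact ⟨ψ.gl u, hu, ψ.injective (hψeq _ hu)⟩
    · rintro ⟨n, hn, rfl⟩
      obtain ⟨u, rfl⟩ := hL hn
      exact ⟨u, hn, (ψ.injective (hψeq _ hn)).symm⟩
  have hspan : ∀ i, Module.finrank F (Submodule.span F (matrixSet (M i))) = d * d := by
    intro i
    obtain ⟨h, -, hh⟩ := hM.transitive ⟨0, ht⟩ i
    rw [← hh, finrank_span_conj, ψ.finrank_span hL,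
      span_eq_top (N := (M ⟨0, ht⟩).comap ψ.gl) (by rw [hA₀]; exact hc.absIrred), finrank_top, Module.finrank_matrix]
    simp
  obtain ⟨e, P, A, hF⟩ := exists_factorCoords (d := d) hc.pos_left t M hM.commute habs hspan
  refine ⟨d, e, P, A, hd2, hF, fun h hh => ?_⟩
  obtain ⟨π, hπ⟩ := hM.permuted h hh
  exact hF.mem_tensorWreath hc.pos_left ht π fun i n hn => (hπ i).le ⟨n, hn, rfl⟩

/-- The residual core from simplicity modulo scalars. -/
theorem isResidualCore_of_simple [Nontrivial ι] {H N : Subgroup (GL ι F)} (hNH : N ≤ H)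
    (hnH : ∀ h ∈ H, ∀ x ∈ N, h * x * h⁻¹ ∈ N)
    (hsimple : ∀ L : Subgroup (GL ι F), L ≤ N → (∀ x ∈ N, ∀ y ∈ L, x * y * x⁻¹ ∈ L) → ¬ L ≤ scalars ι F → L = N)
    (hN : ActsAbsolutelyIrreducibly (matrixSet N)) (hperf : ⁅N, N⁆ = N)
    (hsub : ∀ F₀ : Subfield F, F₀ ≠ ⊤ → ¬ RealisableOver F₀ (matrixSet N)) : IsResidualCore H N := by
  have hNs : ¬ N ≤ scalars ι F := fun hle => by
    obtain ⟨x, hx, y, hy, hxy⟩ := not_abelian_of_absIrred hN
    exact hxy (scalar_commute (hle hx) y)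
  have hne : (scalars ι F).subgroupOf N ≠ ⊤ := fun h => hNs (Subgroup.subgroupOf_eq_top.1 h)
  refine ⟨hNH, hnH, hperf, ?_, ?_, fun h hh hc =>
    mem_scalars_of_commute hN (commute_of_perfect scalars_le_center hperf hc), hN, hsub⟩
  · haveI : Nontrivial (N ⧸ (scalars ι F).subgroupOf N) := QuotientGroup.nontrivial_iff.2 hne
    refine ⟨fun L hL => ?_⟩
    set π := QuotientGroup.mk' ((scalars ι F).subgroupOf N)
    have hLc : (L.comap π).Normal := hL.comap π
    let K := (L.comap π).map N.subtype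
    have hKN : K ≤ N := Subgroup.map_subtype_le _
    have hKn : ∀ x ∈ N, ∀ y ∈ K, x * y * x⁻¹ ∈ K := by
      rintro x hx _ ⟨y, hy, rfl⟩
      exact ⟨⟨x, hx⟩ * y * ⟨x, hx⟩⁻¹, hLc.conj_mem y hy _, rfl⟩
    by_cases hK : K ≤ scalars ι F
    · left
      rw [eq_bot_iff]
      intro q hq
      obtain ⟨n, rfl⟩ := QuotientGroup.mk'_surjective _ q
      exact Subgroup.mem_bot.2 ((QuotientGroup.eq_one_iff _).2 (hK ⟨n, hq, rfl⟩))
    · right
      rw [eq_top_iff]
      intro q _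
      obtain ⟨n, rfl⟩ := QuotientGroup.mk'_surjective _ q
      obtain ⟨n', hn', e⟩ := (hsimple K hKN hKn hK).ge n.2
      rw [show n = n' from Subtype.ext e.symm]
      exact hn'
  · intro hc
    refine hNs ?_
    rw [← hperf, Subgroup.commutator_le]
    intro a ha b hb
    have e := hc.is_comm.comm (QuotientGroup.mk' _ (⟨a, ha⟩ : N)) (QuotientGroup.mk' _ (⟨b, hb⟩ : N))
    rw [← commutatorElement_eq_one_iff_mul_comm, ← map_commutatorElement] at e
    have := (QuotientGroup.eq_one_iff (N := (scalars ι F).subgroupOf N) ⁅(⟨a, ha⟩ : N), ⟨b, hb⟩⁆).1 e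
    exact this

/-- The minimal normal subgroups used in the dichotomy. -/
structure IsMinimalNormal (H N : Subgroup (GL ι F)) : Prop where
  le : N ≤ H
  normal : ∀ h ∈ H, ∀ x ∈ N, h * x * h⁻¹ ∈ N
  min : ∀ L : Subgroup (GL ι F), L ≤ N → (∀ h ∈ H, ∀ x ∈ L, h * x * h⁻¹ ∈ L) → ¬ L ≤ scalars ι F → L = N
  not_scalar : ¬ N ≤ scalars ι F

theorem exists_minimalNormal [Finite F] {H : Subgroup (GL ι F)} (hH : ¬ H ≤ scalars ι F) :
    ∃ N, IsMinimalNormal H N := by
  haveI : Finite (GL ι F) := Finite.of_injective (fun g : GL ι F => (g : Matrix ι ι F)) Units.val_injective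
  haveI : Finite (Subgroup (GL ι F)) := Finite.of_injective (fun K => (K : Set (GL ι F))) SetLike.coe_injective
  let 𝒩 := {L : Subgroup (GL ι F) | L ≤ H ∧ (∀ h ∈ H, ∀ x ∈ L, h * x * h⁻¹ ∈ L) ∧ ¬ L ≤ scalars ι F}
  obtain ⟨N, ⟨hNH, hnH, hNs⟩, hmin'⟩ := wellFounded_lt.has_min 𝒩
    ⟨H, le_rfl, fun h hh x hx => H.mul_mem (H.mul_mem hh hx) (H.inv_mem hh), hH⟩
  refine ⟨N, hNH, hnH, fun L hL hLn hLs => ?_, hNs⟩
  by_contra hne
  exact hmin' L ⟨hL.trans hNH, hLn, hLs⟩ (lt_of_le_of_ne hL hne)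

/-- A minimal normal subgroup that is absolutely irreducible and realisable over no proper subfield. -/
theorem minimal_cases [Finite F] (hn : 2 ≤ Fintype.card ι) {H N : Subgroup (GL ι F)} (h : IsMinimalNormal H N)
    (hN : ActsAbsolutelyIrreducibly (matrixSet N))
    (hreal : ∀ F₀ : Subfield F, F₀ ≠ ⊤ → ¬ RealisableOver F₀ (matrixSet N)) :
    ScalarComm' H N ∨
    (∃ (d t : ℕ) (M : Fin t → Subgroup (GL ι F)) (e : ι ≃ (Fin t → Fin d)) (P : GL ι F)
      (A : Fin t → GL ι F → Matrix (Fin d) (Fin d) F),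
        2 ≤ d ∧ IsComponents (scalars ι F) H N M ∧ FactorCoords d M e P A ∧ H ≤ tensorWreathSubgroup d t e P) ∨
    IsResidualCore H N := by
  haveI : Nonempty ι := Fintype.card_pos_iff.1 (by omega)
  haveI : Nontrivial ι := Fintype.one_lt_card_iff_nontrivial.1 hn
  haveI : Finite (GL ι F) := Finite.of_injective (fun g : GL ι F => (g : Matrix ι ι F)) Units.val_injective
  by_cases hcomm : ⁅N, N⁆ ≤ scalars ι F
  · exact Or.inl ⟨h.le, h.normal, h.min, hN, hcomm⟩
  have hperf : ⁅N, N⁆ = N := by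
    refine h.min _ ?_ (conj_mem_commutator h.normal) hcomm
    rw [Subgroup.commutator_le]
    exact fun x hx y hy => N.mul_mem (N.mul_mem (N.mul_mem hx hy) (N.inv_mem hx)) (N.inv_mem hy)
  rcases exists_components scalars_le_center h.normal h.min hperf h.not_scalar with hs | ⟨t, M, hM⟩
  · exact Or.inr (Or.inr (isResidualCore_of_simple h.le h.normal hs hN hperf hreal))
  · obtain ⟨d, e, P, A, hd, hF, hH⟩ := exists_tensorWreath hN hM
    exact Or.inr (Or.inl ⟨d, t, M, e, P, A, hd, hM, hF, hH⟩)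

/-- Clifford dichotomy for a normal subgroup of an irreducible group. -/
theorem normal_subgroup_cases [Fintype F] [Nonempty ι] {H N : Subgroup (GL ι F)} (hH : ActsIrreducibly (matrixSet H))
    (h : IsMinimalNormal H N) :
    (∃ (t m : ℕ) (D : Fin t → Submodule F (ι → F)), IsMDecomposition m D ∧ H ≤ decompositionStabilizer D) ∨
    (∃ (r : ℕ) (K : Subalgebra F (Matrix ι ι F)), r.Prime ∧ IsFieldSubalgebra r K ∧ H ≤ subalgebraNormalizer K) ∨
    (∃ (d k : ℕ) (e : ι ≃ Fin d × Fin k) (P : GL ι F), 2 ≤ d ∧ 2 ≤ k ∧ H ≤ tensorProductSubgroup d k e P) ∨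
    ActsAbsolutelyIrreducibly (matrixSet N) := by
  by_cases hhom : IsHomog N
  swap
  · obtain ⟨t, m, D, hD, hHD, -, -, -⟩ := exists_decomposition hH h.normal hhom
    exact Or.inl ⟨t, m, D, hD, hHD⟩
  have hK := centreComm_field hhom
  by_cases he : Module.finrank F (centreComm N) = 1
  · have hscal : ∀ x ∈ centreComm N, ∃ c : F, x = c • (1 : Matrix ι ι F) := by
      intro x hx
      obtain ⟨c, hc⟩ := (finrank_eq_one_iff_of_nonzero' (1 : centreComm N)
        (fun e0 => one_ne_zero (α := Matrix ι ι F) (congrArg Subtype.val e0))).1 he ⟨x, hx⟩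
      exact ⟨c, (congrArg Subtype.val hc).symm⟩
    obtain ⟨d, k, e, P, A, hc⟩ := exists_tensorCoords hhom hscal
    by_cases hk : k = 1
    · subst hk
      exact Or.inr (Or.inr (Or.inr (hc.absIrred_of_one hhom)))
    · exact Or.inr (Or.inr (Or.inl ⟨d, k, e, P, hc.two_le h.not_scalar, by have := hc.pos_right; omega,
        hc.le_tensorProductSubgroup h.normal⟩))
  · obtain ⟨r, L, hr, -, -, hL, hnorm⟩ := exists_prime_subalgebra hK he
    exact Or.inr (Or.inl ⟨r, L, hr, hL, fun g hg => hnorm (mem_normalizer_centreComm (h.normal g hg)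
      fun x hx => by simpa using h.normal g⁻¹ (H.inv_mem hg) x hx)⟩)

/-- An irreducible but not absolutely irreducible group normalises a field of prime degree. -/
theorem exists_field_of_not_absIrred [Fintype F] [Nonempty ι] {H : Subgroup (GL ι F)}
    (hH : ActsIrreducibly (matrixSet H)) (habs : ¬ ActsAbsolutelyIrreducibly (matrixSet H)) :
    ∃ (r : ℕ) (K : Subalgebra F (Matrix ι ι F)), r.Prime ∧ IsFieldSubalgebra r K ∧ H ≤ subalgebraNormalizer K := by
  have hF := centralizer_isField hH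
  set K := Subalgebra.centralizer F (matrixSet H) with hKdef
  have hK : IsFieldSubalgebra (Module.finrank F K) K := by
    refine ⟨fun x hx y hy => congrArg Subtype.val (hF.mul_comm ⟨x, hx⟩ ⟨y, hy⟩), fun x hx hx0 => ?_, rfl⟩
    obtain ⟨y, hy⟩ := hF.mul_inv_cancel (a := ⟨x, hx⟩) fun e => hx0 (congrArg Subtype.val e)
    exact ⟨y, y.2, congrArg Subtype.val hy⟩
  have he : Module.finrank F K ≠ 1 := fun he => habs ⟨hH, fun M hM => by
    obtain ⟨c, hc⟩ := (finrank_eq_one_iff_of_nonzero' (1 : K)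
      (fun e0 => one_ne_zero (α := Matrix ι ι F) (congrArg Subtype.val e0))).1 he
      ⟨M, (Subalgebra.mem_centralizer_iff F).2 fun s hs => (hM s hs).symm⟩
    exact ⟨c, (congrArg Subtype.val hc).symm⟩⟩
  obtain ⟨r, L, hr, -, -, hL, hnorm⟩ := exists_prime_subalgebra hK he
  exact ⟨r, L, hr, hL, fun g hg => hnorm (mem_subalgebraNormalizer_centralizer
    (fun x hx => H.mul_mem (H.mul_mem hg hx) (H.inv_mem hg)) fun x hx => H.mul_mem (H.mul_mem (H.inv_mem hg) hx) hg)⟩

end CfsgLib.Geo.Asch
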