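/-
Forms fixed by an absolutely irreducible group: rationality over a subfield, and descent when both a unitary and
a bilinear form are fixed.
-/
import Cfsg.Agent.Lib.Geo.Asch.Span
import Cfsg.Agent.Lib.Geo.Asch.Forms

set_option autoImplicit false

namespace CfsgLib.Geo.Asch

open Matrix Cfsg.Geo

variable {ι : Type} [Fintype ι] [DecidableEq ι] {F : Type*} [Field F]

/-- The Gram matrix of `f` in the basis given by the columns of `P`. -/
def gramIn (f : (ι → F) → (ι → F) → F) (P : Matrix ι ι F) : Matrix ι ι F :=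
  fun i j => f (P *ᵥ Pi.single i 1) (P *ᵥ Pi.single j 1)

variable {σ : F ≃+* F} {f : (ι → F) → (ι → F) → F}

theorem apply_sum_left (hf : IsSesqForm σ f) {α : Type*} (s : Finset α) (g : α → ι → F) (v : ι → F) :
    f (∑ a ∈ s, g a) v = ∑ a ∈ s, f (g a) v := by
  induction s using Finset.cons_induction with
  | empty => simp [hf.map_zero_left]
  | cons a s has ih => simp only [Finset.sum_cons, hf.add_left, ih]

theorem apply_sum_right (hf : IsSesqForm σ f) {α : Type*} (s : Finset α) (g : α → ι → F) (v : ι → F) :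
    f v (∑ a ∈ s, g a) = ∑ a ∈ s, f v (g a) := by
  induction s using Finset.cons_induction with
  | empty => simp [hf.map_zero_right]
  | cons a s has ih => simp only [Finset.sum_cons, hf.add_right, ih]

theorem form_eq_gram (hf : IsSesqForm σ f) (P : Matrix ι ι F) (u v : ι → F) :
    f (P *ᵥ u) (P *ᵥ v) = ∑ i, ∑ j, u i * (gramIn f P i j * σ (v j)) := by
  conv_lhs => rw [pi_eq_sum_univ' u, pi_eq_sum_univ' v, Matrix.mulVec_sum, Matrix.mulVec_sum]
  rw [apply_sum_left hf]
  refine Finset.sum_congr rfl fun i _ => ?_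
  rw [apply_sum_right hf]
  refine Finset.sum_congr rfl fun j _ => ?_
  rw [Matrix.mulVec_smul, Matrix.mulVec_smul, hf.smul_left, hf.smul_right, gramIn]
  ring

/-- The form with given Gram matrix in the basis `P`. -/
def formIn (σ : F ≃+* F) (G : Matrix ι ι F) (P : GL ι F) (u v : ι → F) : F :=
  ∑ i, ∑ j, (((P⁻¹ : GL ι F) : Matrix ι ι F) *ᵥ u) i * (G i j * σ ((((P⁻¹ : GL ι F) : Matrix ι ι F) *ᵥ v) j))

theorem isSesqForm_formIn (σ : F ≃+* F) (G : Matrix ι ι F) (P : GL ι F) : IsSesqForm σ (formIn σ G P) where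
  add_left x y v := by simp [formIn, Matrix.mulVec_add, add_mul, Finset.sum_add_distrib]
  smul_left c x v := by simp [formIn, Matrix.mulVec_smul, Finset.mul_sum, mul_assoc]
  add_right v x y := by simp [formIn, Matrix.mulVec_add, mul_add, Finset.sum_add_distrib]
  smul_right c v x := by
    simp only [formIn, Matrix.mulVec_smul, Pi.smul_apply, smul_eq_mul, map_mul, Finset.mul_sum]
    exact Finset.sum_congr rfl fun i _ => Finset.sum_congr rfl fun j _ => by ring

theorem formIn_basis (σ : F ≃+* F) (G : Matrix ι ι F) (P : GL ι F) :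
    gramIn (formIn σ G P) (P : Matrix ι ι F) = G := by
  ext i j
  simp only [gramIn, formIn, mulVec_inv_cancel]
  rw [Finset.sum_eq_single i, Finset.sum_eq_single j]
  · simp
  · intro k _ hk; simp [Pi.single_eq_of_ne hk]
  · simp
  · intro k _ hk; simp [Pi.single_eq_of_ne hk]
  · simp

theorem formIn_gramIn (hf : IsSesqForm σ f) (P : GL ι F) (u v : ι → F) :
    formIn σ (gramIn f (P : Matrix ι ι F)) P u v = f u v := by
  rw [formIn, ← form_eq_gram hf, inv_mulVec_cancel, inv_mulVec_cancel]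

omit [DecidableEq ι] in
theorem sum_transform (σ : F ≃+* F) (G A : Matrix ι ι F) (u v : ι → F)
    (h : ∀ k l, G k l = ∑ i, ∑ j, A i k * σ (A j l) * G i j) :
    ∑ i, ∑ j, (A *ᵥ u) i * (G i j * σ ((A *ᵥ v) j)) = ∑ k, ∑ l, u k * (G k l * σ (v l)) := by
  simp only [Matrix.mulVec, dotProduct, map_sum, map_mul, Finset.sum_mul, Finset.mul_sum]
  calc ∑ i, ∑ j, ∑ l, ∑ k, A i k * u k * (G i j * (σ (A j l) * σ (v l)))
      = ∑ k, ∑ l, ∑ i, ∑ j, A i k * u k * (G i j * (σ (A j l) * σ (v l))) := by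
        have e1 : ∀ i, ∑ j, ∑ l, ∑ k, A i k * u k * (G i j * (σ (A j l) * σ (v l))) =
            ∑ k, ∑ l, ∑ j, A i k * u k * (G i j * (σ (A j l) * σ (v l))) := fun i => by
          rw [Finset.sum_comm]
          rw [Finset.sum_congr rfl fun l _ => Finset.sum_comm]
          exact Finset.sum_comm
        rw [Finset.sum_congr rfl fun i _ => e1 i, Finset.sum_comm]
        exact Finset.sum_congr rfl fun k _ => Finset.sum_comm
    _ = ∑ k, ∑ l, u k * (G k l * σ (v l)) := by
        refine Finset.sum_congr rfl fun k _ => Finset.sum_congr rfl fun l _ => ?_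
        rw [h k l, Finset.sum_mul, Finset.mul_sum]
        refine Finset.sum_congr rfl fun i _ => ?_
        rw [Finset.sum_mul, Finset.mul_sum]
        exact Finset.sum_congr rfl fun j _ => by ring

/-- A form fixed by an absolutely irreducible group over a subfield stable under `σ` is rational up to a scalar. -/
theorem exists_rational_gram {N : Subgroup (GL ι F)} (hN : ActsAbsolutelyIrreducibly (matrixSet N))
    (hf : IsSesqForm σ f) (hnd : IsNondegenerateForm f) (hfix : FixesForm (matrixSet N) f) {F₁ : Subfield F}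
    (hσ : ∀ a ∈ F₁, σ a ∈ F₁) (P : GL ι F)
    (hP : ∀ n ∈ N, ∀ i j, (((P⁻¹ : GL ι F) : Matrix ι ι F) * (n : Matrix ι ι F) * (P : Matrix ι ι F)) i j ∈ F₁)
    [Nonempty ι] :
    ∃ z : F, z ≠ 0 ∧ (∀ i j, z * gramIn f (P : Matrix ι ι F) i j ∈ F₁) ∧
      ∃ i j, gramIn f (P : Matrix ι ι F) i j ≠ 0 := by
  set G := gramIn f (P : Matrix ι ι F) with hG
  obtain ⟨i₀, j₀, hg⟩ : ∃ i j, G i j ≠ 0 := by
    by_contra! h
    obtain ⟨v, hv⟩ := exists_ne (0 : ι → F)
    obtain ⟨x, hx⟩ := (hnd v hv).1
    refine hx ?_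
    rw [← inv_mulVec_cancel P x, ← inv_mulVec_cancel P v, form_eq_gram hf, ← hG]
    simp [h]
  obtain ⟨π, hπ⟩ : ∃ π : F →ₗ[F₁] F₁, π (G i₀ j₀) ≠ 0 := by
    by_contra! h
    have := (Module.forall_dual_apply_eq_zero_iff F₁ (G i₀ j₀)).1 h
    exact hg this
  let G' : Matrix ι ι F := fun i j => (π (G i j) : F)
  have hfix' : FixesForm (matrixSet N) (formIn σ G' P) := by
    rintro _ ⟨n, hn, rfl⟩ u v
    set A := ((P⁻¹ : GL ι F) : Matrix ι ι F) * (n : Matrix ι ι F) * (P : Matrix ι ι F) with hA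
    have hAentry : ∀ i j, A i j ∈ F₁ := hP n hn
    have hnA : ∀ w : ι → F, ((P⁻¹ : GL ι F) : Matrix ι ι F) *ᵥ ((n : Matrix ι ι F) *ᵥ w) =
        A *ᵥ (((P⁻¹ : GL ι F) : Matrix ι ι F) *ᵥ w) := fun w => by
      rw [hA, ← Matrix.mulVec_mulVec, inv_mulVec_cancel, ← Matrix.mulVec_mulVec]
    -- the Gram equation over F₁
    have heq : ∀ k l, G k l = ∑ i, ∑ j, A i k * σ (A j l) * G i j := by
      intro k l
      have h1 := hfix _ (mem_matrixSet hn) ((P : Matrix ι ι F) *ᵥ Pi.single k 1) ((P : Matrix ι ι F) *ᵥ Pi.single l 1)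
      have h2 : ∀ k, (n : Matrix ι ι F) *ᵥ ((P : Matrix ι ι F) *ᵥ Pi.single k 1) =
          (P : Matrix ι ι F) *ᵥ fun i => A i k := fun k => by
        rw [← inv_mulVec_cancel P ((n : Matrix ι ι F) *ᵥ _), hnA, mulVec_inv_cancel]
        congr 1
        ext i
        simp [Matrix.mulVec, dotProduct, Pi.single_apply]
      rw [h2, h2, form_eq_gram hf] at h1
      rw [show G k l = f ((P : Matrix ι ι F) *ᵥ Pi.single k 1) ((P : Matrix ι ι F) *ᵥ Pi.single l 1) from rfl, ← h1]
      exact Finset.sum_congr rfl fun i _ => Finset.sum_congr rfl fun j _ => by rw [hG]; ring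
    have heq' : ∀ k l, G' k l = ∑ i, ∑ j, A i k * σ (A j l) * G' i j := by
      intro k l
      have := congrArg (fun x => (π x : F)) (heq k l)
      simp only [map_sum, AddSubmonoidClass.coe_finsetSum] at this
      refine this.trans (Finset.sum_congr rfl fun i _ => Finset.sum_congr rfl fun j _ => ?_)
      have hmem : A i k * σ (A j l) ∈ F₁ := mul_mem (hAentry i k) (hσ _ (hAentry j l))
      rw [show A i k * σ (A j l) * G i j = (⟨_, hmem⟩ : F₁) • G i j from rfl, map_smul]
      rfl
    set u' := ((P⁻¹ : GL ι F) : Matrix ι ι F) *ᵥ u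
    set v' := ((P⁻¹ : GL ι F) : Matrix ι ι F) *ᵥ v
    simp only [formIn, hnA]
    exact sum_transform σ G' A u' v' heq'
  obtain ⟨c, hc⟩ := exists_smul_of_fixed hN hf (isSesqForm_formIn σ G' P) hnd hfix hfix'
  have hcG : ∀ i j, G' i j = c * G i j := fun i j => by
    rw [← formIn_basis σ G' P]
    exact hc _ _
  refine ⟨c, fun h0 => hπ (Subtype.ext ?_), fun i j => hcG i j ▸ (π (G i j)).2, i₀, j₀, hg⟩
  exact (hcG i₀ j₀).trans (by rw [h0, zero_mul]; rfl)

/-- A basis of fixed vectors of a semilinear involution. -/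
theorem exists_fixed_basis (hinv : ∀ a, σ (σ a) = a) {ω : F} (hω : σ ω ≠ ω) {A : Matrix ι ι F}
    (hA : A * A.map σ = 1) : ∃ M : GL ι F, A * (M : Matrix ι ι F).map σ = (M : Matrix ι ι F) := by
  classical
  let T : (ι → F) → (ι → F) := fun v => A *ᵥ fun i => σ (v i)
  have hTadd : ∀ u v, T (u + v) = T u + T v := fun u v => by
    simp only [T, Pi.add_apply, map_add]
    exact Matrix.mulVec_add A _ _
  have hTsmul : ∀ (c : F) v, T (c • v) = σ c • T v := fun c v => by
    simp only [T, Pi.smul_apply, smul_eq_mul, map_mul]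
    exact Matrix.mulVec_smul A (σ c) _
  have hTT : ∀ v, T (T v) = v := by
    intro v
    have h1 : (fun i => σ ((A *ᵥ fun i => σ (v i)) i)) = A.map σ *ᵥ v := by
      ext i
      simp [Matrix.mulVec, dotProduct, hinv]
    simp only [T, h1, Matrix.mulVec_mulVec, hA, Matrix.one_mulVec]
  let S : Set (ι → F) := {v | T v = v}
  have hspan : Submodule.span F S = ⊤ := by
    rw [eq_top_iff]
    intro v _
    have h1 : v + T v ∈ S := by show T _ = _; rw [hTadd, hTT, add_comm]
    have h2 : ω • v + σ ω • T v ∈ S := by show T _ = _; rw [hTadd, hTsmul, hTsmul, hTT, hinv, add_comm]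
    have hne : σ ω - ω ≠ 0 := sub_ne_zero.2 hω
    have e : v = (σ ω - ω)⁻¹ • (σ ω • (v + T v) - (ω • v + σ ω • T v)) := by
      rw [show σ ω • (v + T v) - (ω • v + σ ω • T v) = (σ ω - ω) • v by module, smul_smul, inv_mul_cancel₀ hne,
        one_smul]
    rw [e]
    exact Submodule.smul_mem _ _ (Submodule.sub_mem _ (Submodule.smul_mem _ _ (Submodule.subset_span h1))
      (Submodule.subset_span h2))
  obtain ⟨b, hbS, hbspan, hli⟩ := exists_linearIndependent F S
  have hcard : Nat.card b = Fintype.card ι := by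
    have hB := Module.Basis.mk hli (by rw [Subtype.range_coe, hbspan, hspan])
    rw [← Module.finrank_eq_nat_card_basis hB, Module.finrank_pi]
  have : Finite b := hli.finite
  let e : ι ≃ b := (Fintype.equivFin ι).trans ((finCongr hcard.symm).trans (Finite.equivFin b).symm)
  have hli' : LinearIndependent F (fun j => (e j : ι → F)) := hli.comp _ e.injective
  let M : Matrix ι ι F := Matrix.of fun i j => (e j : ι → F) i
  have hM : IsUnit M := Matrix.linearIndependent_cols_iff_isUnit.1 hli'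
  refine ⟨hM.unit, ?_⟩
  rw [hM.unit_spec]
  ext i j
  have := congrFun (hbS (e j).2) i
  simpa [T, M, Matrix.mul_apply, Matrix.mulVec, dotProduct] using this

/-- The Gram matrix equation of a matrix fixing a form. -/
theorem gram_fixed (hf : IsSesqForm σ f) {g : Matrix ι ι F} (h : ∀ u v, f (g *ᵥ u) (g *ᵥ v) = f u v) :
    gᵀ * gramIn f 1 * g.map σ = gramIn f 1 := by
  ext i j
  have h1 := h (Pi.single i 1) (Pi.single j 1)
  rw [← Matrix.one_mulVec (g *ᵥ Pi.single i 1), ← Matrix.one_mulVec (g *ᵥ Pi.single j 1), form_eq_gram hf] at h1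
  rw [show gramIn f 1 i j = f (Pi.single i 1) (Pi.single j 1) by simp only [gramIn, Matrix.one_mulVec], ← h1]
  simp only [Matrix.mul_apply, Matrix.transpose_apply, Matrix.map_apply, Matrix.mulVec_single_one, Matrix.col_apply,
    Finset.sum_mul]
  rw [Finset.sum_comm]
  exact Finset.sum_congr rfl fun a _ => Finset.sum_congr rfl fun c _ => by ring

/-- The Gram matrix of a non-degenerate form is invertible. -/
theorem isUnit_gram (hf : IsSesqForm σ f) (hnd : IsNondegenerateForm f) : IsUnit (gramIn f (1 : Matrix ι ι F)) := by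
  rw [Matrix.isUnit_iff_isUnit_det, isUnit_iff_ne_zero]
  intro h0
  obtain ⟨x, hx0, hx⟩ := Matrix.exists_mulVec_eq_zero_iff.2 h0
  obtain ⟨y, hy⟩ := (hnd (fun i => σ.symm (x i)) fun e => hx0 (funext fun i => by
    simpa using congrArg σ (congrFun e i))).1
  apply hy
  rw [← Matrix.one_mulVec y, ← Matrix.one_mulVec (fun i => σ.symm (x i)), form_eq_gram hf]
  have : ∀ i, ∑ j, gramIn f 1 i j * x j = 0 := fun i => congrFun hx i
  simp only [RingEquiv.apply_symm_apply, ← Finset.mul_sum, this, mul_zero, Finset.sum_const_zero]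

/-- The fixed field of `σ`. -/
def fixedSubfield (σ : F ≃+* F) : Subfield F := RingHom.eqLocusField σ.toRingHom (RingHom.id F)

theorem mem_fixedSubfield {σ : F ≃+* F} {a : F} : a ∈ fixedSubfield σ ↔ σ a = a := Iff.rfl

/-- A group fixing a unitary and a bilinear form is written over the fixed field. -/
theorem realisable_fixed_of_forms' [Nonempty ι]
    (hn : Odd (Fintype.card ι) ∨ ∀ c : F, σ c = c → ∃ s, s * σ s = c) {N : Subgroup (GL ι F)}
    (hN : ActsAbsolutelyIrreducibly (matrixSet N)) {f : (ι → F) → (ι → F) → F} (hf : IsUnitaryForm σ f)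
    (hffix : FixesForm (matrixSet N) f) {B : (ι → F) → (ι → F) → F} (hB : IsBilinearForm B)
    (hBnd : IsNondegenerateForm B) (hBfix : FixesForm (matrixSet N) B) :
    RealisableOver (fixedSubfield σ) (matrixSet N) := by
  have gramEq : ∀ {τ : F ≃+* F} {b : (ι → F) → (ι → F) → F}, IsSesqForm τ b → FixesForm (matrixSet N) b →
      ∀ g ∈ N, (g : Matrix ι ι F)ᵀ * gramIn b 1 * (g : Matrix ι ι F).map τ = gramIn b 1 :=
    fun hb hfix g hg => gram_fixed hb (hfix _ (mem_matrixSet hg))
  have detNe : ∀ {τ : F ≃+* F} {b : (ι → F) → (ι → F) → F}, IsSesqForm τ b → IsNondegenerateForm b →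
      IsUnit (gramIn b (1 : Matrix ι ι F)) := fun hb hnd => isUnit_gram hb hnd
  have hsB := isSesqForm_of_bilinear hB
  have hsf := isSesqForm_of_unitary hf
  set G := gramIn f 1 with hG
  set C := gramIn B 1 with hC
  have hCu := detNe hsB hBnd
  have hGu := detNe hsf hf.nondegenerate
  set A := ((hCu.unit⁻¹ : GL ι F) : Matrix ι ι F) * G with hA
  have hCA : C * A = G := by rw [hA, ← mul_assoc, hCu.mul_val_inv, one_mul]
  have key : ∀ g ∈ N, (g : Matrix ι ι F) * A = A * (g : Matrix ι ι F).map σ := by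
    intro g hg
    have h1 := gramEq hsB hBfix g hg
    have h2 := gramEq hsf hffix g hg
    rw [show (g : Matrix ι ι F).map (RingEquiv.refl F) = (g : Matrix ι ι F) from
      Matrix.map_id _] at h1
    have h3 : (g : Matrix ι ι F)ᵀ * C * ((g : Matrix ι ι F) * A) =
        (g : Matrix ι ι F)ᵀ * C * (A * (g : Matrix ι ι F).map σ) := by
      rw [← mul_assoc, h1, hCA, ← mul_assoc, mul_assoc _ C A, hCA, h2]
    refine (IsUnit.mul_right_inj ?_).1 h3
    refine IsUnit.mul ?_ hCu
    rw [Matrix.isUnit_iff_isUnit_det, Matrix.det_transpose, ← Matrix.isUnit_iff_isUnit_det]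
    exact g.isUnit
  have hmm : ∀ X Y : Matrix ι ι F, (X * Y).map σ = X.map σ * Y.map σ := fun X Y => Matrix.map_mul
  have hinv : ∀ X : Matrix ι ι F, (X.map σ).map σ = X := fun X => by
    ext i j; exact hf.involutive _
  obtain ⟨c, hc⟩ := hN.2 (A * A.map σ) (by
    rintro _ ⟨g, hg, rfl⟩
    have h1 := congrArg (fun X : Matrix ι ι F => X.map σ) (key g hg)
    simp only [hmm, hinv] at h1
    show A * A.map σ * (g : Matrix ι ι F) = (g : Matrix ι ι F) * (A * A.map σ)
    rw [mul_assoc, ← h1, ← mul_assoc, ← key g hg, mul_assoc])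
  have hAu : IsUnit A := (Units.isUnit (hCu.unit⁻¹)).mul hGu
  have hc0 : c ≠ 0 := by
    intro h0
    have : IsUnit (A * A.map σ) := hAu.mul (hAu.map (σ.toRingHom.mapMatrix))
    rw [hc, h0, zero_smul] at this
    exact not_isUnit_zero this
  have hcfix : σ c = c := by
    have h2 : A.map σ * A = σ c • 1 := by
      have h1 := congrArg (fun X : Matrix ι ι F => X.map σ) hc
      rw [hmm, hinv] at h1
      rw [h1]
      ext i j
      by_cases hij : i = j <;> simp [hij]
    have h3 : A * A.map σ * A = A * (A.map σ * A) := mul_assoc _ _ _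
    rw [hc, h2, Matrix.smul_mul, one_mul, Matrix.mul_smul, mul_one] at h3
    exact (smul_left_injective F hAu.ne_zero h3).symm
  obtain ⟨s, hs⟩ : ∃ s, s * σ s = c := by
    rcases hn with hn | hnorm
    swap
    · exact hnorm c hcfix
    obtain ⟨m, hm⟩ := hn
    have hdet := congrArg Matrix.det hc
    rw [Matrix.det_mul, Matrix.det_smul, Matrix.det_one, mul_one, hm,
      show (A.map σ).det = σ A.det from (RingHom.map_det σ.toRingHom A).symm] at hdet
    refine ⟨A.det / c ^ m, ?_⟩
    rw [map_div₀, map_pow, hcfix, div_mul_div_comm, hdet, ← pow_add, ← two_mul, pow_succ',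
      mul_div_assoc, div_self (pow_ne_zero _ hc0), mul_one]
  have hs0 : s ≠ 0 := fun e => hc0 (by rw [← hs, e, zero_mul])
  set A' := s⁻¹ • A with hA'
  have hA'1 : A' * A'.map σ = 1 := by
    rw [hA', show (s⁻¹ • A).map σ = σ s⁻¹ • A.map σ by ext i j; simp, Matrix.smul_mul, Matrix.mul_smul, smul_smul, hc,
      smul_smul, map_inv₀, ← mul_inv, hs, inv_mul_cancel₀ hc0, one_smul]
  obtain ⟨ω, hω⟩ : ∃ ω, σ ω ≠ ω := by
    by_contra! hall
    exact hf.ne_refl (RingEquiv.ext hall)
  obtain ⟨M, hM⟩ := exists_fixed_basis hf.involutive hω hA'1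
  refine ⟨M⁻¹, ?_⟩
  rintro _ ⟨g, hg, rfl⟩ i j
  rw [inv_inv, mem_fixedSubfield]
  set R := ((M⁻¹ : GL ι F) : Matrix ι ι F) * (g : Matrix ι ι F) * (M : Matrix ι ι F) with hR
  have hMR : (M : Matrix ι ι F) * R = g * M := by
    rw [hR, ← mul_assoc, ← mul_assoc, ← Units.val_mul, mul_inv_cancel, Units.val_one, one_mul]
  have key' : (g : Matrix ι ι F) * A' = A' * (g : Matrix ι ι F).map σ := by
    rw [hA', Matrix.mul_smul, Matrix.smul_mul, key g hg]
  have h1 : (M : Matrix ι ι F) * R.map σ = (M : Matrix ι ι F) * R := by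
    conv_lhs => rw [← hM]
    rw [mul_assoc, ← hmm, hMR, hmm, ← mul_assoc, ← key', mul_assoc, hM]
  exact congrFun (congrFun ((IsUnit.mul_right_inj M.isUnit).1 h1) i) j

/-- A group fixing a unitary and a bilinear form in odd dimension is written over the fixed field. -/
theorem realisable_fixed_of_forms [Nonempty ι] (hn : Odd (Fintype.card ι)) {N : Subgroup (GL ι F)}
    (hN : ActsAbsolutelyIrreducibly (matrixSet N)) {f : (ι → F) → (ι → F) → F} (hf : IsUnitaryForm σ f)
    (hffix : FixesForm (matrixSet N) f) {B : (ι → F) → (ι → F) → F} (hB : IsBilinearForm B)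
    (hBnd : IsNondegenerateForm B) (hBfix : FixesForm (matrixSet N) B) :
    RealisableOver (fixedSubfield σ) (matrixSet N) :=
  realisable_fixed_of_forms' (Or.inl hn) hN hf hffix hB hBnd hBfix

end CfsgLib.Geo.Asch
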