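import Mathlib

/-!
# Eigenspaces of elements normalising an irreducible group that is abelian modulo scalars

* `eigen_bound`: the bounds `3n/4`, `2n/3`, `n/2` for an element of prime order.
-/

set_option autoImplicit false
set_option linter.all false

namespace CfsgLib.Geo.ExtraEigen

open Module Module.End

section Linear

variable {F V : Type*} [Field F] [AddCommGroup V] [Module F V] [FiniteDimensional F V]

theorem sum_finrank_le {ι : Type*} {S : ι → Submodule F V} (h : iSupIndep S) (s : Finset ι) {U : Submodule F V}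
    (hU : ∀ i ∈ s, S i ≤ U) : ∑ i ∈ s, finrank F (S i) ≤ finrank F U := by
  classical
  have key : ∑ i ∈ s, finrank F (S i) = finrank F (s.sup S : Submodule F V) := by
    clear hU
    induction s using Finset.induction_on with
    | empty => rw [Finset.sum_empty, Finset.sup_empty, finrank_bot]
    | @insert a s ha ih =>
      rw [Finset.sum_insert ha, ih, Finset.sup_insert, ← Submodule.finrank_sup_add_finrank_inf_eq,
        (show S a ⊓ s.sup S = ⊥ from disjoint_iff.1 (by
          rw [Finset.sup_eq_iSup]; exact h.disjoint_biSup (y := (s : Set ι)) (by simpa using ha))),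
        finrank_bot, add_zero]
  rw [key]
  exact Submodule.finrank_mono (Finset.sup_le hU)

theorem finrank_le_of_map_le {f : End F V} (hf : Function.Injective f) {P Q : Submodule F V}
    (h : P.map f ≤ Q) : finrank F P ≤ finrank F Q :=
  (Submodule.equivMapOfInjective f hf P).finrank_eq.le.trans (Submodule.finrank_mono h)

theorem cycle_bound {r : ℕ} {f z : End F V} {ρ a : F} (hρ : IsPrimitiveRoot ρ r) (hz : Function.Injective z)
    (hf : Function.Injective f) (h : f * z = ρ • (z * f)) :
    r * finrank F (eigenspace f a) ≤ finrank F V := by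
  classical
  by_cases ha : a = 0
  · subst ha
    have : eigenspace f 0 = ⊥ := by
      rw [Submodule.eq_bot_iff]
      intro v hv
      rw [mem_eigenspace_iff, zero_smul] at hv
      exact hf (hv.trans (map_zero f).symm)
    rw [this, finrank_bot]
    simp
  have hstep : ∀ i, finrank F (eigenspace f a) ≤ finrank F (eigenspace f (ρ ^ i * a)) := by
    intro i
    induction i with
    | zero => rw [pow_zero, one_mul]
    | succ i ih =>
      refine ih.trans (finrank_le_of_map_le hz ?_)
      rintro _ ⟨v, hv, rfl⟩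
      rw [SetLike.mem_coe, mem_eigenspace_iff] at hv
      rw [mem_eigenspace_iff]
      show (f * z) v = _
      rw [h]
      simp [Module.End.mul_apply, hv, smul_smul, pow_succ']
      ring_nf
  have hinj : Set.InjOn (fun i => ρ ^ i * a) (Finset.range r : Set ℕ) := fun i hi j hj e =>
    hρ.pow_inj (Finset.mem_range.1 hi) (Finset.mem_range.1 hj) (mul_right_cancel₀ ha e)
  have h1 := sum_finrank_le (eigenspaces_iSupIndep f) ((Finset.range r).image fun i => ρ ^ i * a)
    (U := ⊤) fun _ _ => le_top
  rw [Finset.sum_image hinj, finrank_top] at h1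
  refine le_trans ?_ h1
  have h2 := Finset.card_nsmul_le_sum (Finset.range r) (fun i => finrank F (eigenspace f (ρ ^ i * a)))
    (finrank F (eigenspace f a)) fun i _ => hstep i
  simpa using h2

theorem finrank_le_sum_eigen {r : ℕ} {ρ : F} (hρ : IsPrimitiveRoot ρ r) (hr : 1 < r) {y : End F V} (hy : y ^ r = 1)
    (W : Submodule F V) (hW : ∀ v ∈ W, y v ∈ W) :
    finrank F W ≤ ∑ k ∈ Finset.range r, finrank F (W ⊓ eigenspace y (ρ ^ k) : Submodule F V) := by
  classical
  haveI : NeZero r := ⟨by omega⟩
  haveI := hρ.neZero'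
  have hpow : ∀ i, ∀ v ∈ W, (y ^ i) v ∈ W := by
    intro i
    induction i with
    | zero => simp
    | succ i ih => intro v hv; rw [pow_succ', Module.End.mul_apply]; exact hW _ (ih v hv)
  have hρ0 : ρ ≠ 0 := hρ.ne_zero (by omega)
  have hle : W ≤ (Finset.range r).sup fun k => W ⊓ eigenspace y (ρ ^ k) := by
    intro v hv
    let P : ℕ → V := fun k => ∑ i ∈ Finset.range r, ((ρ⁻¹) ^ k) ^ i • (y ^ i) v
    have hP : ∀ k, P k ∈ W ⊓ eigenspace y (ρ ^ k) := by
      intro k
      refine ⟨W.sum_mem fun i _ => W.smul_mem _ (hpow i v hv), ?_⟩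
      rw [SetLike.mem_coe, mem_eigenspace_iff, ← sub_eq_zero]
      let t : ℕ → V := fun i => (ρ ^ k * ((ρ⁻¹) ^ k) ^ i) • (y ^ i) v
      have e : y (P k) - ρ ^ k • P k = ∑ i ∈ Finset.range r, (t (i + 1) - t i) := by
        rw [map_sum, Finset.smul_sum, ← Finset.sum_sub_distrib]
        refine Finset.sum_congr rfl fun i _ => ?_
        simp only [t, map_smul, smul_smul, pow_succ' y i, Module.End.mul_apply]
        rw [pow_succ, ← mul_assoc, mul_comm (ρ ^ k) (((ρ⁻¹) ^ k) ^ i), mul_assoc, ← mul_pow, mul_inv_cancel₀ hρ0,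
          one_pow, mul_one]
      rw [e, Finset.sum_range_sub, sub_eq_zero]
      simp only [t, hy, pow_zero, Module.End.one_apply, ← pow_mul, mul_comm k r, mul_zero]
      rw [pow_mul ρ⁻¹, inv_pow, hρ.pow_eq_one, inv_one, one_pow]
    have hsum : ∑ k ∈ Finset.range r, P k = (r : F) • v := by
      rw [Finset.sum_comm, Finset.sum_eq_single 0]
      · simp [Finset.sum_const, Nat.cast_smul_eq_nsmul]
      · intro i hi hi0
        rw [← Finset.sum_smul]
        have e : ∑ k ∈ Finset.range r, ((ρ⁻¹) ^ k) ^ i = 0 := by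
          have hne : ρ⁻¹ ^ i ≠ 1 := by
            rw [inv_pow, ne_eq, inv_eq_one]
            exact hρ.pow_ne_one_of_pos_of_lt hi0 (Finset.mem_range.1 hi)
          have h1 : ∀ k, ((ρ⁻¹) ^ k) ^ i = (ρ⁻¹ ^ i) ^ k := fun k => by rw [← pow_mul, ← pow_mul, mul_comm]
          simp only [h1]
          rw [geom_sum_eq hne, ← pow_mul, mul_comm i r, pow_mul, inv_pow, hρ.pow_eq_one]
          simp
        rw [e, zero_smul]
      · intro h; simp at h; omega
    have hmem : (r : F) • v ∈ (Finset.range r).sup fun k => W ⊓ eigenspace y (ρ ^ k) := hsum ▸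
      Submodule.sum_mem _ fun k hk => Finset.le_sup (f := fun k => W ⊓ eigenspace y (ρ ^ k)) hk (hP k)
    exact (Submodule.smul_mem_iff _ (NeZero.ne (r : F))).1 hmem
  refine (Submodule.finrank_mono hle).trans ?_
  generalize Finset.range r = s
  induction s using Finset.induction_on with
  | empty => simp
  | @insert a s ha ih =>
    rw [Finset.sup_insert, Finset.sum_insert ha]
    refine le_trans (Submodule.finrank_add_le_finrank_add_finrank _ _) ?_
    omega

/-- Two translates of an eigenspace. -/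
theorem two_finrank_le (W : Submodule F V) {x : End F V} (hx : Function.Injective x) :
    2 * finrank F W ≤ finrank F V + finrank F (W ⊓ W.map x : Submodule F V) := by
  have h1 := Submodule.finrank_sup_add_finrank_inf_eq W (W.map x)
  have h2 := Submodule.finrank_le (W ⊔ W.map x)
  have h3 := (Submodule.equivMapOfInjective x hx W).finrank_eq
  omega

end Linear

/-- The commutator `a b a⁻¹ b⁻¹`. -/
def com {G : Type*} [Group G] (a b : G) : G := a * b * a⁻¹ * b⁻¹

variable {F V G : Type*} [Field F] [AddCommGroup V] [Module F V] [FiniteDimensional F V] [Group G] [Finite G]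

theorem eigen_bound (A : G →* End F V) (hA : Function.Injective A) (S : Subgroup G)
    (hS : ∀ s, s ∈ S ↔ ∃ μ : F, A s = μ • 1) {r ϖ : ℕ} (hr : r.Prime) (hϖ : ϖ.Prime) (P : Subgroup G) (hSP : S ≤ P)
    (hcomm : ∀ a ∈ P, ∀ b ∈ P, com a b ∈ S ∧ com a b ^ r = 1)
    (hnd : ∀ a, (∀ b ∈ P, a * b = b * a) → a ∈ S)
    (hexp : 5 ≤ r → ∃ R : Subgroup G, R ≤ P ∧ (∀ a ∈ R, a ^ r = 1) ∧ ∀ a ∈ P, ∃ b ∈ R, b⁻¹ * a ∈ S)
    (hdiv : ϖ = 3 → ¬ 3 ∣ finrank F V → r ≠ 3)
    (g : G) (hgP : ∀ a, a ∈ P ↔ g * a * g⁻¹ ∈ P) (hgo : g ^ ϖ = 1) (hns : g ∉ S) (c : F) :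
    (ϖ = 2 → 4 * finrank F (eigenspace (A g) c) ≤ 3 * finrank F V) ∧
    (ϖ = 3 → 3 * finrank F (eigenspace (A g) c) ≤ 2 * finrank F V) ∧
    (3 < ϖ → 2 * finrank F (eigenspace (A g) c) ≤ finrank F V) ∧
    (ϖ = 3 → ¬ 3 ∣ finrank F V → 2 * finrank F (eigenspace (A g) c) ≤ finrank F V) := by
  classical
  haveI := Fact.mk hr
  haveI : Nontrivial V := by
    by_contra h
    rw [not_nontrivial_iff_subsingleton] at h
    exact hns ((hS g).2 ⟨0, LinearMap.ext fun v => Subsingleton.elim _ _⟩)
  have hAinj : ∀ x, Function.Injective (A x) := fun x u v e => by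
    have e' := congrArg (A x⁻¹) e
    rwa [← Module.End.mul_apply, ← Module.End.mul_apply, ← map_mul, inv_mul_cancel, map_one, Module.End.one_apply,
      Module.End.one_apply] at e'
  have hcen : ∀ s ∈ S, ∀ x, x * s = s * x := fun s hs x => by
    obtain ⟨μ, hμ⟩ := (hS s).1 hs
    refine hA ?_
    rw [map_mul, map_mul, hμ, mul_smul_comm, smul_mul_assoc, mul_one, one_mul]
  haveI hSn : S.Normal := ⟨fun s hs x => by rwa [hcen s hs x, mul_inv_cancel_right]⟩
  have hscal : ∀ s ∈ S, s ^ r = 1 → ∃ μ : F, A s = μ • 1 ∧ μ ^ r = 1 ∧ (s ≠ 1 → IsPrimitiveRoot μ r) := by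
    intro s hs hsr
    obtain ⟨μ, hμ⟩ := (hS s).1 hs
    obtain ⟨v, hv⟩ := exists_ne (0 : V)
    have h1 : μ ^ r = 1 := by
      have e := congrArg (fun f : End F V => f v) (congrArg A hsr)
      rw [map_pow, hμ, smul_pow, one_pow, map_one] at e
      simp only [LinearMap.smul_apply, Module.End.one_apply] at e
      exact smul_left_injective F hv (e.trans (one_smul F v).symm)
    refine ⟨μ, hμ, h1, fun hne => ?_⟩
    have h2 : μ ≠ 1 := fun e => hne (hA (by rw [hμ, e, one_smul, map_one]))
    exact orderOf_eq_prime h1 h2 ▸ IsPrimitiveRoot.orderOf μ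
  -- an element with a twisted commutation
  have hcycle : ∀ a b t : G, t ∈ S → t ≠ 1 → t ^ r = 1 → a * b = t * (b * a) → ∀ d : F,
      r * finrank F (eigenspace (A a) d) ≤ finrank F V := by
    intro a b t ht hne htr hab d
    obtain ⟨μ, hμ, -, hprim⟩ := hscal t ht htr
    refine cycle_bound (hprim hne) (hAinj b) (hAinj a) ?_
    rw [← map_mul, hab, map_mul, hμ, smul_mul_assoc, one_mul, map_mul]
  have hprimroot : ∀ a ∈ P, a ∉ S → ∃ b ∈ P, com a b ≠ 1 := by
    intro a ha hna
    by_contra! h
    exact hna (hnd a fun b hb => by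
      have e := h b hb
      rw [com, mul_inv_eq_one, mul_inv_eq_iff_eq_mul] at e
      exact e)
  have hfixP : ∀ a ∈ P, a ∉ S → ∀ d : F, r * finrank F (eigenspace (A a) d) ≤ finrank F V := by
    intro a ha hna d
    obtain ⟨b, hb, hne⟩ := hprimroot a ha hna
    exact hcycle a b _ (hcomm a ha b hb).1 hne (hcomm a ha b hb).2 (by rw [com]; group) d
  have hpowS : ∀ a ∈ P, a ^ r ∈ S := by
    intro a ha
    refine hnd _ fun b hb => ?_
    obtain ⟨ht, htr⟩ := hcomm a ha b hb
    have hk : ∀ k, a ^ k * b = com a b ^ k * (b * a ^ k) := by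
      intro k
      induction k with
      | zero => simp
      | succ k ih =>
        have e : a * b = com a b * (b * a) := by rw [com]; group
        calc a ^ (k + 1) * b = a * (a ^ k * b) := by rw [pow_succ', mul_assoc]
          _ = com a b ^ k * (a * b) * a ^ k := by
            rw [ih, ← mul_assoc a, hcen _ (S.pow_mem ht k) a]; simp only [mul_assoc]
          _ = _ := by rw [e, pow_succ, pow_succ']; simp only [mul_assoc]
    rw [hk, htr, one_mul]
  -- properties of the commutator
  have cml : ∀ a ∈ P, ∀ b ∈ P, ∀ d ∈ P, com (a * b) d = com a d * com b d := by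
    intro a ha b hb d hd
    rw [← hcen _ (hcomm b hb d hd).1 (com a d) |>.symm]
    have : com (a * b) d = a * com b d * a⁻¹ * com a d := by simp only [com]; group
    rw [this, hcen _ (hcomm b hb d hd).1 a, mul_inv_cancel_right]
  have cmr : ∀ a ∈ P, ∀ b ∈ P, ∀ d ∈ P, com a (b * d) = com a b * com a d := by
    intro a ha b hb d hd
    have : com a (b * d) = com a b * (b * com a d * b⁻¹) := by simp only [com]; group
    rw [this, hcen _ (hcomm a ha d hd).1 b, mul_inv_cancel_right]
  have csy : ∀ a b : G, com b a = (com a b)⁻¹ := fun a b => by simp only [com]; group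
  have ccj : ∀ a ∈ P, ∀ b ∈ P, com (g * a * g⁻¹) (g * b * g⁻¹) = com a b := by
    intro a ha b hb
    have : com (g * a * g⁻¹) (g * b * g⁻¹) = g * com a b * g⁻¹ := by simp only [com]; group
    rw [this, hcen _ (hcomm a ha b hb).1 g, mul_inv_cancel_right]
  have csl : ∀ s ∈ S, ∀ b : G, com s b = 1 := fun s hs b => by
    rw [com, ← hcen s hs b]; group
  have csr : ∀ s ∈ S, ∀ b : G, com b s = 1 := fun s hs b => by rw [csy, csl s hs b, inv_one]
  -- the map `a ↦ [g, a]`
  let D : G → G := fun a => g * a * g⁻¹ * a⁻¹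
  have hDP : ∀ a ∈ P, D a ∈ P := fun a ha => P.mul_mem ((hgP a).1 ha) (P.inv_mem ha)
  let π := QuotientGroup.mk' S
  have hπ : ∀ a, π a = 1 ↔ a ∈ S := fun a => QuotientGroup.eq_one_iff a
  have hπc : ∀ a ∈ P, ∀ b ∈ P, π a * π b = π b * π a := fun a ha b hb => by
    rw [← mul_inv_eq_one, mul_inv_rev, ← map_inv, ← map_inv, ← map_mul, ← map_mul, ← map_mul, hπ]
    have : a * b * (a⁻¹ * b⁻¹) = com a b := by rw [com]; group
    rw [this]
    exact (hcomm a ha b hb).1
  have hπD : ∀ a, π (D a) = π g * π a * (π g)⁻¹ * (π a)⁻¹ := fun a => by simp [D, map_mul]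
  have hπDmul : ∀ a ∈ P, ∀ b ∈ P, π (D (a * b)) = π (D a) * π (D b) := by
    intro a ha b hb
    have e1 : π (D (a * b)) = (π g * π a * (π g)⁻¹) * π (D b) * (π a)⁻¹ := by
      rw [hπD, hπD, map_mul]; group
    have e2 := hπc (D b) (hDP b hb) a⁻¹ (P.inv_mem ha)
    rw [map_inv] at e2
    rw [e1, mul_assoc, e2, ← mul_assoc, ← hπD]
  set W := eigenspace (A g) c with hW
  -- the intersection of two translates is fixed by `[g, x]` and its conjugates
  have hinter : ∀ x : G, ∀ v ∈ W ⊓ W.map (A x), A (D x) v = v ∧ A (g * D x * g⁻¹) v = v := by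
    rintro x v ⟨hv, w, hw, rfl⟩
    rw [SetLike.mem_coe, hW, mem_eigenspace_iff] at hw hv
    by_cases hc : c = 0
    · subst hc
      rw [zero_smul] at hv
      have : A x w = 0 := hAinj g (hv.trans (map_zero _).symm)
      simp [this]
    have hinv : ∀ u, A g u = c • u → A g⁻¹ u = c⁻¹ • u := fun u hu => by
      refine hAinj g ?_
      rw [← Module.End.mul_apply, ← map_mul, mul_inv_cancel, map_one, Module.End.one_apply, map_smul, hu, smul_smul,
        inv_mul_cancel₀ hc, one_smul]
    have h1 : A (D x) (A x w) = A x w := by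
      rw [← Module.End.mul_apply, ← map_mul, show D x * x = g * x * g⁻¹ by simp [D], map_mul, map_mul,
        Module.End.mul_apply, Module.End.mul_apply, hinv w hw, map_smul, map_smul, hv, smul_smul, inv_mul_cancel₀ hc,
        one_smul]
    refine ⟨h1, ?_⟩
    rw [map_mul, map_mul, Module.End.mul_apply, Module.End.mul_apply, hinv _ hv, map_smul, h1, map_smul, hv, smul_smul,
      inv_mul_cancel₀ hc, one_smul]
  -- trivial action
  by_cases htriv : ∀ a ∈ P, D a ∈ S
  · have hm : r * finrank F W ≤ finrank F V := by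
      obtain ⟨b, hb, hne⟩ : ∃ b ∈ P, D b ≠ 1 := by
        by_contra! h
        exact hns (hnd g fun b hb => by
          have e : g * b * g⁻¹ * b⁻¹ = 1 := h b hb
          rwa [mul_inv_eq_one, mul_inv_eq_iff_eq_mul] at e)
      have ht := htriv b hb
      refine hcycle g b (D b) ht hne ?_ (by simp only [D]; group) c
      have e : (D b * b) ^ r = b ^ r := by
        rw [show D b * b = g * b * g⁻¹ by simp [D], conj_pow, hcen _ (hpowS b hb) g, mul_inv_cancel_right]
      rwa [Commute.mul_pow (show Commute (D b) b from (hcen _ ht b).symm), mul_eq_right] at e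
    have h2 : 2 * finrank F W ≤ r * finrank F W := Nat.mul_le_mul_right _ hr.two_le
    refine ⟨fun _ => by omega, fun _ => by omega, fun _ => by omega, fun _ _ => by omega⟩
  push Not at htriv
  obtain ⟨x₀, hx₀, hDx₀⟩ := htriv
  have hgen : r * (2 * finrank F W) ≤ r * finrank F V + finrank F V := by
    have h1 := Nat.mul_le_mul_left r (two_finrank_le W (hAinj x₀))
    have h2 : finrank F (W ⊓ W.map (A x₀) : Submodule F V) ≤ finrank F (eigenspace (A (D x₀)) 1) :=
      Submodule.finrank_mono fun v hv => by rw [mem_eigenspace_iff, one_smul]; exact (hinter x₀ v hv).1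
    have h3 := (Nat.mul_le_mul_left r h2).trans (hfixP _ (hDP _ hx₀) hDx₀ 1)
    rw [mul_add] at h1
    omega
  -- coprime case
  have hodd : ϖ ≠ 2 → ϖ ≠ r → 2 * finrank F W ≤ finrank F V := by
    intro h2 hne
    by_contra hbig
    have hP0 : ∀ a ∈ P, com (g * D a * g⁻¹) (D a) = 1 := by
      intro a ha
      by_contra hc1
      have hb : g * D a * g⁻¹ ∈ P := (hgP _).1 (hDP a ha)
      obtain ⟨ht, htr⟩ := hcomm _ hb _ (hDP a ha)
      obtain ⟨μ, hμ, -, hprim⟩ := hscal _ ht htr
      have hμ1 : μ ≠ 1 := (hprim hc1).ne_one hr.one_lt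
      have hbot : W ⊓ W.map (A a) = ⊥ := by
        rw [Submodule.eq_bot_iff]
        intro v hv
        obtain ⟨e1, e2⟩ := hinter a v hv
        have e3 : A (g * D a * g⁻¹ * D a) v = v := by rw [map_mul, Module.End.mul_apply, e1, e2]
        have e4 : A (D a * (g * D a * g⁻¹)) v = v := by rw [map_mul, Module.End.mul_apply, e2, e1]
        rw [show g * D a * g⁻¹ * D a = com (g * D a * g⁻¹) (D a) * (D a * (g * D a * g⁻¹)) by simp only [com]; group,
          map_mul, hμ, Module.End.mul_apply, e4, LinearMap.smul_apply, Module.End.one_apply] at e3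
        by_contra hv0
        exact hμ1 (smul_left_injective F hv0 (e3.trans (one_smul F v).symm))
      have h1 := two_finrank_le W (hAinj a)
      rw [hbot, finrank_bot] at h1
      exact hbig (by omega)
    have hDg : ∀ a ∈ P, D (g * a * g⁻¹) = g * D a * g⁻¹ := fun a _ => by simp only [D]; group
    have hadj : ∀ a ∈ P, ∀ b ∈ P, com (g * D a * g⁻¹) (D b) = com (D a) (g * D b * g⁻¹) := by
      intro a ha b hb
      have hs : (D a * D b)⁻¹ * D (a * b) ∈ S := by
        rw [← hπ, map_mul, map_inv, map_mul, ← hπDmul a ha b hb, inv_mul_cancel]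
      obtain ⟨s, hs, he⟩ : ∃ s ∈ S, D (a * b) = D a * D b * s := ⟨_, hs, by group⟩
      have h0 := hP0 _ (P.mul_mem ha hb)
      rw [he] at h0
      have hA' := (hgP _).1 (hDP a ha)
      have hB' := (hgP _).1 (hDP b hb)
      have hs' : g * s * g⁻¹ = s := by rw [hcen s hs g, mul_inv_cancel_right]
      rw [show g * (D a * D b * s) * g⁻¹ = (g * D a * g⁻¹) * (g * D b * g⁻¹) * (g * s * g⁻¹) by group, hs',
        cml _ (P.mul_mem hA' hB') s (hSP hs) _ (P.mul_mem (P.mul_mem (hDP a ha) (hDP b hb)) (hSP hs)),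
        csl s hs, mul_one, cmr _ (P.mul_mem hA' hB') _ (P.mul_mem (hDP a ha) (hDP b hb)) s (hSP hs), csr s hs, mul_one,
        cml _ hA' _ hB' _ (P.mul_mem (hDP a ha) (hDP b hb)), cmr _ hA' _ (hDP a ha) _ (hDP b hb),
        cmr _ hB' _ (hDP a ha) _ (hDP b hb), hP0 a ha, hP0 b hb, one_mul, mul_one,
        csy (D a) (g * D b * g⁻¹)] at h0
      exact mul_inv_eq_one.1 h0
    have hsq : ∀ a ∈ P, ∀ b ∈ P, com (g * (g * D a * g⁻¹) * g⁻¹ * (D a)⁻¹) (D b) = 1 := by
      intro a ha b hb
      have h1 : com (g * (g * D a * g⁻¹) * g⁻¹) (D b) = com (D a) (D b) := by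
        rw [← hDg a ha, hadj _ ((hgP a).1 ha) b hb, hDg a ha, ccj _ (hDP a ha) _ (hDP b hb)]
      rw [cml _ ((hgP _).1 ((hgP _).1 (hDP a ha))) _ (P.inv_mem (hDP a ha)) _ (hDP b hb), h1,
        ← cml _ (hDP a ha) _ (P.inv_mem (hDP a ha)) _ (hDP b hb), mul_inv_cancel, csl 1 S.one_mem]
    have hgoπ : π g ^ ϖ = 1 := by rw [← map_pow, hgo, map_one]
    -- no fixed point lies in the image
    have hcop : ∀ a ∈ P, D (D a) ∈ S → D a ∈ S := by
      intro a ha h
      rw [← hπ] at h ⊢
      rw [hπD, mul_inv_eq_one, mul_inv_eq_iff_eq_mul] at h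
      have hk : ∀ k, π g ^ k * π a = π (D a) ^ k * π a * π g ^ k := by
        intro k
        induction k with
        | zero => simp
        | succ k ih =>
          have e : π g * π a = π (D a) * π a * π g := by rw [hπD]; group
          have e' : π g * π (D a) ^ k = π (D a) ^ k * π g := (Commute.pow_right h k).eq
          calc π g ^ (k + 1) * π a = π g * (π g ^ k * π a) := by rw [pow_succ', mul_assoc]
            _ = (π g * π (D a) ^ k) * π a * π g ^ k := by rw [ih]; simp only [mul_assoc]
            _ = π (D a) ^ k * (π g * π a) * π g ^ k := by rw [e']; simp only [mul_assoc]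
            _ = _ := by rw [e, pow_succ, pow_succ']; simp only [mul_assoc]
      have h1 := hk ϖ
      rw [hgoπ, one_mul, mul_one, eq_comm, mul_eq_right] at h1
      have h2 : π (D a) ^ r = 1 := by rw [← map_pow, hπ]; exact hpowS _ (hDP a ha)
      rw [← pow_one (π (D a)), ← Nat.Coprime.gcd_eq_one ((Nat.coprime_primes hϖ hr).2 hne), pow_gcd_eq_one]
      exact ⟨h1, h2⟩
    apply hDx₀
    have hall : ∀ a ∈ P, D (g * (g * D a * g⁻¹) * g⁻¹ * (D a)⁻¹) ∈ S := by
      intro a ha
      have huP : g * (g * D a * g⁻¹) * g⁻¹ * (D a)⁻¹ ∈ P :=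
        P.mul_mem ((hgP _).1 ((hgP _).1 (hDP a ha))) (P.inv_mem (hDP a ha))
      have hu := hsq a ha
      generalize g * (g * D a * g⁻¹) * g⁻¹ * (D a)⁻¹ = u at huP hu ⊢
      have hu2 : g⁻¹ * u * g ∈ P := (hgP _).2 (by rw [show g * (g⁻¹ * u * g) * g⁻¹ = u by group]; exact huP)
      have hz : g⁻¹ * u * g * u⁻¹ ∈ S := by
        refine hnd _ fun b hb => ?_
        have e1 := hu b hb
        rw [show D b = g * b * g⁻¹ * b⁻¹ from rfl, cmr _ huP _ ((hgP b).1 hb) _ (P.inv_mem hb)] at e1
        have e2 : com (g⁻¹ * u * g) b = com u (g * b * g⁻¹) := by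
          rw [← ccj _ hu2 b hb, show g * (g⁻¹ * u * g) * g⁻¹ = u by group]
        have e3 : com u b⁻¹ = com u⁻¹ b := by
          have f1 := cmr _ huP b hb b⁻¹ (P.inv_mem hb)
          have f2 := cml u huP u⁻¹ (P.inv_mem huP) b hb
          rw [mul_inv_cancel, csr 1 S.one_mem] at f1
          rw [mul_inv_cancel, csl 1 S.one_mem] at f2
          exact mul_left_cancel (f1.symm.trans f2)
        rw [← e2, e3, ← cml _ hu2 _ (P.inv_mem huP) b hb, com, mul_inv_eq_one, mul_inv_eq_iff_eq_mul] at e1
        exact e1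
      have hz' := hSn.conj_mem _ (S.inv_mem hz) g
      rwa [show g * (g⁻¹ * u * g * u⁻¹)⁻¹ * g⁻¹ = D u by simp only [D]; group] at hz'
    have hwP := hDP x₀ hx₀
    have hu : g * (g * D x₀ * g⁻¹) * g⁻¹ * (D x₀)⁻¹ ∈ S := by
      have e : π (D (g * D x₀ * g⁻¹ * D x₀)) = π (g * (g * D x₀ * g⁻¹) * g⁻¹ * (D x₀)⁻¹) := by
        rw [hπDmul _ ((hgP _).1 hwP) _ hwP, hπc _ (hDP _ ((hgP _).1 hwP)) _ (hDP _ hwP)]
        have e1 := hπc _ (hDP _ hwP) _ (hDP _ ((hgP _).1 hwP))
        rw [e1]
        simp only [D, map_mul, map_inv]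
        group
      have h1 := hall x₀ hx₀
      rw [← hπ, ← e]
      rw [hπ]
      refine hcop _ (P.mul_mem ((hgP _).1 hwP) hwP) ?_
      rw [← hπ, hπD, e, ← hπD, hπ]
      exact h1
    rw [← hπ, map_mul, map_mul, map_mul, map_mul, map_mul, map_inv, map_inv, mul_inv_eq_one] at hu
    have h4 : Commute (π g ^ 2) (π (D x₀)) := by
      show π g ^ 2 * π (D x₀) = π (D x₀) * π g ^ 2
      calc π g ^ 2 * π (D x₀) = π g * (π g * π (D x₀) * (π g)⁻¹) * (π g)⁻¹ * π g ^ 2 := by rw [pow_two]; group
        _ = _ := by rw [hu]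
    have h5 : Commute (π g) (π (D x₀)) := by
      obtain ⟨k, hk⟩ := hϖ.odd_of_ne_two h2
      have e : π g = (π g ^ 2) ^ (k + 1) := by
        rw [← pow_mul, show 2 * (k + 1) = ϖ + 1 by omega, pow_succ, hgoπ, one_mul]
      rw [e]
      exact h4.pow_left _
    refine hcop x₀ hx₀ ?_
    rw [← hπ, hπD, mul_inv_eq_one, mul_inv_eq_iff_eq_mul]
    exact h5
  -- the case `ϖ = r ≥ 5`
  have heq : 5 ≤ r → ϖ = r → 2 * finrank F W ≤ finrank F V := by
    intro h5 he
    subst he
    obtain ⟨R, hRP, hRr, hrep⟩ := hexp h5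
    -- a fixed point in the image
    obtain ⟨x, hxP, hxne, hxfix⟩ : ∃ a ∈ P, D a ∉ S ∧ D (D a) ∈ S := by
      let I : Subgroup (G ⧸ S) :=
        { carrier := {z | ∃ a ∈ P, π (D a) = z}
          one_mem' := ⟨1, P.one_mem, by simp [D]⟩
          mul_mem' := by
            rintro _ _ ⟨a, ha, rfl⟩ ⟨b, hb, rfl⟩
            exact ⟨a * b, P.mul_mem ha hb, hπDmul a ha b hb⟩
          inv_mem' := by
            rintro _ ⟨a, ha, rfl⟩
            refine ⟨a⁻¹, P.inv_mem ha, eq_inv_of_mul_eq_one_left ?_⟩
            rw [← hπDmul _ (P.inv_mem ha) _ ha, inv_mul_cancel]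
            simp [D] }
      let σ : Equiv.Perm I :=
        { toFun := fun z => ⟨π g * z * (π g)⁻¹, by
            obtain ⟨a, ha, e⟩ := z.2
            exact ⟨g * a * g⁻¹, (hgP a).1 ha, by rw [← e]; simp only [D, map_mul, map_inv]; group⟩⟩
          invFun := fun z => ⟨(π g)⁻¹ * z * π g, by
            obtain ⟨a, ha, e⟩ := z.2
            exact ⟨g⁻¹ * a * g, (hgP _).2 (by rw [show g * (g⁻¹ * a * g) * g⁻¹ = a by group]; exact ha),
              by rw [← e]; simp only [D, map_mul, map_inv]; group⟩⟩
          left_inv := fun z => Subtype.ext (by simp [mul_assoc])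
          right_inv := fun z => Subtype.ext (by simp [mul_assoc]) }
      have hσ : ∀ k z, (((σ ^ k) z : I) : G ⧸ S) = π g ^ k * z * (π g ^ k)⁻¹ := by
        intro k
        induction k with
        | zero => simp
        | succ k ih =>
          intro z
          rw [pow_succ', Equiv.Perm.mul_apply]
          show π g * _ * (π g)⁻¹ = _
          rw [ih, pow_succ']
          group
      have hσr : σ ^ ϖ = 1 := Equiv.ext fun z => Subtype.ext (by
        rw [hσ, ← map_pow, hgo]; simp)
      have hp : IsPGroup ϖ (Subgroup.zpowers σ) := fun τ => ⟨1, Subtype.ext (by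
        obtain ⟨j, hj⟩ := Subgroup.mem_zpowers_iff.1 τ.2
        rw [pow_one, Subgroup.coe_pow, Subgroup.coe_one, ← hj, ← zpow_natCast, ← zpow_mul, mul_comm, zpow_mul,
          zpow_natCast, hσr, one_zpow])⟩
      let w : I := ⟨π (D x₀), x₀, hx₀, rfl⟩
      have hw : orderOf w = ϖ := orderOf_eq_prime
        (Subtype.ext (by simp only [Subgroup.coe_pow, Subgroup.coe_one]; rw [← map_pow, hπ]; exact hpowS _ (hDP _ hx₀)))
        (fun e => hDx₀ ((hπ _).1 (congrArg Subtype.val e)))
      have h1 : (1 : I) ∈ MulAction.fixedPoints (Subgroup.zpowers σ) I := fun τ => by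
        obtain ⟨j, hj⟩ := Subgroup.mem_zpowers_iff.1 τ.2
        show (τ : Equiv.Perm I) 1 = 1
        have : σ 1 = 1 := Subtype.ext (by show π g * 1 * (π g)⁻¹ = 1; simp)
        rw [← hj]
        exact (Equiv.Perm.zpow_apply_eq_self_of_apply_eq_self this j)
      obtain ⟨z, hz, hne⟩ := hp.exists_fixed_point_of_prime_dvd_card_of_fixed_point I
        (hw ▸ orderOf_dvd_natCard w) h1
      obtain ⟨a, ha, he⟩ := z.2
      refine ⟨a, ha, fun h => hne (Subtype.ext (by rw [← he, (hπ _).2 h]; rfl)), ?_⟩
      have e : σ z = z := hz ⟨σ, Subgroup.mem_zpowers σ⟩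
      rw [← hπ, hπD, mul_inv_eq_one, he]
      exact congrArg Subtype.val e
    obtain ⟨x', hx', hxs⟩ := hrep x hxP
    have hDS : π (D x) = π (D x') := by
      have e : π x = π x' := (inv_mul_eq_one.1 (by rw [← map_inv, ← map_mul, hπ]; exact hxs)).symm
      rw [hπD, hπD, e]
    obtain ⟨y, hy, hys⟩ := hrep (D x') (hDP _ (hRP hx'))
    have hyn : y ∉ S := fun h => hxne (by
      rw [← hπ, hDS, hπ, show D x' = y * (y⁻¹ * D x') by group]; exact S.mul_mem h hys)
    have hyfix : D y ∈ S := by
      have e : π y = π (D x) := by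
        rw [hDS]; exact inv_mul_eq_one.1 (by rw [← map_inv, ← map_mul, hπ]; exact hys)
      rw [← hπ] at hxfix ⊢
      rw [hπD, e, ← hπD]
      exact hxfix
    by_cases hgy : D y = 1
    swap
    · have hyr : D y ^ ϖ = 1 := by
        have e : (D y * y) ^ ϖ = y ^ ϖ := by
          rw [show D y * y = g * y * g⁻¹ by simp [D], conj_pow, hcen _ (hpowS y (hRP hy)) g, mul_inv_cancel_right]
        rwa [Commute.mul_pow (show Commute (D y) y from (hcen _ hyfix y).symm), mul_eq_right] at e
      have h1 := hcycle g y (D y) hyfix hgy hyr (by simp only [D]; group) c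
      rw [← hW] at h1
      have h2 : 2 * finrank F W ≤ ϖ * finrank F W := Nat.mul_le_mul_right _ hr.two_le
      omega
    have hgy' : g * y = y * g := by
      have e : g * y * g⁻¹ * y⁻¹ = 1 := hgy
      rwa [mul_inv_eq_one, mul_inv_eq_iff_eq_mul] at e
    obtain ⟨s, hs, hsx⟩ : ∃ s ∈ S, g * x' * g⁻¹ = s * (y * x') := ⟨y⁻¹ * D x', hys, by
      rw [← mul_assoc (y⁻¹ * D x'), ← hcen _ hys y]
      simp only [D]; group⟩
    have hsr : s ^ ϖ = 1 := by
      have e := congrArg (· ^ ϖ) hsx
      simp only [conj_pow, Commute.mul_pow (show Commute s (y * x') from (hcen s hs _).symm),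
        hRr x' hx', hRr _ (R.mul_mem hy hx'), mul_one, mul_inv_cancel] at e
      exact e.symm
    obtain ⟨lam, hlam, hlam1, -⟩ := hscal s hs hsr
    obtain ⟨ht, htr⟩ := hcomm y (hRP hy) x' (hRP hx')
    obtain ⟨ν, hν, hν1, hνp⟩ := hscal _ ht htr
    have hyA : A y ^ ϖ = 1 := by rw [← map_pow, hRr y hy, map_one]
    have hWy : ∀ v ∈ W, A y v ∈ W := fun v hv => by
      rw [hW, mem_eigenspace_iff] at hv ⊢
      rw [← Module.End.mul_apply, ← map_mul, hgy', map_mul, Module.End.mul_apply, hv, map_smul]
    have hey : ∀ d : F, ϖ * finrank F (eigenspace (A y) d) ≤ finrank F V := hfixP y (hRP hy) hyn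
    -- the translation by `x`
    have hshift : ∀ c' e : F, (eigenspace (A g) c' ⊓ eigenspace (A y) e).map (A x') ≤
        eigenspace (A g) (lam * ν * e * c') ⊓ eigenspace (A y) (ν * e) := by
      rintro c' e _ ⟨v, ⟨hv1, hv2⟩, rfl⟩
      rw [SetLike.mem_coe, mem_eigenspace_iff] at hv1 hv2
      have eyx : A y (A x' v) = (ν * e) • A x' v := by
        rw [← Module.End.mul_apply, ← map_mul, show y * x' = com y x' * (x' * y) by rw [com]; group, map_mul, hν,
          map_mul, Module.End.mul_apply, LinearMap.smul_apply, Module.End.one_apply, Module.End.mul_apply, hv2,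
          map_smul, smul_smul]
      refine ⟨?_, mem_eigenspace_iff.2 eyx⟩
      rw [SetLike.mem_coe, mem_eigenspace_iff, ← Module.End.mul_apply, ← map_mul,
        show g * x' = g * x' * g⁻¹ * g by group, hsx, map_mul, map_mul, hlam, map_mul, Module.End.mul_apply,
        Module.End.mul_apply, LinearMap.smul_apply, Module.End.one_apply, Module.End.mul_apply, hv1, map_smul,
        map_smul, eyx, smul_smul, smul_smul]
      congr 1
      ring
    by_cases hν' : com y x' = 1
    · -- `x` commutes with `y`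
      have hν0 : ν = 1 := by
        obtain ⟨v, hv⟩ := exists_ne (0 : V)
        have e := congrArg (fun f : End F V => f v) hν
        rw [hν', map_one] at e
        exact smul_left_injective F hv (e.symm.trans (one_smul F v).symm)
      subst hν0
      obtain ⟨b, hb, hne⟩ := hprimroot y (hRP hy) hyn
      obtain ⟨ρ, -, -, hρ⟩ := hscal _ (hcomm y (hRP hy) b hb).1 (hcomm y (hRP hy) b hb).2
      have hρp := hρ hne
      have hsum := finrank_le_sum_eigen hρp hr.one_lt hyA W hWy
      have hk : ∀ k ∈ Finset.range ϖ, lam * ρ ^ k ≠ 1 →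
          ϖ * (ϖ * finrank F (W ⊓ eigenspace (A y) (ρ ^ k) : Submodule F V)) ≤ finrank F V := by
        intro k _ hne
        refine le_trans (Nat.mul_le_mul_left ϖ ?_) (hey (ρ ^ k))
        by_cases hc : c = 0
        · have : W = ⊥ := by
            rw [hW, hc, Submodule.eq_bot_iff]
            intro v hv
            rw [mem_eigenspace_iff, zero_smul] at hv
            exact hAinj g (hv.trans (map_zero _).symm)
          rw [this, bot_inf_eq, finrank_bot, mul_zero]
          exact Nat.zero_le _
        set η := lam * ρ ^ k with hη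
        have hη1 : η ^ ϖ = 1 := by rw [hη, mul_pow, hlam1, ← pow_mul, mul_comm k, pow_mul, hρp.pow_eq_one]; simp
        have hηp : IsPrimitiveRoot η ϖ := orderOf_eq_prime hη1 hne ▸ IsPrimitiveRoot.orderOf η
        have hstep : ∀ i, finrank F (W ⊓ eigenspace (A y) (ρ ^ k) : Submodule F V) ≤
            finrank F (eigenspace (A g) (η ^ i * c) ⊓ eigenspace (A y) (ρ ^ k) : Submodule F V) := by
          intro i
          induction i with
          | zero => rw [pow_zero, one_mul]
          | succ i ih =>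
            refine ih.trans (finrank_le_of_map_le (hAinj x') ((hshift _ _).trans_eq ?_))
            rw [show lam * 1 * ρ ^ k * (η ^ i * c) = η ^ (i + 1) * c by rw [hη, pow_succ']; ring, one_mul]
        have hinj : Set.InjOn (fun i => η ^ i * c) (Finset.range ϖ : Set ℕ) := fun i hi j hj e =>
          hηp.pow_inj (Finset.mem_range.1 hi) (Finset.mem_range.1 hj) (mul_right_cancel₀ hc e)
        have h1 := sum_finrank_le ((eigenspaces_iSupIndep (A g)).mono fun d => inf_le_left
            (b := eigenspace (A y) (ρ ^ k))) ((Finset.range ϖ).image fun i => η ^ i * c)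
          (U := eigenspace (A y) (ρ ^ k)) fun i _ => inf_le_right
        rw [Finset.sum_image hinj] at h1
        have h2 := Finset.card_nsmul_le_sum (Finset.range ϖ)
          (fun i => finrank F (eigenspace (A g) (η ^ i * c) ⊓ eigenspace (A y) (ρ ^ k) : Submodule F V))
          _ fun i _ => hstep i
        rw [Finset.card_range, smul_eq_mul] at h2
        exact h2.trans h1
      have hbound : ∀ k ∈ Finset.range ϖ, ϖ * (ϖ * finrank F (W ⊓ eigenspace (A y) (ρ ^ k) : Submodule F V)) ≤
          finrank F V + (if lam * ρ ^ k = 1 then ϖ * finrank F V else 0) := by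
        intro k hkm
        split_ifs with h
        · refine le_trans (Nat.mul_le_mul_left ϖ (le_trans (Nat.mul_le_mul_left ϖ
            (Submodule.finrank_mono inf_le_right)) (hey _))) ?_
          exact Nat.le_add_left _ _
        · simpa using hk k hkm h
      have h1 := Finset.sum_le_sum hbound
      rw [← Finset.mul_sum, ← Finset.mul_sum, Finset.sum_add_distrib, Finset.sum_const, Finset.card_range, smul_eq_mul,
        ← Finset.sum_filter, Finset.sum_const, smul_eq_mul] at h1
      have hone : ((Finset.range ϖ).filter fun k => lam * ρ ^ k = 1).card ≤ 1 := by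
        refine Finset.card_le_one.2 fun i hi j hj => ?_
        simp only [Finset.mem_filter, Finset.mem_range] at hi hj
        have hl : lam ≠ 0 := fun e => by simp [e, hr.ne_zero] at hlam1
        exact hρp.pow_inj hi.1 hj.1 (mul_left_cancel₀ hl (hi.2.trans hj.2.symm))
      have h3 : ϖ * (ϖ * finrank F W) ≤ ϖ * (2 * finrank F V) := by
        have := Nat.mul_le_mul_left ϖ (Nat.mul_le_mul_left ϖ hsum)
        have := Nat.mul_le_mul_right (ϖ * finrank F V) hone
        nlinarith
      have h4 := Nat.le_of_mul_le_mul_left h3 hr.pos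
      have h6 : 5 * finrank F W ≤ ϖ * finrank F W := Nat.mul_le_mul_right _ h5
      omega
    · -- `x` moves the eigenspaces of `y` in a cycle
      have hνp' := hνp hν'
      have hsum := finrank_le_sum_eigen hνp' hr.one_lt hyA W hWy
      let q : ℕ → F := fun k => lam ^ k * ν ^ (∑ i ∈ Finset.range k, (i + 1))
      have hq2 : ∀ k, q k ^ 2 = lam ^ (2 * k) * ν ^ (k * (k + 1)) := by
        intro k
        have e : (∑ i ∈ Finset.range k, (i + 1)) * 2 = k * (k + 1) := by
          induction k with
          | zero => simp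
          | succ k ih => rw [Finset.sum_range_succ, add_mul, ih]; ring
        simp only [q]
        rw [mul_pow, ← pow_mul, ← pow_mul, e, mul_comm k 2]
      have hl : lam ≠ 0 := fun e => by simp [e, hr.ne_zero] at hlam1
      have hq0 : ∀ k, q k ≠ 0 := fun k => mul_ne_zero (pow_ne_zero _ hl) (pow_ne_zero _ (hνp'.ne_zero hr.ne_zero))
      have hstep : ∀ k i, finrank F (W ⊓ eigenspace (A y) (ν ^ k) : Submodule F V) ≤
          finrank F (eigenspace (A g) (q (k + i) / q k * c) ⊓ eigenspace (A y) (ν ^ (k + i)) : Submodule F V) := by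
        intro k i
        induction i with
        | zero => rw [add_zero, div_self (hq0 k), one_mul]
        | succ i ih =>
          refine ih.trans (finrank_le_of_map_le (hAinj x') ((hshift _ _).trans_eq ?_))
          congr 2
          · simp only [q, ← add_assoc, Finset.sum_range_succ, pow_add, pow_succ]
            ring
          · rw [← add_assoc, pow_succ']
      let val : ℕ → F := fun k => q ϖ / q k * c
      have hto : ∀ k ∈ Finset.range ϖ, finrank F (W ⊓ eigenspace (A y) (ν ^ k) : Submodule F V) ≤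
          finrank F (eigenspace (A g) (val k) ⊓ eigenspace (A y) 1 : Submodule F V) := by
        intro k hk
        have := hstep k (ϖ - k)
        rwa [Nat.add_sub_cancel' (Finset.mem_range.1 hk).le, hνp'.pow_eq_one] at this
      by_cases hc : c = 0
      · have : W = ⊥ := by
          rw [hW, hc, Submodule.eq_bot_iff]
          intro v hv
          rw [mem_eigenspace_iff, zero_smul] at hv
          exact hAinj g (hv.trans (map_zero _).symm)
        rw [this, finrank_bot]
        simp
      have hpair : ∀ k l, k < ϖ → l < ϖ → k ≠ l → val k = val l → ν ^ (k + l) = (lam ^ 2 * ν)⁻¹ := by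
        intro k l hk hl' hne e
        wlog hkl : k < l generalizing k l
        · rw [add_comm]; exact this l k hl' hk hne.symm e.symm (by omega)
        have e1 : q k = q l := by
          have := mul_right_cancel₀ hc e
          rwa [div_eq_div_iff (hq0 k) (hq0 l), mul_right_inj' (hq0 ϖ), eq_comm] at this
        have e2 := congrArg (· ^ 2) e1
        simp only [hq2] at e2
        obtain ⟨j, rfl⟩ : ∃ j, l = k + j := ⟨l - k, by omega⟩
        have e3 : (lam ^ 2 * ν ^ (2 * k + j + 1)) ^ j = 1 := by
          have h0 : lam ^ (2 * k) * ν ^ (k * (k + 1)) ≠ 0 :=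
            mul_ne_zero (pow_ne_zero _ hl) (pow_ne_zero _ (hνp'.ne_zero hr.ne_zero))
          refine mul_left_cancel₀ h0 ?_
          rw [mul_one]
          conv_rhs => rw [e2]
          rw [mul_pow, ← pow_mul, ← pow_mul]
          ring
        have e4 : (lam ^ 2 * ν ^ (2 * k + j + 1)) ^ ϖ = 1 := by
          rw [mul_pow, ← pow_mul, mul_comm 2 ϖ, pow_mul, hlam1, ← pow_mul, mul_comm _ ϖ, pow_mul, hνp'.pow_eq_one]
          simp
        have e5 : lam ^ 2 * ν ^ (2 * k + j + 1) = 1 := by
          have h := pow_gcd_eq_one.2 ⟨e4, e3⟩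
          rwa [Nat.Coprime.gcd_eq_one (m := ϖ) (n := j)
            (hr.coprime_iff_not_dvd.2 fun h => by have := Nat.le_of_dvd (by omega) h; omega), pow_one] at h
        refine eq_inv_of_mul_eq_one_left ?_
        rw [show k + (k + j) = 2 * k + j by ring]
        rw [pow_succ] at e5
        linear_combination e5
      have hfib : ∀ v, ((Finset.range ϖ).filter fun k => val k = v).card ≤ 2 := by
        intro v
        by_contra hgt
        obtain ⟨k, hk, l, hl', m, hm, h1, h2, h3⟩ := Finset.two_lt_card.1 (not_le.1 hgt)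
        simp only [Finset.mem_filter, Finset.mem_range] at hk hl' hm
        have e1 := hpair k l hk.1 hl'.1 h1 (hk.2.trans hl'.2.symm)
        have e2 := hpair k m hk.1 hm.1 h2 (hk.2.trans hm.2.symm)
        rw [← e2, pow_add, pow_add] at e1
        exact h3 (hνp'.pow_inj hl'.1 hm.1 (mul_left_cancel₀ (pow_ne_zero _ (hνp'.ne_zero hr.ne_zero)) e1))
      have h1 : ∑ k ∈ Finset.range ϖ, finrank F (W ⊓ eigenspace (A y) (ν ^ k) : Submodule F V) ≤
          2 * finrank F (eigenspace (A y) (1 : F)) := by
        refine (Finset.sum_le_sum hto).trans ?_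
        rw [← Finset.sum_fiberwise_of_maps_to (t := (Finset.range ϖ).image val)
          (fun k hk => Finset.mem_image_of_mem val hk)]
        refine le_trans (Finset.sum_le_sum (g := fun v => 2 * finrank F
          (eigenspace (A g) v ⊓ eigenspace (A y) 1 : Submodule F V)) fun v _ => ?_) ?_
        · rw [Finset.sum_congr rfl fun k hk => by rw [(Finset.mem_filter.1 hk).2], Finset.sum_const, smul_eq_mul]
          exact Nat.mul_le_mul_right _ (hfib v)
        · rw [← Finset.mul_sum]
          exact Nat.mul_le_mul_left 2 (sum_finrank_le ((eigenspaces_iSupIndep (A g)).mono fun d => inf_le_left)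
            _ fun i _ => inf_le_right)
      have h2 := hey 1
      have h3 : ϖ * finrank F W ≤ 2 * finrank F V := by
        refine (Nat.mul_le_mul_left ϖ (hsum.trans h1)).trans ?_
        calc ϖ * (2 * _) = 2 * (ϖ * finrank F (eigenspace (A y) (1 : F))) := by ring
          _ ≤ _ := Nat.mul_le_mul_left 2 h2
      have h6 : 5 * finrank F W ≤ ϖ * finrank F W := Nat.mul_le_mul_right _ h5
      omega
  refine ⟨fun _ => ?_, fun h => ?_, fun h => ?_, fun h hn => hodd (by omega) (h ▸ Ne.symm (hdiv h hn))⟩
  · have : 2 * (2 * finrank F W) ≤ 3 * finrank F V := by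
      have := Nat.mul_le_mul_right (finrank F V) hr.two_le
      have h0 : r * (2 * (2 * finrank F W)) ≤ r * (3 * finrank F V) := by nlinarith
      exact Nat.le_of_mul_le_mul_left h0 hr.pos
    omega
  · by_cases he : r = 3
    · subst he; omega
    · have := hodd (by omega) (by omega)
      omega
  · by_cases he : ϖ = r
    · exact heq (by
        subst he
        rcases Nat.lt_or_ge ϖ 5 with h' | h'
        · interval_cases ϖ; norm_num at hϖ
        · exact h') he
    · exact hodd (by omega) he

end CfsgLib.Geo.ExtraEigen
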