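/-
Tensor structures with factors of equal dimension, and tensor powers of two-dimensional spaces as form groups.
-/
import Cfsg.Agent.Lib.Geo.Asch.TensorPower
import Cfsg.Agent.Lib.Geo.Asch.InvForm

set_option autoImplicit false

namespace CfsgLib.Geo.Asch

open Matrix Cfsg.Geo
open scoped Kronecker

variable {ι : Type} [Fintype ι] [DecidableEq ι] {F : Type*} [Field F]

theorem tensorProductSubgroup_swap {d k : ℕ} (e : ι ≃ Fin d × Fin k) (P : GL ι F) :
    tensorProductSubgroup d k e P ≤ tensorProductSubgroup k d (e.trans (Equiv.prodComm _ _)) P := by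
  intro g hg
  obtain ⟨a, b, h⟩ := (mem_tensorProductSubgroup_iff e P g).1 hg
  refine (mem_tensorProductSubgroup_iff _ P g).2 ⟨b, a, ?_⟩
  ext ⟨i, j⟩ ⟨i', j'⟩
  have := congrFun (congrFun h (j, i)) (j', i')
  rw [Matrix.kronecker_apply, coord, Matrix.submatrix_apply] at this
  rw [Matrix.kronecker_apply, coord, Matrix.submatrix_apply, mul_comm _ ((a : Matrix (Fin d) (Fin d) F) j j'), ← this]
  rfl

theorem tensorProductSubgroup_le_wreath {d : ℕ} (e : ι ≃ Fin d × Fin d) (P : GL ι F) :
    tensorProductSubgroup d d e P ≤ tensorWreathSubgroup d 2 (e.trans (finTwoArrowEquiv (Fin d)).symm) P := by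
  intro g hg
  obtain ⟨a, b, h⟩ := (mem_tensorProductSubgroup_iff e P g).1 hg
  refine mem_tensorWreathSubgroup_of_coord (Equiv.refl _) ![a, b] ?_
  have h1 : (permT d F (Equiv.refl (Fin 2))) = 1 := by
    ext x y
    simp [permT, Matrix.one_apply, eq_comm]
  rw [h1, mul_one]
  ext x y
  have := congrFun (congrFun h (x 0, x 1)) (y 0, y 1)
  rw [Matrix.kronecker_apply, coord, Matrix.submatrix_apply] at this
  rw [pureT_apply, coord, Matrix.submatrix_apply, Fin.prod_univ_two]
  exact this

theorem pureT_transpose {d t : ℕ} (gs : Fin t → Matrix (Fin d) (Fin d) F) :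
    (pureT d t F gs)ᵀ = pureT d t F fun i => (gs i)ᵀ := by
  ext x y
  rfl

theorem pureT_smul {d t : ℕ} (c : Fin t → F) (gs : Fin t → Matrix (Fin d) (Fin d) F) :
    pureT d t F (fun i => c i • gs i) = (∏ i, c i) • pureT d t F gs := by
  ext x y
  simp [pureT_apply, Finset.prod_mul_distrib]

/-- The alternating form on `F²`. -/
def symJ (F : Type*) [Field F] : Matrix (Fin 2) (Fin 2) F := !![0, 1; -1, 0]

theorem transpose_mul_symJ (g : Matrix (Fin 2) (Fin 2) F) : gᵀ * symJ F * g = g.det • symJ F := by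
  ext i j
  fin_cases i <;> fin_cases j <;> simp [symJ, Matrix.mul_apply, Fin.sum_univ_two, Matrix.det_fin_two] <;> ring

theorem symJ_sq : symJ F * symJ F = (-1 : F) • (1 : Matrix (Fin 2) (Fin 2) F) := by
  ext i j
  fin_cases i <;> fin_cases j <;> simp [symJ, Matrix.mul_apply, Fin.sum_univ_two]

/-- The tensor power of the alternating form. -/
def symPow (t : ℕ) (F : Type*) [Field F] : Matrix (Fin t → Fin 2) (Fin t → Fin 2) F :=
  pureT 2 t F fun _ => symJ F

theorem symPow_sq (t : ℕ) : symPow t F * symPow t F = (-1 : F) ^ t • (1 : Matrix (Fin t → Fin 2) (Fin t → Fin 2) F) := by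
  rw [symPow, ← map_mul, show ((fun _ => symJ F) * fun _ => symJ F : Fin t → Matrix (Fin 2) (Fin 2) F) =
    fun _ => (-1 : F) • (1 : Matrix (Fin 2) (Fin 2) F) from funext fun _ => symJ_sq, pureT_smul]
  rw [Finset.prod_const, Finset.card_univ, Fintype.card_fin,
    show (pureT 2 t F fun _ => (1 : Matrix (Fin 2) (Fin 2) F)) = 1 from map_one (pureT 2 t F)]

theorem symPow_transpose (t : ℕ) : (symPow t F)ᵀ = (-1 : F) ^ t • symPow t F := by
  rw [symPow, pureT_transpose, show (fun _ : Fin t => (symJ F)ᵀ) = fun _ => (-1 : F) • symJ F from funext fun _ => by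
    ext i j; fin_cases i <;> fin_cases j <;> simp [symJ], pureT_smul, Finset.prod_const, Finset.card_univ,
    Fintype.card_fin]

theorem symPow_eq_zero {t : ℕ} {x y : Fin t → Fin 2} (i : Fin t) (h : x i = y i) : symPow t F x y = 0 := by
  rw [symPow, pureT_apply]
  refine Finset.prod_eq_zero (Finset.mem_univ i) ?_
  show symJ F (x i) (y i) = 0
  rw [h]
  generalize y i = a
  fin_cases a <;> simp [symJ]

/-- The pure tensors and factor permutations preserve the form up to scalars. -/
theorem symPow_similar {t : ℕ} {g : GL (Fin t → Fin 2) F} (hg : g ∈ tensorWreathStandard 2 t F) :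
    ∃ c : Fˣ, (g : Matrix (Fin t → Fin 2) (Fin t → Fin 2) F)ᵀ * symPow t F *
      (g : Matrix (Fin t → Fin 2) (Fin t → Fin 2) F) = (c : F) • symPow t F := by
  induction hg using Subgroup.closure_induction with
  | mem g hg =>
    rcases hg with ⟨gs, hgs⟩ | ⟨π, hπ⟩
    · have e : (g : Matrix (Fin t → Fin 2) (Fin t → Fin 2) F) =
          pureT 2 t F fun i => (gs i : Matrix (Fin 2) (Fin 2) F) := Matrix.ext hgs
      refine ⟨∏ i, Matrix.GeneralLinearGroup.det (gs i), ?_⟩
      rw [e, symPow, pureT_transpose, ← map_mul, ← map_mul, show ((fun i => ((gs i : Matrix (Fin 2) (Fin 2) F))ᵀ) *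
        (fun _ => symJ F) * fun i => (gs i : Matrix (Fin 2) (Fin 2) F)) =
        fun i => (gs i : Matrix (Fin 2) (Fin 2) F).det • symJ F from funext fun i => transpose_mul_symJ _, pureT_smul,
        Units.coe_prod]
      rfl
    · have e : (g : Matrix (Fin t → Fin 2) (Fin t → Fin 2) F) = permT 2 F π := Matrix.ext hπ
      refine ⟨1, ?_⟩
      rw [e, Units.val_one, one_smul]
      ext x y
      rw [mul_permT, Matrix.mul_apply, Finset.sum_eq_single (x ∘ π.symm)]
      · rw [Matrix.transpose_apply, permT, Matrix.of_apply, if_pos (by rw [Function.comp_assoc, Equiv.symm_comp_self,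
          Function.comp_id]), one_mul, symPow, pureT_apply, pureT_apply]
        exact Equiv.prod_comp π.symm fun i => symJ F (x i) (y i)
      · intro z _ hz
        rw [Matrix.transpose_apply, permT, Matrix.of_apply, if_neg, zero_mul]
        intro e
        exact hz (by rw [e, Function.comp_assoc, Equiv.self_comp_symm, Function.comp_id])
      · simp
  | one => exact ⟨1, by simp⟩
  | mul a b _ _ ha hb =>
    obtain ⟨c, hc⟩ := ha
    obtain ⟨c', hc'⟩ := hb
    refine ⟨c * c', ?_⟩
    rw [Units.val_mul, Matrix.transpose_mul,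
      show ∀ A B C D E : Matrix (Fin t → Fin 2) (Fin t → Fin 2) F, A * B * C * (D * E) = A * (B * C * D) * E from
        fun A B C D E => by simp only [mul_assoc], hc, Matrix.mul_smul, Matrix.smul_mul, hc', smul_smul, Units.val_mul]
  | inv a _ ha =>
    obtain ⟨c, hc⟩ := ha
    refine ⟨c⁻¹, ?_⟩
    have h1 := congrArg (fun X => ((a⁻¹ : GL (Fin t → Fin 2) F) : Matrix (Fin t → Fin 2) (Fin t → Fin 2) F)ᵀ * X *
      ((a⁻¹ : GL (Fin t → Fin 2) F) : Matrix (Fin t → Fin 2) (Fin t → Fin 2) F)) hc
    simp only [← mul_assoc] at h1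
    rw [← Matrix.transpose_mul, ← Units.val_mul, mul_inv_cancel, Units.val_one, Matrix.transpose_one, one_mul,
      mul_assoc (symPow t F), ← Units.val_mul, mul_inv_cancel, Units.val_one, mul_one, Matrix.mul_smul, Matrix.smul_mul]
      at h1
    rw [Units.val_inv_eq_inv_val, eq_inv_smul_iff₀ c.ne_zero]
    exact h1.symm

/-- A tensor power of two-dimensional spaces fixes a form up to scalars. -/
theorem wreath_two_le_similarity [Fintype F] {t : ℕ} (ht : 0 < t) (e : ι ≃ (Fin t → Fin 2)) (P : GL ι F) :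
    (Odd (Fintype.card F) ∧ ∃ Q : (ι → F) → F, IsNondegenerateQuadraticForm Q ∧
      tensorWreathSubgroup 2 t e P ≤ quadSimilarityGroup Q) ∨
    (∃ f : (ι → F) → (ι → F) → F, IsSymplecticForm f ∧ tensorWreathSubgroup 2 t e P ≤ similarityGroup f) := by
  classical
  set G := ((P⁻¹ : GL ι F) : Matrix ι ι F)ᵀ * (symPow t F).submatrix e e * ((P⁻¹ : GL ι F) : Matrix ι ι F) with hG
  clear_value G
  have hss : ∀ (a : F) (M : Matrix (Fin t → Fin 2) (Fin t → Fin 2) F),
      (a • M).submatrix e e = a • M.submatrix e e := fun _ _ => rfl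
  let f : (ι → F) → (ι → F) → F := fun u v => u ⬝ᵥ (G *ᵥ v)
  have hf : IsBilinearForm f :=
    ⟨fun x y v => add_dotProduct x y _, fun c x v => smul_dotProduct c x _,
      fun v x y => by simp only [f, Matrix.mulVec_add, dotProduct_add],
      fun c v x => by simp only [f, Matrix.mulVec_smul, dotProduct_smul, smul_eq_mul]⟩
  have hsim : tensorWreathSubgroup 2 t e P ≤ similarityGroup f := by
    rintro _ ⟨_, ⟨w, hw, rfl⟩, rfl⟩
    obtain ⟨c, hc⟩ := symPow_similar hw
    refine ⟨c, fun u v => ?_⟩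
    set g : GL ι F := (MulAut.conj P).toMonoidHom ((glReindex e.symm).toMonoidHom w) with hg
    have hgv : (g : Matrix ι ι F) = (P : Matrix ι ι F) *
        (w : Matrix (Fin t → Fin 2) (Fin t → Fin 2) F).submatrix e e * ((P⁻¹ : GL ι F) : Matrix ι ι F) := by
      rw [hg]
      rfl
    have key : (g : Matrix ι ι F)ᵀ * G * (g : Matrix ι ι F) = (c : F) • G := by
      rw [hgv, hG]
      simp only [Matrix.transpose_mul, mul_assoc]
      rw [← mul_assoc (P : Matrix ι ι F)ᵀ ((P⁻¹ : GL ι F) : Matrix ι ι F)ᵀ, ← Matrix.transpose_mul, P.inv_mul,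
        Matrix.transpose_one, one_mul, ← mul_assoc ((P⁻¹ : GL ι F) : Matrix ι ι F) (P : Matrix ι ι F), P.inv_mul,
        one_mul, Matrix.transpose_submatrix, ← mul_assoc _ ((symPow t F).submatrix e e), Matrix.submatrix_mul_equiv,
        ← mul_assoc _ ((w : Matrix (Fin t → Fin 2) (Fin t → Fin 2) F).submatrix e e), Matrix.submatrix_mul_equiv, hc,
        hss, Matrix.smul_mul, Matrix.mul_smul]
    show (g : Matrix ι ι F) *ᵥ u ⬝ᵥ (G *ᵥ ((g : Matrix ι ι F) *ᵥ v)) = (c : F) * (u ⬝ᵥ (G *ᵥ v))
    rw [← Matrix.vecMul_transpose (g : Matrix ι ι F) u, ← Matrix.dotProduct_mulVec, Matrix.mulVec_mulVec,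
      Matrix.mulVec_mulVec, key, Matrix.smul_mulVec, dotProduct_smul, smul_eq_mul]
  have hGu : IsUnit G := by
    rw [hG]
    refine (((Matrix.isUnit_transpose _).2 (Units.isUnit P⁻¹)).mul ?_).mul (Units.isUnit P⁻¹)
    have hS : IsUnit (symPow t F) := by
      rw [Matrix.isUnit_iff_isUnit_det, isUnit_iff_ne_zero]
      intro h0
      have := congrArg Matrix.det (symPow_sq (F := F) t)
      rw [Matrix.det_mul, h0, zero_mul, Matrix.det_smul, Matrix.det_one, mul_one] at this
      exact pow_ne_zero _ (pow_ne_zero _ (neg_ne_zero.2 one_ne_zero)) this.symm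
    rwa [Matrix.isUnit_submatrix_equiv]
  have hnd : IsNondegenerateForm f := by
    intro v hv
    obtain ⟨i, hi⟩ := Function.ne_iff.1 hv
    constructor
    · have h1 : G *ᵥ v ≠ 0 := fun h => hv (Matrix.mulVec_injective_of_isUnit hGu (by rw [h, Matrix.mulVec_zero]))
      obtain ⟨j, hj⟩ := Function.ne_iff.1 h1
      exact ⟨Pi.single j 1, by simpa [f] using hj⟩
    · obtain ⟨x, hx⟩ := (Matrix.mulVec_surjective_iff_isUnit.2 hGu) (Pi.single i 1)
      exact ⟨x, by simpa [f, hx] using hi⟩
  have hGT : Gᵀ = (-1 : F) ^ t • G := by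
    simp only [hG, Matrix.transpose_mul, Matrix.transpose_transpose, Matrix.transpose_submatrix, symPow_transpose,
      hss, Matrix.smul_mul, Matrix.mul_smul, mul_assoc]
  have hswap : ∀ u v, f u v = (-1 : F) ^ t * f v u := fun u v => by
    show u ⬝ᵥ (G *ᵥ v) = _ * (v ⬝ᵥ (G *ᵥ u))
    rw [Matrix.dotProduct_mulVec, dotProduct_comm, ← Matrix.mulVec_transpose, hGT, Matrix.smul_mulVec, dotProduct_smul,
      smul_eq_mul]
  by_cases h2 : (2 : F) = 0
  · right
    refine ⟨f, ⟨hf, fun u v => ?_, fun v => ?_, hnd⟩, hsim⟩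
    · rw [hswap u v, show (-1 : F) = 1 by linear_combination -h2, one_pow, one_mul, ← one_mul (-f v u), mul_neg,
        ← neg_mul, show (-1 : F) = 1 by linear_combination -h2, one_mul]
    -- the diagonal vanishes
    set w : (Fin t → Fin 2) → F := fun x => (((P⁻¹ : GL ι F) : Matrix ι ι F) *ᵥ v) (e.symm x) with hw
    have hfv : f v v = ∑ p : (Fin t → Fin 2) × (Fin t → Fin 2), w p.1 * (symPow t F p.1 p.2 * w p.2) := by
      show v ⬝ᵥ (G *ᵥ v) = _
      rw [hG, ← Matrix.mulVec_mulVec, ← Matrix.mulVec_mulVec, Matrix.dotProduct_mulVec, Matrix.vecMul_transpose,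
        Fintype.sum_prod_type, dotProduct, ← e.symm.sum_comp]
      refine Finset.sum_congr rfl fun x _ => ?_
      rw [Matrix.submatrix_mulVec_equiv, Function.comp_apply, Equiv.apply_symm_apply]
      show w x * ∑ y, symPow t F x y * w y = _
      rw [Finset.mul_sum]
    rw [hfv]
    refine Finset.sum_involution (fun p _ => (p.2, p.1)) (fun p _ => ?_) (fun p _ hp e0 => ?_)
      (fun p _ => Finset.mem_univ _) (fun p _ => rfl)
    · have hsymm : symPow t F p.2 p.1 = symPow t F p.1 p.2 := by
        have := congrFun (congrFun (symPow_transpose (F := F) t) p.1) p.2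
        rw [Matrix.transpose_apply, show (-1 : F) = 1 by linear_combination -h2, one_pow, one_smul] at this
        exact this
      rw [hsymm]
      linear_combination (w p.1 * symPow t F p.1 p.2 * w p.2) * h2
    · have h12 : p.2 = p.1 := congrArg Prod.fst e0
      exact hp (by rw [h12, symPow_eq_zero ⟨0, ht⟩ rfl, zero_mul, mul_zero])
  rcases Nat.even_or_odd t with hev | hod
  · left
    have hsymm : ∀ u v, f u v = f v u := fun u v => by rw [hswap u v, hev.neg_one_pow, one_mul]
    have hpol : QuadraticMap.polar (fun w => f w w / 2) = f := funext fun u => funext fun v => by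
      simp only [QuadraticMap.polar, hf.add_left, hf.add_right, hsymm v u]
      field_simp
      ring
    refine ⟨odd_card_iff_two_ne_zero.2 h2, fun w => f w w / 2,
      ⟨fun c v => by simp only [hf.smul_left, hf.smul_right]; ring, by rw [hpol]; exact hf, by rw [hpol]; exact hnd⟩,
      fun g hg => ?_⟩
    obtain ⟨c, hc⟩ := hsim hg
    exact ⟨c, fun v => by simp only [hc, mul_div_assoc]⟩
  · right
    have hskew : ∀ u v, f u v = - f v u := fun u v => by rw [hswap u v, hod.neg_one_pow, neg_one_mul]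
    refine ⟨f, ⟨hf, hskew, fun v => ?_, hnd⟩, hsim⟩
    have h := hskew v v
    have h' : (2 : F) * f v v = 0 := by linear_combination h
    exact (mul_eq_zero.1 h').resolve_left h2

end CfsgLib.Geo.Asch
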