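/-
The subgroup structure of the special linear groups in dimension at least three.
-/
import Cfsg.Agent.Lib.Geo.Asch.Core
import Cfsg.Agent.Lib.Geo.Asch.TwoFactors

set_option autoImplicit false

namespace CfsgLib.Geo.Asch

open Matrix Cfsg.Geo

variable {F : Type*} [Field F] [Fintype F] {n : ℕ}

theorem even_of_symplectic {f : (Fin n → F) → (Fin n → F) → F} (hf : IsSymplecticForm f) : Even n := by
  by_contra h
  exact not_alternating (by rw [Fintype.card_fin]; exact Nat.not_even_iff_odd.1 h) hf.bilinear hf.alternating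
    hf.nondegenerate

theorem exists_class_of_form {H N : Subgroup (GL (Fin n) F)} (hn : 3 ≤ n) (h : InFormClass H N) :
    ∃ M : Subgroup (GL (Fin n) F), InLinearClass n F M ∧ H ≤ M := by
  rcases h with ⟨hodd, Q, hQ, -, hle⟩ | ⟨f, hf, -, hle⟩ | ⟨σ, f, hf, -, hle⟩
  · exact ⟨_, .inr <| .inr <| .inr <| .inr <| .inr <| .inr <| .inr <| .inr <| .inr <| .inr <| .inr
      ⟨Q, hQ, hodd, hn, rfl⟩, hle⟩
  · have he := even_of_symplectic hf
    exact ⟨_, .inr <| .inr <| .inr <| .inr <| .inr <| .inr <| .inr <| .inr <| .inr <| .inl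
      ⟨f, hf, he, by obtain ⟨k, hk⟩ := he; omega, rfl⟩, hle⟩
  · exact ⟨_, .inr <| .inr <| .inr <| .inr <| .inr <| .inr <| .inr <| .inr <| .inr <| .inr <| .inl
      ⟨σ, f, hf, hn, rfl⟩, hle⟩

theorem exists_class_of_wreath {H : Subgroup (GL (Fin n) F)} (hn : 3 ≤ n) {d t : ℕ} (hd : 2 ≤ d) (ht : 2 ≤ t)
    (e : Fin n ≃ (Fin t → Fin d)) (P : GL (Fin n) F) (hle : H ≤ tensorWreathSubgroup d t e P) :
    ∃ M : Subgroup (GL (Fin n) F), InLinearClass n F M ∧ H ≤ M := by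
  by_cases hd3 : 3 ≤ d
  · exact ⟨_, .inr <| .inr <| .inr <| .inr <| .inr <| .inr <| .inr <| .inr <| .inl
      ⟨d, t, e, P, hd3, ht, rfl⟩, hle⟩
  obtain rfl : d = 2 := by omega
  rcases wreath_two_le_similarity (by omega) e P with ⟨hodd, Q, hQ, hQle⟩ | ⟨f, hf, hfle⟩
  · exact ⟨_, .inr <| .inr <| .inr <| .inr <| .inr <| .inr <| .inr <| .inr <| .inr <| .inr <| .inr
      ⟨Q, hQ, hodd, hn, rfl⟩, hle.trans hQle⟩
  · have he := even_of_symplectic hf
    exact ⟨_, .inr <| .inr <| .inr <| .inr <| .inr <| .inr <| .inr <| .inr <| .inr <| .inl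
      ⟨f, hf, he, by obtain ⟨k, hk⟩ := he; omega, rfl⟩, hle.trans hfle⟩

/-- The subgroup structure theorem for the linear groups. -/
theorem linear_structure (hn : 3 ≤ n) (H : Subgroup (GL (Fin n) F)) :
    (∃ M : Subgroup (GL (Fin n) F), InLinearClass n F M ∧ H ≤ M) ∨ InLinearResidualClass H := by
  classical
  haveI : Nonempty (Fin n) := ⟨⟨0, by omega⟩⟩
  have hcard : Fintype.card (Fin n) = n := Fintype.card_fin n
  by_cases hirr : ActsIrreducibly (matrixSet H)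
  swap
  · rw [actsIrreducibly_iff] at hirr
    push Not at hirr
    obtain ⟨W, hW, hW0, hW1⟩ := hirr
    refine Or.inl ⟨_, .inl ⟨W, hW0, hW1, rfl⟩, fun g hg => (mem_subspaceStabilizer_iff W g).2 fun v =>
      ⟨fun hv => stable_matrixSet_iff.1 hW g hg v hv, fun hv => ?_⟩⟩
    simpa [mulVec_inv_cancel] using stable_matrixSet_iff.1 hW g⁻¹ (H.inv_mem hg) _ hv
  by_cases habs : ActsAbsolutelyIrreducibly (matrixSet H)
  swap
  · obtain ⟨r, K, hr, hK, hle⟩ := exists_field_of_not_absIrred hirr habs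
    exact Or.inl ⟨_, .inr <| .inr <| .inr <| .inr <| .inl ⟨r, K, hr, hK, rfl⟩, hle⟩
  haveI : Nontrivial (Fin n) := Fin.nontrivial_iff_two_le.2 (by omega)
  have hHs : ¬ H ≤ scalars (Fin n) F := fun hle => by
    obtain ⟨x, hx, y, hy, hxy⟩ := not_abelian_of_absIrred habs
    exact hxy (scalar_commute (hle hx) y)
  obtain ⟨N, hN⟩ := exists_minimalNormal hHs
  rcases normal_subgroup_cases hirr hN with
    ⟨t, m, D, hD, hle⟩ | ⟨r, K, hr, hK, hle⟩ | ⟨d, k, e, P, hd, hk, hle⟩ | hNabs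
  · exact Or.inl ⟨_, .inr <| .inr <| .inr <| .inl ⟨t, m, D, hD, rfl⟩, hle⟩
  · exact Or.inl ⟨_, .inr <| .inr <| .inr <| .inr <| .inl ⟨r, K, hr, hK, rfl⟩, hle⟩
  · rcases Nat.lt_trichotomy d k with h | h | h
    · exact Or.inl ⟨_, .inr <| .inr <| .inr <| .inr <| .inr <| .inl ⟨d, k, e, P, hd, h, rfl⟩, hle⟩
    · subst h
      exact Or.inl (exists_class_of_wreath hn hd le_rfl _ P (hle.trans (tensorProductSubgroup_le_wreath e P)))
    · exact Or.inl ⟨_, .inr <| .inr <| .inr <| .inr <| .inr <| .inl ⟨k, d, _, P, hk, h, rfl⟩,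
        hle.trans (tensorProductSubgroup_swap e P)⟩
  by_cases hreal : ∃ F₀ : Subfield F, F₀ ≠ ⊤ ∧ RealisableOver F₀ (matrixSet N)
  · obtain ⟨F₀, hne, hre⟩ := hreal
    obtain ⟨B, hB⟩ := hre
    obtain ⟨F₁, s, hle₁, hs₁, hc₁⟩ := exists_prime_index hne
    exact Or.inl ⟨_, .inr <| .inr <| .inr <| .inr <| .inr <| .inr <| .inl ⟨F₁, s, B⁻¹, hs₁, hc₁, rfl⟩,
      le_subfieldSubgroup_of_realised hN.normal hNabs hle₁ B hB⟩
  push Not at hreal
  rcases minimal_cases (by omega) hN hNabs hreal with hS | ⟨d, t, M, e, P, A, hd, hM, -, hle⟩ | hres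
  · rcases symp_cases hS (by omega) hreal with hform | ⟨r, hdata⟩
    · exact Or.inl (exists_class_of_form hn hform)
    · refine Or.inl ⟨_, .inr <| .inr <| .inr <| .inr <| .inr <| .inr <| .inr <| .inl ⟨r, N, hdata, rfl⟩, ?_⟩
      exact fun h hh => Subgroup.mem_normalizer_iff.2 fun x => ⟨hN.normal h hh x, fun hx => by
        simpa [mul_assoc] using hN.normal h⁻¹ (H.inv_mem hh) _ hx⟩
  · exact Or.inl (exists_class_of_wreath hn hd hM.two_le e P hle)
  by_cases hform : InFormClass H N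
  · exact Or.inl (exists_class_of_form hn hform)
  refine Or.inr ⟨N, hres, ?_, ?_, ?_⟩
  · rintro ⟨Q, hQ, hfix⟩
    exact hform (inFormClass_of_quad hN.normal hNabs hQ hfix)
  · rintro ⟨f, hf, hfix⟩
    exact hform (Or.inr (Or.inl ⟨f, hf, hfix,
      le_similarityGroup hN.normal hNabs (isSesqForm_of_bilinear hf.bilinear) hf.nondegenerate hfix⟩))
  · rintro ⟨σ, f, hf, hfix⟩
    exact hform (Or.inr (Or.inr ⟨σ, f, hf, hfix,
      le_similarityGroup hN.normal hNabs (isSesqForm_of_unitary hf) hf.nondegenerate hfix⟩))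

end CfsgLib.Geo.Asch
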