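/-
The maximal subgroups of the special linear groups: each lies in a member of a geometric class or is residual.
-/
import Cfsg.Agent.Lib.Geo.Asch.LinearAll
import Cfsg.Agent.Lib.Geo.Asch.NotLe

set_option autoImplicit false

namespace CfsgLib.Geo.Asch

open Matrix Cfsg.Geo
open scoped Kronecker

variable {ι : Type} [Fintype ι] [DecidableEq ι] {F : Type*} [Field F]

theorem card_eq_of_mDecomposition {t m : ℕ} {D : Fin t → Submodule F (ι → F)} (hD : IsMDecomposition m D) :
    t * m = Fintype.card ι := by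
  classical
  have hint : DirectSum.IsInternal D :=
    DirectSum.isInternal_submodule_of_iSupIndep_of_iSup_eq_top hD.indep hD.iSup_eq_top
  have h := LinearEquiv.finrank_eq (LinearEquiv.ofBijective (DirectSum.coeLinearMap D) hint)
  rw [Module.finrank_directSum, Module.finrank_pi] at h
  simpa [hD.finrank_eq] using h

theorem dvd_card_of_fieldSubalgebra [Nonempty ι] {r : ℕ} {K : Subalgebra F (Matrix ι ι F)}
    (hK : IsFieldSubalgebra r K) : r ∣ Fintype.card ι := by
  classical
  haveI : Nontrivial K := ⟨⟨0, 1, zero_ne_one⟩⟩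
  have hf : IsField K := ⟨⟨0, 1, zero_ne_one⟩, fun a b => Subtype.ext (hK.comm a.1 a.2 b.1 b.2), fun {a} ha => by
    obtain ⟨y, hy, e⟩ := hK.inv a.1 a.2 (fun h => ha (Subtype.ext h))
    exact ⟨⟨y, hy⟩, Subtype.ext e⟩⟩
  letI : Field K := @IsField.toField K (inferInstance : Ring K) hf
  letI : Module K (ι → F) :=
    { smul := fun k v => (k : Matrix ι ι F) *ᵥ v
      one_smul := fun v => Matrix.one_mulVec v
      mul_smul := fun a b v => (Matrix.mulVec_mulVec v (a : Matrix ι ι F) b).symm
      smul_zero := fun a => Matrix.mulVec_zero _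
      smul_add := fun a u v => Matrix.mulVec_add _ u v
      add_smul := fun a b v => Matrix.add_mulVec _ _ v
      zero_smul := fun v => Matrix.zero_mulVec v }
  haveI : IsScalarTower F K (ι → F) := ⟨fun c k v => Matrix.smul_mulVec c (k : Matrix ι ι F) v⟩
  have h := Module.finrank_mul_finrank F K (ι → F)
  rw [hK.finrank_eq, Module.finrank_pi] at h
  exact ⟨_, h.symm⟩

theorem exists_specialLinear_of_det [Finite F] (e' : Matrix ι ι F) (h : e'.det = 1) :
    ∃ g ∈ specialLinear ι F, (g : Matrix ι ι F) = e' := by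
  refine ⟨Matrix.GeneralLinearGroup.mkOfDetNeZero e' (by rw [h]; exact one_ne_zero), ?_, rfl⟩
  rw [specialLinear, MonoidHom.mem_ker]
  exact Units.ext h

theorem exists_specialLinear_coord [Finite F] {κ : Type} [Fintype κ] [DecidableEq κ] (e : ι ≃ κ) (P : GL ι F)
    {a b : κ} (hab : a ≠ b) :
    ∃ g ∈ specialLinear ι F, coord e P (g : Matrix ι ι F) = Matrix.transvection a b 1 := by
  obtain ⟨X, hX⟩ := coord_surjective e P (Matrix.transvection a b (1 : F))
  have hdet : X.det = 1 := by
    have h := congrArg Matrix.det hX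
    rw [coord, Matrix.det_submatrix_equiv_self, Matrix.det_transvection_of_ne a b hab, Matrix.det_units_conj'] at h
    exact h
  obtain ⟨g, hg, rfl⟩ := exists_specialLinear_of_det X hdet
  exact ⟨g, hg, hX⟩

theorem not_le_tensorProductSubgroup [Finite F] {d k : ℕ} (hd : 2 ≤ d) (hk : 2 ≤ k) (e : ι ≃ Fin d × Fin k)
    (P : GL ι F) : ¬ specialLinear ι F ≤ tensorProductSubgroup d k e P := by
  intro hle
  let i0 : Fin d := ⟨0, by omega⟩
  let i1 : Fin d := ⟨1, by omega⟩
  let j0 : Fin k := ⟨0, by omega⟩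
  let j1 : Fin k := ⟨1, by omega⟩
  have hi : i0 ≠ i1 := by simp [i0, i1]
  have hj : j0 ≠ j1 := by simp [j0, j1]
  obtain ⟨g, hg, hc⟩ := exists_specialLinear_coord (F := F) e P (a := (i0, j0)) (b := (i1, j1))
    (by simp [hi])
  obtain ⟨a, b, h⟩ := (mem_tensorProductSubgroup_iff e P g).1 (hle hg)
  rw [hc] at h
  have h00 := congrFun (congrFun h (i0, j0)) (i0, j0)
  have h11 := congrFun (congrFun h (i0, j0)) (i1, j1)
  have h01 := congrFun (congrFun h (i0, j0)) (i0, j1)
  simp [Matrix.transvection, Matrix.single, Matrix.one_apply, hi, hi.symm, hj, hj.symm] at h00 h11 h01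
  rcases h01 with h | h
  · rw [h, zero_mul] at h00
    exact one_ne_zero h00
  · rw [h, mul_zero] at h11
    exact one_ne_zero h11

theorem exists_coord_of_mem_tensorWreath {d t : ℕ} {e : ι ≃ (Fin t → Fin d)} {P g : GL ι F}
    (hg : g ∈ tensorWreathSubgroup d t e P) : ∃ (π : Equiv.Perm (Fin t)) (gs : Fin t → Matrix (Fin d) (Fin d) F),
      coord e P (g : Matrix ι ι F) = pureT d t F gs * permT d F π := by
  obtain ⟨_, ⟨u, hu, rfl⟩, rfl⟩ := hg
  have hcoord : coord e P ((P * glReindex (F := F) e.symm u * P⁻¹ : GL ι F) : Matrix ι ι F) =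
      (u : Matrix (Fin t → Fin d) (Fin t → Fin d) F) := by
    ext i j
    simp [coord, glReindex, mul_assoc, ← mul_assoc ((P⁻¹ : GL ι F) : Matrix ι ι F)]
  show ∃ (π : Equiv.Perm (Fin t)) (gs : Fin t → Matrix (Fin d) (Fin d) F),
    coord e P ((P * glReindex (F := F) e.symm u * P⁻¹ : GL ι F) : Matrix ι ι F) = pureT d t F gs * permT d F π
  simp only [hcoord]
  clear hcoord
  have hone : (permT d F (1 : Equiv.Perm (Fin t))) = 1 := by
    ext x y
    simp [permT, Matrix.one_apply, eq_comm]
  have hpp : ∀ π ρ : Equiv.Perm (Fin t), permT d F π * permT d F ρ = permT d F (π * ρ) := fun π ρ => by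
    ext x y
    rw [permT_mul]
    simp only [permT, Matrix.of_apply, Function.comp_assoc, Equiv.Perm.coe_mul]
    rfl
  have hcomm : ∀ (π : Equiv.Perm (Fin t)) (gs : Fin t → Matrix (Fin d) (Fin d) F),
      permT d F π * pureT d t F gs = pureT d t F (gs ∘ π.symm) * permT d F π := by
    intro π gs
    ext x y
    rw [permT_mul, mul_permT, pureT_apply, pureT_apply]
    refine (Fintype.prod_equiv π _ _ fun i => ?_)
    simp
  induction hu using Subgroup.closure_induction_left with
  | one => exact ⟨1, fun _ => 1, by rw [hone, mul_one, Units.val_one, ← map_one (pureT d t F)]; rfl⟩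
  | mul_left a ha y _ ih =>
    obtain ⟨ρ, hs, e'⟩ := ih
    rcases ha with ⟨as, has⟩ | ⟨σ, hσ⟩
    · refine ⟨ρ, (fun i => (as i : Matrix (Fin d) (Fin d) F)) * hs, ?_⟩
      rw [Units.val_mul, e', map_mul, mul_assoc, show (a : Matrix (Fin t → Fin d) (Fin t → Fin d) F) =
        pureT d t F fun i => (as i : Matrix (Fin d) (Fin d) F) from Matrix.ext has]
    · refine ⟨σ * ρ, hs ∘ σ.symm, ?_⟩
      rw [Units.val_mul, e', show (a : Matrix (Fin t → Fin d) (Fin t → Fin d) F) = permT d F σ from Matrix.ext hσ,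
        ← mul_assoc, hcomm, mul_assoc, hpp]
  | inv_mul_cancel a ha y _ ih =>
    obtain ⟨ρ, hs, e'⟩ := ih
    rcases ha with ⟨as, has⟩ | ⟨σ, hσ⟩
    · refine ⟨ρ, (fun i => (((as i)⁻¹ : GL (Fin d) F) : Matrix (Fin d) (Fin d) F)) * hs, ?_⟩
      rw [Units.val_mul, e', map_mul, mul_assoc]
      congr 1
      refine Units.inv_eq_of_mul_eq_one_right ?_
      rw [show (a : Matrix (Fin t → Fin d) (Fin t → Fin d) F) =
        pureT d t F fun i => (as i : Matrix (Fin d) (Fin d) F) from Matrix.ext has, ← map_mul, ← map_one (pureT d t F)]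
      congr 1
      funext i
      exact (as i).mul_inv
    · refine ⟨σ.symm * ρ, hs ∘ σ.symm.symm, ?_⟩
      rw [Units.val_mul, e', show ((a⁻¹ : GL (Fin t → Fin d) F) : Matrix (Fin t → Fin d) (Fin t → Fin d) F) =
        permT d F σ.symm from Units.inv_eq_of_mul_eq_one_right (by
          rw [show (a : Matrix (Fin t → Fin d) (Fin t → Fin d) F) = permT d F σ from Matrix.ext hσ,
            permT_mul_permT_symm]), ← mul_assoc, hcomm, mul_assoc, hpp]

theorem not_le_tensorWreathSubgroup [Finite F] {d t : ℕ} (hd : 2 ≤ d) (ht : 2 ≤ t) (e : ι ≃ (Fin t → Fin d))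
    (P : GL ι F) : ¬ specialLinear ι F ≤ tensorWreathSubgroup d t e P := by
  intro hle
  let o : Fin d := ⟨0, by omega⟩
  let l : Fin d := ⟨1, by omega⟩
  have hol : o ≠ l := by simp [o, l]
  let k0 : Fin t := ⟨0, by omega⟩
  let k1 : Fin t := ⟨1, by omega⟩
  let a : Fin t → Fin d := fun _ => o
  let b : Fin t → Fin d := fun _ => l
  let c : Fin t → Fin d := Function.update a k0 l
  have hab : a ≠ b := fun h => hol (congrFun h k0)
  have hca : c ≠ a := fun h => hol (by simpa [c, a] using (congrFun h k0).symm)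
  have hcb : c ≠ b := fun h => hol (by
    have := congrFun h k1
    simpa [c, a, b, k0, k1] using this)
  obtain ⟨g, hg, hc⟩ := exists_specialLinear_coord (F := F) e P hab
  obtain ⟨π, gs, h⟩ := exists_coord_of_mem_tensorWreath (hle hg)
  rw [hc] at h
  have key : ∀ y, (Matrix.transvection a b (1 : F)) a y = ∏ i, gs i o ((y ∘ π.symm) i) := fun y => by
    rw [h, mul_permT, pureT_apply]
  have h0 : ∀ i, gs i o o ≠ 0 := fun i hi => by
    have := key a
    rw [Finset.prod_eq_zero (Finset.mem_univ i) (by simpa [a] using hi)] at this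
    simp [Matrix.transvection, Matrix.single, hab.symm] at this
  have h1 : ∀ i, gs i o l ≠ 0 := fun i hi => by
    have := key b
    rw [Finset.prod_eq_zero (Finset.mem_univ i) (by simpa [b] using hi)] at this
    simp [Matrix.transvection, Matrix.single, hab] at this
  have h2 := key c
  simp [Matrix.transvection, Matrix.single, hca.symm, hcb.symm] at h2
  refine Finset.prod_ne_zero_iff.2 (fun i _ => ?_) h2.symm
  rcases eq_or_ne (π.symm i) k0 with hi | hi
  · simpa [c, hi] using h1 i
  · simpa [c, a, Function.update_of_ne hi] using h0 i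

/-- SL normalises no non-scalar group of order prime to the characteristic made of elements of r-power order. -/
theorem not_le_normalizer_of_pGroup [Finite F] (hn : 3 ≤ Fintype.card ι) {p r : ℕ} [Fact p.Prime] [CharP F p]
    (hr : r.Prime) (hrp : r ≠ p) {R : Subgroup (GL ι F)} (hR : IsPGroup r R) (hns : ¬ R ≤ scalars ι F) :
    ¬ specialLinear ι F ≤ subgroupNormalizer R := by
  intro hle
  apply hns
  intro x hx
  have heig : ∀ u : ι → F, ∃ a : F, (x : Matrix ι ι F) *ᵥ u = a • u := by
    intro u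
    by_contra hne
    push Not at hne
    have hu : u ≠ 0 := fun h => hne 0 (by simp [h])
    have hW : Submodule.span F ({u, (x : Matrix ι ι F) *ᵥ u} : Set (ι → F)) ≠ ⊤ := by
      intro h
      classical
      have h1 := finrank_span_finset_le_card (R := F) ({u, (x : Matrix ι ι F) *ᵥ u} : Finset (ι → F))
      have h2 : Finset.card ({u, (x : Matrix ι ι F) *ᵥ u} : Finset (ι → F)) ≤ 2 := Finset.card_le_two
      rw [Finset.coe_pair, Set.finrank, h, finrank_top, Module.finrank_pi] at h1
      omega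
    obtain ⟨w, hw⟩ : ∃ w, w ∉ Submodule.span F ({u, (x : Matrix ι ι F) *ᵥ u} : Set (ι → F)) := by
      by_contra! h
      exact hW (Submodule.eq_top_iff'.2 h)
    obtain ⟨φ, hφw, hφ⟩ := exists_functional_vanishing _ w hw
    have hφu : φ ⬝ᵥ u = 0 := hφ u (Submodule.subset_span (by simp))
    have hφa : φ ⬝ᵥ ((x : Matrix ι ι F) *ᵥ u) = 0 := hφ _ (Submodule.subset_span (by simp))
    set t := transvectionGL φ u hφu with ht
    have hc : x * t * x⁻¹ * t⁻¹ ∈ R := by
      have h1 := (Subgroup.mem_normalizer_iff.1 (hle (transvectionGL_mem_specialLinear φ u hφu)) x⁻¹).1 (R.inv_mem hx)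
      simpa [mul_assoc, ← ht] using R.mul_mem hx h1
    set α := φ ᵥ* ((x⁻¹ : GL ι F) : Matrix ι ι F) with hα
    set M := Matrix.vecMulVec ((x : Matrix ι ι F) *ᵥ u) α with hM
    set N := Matrix.vecMulVec u φ with hN
    have hxM : (x : Matrix ι ι F) * N * ((x⁻¹ : GL ι F) : Matrix ι ι F) = M := by
      rw [hN, hM, hα, Matrix.mul_vecMulVec, Matrix.vecMulVec_mul]
    have hval : ((x * t * x⁻¹ * t⁻¹ : GL ι F) : Matrix ι ι F) = (1 + M) * (1 - N) := by
      rw [Units.val_mul, Units.val_mul, Units.val_mul,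
        show (t : Matrix ι ι F) = 1 + N from rfl, show ((t⁻¹ : GL ι F) : Matrix ι ι F) = 1 - N from rfl,
        mul_add, mul_one, add_mul, Units.mul_inv, hxM]
    have hMM : M * M = 0 := by
      rw [hM, Matrix.vecMulVec_mul_vecMulVec, hα, ← Matrix.dotProduct_mulVec, mulVec_inv_cancel, hφu, zero_smul,
        Matrix.vecMulVec_zero]
    have hNN : N * N = 0 := by
      rw [hN, Matrix.vecMulVec_mul_vecMulVec, hφu, zero_smul, Matrix.vecMulVec_zero]
    have hNM : N * M = 0 := by
      rw [hN, hM, Matrix.vecMulVec_mul_vecMulVec, hφa, zero_smul, Matrix.vecMulVec_zero]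
    set S := M - N - M * N with hS
    have hS2 : S * S = -(M * N) := by
      have e : S * S = M * M - M * N - (M * M) * N - N * M + N * N + (N * M) * N - M * (N * M) + M * (N * N) +
          M * ((N * M) * N) := by
        rw [hS]; noncomm_ring
      rw [e, hMM, hNN, hNM]; simp
    have hS3 : S ^ 3 = 0 := by
      rw [pow_succ, pow_two, hS2, hS]
      have e : -(M * N) * (M - N - M * N) = -(M * (N * M)) + M * (N * N) + M * ((N * M) * N) := by noncomm_ring
      rw [e, hNN, hNM]; simp
    have hc1 : x * t * x⁻¹ * t⁻¹ = 1 := by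
      obtain ⟨k, hk⟩ := hR ⟨_, hc⟩
      have hk' : (x * t * x⁻¹ * t⁻¹) ^ r ^ k = 1 := congrArg Subtype.val hk
      have hp2 : (x * t * x⁻¹ * t⁻¹) ^ p ^ 2 = 1 := by
        apply Units.ext
        haveI : Nonempty ι := Fintype.card_pos_iff.1 (by omega)
        haveI : CharP (Matrix ι ι F) p := Matrix.charP p
        rw [Units.val_pow_eq_pow_val, hval, Units.val_one,
          show (1 + M) * (1 - N) = 1 + S by rw [hS]; noncomm_ring,
          add_pow_char_pow_of_commute (p := p) (n := 2) (h := Commute.one_left _), one_pow,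
          pow_eq_zero_of_le (by have := (Fact.out : p.Prime).two_le; nlinarith) hS3, add_zero]
      have := pow_gcd_eq_one.2 ⟨hk', hp2⟩
      rwa [Nat.Coprime.pow k 2 ((Nat.coprime_primes hr Fact.out).2 hrp), pow_one] at this
    have hMN : (1 + M) = 1 + N := by
      have h := congrArg (fun g : GL ι F => (g : Matrix ι ι F)) (show x * t * x⁻¹ = t from mul_inv_eq_one.1 hc1)
      simp only [Units.val_mul] at h
      rw [show (t : Matrix ι ι F) = 1 + N from rfl, mul_add, mul_one, add_mul, Units.mul_inv, hxM] at h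
      exact h
    have hNw := congrArg (fun A => A *ᵥ w) (add_left_cancel hMN)
    simp only [hM, hN, Matrix.vecMulVec_mulVec, hφw] at hNw
    have hβ : α ⬝ᵥ w ≠ 0 := fun h0 => by
      rw [h0] at hNw
      exact hu (by simpa using hNw.symm)
    exact hne (α ⬝ᵥ w)⁻¹ (by
      have : (α ⬝ᵥ w) • ((x : Matrix ι ι F) *ᵥ u) = u := by simpa [op_smul_eq_smul] using hNw
      conv_rhs => rw [← this, smul_smul, inv_mul_cancel₀ hβ, one_smul])
  rw [mem_scalars_iff]
  haveI : Nonempty ι := Fintype.card_pos_iff.1 (by omega)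
  obtain ⟨i₀⟩ := (inferInstance : Nonempty ι)
  choose a ha using heig
  have hx0 : a (Pi.single i₀ 1) ≠ 0 := fun h => by
    have := ha (Pi.single i₀ 1)
    rw [h, zero_smul] at this
    exact mulVec_ne_zero x (by simp) this
  refine ⟨Units.mk0 _ hx0, Matrix.toLin'.injective ((Pi.basisFun F ι).ext fun i => ?_)⟩
  rw [Pi.basisFun_apply, Matrix.toLin'_apply, Matrix.toLin'_apply, Matrix.smul_mulVec, Matrix.one_mulVec, ha]
  by_cases hi : i = i₀
  · rw [hi]; rfl
  · have hsum := ha (Pi.single i 1 + Pi.single i₀ 1)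
    rw [Matrix.mulVec_add, ha, ha] at hsum
    have h1 := congrFun hsum i
    have h2 := congrFun hsum i₀
    simp [Pi.single_apply, hi, Ne.symm hi] at h1 h2
    rw [h1, ← h2]; rfl

theorem not_le_symplecticNormalizer [Fintype F] (hn : 3 ≤ Fintype.card ι) {r : ℕ} {R : Subgroup (GL ι F)}
    (h : IsLinearSymplecticTypeData r R) : ¬ specialLinear ι F ≤ subgroupNormalizer R := by
  obtain ⟨p, e, hrp, ⟨hp, hchar, -⟩, -⟩ := h.field
  haveI := Fact.mk hp
  haveI := hchar
  haveI : Nontrivial ι := Fintype.one_lt_card_iff_nontrivial.1 (by omega)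
  refine not_le_normalizer_of_pGroup hn h.symplecticType.prime hrp h.symplecticType.pGroup fun hle => ?_
  obtain ⟨x, hx, y, -, hxy⟩ := not_abelian_of_absIrred h.absIrred
  exact hxy (scalar_commute (hle hx) y)

variable [Fintype F] {n : ℕ}

/-- The dichotomy for the maximal subgroups of SL, with the numerical conditions. -/
theorem linear_maximal (hn : 3 ≤ n) (H : Subgroup (GL (Fin n) F))
    (hH : IsMaximalIn (specialLinear (Fin n) F) H) :
    (∃ W : Submodule F (Fin n → F), W ≠ ⊥ ∧ W ≠ ⊤ ∧ H = subspaceStabilizer W ⊓ specialLinear (Fin n) F) ∨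
    (∃ (t m : ℕ) (D : Fin t → Submodule F (Fin n → F)), IsMDecomposition m D ∧ t * m = n ∧
      H = decompositionStabilizer D ⊓ specialLinear (Fin n) F) ∨
    (∃ (r : ℕ) (K : Subalgebra F (Matrix (Fin n) (Fin n) F)), r.Prime ∧ r ∣ n ∧ IsFieldSubalgebra r K ∧
      H = subalgebraNormalizer K ⊓ specialLinear (Fin n) F) ∨
    (∃ (d k : ℕ) (e : Fin n ≃ Fin d × Fin k) (P : GL (Fin n) F), 2 ≤ d ∧ d < k ∧ d * k = n ∧
      H = tensorProductSubgroup d k e P ⊓ specialLinear (Fin n) F) ∨
    (∃ (F₀ : Subfield F) (r : ℕ) (P : GL (Fin n) F), r.Prime ∧ Fintype.card F = Nat.card F₀ ^ r ∧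
      H = subfieldSubgroup F₀ P ⊓ specialLinear (Fin n) F) ∨
    (∃ (r m : ℕ) (R : Subgroup (GL (Fin n) F)), IsLinearSymplecticTypeData r R ∧ n = r ^ m ∧
      H = subgroupNormalizer R ⊓ specialLinear (Fin n) F) ∨
    (∃ (d t : ℕ) (e : Fin n ≃ (Fin t → Fin d)) (P : GL (Fin n) F), 3 ≤ d ∧ 2 ≤ t ∧ d ^ t = n ∧
      H = tensorWreathSubgroup d t e P ⊓ specialLinear (Fin n) F) ∨
    (Odd (Fintype.card F) ∧ ∃ Q : (Fin n → F) → F, IsNondegenerateQuadraticForm Q ∧
      H = quadSimilarityGroup Q ⊓ specialLinear (Fin n) F) ∨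
    (∃ f : (Fin n → F) → (Fin n → F) → F, IsSymplecticForm f ∧ Even n ∧
      H = similarityGroup f ⊓ specialLinear (Fin n) F) ∨
    (∃ (σ : F ≃+* F) (f : (Fin n → F) → (Fin n → F) → F), IsUnitaryForm σ f ∧
      H = similarityGroup f ⊓ specialLinear (Fin n) F) ∨
    InLinearResidualClass H := by
  classical
  haveI : Nonempty (Fin n) := ⟨⟨0, by omega⟩⟩
  haveI : Nontrivial (Fin n) := Fin.nontrivial_iff_two_le.2 (by omega)
  have hcard : 3 ≤ Fintype.card (Fin n) := by rw [Fintype.card_fin]; exact hn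
  have fin : ∀ M : Subgroup (GL (Fin n) F), H ≤ M → ¬ specialLinear (Fin n) F ≤ M →
      H = M ⊓ specialLinear (Fin n) F := fun M hle hnot =>
    ((hH.2 _ (le_inf hle hH.1.le) inf_le_right).resolve_right fun e => hnot (inf_eq_right.1 e)).symm
  have hform : ∀ {N : Subgroup (GL (Fin n) F)}, InFormClass H N →
      (Odd (Fintype.card F) ∧ ∃ Q : (Fin n → F) → F, IsNondegenerateQuadraticForm Q ∧
        H = quadSimilarityGroup Q ⊓ specialLinear (Fin n) F) ∨
      (∃ f : (Fin n → F) → (Fin n → F) → F, IsSymplecticForm f ∧ Even n ∧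
        H = similarityGroup f ⊓ specialLinear (Fin n) F) ∨
      (∃ (σ : F ≃+* F) (f : (Fin n → F) → (Fin n → F) → F), IsUnitaryForm σ f ∧
        H = similarityGroup f ⊓ specialLinear (Fin n) F) := by
    intro N h
    rcases h with ⟨hodd, Q, hQ, -, hle⟩ | ⟨f, hf, -, hle⟩ | ⟨σ, f, hf, -, hle⟩
    · exact .inl ⟨hodd, Q, hQ, fin _ hle (not_specialLinear_le_quadSimilarityGroup hcard hQ)⟩
    · exact .inr <| .inl ⟨f, hf, even_of_symplectic hf, fin _ hle
        (not_specialLinear_le_similarityGroup hcard (isSesqForm_of_bilinear hf.bilinear) hf.nondegenerate)⟩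
    · exact .inr <| .inr ⟨σ, f, hf, fin _ hle
        (not_specialLinear_le_similarityGroup hcard (isSesqForm_of_unitary hf) hf.nondegenerate)⟩
  have hwr : ∀ {d t : ℕ} (e : Fin n ≃ (Fin t → Fin d)) (P : GL (Fin n) F), 2 ≤ d → 2 ≤ t →
      H ≤ tensorWreathSubgroup d t e P →
      (∃ (d t : ℕ) (e : Fin n ≃ (Fin t → Fin d)) (P : GL (Fin n) F), 3 ≤ d ∧ 2 ≤ t ∧ d ^ t = n ∧
        H = tensorWreathSubgroup d t e P ⊓ specialLinear (Fin n) F) ∨
      (Odd (Fintype.card F) ∧ ∃ Q : (Fin n → F) → F, IsNondegenerateQuadraticForm Q ∧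
        H = quadSimilarityGroup Q ⊓ specialLinear (Fin n) F) ∨
      (∃ f : (Fin n → F) → (Fin n → F) → F, IsSymplecticForm f ∧ Even n ∧
        H = similarityGroup f ⊓ specialLinear (Fin n) F) := by
    intro d t e P hd ht hle
    by_cases hd3 : 3 ≤ d
    · exact .inl ⟨d, t, e, P, hd3, ht, by simpa using (Fintype.card_congr e).symm,
        fin _ hle (not_le_tensorWreathSubgroup hd ht e P)⟩
    obtain rfl : d = 2 := by omega
    rcases wreath_two_le_similarity (by omega) e P with ⟨hodd, Q, hQ, hQle⟩ | ⟨f, hf, hfle⟩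
    · exact .inr <| .inl ⟨hodd, Q, hQ, fin _ (hle.trans hQle) (not_specialLinear_le_quadSimilarityGroup hcard hQ)⟩
    · exact .inr <| .inr ⟨f, hf, even_of_symplectic hf, fin _ (hle.trans hfle)
        (not_specialLinear_le_similarityGroup hcard (isSesqForm_of_bilinear hf.bilinear) hf.nondegenerate)⟩
  by_cases hirr : ActsIrreducibly (matrixSet H)
  swap
  · rw [actsIrreducibly_iff] at hirr
    push Not at hirr
    obtain ⟨W, hW, hW0, hW1⟩ := hirr
    refine .inl ⟨W, hW0, hW1, fin _ (fun g hg => (mem_subspaceStabilizer_iff W g).2 fun v =>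
      ⟨fun hv => stable_matrixSet_iff.1 hW g hg v hv, fun hv => ?_⟩) (not_le_subspaceStabilizer hW0 hW1)⟩
    simpa [mulVec_inv_cancel] using stable_matrixSet_iff.1 hW g⁻¹ (H.inv_mem hg) _ hv
  have hfield : ∀ {r : ℕ} {K : Subalgebra F (Matrix (Fin n) (Fin n) F)}, r.Prime → IsFieldSubalgebra r K →
      H ≤ subalgebraNormalizer K →
      ∃ (r : ℕ) (K : Subalgebra F (Matrix (Fin n) (Fin n) F)), r.Prime ∧ r ∣ n ∧ IsFieldSubalgebra r K ∧
        H = subalgebraNormalizer K ⊓ specialLinear (Fin n) F := fun {r} {K} hr hK hle =>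
    ⟨r, K, hr, Fintype.card_fin n ▸ dvd_card_of_fieldSubalgebra hK, hK,
      fin _ hle (not_le_subalgebraNormalizer hcard hK hr.one_lt)⟩
  by_cases habs : ActsAbsolutelyIrreducibly (matrixSet H)
  swap
  · obtain ⟨r, K, hr, hK, hle⟩ := exists_field_of_not_absIrred hirr habs
    exact .inr <| .inr <| .inl (hfield hr hK hle)
  have hHs : ¬ H ≤ scalars (Fin n) F := fun hle => by
    obtain ⟨x, hx, y, hy, hxy⟩ := not_abelian_of_absIrred habs
    exact hxy (scalar_commute (hle hx) y)
  obtain ⟨N, hN⟩ := exists_minimalNormal hHs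
  rcases normal_subgroup_cases hirr hN with
    ⟨t, m, D, hD, hle⟩ | ⟨r, K, hr, hK, hle⟩ | ⟨d, k, e, P, hd, hk, hle⟩ | hNabs
  · exact .inr <| .inl ⟨t, m, D, hD, (card_eq_of_mDecomposition hD).trans (Fintype.card_fin n),
      fin _ hle (not_le_decompositionStabilizer hD)⟩
  · exact .inr <| .inr <| .inl (hfield hr hK hle)
  · rcases Nat.lt_trichotomy d k with h | h | h
    · exact .inr <| .inr <| .inr <| .inl ⟨d, k, e, P, hd, h, by simpa using (Fintype.card_congr e).symm,
        fin _ hle (not_le_tensorProductSubgroup hd hk e P)⟩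
    · subst h
      rcases hwr _ P hd le_rfl (hle.trans (tensorProductSubgroup_le_wreath e P)) with h | h | h
      · exact .inr <| .inr <| .inr <| .inr <| .inr <| .inr <| .inl h
      · exact .inr <| .inr <| .inr <| .inr <| .inr <| .inr <| .inr <| .inl h
      · exact .inr <| .inr <| .inr <| .inr <| .inr <| .inr <| .inr <| .inr <| .inl h
    · exact .inr <| .inr <| .inr <| .inl ⟨k, d, _, P, hk, h, by simpa [mul_comm] using (Fintype.card_congr e).symm,
        fin _ (hle.trans (tensorProductSubgroup_swap e P)) (not_le_tensorProductSubgroup hk hd _ P)⟩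
  by_cases hreal : ∃ F₀ : Subfield F, F₀ ≠ ⊤ ∧ RealisableOver F₀ (matrixSet N)
  · obtain ⟨F₀, hne, B, hB⟩ := hreal
    obtain ⟨F₁, s, hle₁, hs₁, hc₁⟩ := exists_prime_index hne
    refine .inr <| .inr <| .inr <| .inr <| .inl ⟨F₁, s, B⁻¹, hs₁, hc₁, fin _
      (le_subfieldSubgroup_of_realised hN.normal hNabs hle₁ B hB)
      (not_le_subfieldSubgroup (by omega) (fun h => ?_) _)⟩
    subst h
    rw [Nat.card_congr Subfield.topEquiv.toEquiv, Nat.card_eq_fintype_card] at hc₁
    have h1 := Fintype.one_lt_card (α := F)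
    have h2 : Fintype.card F ^ 1 < Fintype.card F ^ s := Nat.pow_lt_pow_right h1 hs₁.one_lt
    rw [pow_one, ← hc₁] at h2
    exact lt_irrefl _ h2
  push Not at hreal
  rcases minimal_cases (by omega) hN hNabs hreal with hS | ⟨d, t, M, e, P, A, hd, hM, -, hle⟩ | hres
  · rcases symp_cases hS hcard hreal with hf | ⟨r, hdata⟩
    · rcases hform hf with h | h | h
      · exact .inr <| .inr <| .inr <| .inr <| .inr <| .inr <| .inr <| .inl h
      · exact .inr <| .inr <| .inr <| .inr <| .inr <| .inr <| .inr <| .inr <| .inl h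
      · exact .inr <| .inr <| .inr <| .inr <| .inr <| .inr <| .inr <| .inr <| .inr <| .inl h
    · obtain ⟨r', m, z, hr', -, -, hm, hst, -, hcardN, -⟩ := hS.structure_thm (by omega)
      have hrr : r = r' := by
        haveI := Fact.mk hdata.symplecticType.prime
        haveI := Fact.mk hr'
        haveI : Finite (GL (Fin n) F) :=
          Finite.of_injective (fun g : GL (Fin n) F => (g : Matrix (Fin n) (Fin n) F)) Units.val_injective
        haveI : Nontrivial N := by
          obtain ⟨x, hx, y, hy, hxy⟩ := not_abelian_of_absIrred hNabs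
          exact ⟨⟨x, hx⟩, ⟨y, hy⟩, fun e => hxy (by obtain rfl := congrArg Subtype.val e; rfl)⟩
        obtain ⟨a, ha, hca⟩ := hdata.symplecticType.pGroup.nontrivial_iff_card.1 inferInstance
        obtain ⟨b, -, hcb⟩ := hst.pGroup.nontrivial_iff_card.1 inferInstance
        exact (Nat.prime_dvd_prime_iff_eq hdata.symplecticType.prime hr').1
          (hdata.symplecticType.prime.dvd_of_dvd_pow (n := b) (hcb ▸ hca ▸ dvd_pow_self r (by omega)))
      refine .inr <| .inr <| .inr <| .inr <| .inr <| .inl ⟨r, m, N, hdata,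
        by rw [hrr, ← hm, Fintype.card_fin], fin _ ?_ (not_le_symplecticNormalizer hcard hdata)⟩
      exact fun h hh => Subgroup.mem_normalizer_iff.2 fun x => ⟨hN.normal h hh x, fun hx => by
        simpa [mul_assoc] using hN.normal h⁻¹ (H.inv_mem hh) _ hx⟩
  · rcases hwr e P hd hM.two_le hle with h | h | h
    · exact .inr <| .inr <| .inr <| .inr <| .inr <| .inr <| .inl h
    · exact .inr <| .inr <| .inr <| .inr <| .inr <| .inr <| .inr <| .inl h
    · exact .inr <| .inr <| .inr <| .inr <| .inr <| .inr <| .inr <| .inr <| .inl h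
  by_cases hf : InFormClass H N
  · rcases hform hf with h | h | h
    · exact .inr <| .inr <| .inr <| .inr <| .inr <| .inr <| .inr <| .inl h
    · exact .inr <| .inr <| .inr <| .inr <| .inr <| .inr <| .inr <| .inr <| .inl h
    · exact .inr <| .inr <| .inr <| .inr <| .inr <| .inr <| .inr <| .inr <| .inr <| .inl h
  refine .inr <| .inr <| .inr <| .inr <| .inr <| .inr <| .inr <| .inr <| .inr <| .inr ⟨N, hres, ?_, ?_, ?_⟩
  · rintro ⟨Q, hQ, hfix⟩
    exact hf (inFormClass_of_quad hN.normal hNabs hQ hfix)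
  · rintro ⟨f, hg, hfix⟩
    exact hf (Or.inr (Or.inl ⟨f, hg, hfix,
      le_similarityGroup hN.normal hNabs (isSesqForm_of_bilinear hg.bilinear) hg.nondegenerate hfix⟩))
  · rintro ⟨σ, f, hg, hfix⟩
    exact hf (Or.inr (Or.inr ⟨σ, f, hg, hfix,
      le_similarityGroup hN.normal hNabs (isSesqForm_of_unitary hg) hg.nondegenerate hfix⟩))

end CfsgLib.Geo.Asch
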