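/-
Decompositions into planes and tensor decompositions with a two-dimensional factor over the smallest fields.
-/
import Cfsg.Agent.Lib.Geo.Asch.Forms
import Cfsg.Agent.Lib.Geo.Asch.TensorSplit

set_option autoImplicit false

namespace CfsgLib.Geo.Asch

open Matrix Cfsg.Geo
open scoped Kronecker

variable {F : Type*} [Field F] {n : ℕ}

/-- Coordinates adapted to a decomposition, in which its stabiliser acts by monomial block matrices. -/
theorem exists_block_coordinates {t m : ℕ} {D : Fin t → Submodule F (Fin n → F)} (hD : IsMDecomposition m D)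
    (hn : t * m = n) :
    ∃ L : (Fin n → F) ≃ₗ[F] (Fin t → Fin m → F), ∀ g ∈ decompositionStabilizer D,
      ∃ (τ : Equiv.Perm (Fin t)) (M : Fin t → Matrix (Fin m) (Fin m) F),
        ∀ u i, L ((g : Matrix (Fin n) (Fin n) F) *ᵥ u) (τ i) = M i *ᵥ L u i := by
  classical
  let e : ∀ i, (Fin m → F) ≃ₗ[F] D i := fun i =>
    LinearEquiv.ofFinrankEq _ _ (by rw [Module.finrank_pi, Fintype.card_fin, hD.finrank_eq])
  let Φ : (Fin t → Fin m → F) →ₗ[F] (Fin n → F) :=
    ∑ i, (D i).subtype.comp ((e i).toLinearMap.comp (LinearMap.proj i))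
  have hΦ : ∀ x, Φ x = ∑ i, (e i (x i) : Fin n → F) := fun x => by simp [Φ]
  have hsurj : Function.Surjective Φ := by
    rw [← LinearMap.range_eq_top, eq_top_iff, ← hD.iSup_eq_top]
    refine iSup_le fun i w hw => ⟨Pi.single i ((e i).symm ⟨w, hw⟩), ?_⟩
    rw [hΦ, Finset.sum_eq_single i]
    · simp
    · intro j _ hj
      simp [Pi.single_eq_of_ne hj]
    · simp
  have hinj : Function.Injective Φ := by
    rw [LinearMap.injective_iff_surjective_of_finrank_eq_finrank]
    · exact hsurj
    · simp [Module.finrank_pi_fintype, hn]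
  let L := (LinearEquiv.ofBijective Φ ⟨hinj, hsurj⟩).symm
  refine ⟨L, fun g hg => ?_⟩
  obtain ⟨τ, hτ⟩ := hg
  have hmap : ∀ i, ∀ w ∈ D i, Matrix.toLin' (g : Matrix (Fin n) (Fin n) F) w ∈ D (τ i) := fun i w hw =>
    hτ i ▸ Submodule.mem_map_of_mem hw
  let T : ∀ i, (Fin m → F) →ₗ[F] (Fin m → F) := fun i =>
    (e (τ i)).symm.toLinearMap.comp (((Matrix.toLin' (g : Matrix (Fin n) (Fin n) F)).restrict (hmap i)).comp
      (e i).toLinearMap)
  refine ⟨τ, fun i => LinearMap.toMatrix' (T i), fun u i => ?_⟩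
  set x := L u with hx
  let z : Fin t → Fin m → F := fun j => T (τ.symm j) (x (τ.symm j))
  have hgu : (g : Matrix (Fin n) (Fin n) F) *ᵥ u = Φ z := by
    have hu : u = Φ x := ((LinearEquiv.ofBijective Φ ⟨hinj, hsurj⟩).apply_symm_apply u).symm
    rw [hu, hΦ, hΦ, Matrix.mulVec_sum]
    conv_rhs => rw [← Equiv.sum_comp τ]
    refine Finset.sum_congr rfl fun j _ => ?_
    have h1 : ∀ (j' : Fin t), j' = j →
        (e (τ j) (T j (x j)) : Fin n → F) = (g : Matrix (Fin n) (Fin n) F) *ᵥ (e j' (x j') : Fin n → F) := by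
      rintro j' rfl
      simp [T]
    rw [← h1 j rfl]
    simp only [z, Equiv.symm_apply_apply]
  have : L ((g : Matrix (Fin n) (Fin n) F) *ᵥ u) = z := by
    rw [hgu]
    exact (LinearEquiv.ofBijective Φ ⟨hinj, hsurj⟩).symm_apply_apply z
  rw [this]
  simp [z, Matrix.toLin'_apply, ← LinearMap.toMatrix'_mulVec]

/-- The determinant of a monomial block matrix with blocks of size two. -/
theorem det_of_block_coordinates {t : ℕ} (L : (Fin n → F) ≃ₗ[F] (Fin t → Fin 2 → F)) (g : GL (Fin n) F)
    (τ : Equiv.Perm (Fin t)) (M : Fin t → Matrix (Fin 2) (Fin 2) F)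
    (h : ∀ u i, L ((g : Matrix (Fin n) (Fin n) F) *ᵥ u) (τ i) = M i *ᵥ L u i) :
    (g : Matrix (Fin n) (Fin n) F).det = ∏ i, (M i).det := by
  classical
  let S : (Fin t → Fin 2 → F) ≃ₗ[F] (Fin 2 × Fin t → F) :=
    { toFun := fun x p => x p.2 p.1
      invFun := fun y i k => y (k, i)
      left_inv := fun x => rfl
      right_inv := fun y => rfl
      map_add' := fun a b => rfl
      map_smul' := fun c a => rfl }
  let L' := L.trans S
  have hX : LinearMap.toMatrix' (L'.toLinearMap.comp ((Matrix.toLin' (g : Matrix (Fin n) (Fin n) F)).comp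
      L'.symm.toLinearMap)) =
      (Matrix.blockDiagonal M).submatrix (Equiv.prodCongr (Equiv.refl (Fin 2)) τ.symm) id := by
    ext ⟨l, j⟩ ⟨k, i⟩
    rw [LinearMap.toMatrix'_apply]
    have h1 := h (L'.symm (Pi.single (k, i) 1)) (τ.symm j)
    rw [Equiv.apply_symm_apply] at h1
    have h2 : ∀ k' i', L (L'.symm (Pi.single (k, i) 1)) i' k' = if (k', i') = (k, i) then 1 else 0 := fun k' i' => by
      show L (L.symm (S.symm (Pi.single (k, i) 1))) i' k' = _
      rw [LinearEquiv.apply_symm_apply]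
      simp [S, Pi.single_apply]
    show L ((g : Matrix (Fin n) (Fin n) F) *ᵥ L'.symm (Pi.single (k, i) 1)) j l = _
    rw [h1]
    simp only [Matrix.mulVec, dotProduct, h2, Matrix.submatrix_apply, Equiv.prodCongr_apply, Prod.map_apply,
      Equiv.refl_apply, id_eq, Matrix.blockDiagonal_apply, Prod.mk.injEq]
    by_cases hij : τ.symm j = i
    · subst hij; simp
    · simp [hij]
  have hdet := congrArg Matrix.det hX
  rw [LinearMap.det_toMatrix', show LinearMap.det (L'.toLinearMap.comp
      ((Matrix.toLin' (g : Matrix (Fin n) (Fin n) F)).comp L'.symm.toLinearMap)) =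
      LinearMap.det (Matrix.toLin' (g : Matrix (Fin n) (Fin n) F)) from LinearMap.det_conj _ L',
    LinearMap.det_toLin', Matrix.det_permute, Matrix.det_blockDiagonal] at hdet
  rw [hdet, show Equiv.prodCongr (Equiv.refl (Fin 2)) τ.symm = Equiv.prodCongrRight (fun _ : Fin 2 => τ.symm) from
    Equiv.ext fun p => rfl, Equiv.Perm.sign_prodCongrRight, Finset.prod_const, Finset.card_univ, Fintype.card_fin,
    Int.units_sq]
  simp

/-- Over the fields with two elements, and with three for two planes, the stabiliser of a decomposition into planes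
preserves a symplectic form up to scalars. -/
theorem planes_small [Fintype F] {t : ℕ} {D : Fin t → Submodule F (Fin n → F)} (hD : IsMDecomposition 2 D)
    (hn : t * 2 = n) (hq : Fintype.card F = 2 ∨ (Fintype.card F = 3 ∧ t = 2)) :
    ∃ f : (Fin n → F) → (Fin n → F) → F, IsSymplecticForm f ∧
      decompositionStabilizer D ⊓ specialLinear (Fin n) F ≤ similarityGroup f := by
  classical
  obtain ⟨L, hL⟩ := exists_block_coordinates hD hn
  let w : (Fin 2 → F) → (Fin 2 → F) → F := fun a b => a 0 * b 1 - a 1 * b 0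
  let f : (Fin n → F) → (Fin n → F) → F := fun u v => ∑ i, w (L u i) (L v i)
  have hw : ∀ (A : Matrix (Fin 2) (Fin 2) F) a b, w (A *ᵥ a) (A *ᵥ b) = A.det * w a b := fun A a b => by
    simp [w, Matrix.mulVec, dotProduct, Fin.sum_univ_two, Matrix.det_fin_two]
    ring
  have hskew : ∀ u v, f u v = - f v u := fun u v => by
    simp only [f, w, ← Finset.sum_neg_distrib]
    exact Finset.sum_congr rfl fun i _ => by ring
  have halt : ∀ v, f v v = 0 := fun v => Finset.sum_eq_zero fun i _ => by simp [w, mul_comm]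
  have hnd : ∀ v, v ≠ 0 → ∃ z, f v z ≠ 0 := by
    intro v hv
    obtain ⟨i, hi⟩ := Function.ne_iff.1 ((map_ne_zero_iff L L.injective).2 hv)
    obtain ⟨k, hk⟩ := Function.ne_iff.1 hi
    refine ⟨L.symm (Pi.single i (Pi.single (k + 1) 1)), ?_⟩
    simp only [f, LinearEquiv.apply_symm_apply]
    rw [Finset.sum_eq_single i]
    · fin_cases k <;> simpa [w] using hk
    · intro j _ hj; simp [w, Pi.single_eq_of_ne hj]
    · simp
  refine ⟨f, ⟨⟨fun x y v => ?_, fun c x v => ?_, fun v x y => ?_, fun c v x => ?_⟩, hskew, halt, fun v hv => ⟨?_, hnd v hv⟩⟩, ?_⟩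
  · simp only [f, w, map_add, ← Finset.sum_add_distrib]
    exact Finset.sum_congr rfl fun i _ => by simp only [Pi.add_apply]; ring
  · simp only [f, w, map_smul, Finset.mul_sum]
    exact Finset.sum_congr rfl fun i _ => by simp only [Pi.smul_apply, smul_eq_mul]; ring
  · simp only [f, w, map_add, ← Finset.sum_add_distrib]
    exact Finset.sum_congr rfl fun i _ => by simp only [Pi.add_apply]; ring
  · simp only [f, w, map_smul, Finset.mul_sum]
    exact Finset.sum_congr rfl fun i _ => by simp only [Pi.smul_apply, smul_eq_mul]; ring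
  · obtain ⟨z, hz⟩ := hnd v hv
    exact ⟨z, fun h => hz (by rw [hskew, h, neg_zero])⟩
  rintro g ⟨hgD, hgS⟩
  obtain ⟨τ, M, hM⟩ := hL g hgD
  have hdet := det_of_block_coordinates L g τ M hM
  have hg1 : (g : Matrix (Fin n) (Fin n) F).det = 1 := congrArg Units.val (show
    Matrix.GeneralLinearGroup.det g = 1 from hgS)
  rw [hg1] at hdet
  have hne : ∀ i, (M i).det ≠ 0 := fun i h =>
    one_ne_zero (α := F) (hdet.trans (Finset.prod_eq_zero (Finset.mem_univ i) h))
  have hpow : ∀ i, (M i).det ^ (Fintype.card F - 1) = 1 := fun i => FiniteField.pow_card_sub_one_eq_one _ (hne i)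
  obtain ⟨c, hc⟩ : ∃ c : Fˣ, ∀ i, (M i).det = c := by
    rcases hq with h2 | ⟨h3, rfl⟩
    · exact ⟨1, fun i => by simpa [h2] using hpow i⟩
    · refine ⟨Units.mk0 _ (hne 0), Fin.forall_fin_two.2 ⟨rfl, ?_⟩⟩
      rw [Fin.prod_univ_two] at hdet
      have h0 := hpow 0
      rw [h3] at h0
      show (M 1).det = (M 0).det
      calc (M 1).det = ((M 0).det ^ (3 - 1)) * (M 1).det := by rw [h0, one_mul]
        _ = (M 0).det * ((M 0).det * (M 1).det) := by ring
        _ = (M 0).det := by rw [← hdet, mul_one]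
  refine ⟨c, fun u v => ?_⟩
  simp only [f, Finset.mul_sum]
  rw [← Equiv.sum_comp τ]
  exact Finset.sum_congr rfl fun i _ => by rw [hM, hM, hw, hc]

/-- Over two elements a tensor decomposition with a factor of dimension two refines to a field of degree two. -/
theorem tensor_two_small [Fintype F] (hq : Fintype.card F = 2) {k : ℕ} (hk : 0 < k) (e : Fin n ≃ Fin 2 × Fin k)
    (P : GL (Fin n) F) : ∃ K : Subalgebra F (Matrix (Fin n) (Fin n) F), IsFieldSubalgebra 2 K ∧
      tensorProductSubgroup 2 k e P ≤ subalgebraNormalizer K := by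
  classical
  haveI : Nonempty (Fin n) := ⟨e.symm (0, ⟨0, hk⟩)⟩
  have h01 : ∀ x : F, x = 0 ∨ x = 1 := fun x => by
    by_cases hx : x = 0
    · exact .inl hx
    · exact .inr (by simpa [hq] using FiniteField.pow_card_sub_one_eq_one x hx)
  haveI : CharP F 2 := by
    refine (CharP.charP_iff_prime_eq_zero Nat.prime_two).2 ?_
    have := FiniteField.cast_card_eq_zero F
    rwa [hq] at this
  let w : Matrix (Fin 2) (Fin 2) F := !![0, 1; 1, 1]
  have hw2 : w * w = w + 1 := by
    ext i j
    fin_cases i <;> fin_cases j <;> simp [w, Matrix.mul_apply, Fin.sum_univ_two, CharTwo.add_self_eq_zero]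
  obtain ⟨X, hX⟩ := coord_surjective e P (w ⊗ₖ (1 : Matrix (Fin k) (Fin k) F))
  have hadd : ∀ A B : Matrix (Fin n) (Fin n) F, coord e P (A + B) = coord e P A + coord e P B := fun A B => by
    ext i j
    simp [coord, Matrix.mul_add, Matrix.add_mul]
  have hX2 : X * X = X + 1 := coord_injective e P (by
    rw [coord_mul, hadd, coord_one, hX, ← Matrix.mul_kronecker_mul, mul_one, hw2, Matrix.add_kronecker,
      Matrix.one_kronecker_one])
  have hXs : ∀ c : F, X ≠ c • 1 := by
    intro c h
    have h' := congrFun (congrFun (congrArg (coord e P) h) (0, ⟨0, hk⟩)) (1, ⟨0, hk⟩)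
    rw [hX, coord_smul, coord_one] at h'
    simp [w, Matrix.one_apply, Matrix.kronecker_apply] at h'
  let K : Subalgebra F (Matrix (Fin n) (Fin n) F) :=
    { carrier := {A | ∃ a b : F, A = a • 1 + b • X}
      mul_mem' := by
        rintro _ _ ⟨a, b, rfl⟩ ⟨c, d, rfl⟩
        refine ⟨a * c + b * d, a * d + b * c + b * d, ?_⟩
        simp only [add_mul, mul_add, Matrix.smul_mul, Matrix.mul_smul, one_mul, mul_one, hX2, smul_add, smul_smul,
          add_smul, mul_comm d, mul_comm c]
        abel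
      add_mem' := by
        rintro _ _ ⟨a, b, rfl⟩ ⟨c, d, rfl⟩
        exact ⟨a + c, b + d, by rw [add_smul, add_smul]; abel⟩
      algebraMap_mem' := fun c => ⟨c, 0, by simp [Algebra.algebraMap_eq_smul_one]⟩ }
  have hmem : ∀ A, A ∈ K ↔ ∃ a b : F, A = a • (1 : Matrix (Fin n) (Fin n) F) + b • X := fun A => Iff.rfl
  refine ⟨K, ⟨?_, ?_, ?_⟩, ?_⟩
  · rintro _ ⟨a, b, rfl⟩ _ ⟨c, d, rfl⟩
    simp only [add_mul, mul_add, Matrix.smul_mul, Matrix.mul_smul, one_mul, mul_one, smul_smul, mul_comm a, mul_comm b]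
    abel
  · rintro _ ⟨a, b, rfl⟩ h0
    have hXX : X * (X + 1) = 1 := by
      rw [mul_add, mul_one, hX2]
      ext i j
      simp [CharTwo.add_self_eq_zero, add_comm (X i j), add_assoc]
    have hXX' : (X + 1) * X = 1 := by
      rw [add_mul, one_mul, hX2]
      ext i j
      simp [CharTwo.add_self_eq_zero, add_comm (X i j), add_assoc]
    rcases h01 a with rfl | rfl <;> rcases h01 b with rfl | rfl
    · exact absurd (by simp) h0
    · exact ⟨X + 1, (hmem _).2 ⟨1, 1, by simp [add_comm]⟩, by simp [hXX]⟩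
    · exact ⟨1, K.one_mem, by simp⟩
    · exact ⟨X, (hmem _).2 ⟨0, 1, by simp⟩, by simp [add_comm (1 : Matrix (Fin n) (Fin n) F), hXX']⟩
  · let Ψ : (Fin 2 → F) →ₗ[F] K :=
      { toFun := fun v => ⟨v 0 • (1 : Matrix (Fin n) (Fin n) F) + v 1 • X, v 0, v 1, rfl⟩
        map_add' := fun u v => Subtype.ext (by simp [add_smul]; abel)
        map_smul' := fun c v => Subtype.ext (by simp [smul_smul]) }
    have hinj : Function.Injective Ψ := by
      rw [injective_iff_map_eq_zero]
      intro v hv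
      have h : v 0 • (1 : Matrix (Fin n) (Fin n) F) + v 1 • X = 0 := congrArg Subtype.val hv
      have h1 : v 1 = 0 := by
        by_contra h1
        refine hXs (-((v 1)⁻¹ * v 0)) ?_
        rw [neg_smul, ← smul_smul, ← smul_neg, ← eq_neg_of_add_eq_zero_right h, inv_smul_smul₀ h1]
      have h0 : v 0 = 0 := by
        rw [h1, zero_smul, add_zero, smul_eq_zero] at h
        exact h.resolve_right one_ne_zero
      funext i
      fin_cases i
      exacts [h0, h1]
    have hsurj : Function.Surjective Ψ := by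
      rintro ⟨_, a, b, rfl⟩
      exact ⟨![a, b], Subtype.ext (by simp [Ψ])⟩
    rw [← LinearEquiv.finrank_eq (LinearEquiv.ofBijective Ψ ⟨hinj, hsurj⟩), Module.finrank_pi, Fintype.card_fin]
  have key : ∀ g ∈ tensorProductSubgroup 2 k e P, ∀ A ∈ K,
      (g : Matrix (Fin n) (Fin n) F) * A * ((g⁻¹ : GL (Fin n) F) : Matrix (Fin n) (Fin n) F) ∈ K := by
    rintro g hg _ ⟨a, b, rfl⟩
    obtain ⟨α, β, hαβ⟩ := (mem_tensorProductSubgroup_iff e P g).1 hg
    obtain ⟨c, hc⟩ : ∃ c : F, (α : Matrix (Fin 2) (Fin 2) F) * w = (w + c • 1) * (α : Matrix (Fin 2) (Fin 2) F) := by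
      have hd : (α : Matrix (Fin 2) (Fin 2) F).det ≠ 0 := (α.isUnit.map Matrix.detMonoidHom).ne_zero
      rw [Matrix.det_fin_two] at hd
      rcases h01 ((α : Matrix (Fin 2) (Fin 2) F) 0 0) with h00 | h00 <;>
      rcases h01 ((α : Matrix (Fin 2) (Fin 2) F) 0 1) with h10 | h10 <;>
      rcases h01 ((α : Matrix (Fin 2) (Fin 2) F) 1 0) with h20 | h20 <;>
      rcases h01 ((α : Matrix (Fin 2) (Fin 2) F) 1 1) with h30 | h30 <;>
      first
      | (exfalso; apply hd; simp [h00, h10, h20, h30]; done)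
      | (refine ⟨0, ?_⟩; ext i j; fin_cases i <;> fin_cases j <;>
          simp [w, Matrix.mul_apply, Fin.sum_univ_two, h00, h10, h20, h30, CharTwo.add_self_eq_zero] <;> done)
      | (refine ⟨1, ?_⟩; ext i j; fin_cases i <;> fin_cases j <;>
          simp [w, Matrix.mul_apply, Fin.sum_univ_two, h00, h10, h20, h30, CharTwo.add_self_eq_zero] <;> done)
    have hgX : (g : Matrix (Fin n) (Fin n) F) * X = (X + c • 1) * g := coord_injective e P (by
      rw [coord_mul, coord_mul, hadd, coord_smul, coord_one, hX, hαβ, ← Matrix.mul_kronecker_mul, hc,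
        ← Matrix.one_kronecker_one (α := F) (m := Fin 2) (n := Fin k), ← Matrix.smul_kronecker, ← Matrix.add_kronecker,
        ← Matrix.mul_kronecker_mul, mul_one, one_mul])
    refine (hmem _).2 ⟨a + b * c, b, ?_⟩
    rw [mul_add, Matrix.mul_smul, Matrix.mul_smul, mul_one, hgX, add_mul, Matrix.smul_mul, Matrix.smul_mul,
      Units.mul_inv, mul_assoc, Units.mul_inv, mul_one, smul_add, smul_smul, add_smul]
    abel
  refine fun g hg A => ⟨key g hg A, fun hA => ?_⟩
  have := key g⁻¹ ((tensorProductSubgroup 2 k e P).inv_mem hg) _ hA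
  rwa [inv_inv, ← mul_assoc, ← mul_assoc, Units.inv_mul, one_mul, mul_assoc, Units.inv_mul, mul_one] at this

end CfsgLib.Geo.Asch
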