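/-
Reductions for the small-field exceptions in the lists of maximal subgroups of SL.
-/
import Cfsg.Agent.Lib.Geo.Asch.LinearMax
import Cfsg.Agent.Lib.Geo.Asch.SmallLines
import Cfsg.Agent.Lib.Geo.Asch.SmallPlanes

set_option autoImplicit false

namespace CfsgLib.Geo.Asch

open Matrix Cfsg.Geo

variable {F : Type*} [Field F] [Fintype F] {n : ℕ}

theorem eq_inf_of_le {H M M' : Subgroup (GL (Fin n) F)} (hH : IsMaximalIn (specialLinear (Fin n) F) H)
    (h : H = M ⊓ specialLinear (Fin n) F) (hle : M ⊓ specialLinear (Fin n) F ≤ M')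
    (hnot : ¬ specialLinear (Fin n) F ≤ M') : H = M' ⊓ specialLinear (Fin n) F :=
  ((hH.2 _ (le_inf (h ▸ hle) hH.1.le) inf_le_right).resolve_right fun e => hnot (inf_eq_right.1 e)).symm

theorem lines_reduce (hn : 3 ≤ n) {H : Subgroup (GL (Fin n) F)} (hH : IsMaximalIn (specialLinear (Fin n) F) H)
    (hq : Fintype.card F < 5) {D : Fin n → Submodule F (Fin n → F)} (hD : IsMDecomposition 1 D)
    (h : H = decompositionStabilizer D ⊓ specialLinear (Fin n) F) :
    (∃ W : Submodule F (Fin n → F), W ≠ ⊥ ∧ W ≠ ⊤ ∧ H = subspaceStabilizer W ⊓ specialLinear (Fin n) F) ∨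
    (Odd (Fintype.card F) ∧ ∃ Q : (Fin n → F) → F, IsNondegenerateQuadraticForm Q ∧
      H = quadSimilarityGroup Q ⊓ specialLinear (Fin n) F) ∨
    (∃ (σ : F ≃+* F) (f : (Fin n → F) → (Fin n → F) → F), IsUnitaryForm σ f ∧
      H = similarityGroup f ⊓ specialLinear (Fin n) F) := by
  have hcard : 3 ≤ Fintype.card (Fin n) := by rw [Fintype.card_fin]; exact hn
  rcases lines_small (by omega) hq hD with ⟨W, h0, h1, hle⟩ | ⟨hodd, Q, hQ, hle⟩ | ⟨σ, f, hf, hle⟩
  · exact .inl ⟨W, h0, h1, eq_inf_of_le hH h (inf_le_left.trans hle) (not_le_subspaceStabilizer h0 h1)⟩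
  · exact .inr <| .inl ⟨hodd, Q, hQ,
      eq_inf_of_le hH h (inf_le_left.trans hle) (not_specialLinear_le_quadSimilarityGroup hcard hQ)⟩
  · exact .inr <| .inr ⟨σ, f, hf, eq_inf_of_le hH h (inf_le_left.trans hle)
      (not_specialLinear_le_similarityGroup hcard (isSesqForm_of_unitary hf) hf.nondegenerate)⟩

theorem planes_reduce (hn : 3 ≤ n) {H : Subgroup (GL (Fin n) F)} (hH : IsMaximalIn (specialLinear (Fin n) F) H)
    {t : ℕ} (ht : t * 2 = n) (hq : Fintype.card F = 2 ∨ (Fintype.card F = 3 ∧ t = 2))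
    {D : Fin t → Submodule F (Fin n → F)} (hD : IsMDecomposition 2 D)
    (h : H = decompositionStabilizer D ⊓ specialLinear (Fin n) F) :
    ∃ f : (Fin n → F) → (Fin n → F) → F, IsSymplecticForm f ∧
      H = similarityGroup f ⊓ specialLinear (Fin n) F := by
  obtain ⟨f, hf, hle⟩ := planes_small hD ht hq
  exact ⟨f, hf, eq_inf_of_le hH h hle (not_specialLinear_le_similarityGroup (by rw [Fintype.card_fin]; exact hn)
    (isSesqForm_of_bilinear hf.bilinear) hf.nondegenerate)⟩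

theorem tensor_reduce (hn : 3 ≤ n) {H : Subgroup (GL (Fin n) F)} (hH : IsMaximalIn (specialLinear (Fin n) F) H)
    (hq : Fintype.card F = 2) {k : ℕ} (hk : 0 < k) {e : Fin n ≃ Fin 2 × Fin k} {P : GL (Fin n) F}
    (h : H = tensorProductSubgroup 2 k e P ⊓ specialLinear (Fin n) F) :
    ∃ K : Subalgebra F (Matrix (Fin n) (Fin n) F), IsFieldSubalgebra 2 K ∧
      H = subalgebraNormalizer K ⊓ specialLinear (Fin n) F := by
  obtain ⟨K, hK, hle⟩ := tensor_two_small hq hk e P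
  exact ⟨K, hK, eq_inf_of_le hH h (inf_le_left.trans hle)
    (not_le_subalgebraNormalizer (by rw [Fintype.card_fin]; exact hn) hK (by norm_num))⟩

theorem symplectic_residue_three {R : Subgroup (GL (Fin n) F)} (h : IsLinearSymplecticTypeData 3 R) :
    ∃ p : ℕ, p.Prime ∧ Fintype.card F = p ∧ p % 3 = 1 := by
  obtain ⟨p, e, -, hmin, hc⟩ := h.field
  rcases hc with ⟨-, he, hz, -⟩ | ⟨h2, -⟩ | ⟨h2, -⟩
  · rw [hz] at hmin
    obtain ⟨a, ha, hpa, he3, he0, hae, hd⟩ := minimalField_residue Nat.prime_three hmin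
    obtain rfl : e = 1 := by
      obtain ⟨k, hk⟩ := he
      omega
    exact ⟨p, hmin.1, by simpa using hmin.2.2.1, by rw [hpa]; rw [pow_one, Nat.mod_eq_of_lt ha] at hae; exact hae⟩
  · norm_num at h2
  · norm_num at h2

theorem symplectic_residue_two (hn : 4 ≤ n) {R : Subgroup (GL (Fin n) F)} (h : IsLinearSymplecticTypeData 2 R) :
    ∃ p : ℕ, p.Prime ∧ Fintype.card F = p ∧ p % 4 = 1 := by
  obtain ⟨p, e, -, hmin, hc⟩ := h.field
  rcases hc with ⟨h2, -⟩ | ⟨-, rfl, hz, -⟩ | ⟨-, -, h2, -⟩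
  · exact absurd h2 (by decide)
  · rw [hz] at hmin
    obtain ⟨hp, -, hcard, hdvd, -⟩ := hmin
    rw [pow_one] at hdvd hcard
    refine ⟨p, hp, hcard, ?_⟩
    have := hp.two_le
    omega
  · rw [Fintype.card_fin] at h2
    omega

end CfsgLib.Geo.Asch
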