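/-
In SL_4(5) the stabiliser of four independent lines is not maximal: it preserves six lines of alternating forms.
-/
import Cfsg.Agent.Lib.Geo.Asch.SmallLines

set_option autoImplicit false

namespace CfsgLib.Geo.Asch

open Matrix Cfsg.Geo

variable {F : Type*} [Field F]

/-- An alternating form on four letters supported on a pairing, with all its values of the same square. -/
def IsPairForm (J : Matrix (Fin 4) (Fin 4) F) : Prop :=
  Jᵀ = -J ∧ (∀ i, ∃ j, J i j ≠ 0) ∧ (∀ i j k, J i j ≠ 0 → J i k ≠ 0 → j = k) ∧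
    ∀ i j k l, J i j ≠ 0 → J k l ≠ 0 → J i j ^ 2 = J k l ^ 2

theorem IsPairForm.smul {J : Matrix (Fin 4) (Fin 4) F} (h : IsPairForm J) {c : F} (hc : c ≠ 0) :
    IsPairForm (c • J) := by
  obtain ⟨h1, h2, h3, h4⟩ := h
  have he : ∀ i j, (c • J) i j ≠ 0 ↔ J i j ≠ 0 := fun i j => by simp [hc]
  refine ⟨by rw [Matrix.transpose_smul, h1, smul_neg], fun i => ?_, fun i j k hj hk =>
    h3 i j k ((he i j).1 hj) ((he i k).1 hk), fun i j k l hij hkl => ?_⟩
  · obtain ⟨j, hj⟩ := h2 i
    exact ⟨j, (he i j).2 hj⟩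
  · simp only [Matrix.smul_apply, smul_eq_mul, mul_pow]
    rw [h4 i j k l ((he i j).1 hij) ((he k l).1 hkl)]

/-- The matrices mapping the pair forms to pair forms by congruence. -/
def pairFormStabilizer (F : Type*) [Field F] : Subgroup (GL (Fin 4) F) where
  carrier := {g | ∀ J, IsPairForm J ↔ IsPairForm ((g : Matrix (Fin 4) (Fin 4) F) * J * (g : Matrix (Fin 4) (Fin 4) F)ᵀ)}
  mul_mem' {a b} ha hb := fun J => by
    rw [hb J, ha, Units.val_mul, Matrix.transpose_mul]
    simp only [mul_assoc]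
  one_mem' := fun J => by simp
  inv_mem' {a} ha := fun J => by
    have h := ha (((a⁻¹ : GL (Fin 4) F) : Matrix (Fin 4) (Fin 4) F) * J *
      (((a⁻¹ : GL (Fin 4) F) : Matrix (Fin 4) (Fin 4) F))ᵀ)
    rw [h]
    rw [← mul_assoc, ← mul_assoc, Units.mul_inv, one_mul, mul_assoc, ← Matrix.transpose_mul, Units.mul_inv,
      Matrix.transpose_one, mul_one]

variable [Fintype F]

theorem pow_four_eq_one (hF : Fintype.card F = 5) {x : F} (hx : x ≠ 0) : x ^ 4 = 1 := by
  simpa [hF] using FiniteField.pow_card_sub_one_eq_one x hx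

theorem pairForm_monomial (hne2 : (2 : F) ≠ 0) {g : GL (Fin 4) F} (τ : Equiv.Perm (Fin 4)) (c : Fin 4 → F)
    (hc : ∀ i, c i ≠ 0) (hc4 : ∀ i, c i ^ 4 = 1) (h : ∀ i j, (g : Matrix (Fin 4) (Fin 4) F) (τ i) j = if i = j then c i else 0)
    (hdet : (g : Matrix (Fin 4) (Fin 4) F).det = 1) {J : Matrix (Fin 4) (Fin 4) F} (hJ : IsPairForm J) :
    IsPairForm ((g : Matrix (Fin 4) (Fin 4) F) * J * (g : Matrix (Fin 4) (Fin 4) F)ᵀ) := by
  classical
  obtain ⟨h1, h2, h3, h4⟩ := hJ
  set G := (g : Matrix (Fin 4) (Fin 4) F) with hG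
  have hentry : ∀ a b, (G * J * Gᵀ) (τ a) (τ b) = c a * c b * J a b := fun a b => by
    simp [Matrix.mul_apply, h, Finset.sum_ite_eq, mul_comm, mul_left_comm]
  have hprod : (∏ i, c i) ^ 2 = 1 := by
    have hsub : G.submatrix τ id = Matrix.diagonal c := by
      ext i j
      simp [h, Matrix.diagonal_apply]
    have hd := Matrix.det_permute τ G
    rw [hsub, Matrix.det_diagonal, hdet, mul_one] at hd
    rw [hd, ← Int.cast_pow, ← Units.val_pow_eq_pow_val, Int.units_sq]
    simp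
  have hne : ∀ a b, (G * J * Gᵀ) (τ a) (τ b) ≠ 0 ↔ J a b ≠ 0 := fun a b => by
    rw [hentry]; simp [hc a, hc b]
  refine ⟨by rw [Matrix.transpose_mul, Matrix.transpose_mul, Matrix.transpose_transpose, h1]; simp [mul_assoc], ?_, ?_, ?_⟩
  · intro i
    obtain ⟨a, rfl⟩ := τ.surjective i
    obtain ⟨b, hb⟩ := h2 a
    exact ⟨τ b, (hne a b).2 hb⟩
  · intro i j k hj hk
    obtain ⟨a, rfl⟩ := τ.surjective i
    obtain ⟨b, rfl⟩ := τ.surjective j
    obtain ⟨d, rfl⟩ := τ.surjective k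
    rw [h3 a b d ((hne a b).1 hj) ((hne a d).1 hk)]
  intro i j k l hij hkl
  obtain ⟨a, rfl⟩ := τ.surjective i
  obtain ⟨b, rfl⟩ := τ.surjective j
  obtain ⟨x, rfl⟩ := τ.surjective k
  obtain ⟨y, rfl⟩ := τ.surjective l
  have hab := (hne a b).1 hij
  have hxy := (hne x y).1 hkl
  have hskew : ∀ p q, J q p = - J p q := fun p q => congrFun (congrFun h1 p) q
  have hba : J b a ≠ 0 := by rw [hskew]; simpa using hab
  have hyx : J y x ≠ 0 := by rw [hskew]; simpa using hxy
  rw [hentry, hentry, mul_pow _ (J a b), mul_pow _ (J x y), h4 a b x y hab hxy]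
  congr 1
  by_cases hxa : x = a
  · subst hxa; rw [h3 x b y hab hxy]
  by_cases hxb : x = b
  · subst hxb; rw [h3 x y a hxy hba, mul_comm (c a)]
  have hdiag : ∀ p q, J p q ≠ 0 → p ≠ q := fun p q hpq e => by
    subst e
    have := hskew p p
    exact hpq (mul_left_cancel₀ hne2 (by linear_combination this))
  have hya : y ≠ a := fun e => hxb (h3 a x b (e ▸ hyx) hab)
  have hyb : y ≠ b := fun e => hxa (h3 b x a (e ▸ hyx) hba)
  have huniv : ({a, b, x, y} : Finset (Fin 4)) = Finset.univ := by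
    refine Finset.eq_univ_of_card _ ?_
    rw [Finset.card_insert_of_notMem (by simp [hdiag a b hab, Ne.symm hxa, Ne.symm hya]),
      Finset.card_insert_of_notMem (by simp [Ne.symm hxb, Ne.symm hyb]),
      Finset.card_insert_of_notMem (by simp [hdiag x y hxy]), Finset.card_singleton]
    rfl
  rw [← huniv, Finset.prod_insert (by simp [hdiag a b hab, Ne.symm hxa, Ne.symm hya]),
    Finset.prod_insert (by simp [Ne.symm hxb, Ne.symm hyb]), Finset.prod_insert (by simp [hdiag x y hxy]),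
    Finset.prod_singleton] at hprod
  have hu : ((c x * c y) ^ 2) * ((c x * c y) ^ 2) = 1 := by
    rw [← pow_add]
    rw [mul_pow, hc4, hc4, one_mul]
  calc (c a * c b) ^ 2 = (c a * c b) ^ 2 * ((c x * c y) ^ 2 * (c x * c y) ^ 2) := by rw [hu, mul_one]
    _ = (c a * (c b * (c x * c y))) ^ 2 * (c x * c y) ^ 2 := by ring
    _ = (c x * c y) ^ 2 := by rw [hprod, one_mul]

/-- The Hadamard matrix maps pair forms to pair forms. -/
theorem pairForm_hadamard (h2 : (2 : F) ≠ 0) {J : Matrix (Fin 4) (Fin 4) F} (hJ₀ : IsPairForm J) :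
    IsPairForm ((!![1, 1, 1, 1; 1, -1, 1, -1; 1, 1, -1, -1; 1, -1, -1, 1] : Matrix (Fin 4) (Fin 4) F) * J *
      (!![1, 1, 1, 1; 1, -1, 1, -1; 1, 1, -1, -1; 1, -1, -1, 1] : Matrix (Fin 4) (Fin 4) F)ᵀ) := by
  classical
  let W : Matrix (Fin 4) (Fin 4) F := !![1, 1, 1, 1; 1, -1, 1, -1; 1, 1, -1, -1; 1, -1, -1, 1]
  have hWT : Wᵀ = W := by
    ext i j
    fin_cases i <;> fin_cases j <;> simp [W]
  have h4 : (4 : F) ≠ 0 := by
    rw [show (4 : F) = 2 * 2 by norm_num]
    exact mul_ne_zero h2 h2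
  have hsq : ∀ a b : F, a ≠ 0 → b ≠ 0 → a ^ 2 = b ^ 2 → b = a ∨ b = -a := fun a b _ _ e => by
    rcases mul_eq_zero.1 (show (b - a) * (b + a) = 0 by linear_combination -e) with h | h
    · exact .inl (sub_eq_zero.1 h)
    · exact .inr (eq_neg_of_add_eq_zero_left h)
  have himg : ∀ J, IsPairForm J → IsPairForm (W * J * Wᵀ) := by
    intro J hJ
    obtain ⟨h1, h2', h3, hs⟩ := hJ
    have hskew : ∀ p q, J q p = - J p q := fun p q => congrFun (congrFun h1 p) q
    have hd : ∀ p, J p p = 0 := fun p => mul_left_cancel₀ h2 (by linear_combination hskew p p)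
    obtain ⟨j, hj⟩ := h2' 0
    have hz : ∀ p q r, J p q ≠ 0 → r ≠ q → J p r = 0 := fun p q r hpq hr =>
      not_not.1 fun hne => hr (h3 p r q hne hpq)
    have hj' : J j 0 ≠ 0 := by rw [hskew]; simpa using hj
    rw [hWT]
    have hpos : (j = 1 ∧ J 2 3 ≠ 0) ∨ (j = 2 ∧ J 1 3 ≠ 0) ∨ (j = 3 ∧ J 1 2 ≠ 0) := by
      fin_cases j
      · exact absurd (hd 0) hj
      · refine .inl ⟨rfl, fun e => ?_⟩
        obtain ⟨l, hl⟩ := h2' 2
        fin_cases l
        · exact hl (by rw [hskew]; simp [hz 0 1 2 hj (by decide)])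
        · exact hl (by rw [hskew]; simp [hz 1 0 2 hj' (by decide)])
        · exact hl (hd 2)
        · exact hl e
      · refine .inr <| .inl ⟨rfl, fun e => ?_⟩
        obtain ⟨l, hl⟩ := h2' 1
        fin_cases l
        · exact hl (by rw [hskew]; simp [hz 0 2 1 hj (by decide)])
        · exact hl (hd 1)
        · exact hl (by rw [hskew]; simp [hz 2 0 1 hj' (by decide)])
        · exact hl e
      · refine .inr <| .inr ⟨rfl, fun e => ?_⟩
        obtain ⟨l, hl⟩ := h2' 1
        fin_cases l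
        · exact hl (by rw [hskew]; simp [hz 0 3 1 hj (by decide)])
        · exact hl (hd 1)
        · exact hl e
        · exact hl (by rw [hskew]; simp [hz 3 0 1 hj' (by decide)])
    have key : ∀ P : Matrix (Fin 4) (Fin 4) F, ∀ a : F, a ≠ 0 → J = a • P → IsPairForm (W * P * W) →
        IsPairForm (W * J * W) := fun P a ha e hP => by
      rw [e, Matrix.mul_smul, Matrix.smul_mul]
      exact hP.smul ha
    have hjk : ∀ p q, J p q ≠ 0 → ∀ r s, J r s ≠ 0 → J r s = J p q ∨ J r s = - J p q := fun p q hpq r s hrs =>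
      hsq _ _ hpq hrs (hs p q r s hpq hrs)
    rcases hpos with ⟨rfl, h'⟩ | ⟨rfl, h'⟩ | ⟨rfl, h'⟩
    · have z1 := hz 0 1 2 hj (by decide)
      have z2 := hz 0 1 3 hj (by decide)
      have z3 := hz 1 0 2 hj' (by decide)
      have z4 := hz 1 0 3 hj' (by decide)
      rcases hjk 0 1 hj 2 3 h' with e | e
      on_goal 1 => refine key !![0, 1, 0, 0; -1, 0, 0, 0; 0, 0, 0, 1; 0, 0, -1, 0] _ hj ?_ ?_
      on_goal 3 => refine key !![0, 1, 0, 0; -1, 0, 0, 0; 0, 0, 0, -1; 0, 0, 1, 0] _ hj ?_ ?_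
      all_goals first
        | (ext p q
           fin_cases p <;> fin_cases q <;>
             simp [hd, z1, z2, z3, z4, e, hskew 0 1, hskew 0 2, hskew 0 3, hskew 1 2, hskew 1 3, hskew 2 3] <;> done)
        | (simp [IsPairForm, W, ← Matrix.ext_iff, Fin.forall_fin_succ, Fin.exists_fin_succ, Matrix.mul_apply,
            Fin.sum_univ_succ]
           ring_nf
           simp [h2, h4, neg_eq_iff_eq_neg])
    · have z1 := hz 0 2 1 hj (by decide)
      have z2 := hz 0 2 3 hj (by decide)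
      have z3 : J 1 2 = 0 := by rw [hskew 2 1, hz 2 0 1 hj' (by decide), neg_zero]
      have z4 := hz 2 0 3 hj' (by decide)
      rcases hjk 0 2 hj 1 3 h' with e | e
      on_goal 1 => refine key !![0, 0, 1, 0; 0, 0, 0, 1; -1, 0, 0, 0; 0, -1, 0, 0] _ hj ?_ ?_
      on_goal 3 => refine key !![0, 0, 1, 0; 0, 0, 0, -1; -1, 0, 0, 0; 0, 1, 0, 0] _ hj ?_ ?_
      all_goals first
        | (ext p q
           fin_cases p <;> fin_cases q <;>
             simp [hd, z1, z2, z3, z4, e, hskew 0 1, hskew 0 2, hskew 0 3, hskew 1 2, hskew 1 3, hskew 2 3] <;> done)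
        | (simp [IsPairForm, W, ← Matrix.ext_iff, Fin.forall_fin_succ, Fin.exists_fin_succ, Matrix.mul_apply,
            Fin.sum_univ_succ]
           ring_nf
           simp [h2, h4, neg_eq_iff_eq_neg])
    · have z1 := hz 0 3 1 hj (by decide)
      have z2 := hz 0 3 2 hj (by decide)
      have z3 : J 1 3 = 0 := by rw [hskew 3 1, hz 3 0 1 hj' (by decide), neg_zero]
      have z4 : J 2 3 = 0 := by rw [hskew 3 2, hz 3 0 2 hj' (by decide), neg_zero]
      rcases hjk 0 3 hj 1 2 h' with e | e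
      on_goal 1 => refine key !![0, 0, 0, 1; 0, 0, 1, 0; 0, -1, 0, 0; -1, 0, 0, 0] _ hj ?_ ?_
      on_goal 3 => refine key !![0, 0, 0, 1; 0, 0, -1, 0; 0, 1, 0, 0; -1, 0, 0, 0] _ hj ?_ ?_
      all_goals first
        | (ext p q
           fin_cases p <;> fin_cases q <;>
             simp [hd, z1, z2, z3, z4, e, hskew 0 1, hskew 0 2, hskew 0 3, hskew 1 2, hskew 1 3, hskew 2 3] <;> done)
        | (simp [IsPairForm, W, ← Matrix.ext_iff, Fin.forall_fin_succ, Fin.exists_fin_succ, Matrix.mul_apply,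
            Fin.sum_univ_succ]
           ring_nf
           simp [h2, h4, neg_eq_iff_eq_neg])
  exact himg J hJ₀

/-- The stabiliser of four lines in SL_4(5) lies strictly between itself and SL. -/
theorem lines_five_not_maximal (hF : Fintype.card F = 5) {D : Fin 4 → Submodule F (Fin 4 → F)}
    (hD : IsMDecomposition 1 D) {H : Subgroup (GL (Fin 4) F)} (hH : IsMaximalIn (specialLinear (Fin 4) F) H)
    (h : H = decompositionStabilizer D ⊓ specialLinear (Fin 4) F) : False := by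
  classical
  obtain ⟨B, hB⟩ := exists_monomial_basis hD
  have h5 : (5 : F) = 0 := by
    have := FiniteField.cast_card_eq_zero F
    rwa [hF] at this
  have h2 : (2 : F) ≠ 0 := fun h => one_ne_zero (α := F) (by linear_combination h5 - 2 * h)
  let K := (pairFormStabilizer F).map (MulAut.conj B).toMonoidHom
  have hval : ∀ g : GL (Fin 4) F, g ∈ specialLinear (Fin 4) F ↔ (g : Matrix (Fin 4) (Fin 4) F).det = 1 := fun g =>
    ⟨fun hg => congrArg Units.val (show Matrix.GeneralLinearGroup.det g = 1 from hg), fun hg => Units.ext hg⟩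
  have hle : H ≤ K := by
    intro g hg
    have hmon : ∀ k ∈ H, ∀ J, IsPairForm J → IsPairForm (((B⁻¹ * k * B : GL (Fin 4) F) : Matrix (Fin 4) (Fin 4) F) * J *
        ((B⁻¹ * k * B : GL (Fin 4) F) : Matrix (Fin 4) (Fin 4) F)ᵀ) := by
      intro k hk J hJ
      rw [h] at hk
      obtain ⟨τ, c, hc0, hc⟩ := hB k hk.1
      refine pairForm_monomial h2 τ c hc0 (fun i => pow_four_eq_one hF (hc0 i)) (fun i j => ?_) ?_ hJ
      · have e : ∀ M : Matrix (Fin 4) (Fin 4) F, M (τ i) j = (M *ᵥ Pi.single j 1) (τ i) := fun M => by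
          simp [Matrix.col]
        refine (e _).trans ?_
        rw [Units.val_mul, Units.val_mul, ← Matrix.mulVec_mulVec, ← Matrix.mulVec_mulVec, hc, mulVec_inv_cancel]
        simp [Pi.single_apply]
      · rw [Units.val_mul, Units.val_mul, Matrix.det_units_conj', (hval k).1 hk.2]
    refine ⟨B⁻¹ * g * B, fun J => ⟨hmon g hg J, fun hJ => ?_⟩, by show B * (B⁻¹ * g * B) * B⁻¹ = g; group⟩
    have := hmon g⁻¹ (H.inv_mem hg) _ hJ
    rw [show B⁻¹ * g⁻¹ * B = (B⁻¹ * g * B)⁻¹ by group] at this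
    rw [← mul_assoc, ← mul_assoc, Units.inv_mul, one_mul, mul_assoc, ← Matrix.transpose_mul, Units.inv_mul,
      Matrix.transpose_one, mul_one] at this
    exact this
  -- a form and its image under the Hadamard matrix
  let W : Matrix (Fin 4) (Fin 4) F := !![1, 1, 1, 1; 1, -1, 1, -1; 1, 1, -1, -1; 1, -1, -1, 1]
  have hWdet : W.det = 1 := by
    simp [W, Matrix.det_succ_row_zero, Fin.sum_univ_succ, Fin.succAbove]
    linear_combination 3 * h5
  let w : GL (Fin 4) F := Matrix.GeneralLinearGroup.mkOfDetNeZero W (by rw [hWdet]; exact one_ne_zero)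
  have hWW : W * W = (4 : F) • 1 := by
    ext i j
    fin_cases i <;> fin_cases j <;> simp [W, Matrix.mul_apply, Fin.sum_univ_four] <;> norm_num
  have hWT : Wᵀ = W := by
    ext i j
    fin_cases i <;> fin_cases j <;> simp [W]
  have h4 : (4 : F) ≠ 0 := fun h => one_ne_zero (α := F) (by linear_combination h5 - h)
  have himg : ∀ J, IsPairForm J → IsPairForm (W * J * Wᵀ) := fun J hJ => pairForm_hadamard h2 hJ
  have hwK : B * w * B⁻¹ ∈ K ⊓ specialLinear (Fin 4) F := by
    refine ⟨⟨w, fun J => ⟨himg J, fun hJ => ?_⟩, rfl⟩, (hval _).2 ?_⟩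
    · have h1 := (himg _ hJ).smul (inv_ne_zero (pow_ne_zero 2 h4))
      have e : W * (W * J * Wᵀ) * Wᵀ = (4 : F) ^ 2 • J := by
        rw [hWT, show W * (W * J * W) * W = (W * W) * J * (W * W) by noncomm_ring, hWW, Matrix.smul_mul, one_mul,
          Matrix.mul_smul, mul_one, smul_smul, pow_two]
      rw [show ((w : Matrix (Fin 4) (Fin 4) F)) = W from rfl] at h1
      rwa [e, smul_smul, inv_mul_cancel₀ (pow_ne_zero 2 h4), one_smul] at h1
    · rw [Units.val_mul, Units.val_mul, Matrix.det_units_conj]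
      exact hWdet
  rcases hH.2 (K ⊓ specialLinear (Fin 4) F) (le_inf hle hH.1.le) inf_le_right with e | e
  · rw [e, h] at hwK
    obtain ⟨τ, c, -, hc⟩ := hB _ hwK.1
    have h1 := hc ((B : Matrix (Fin 4) (Fin 4) F) *ᵥ Pi.single 0 1) 1
    simp only [Units.val_mul, ← Matrix.mulVec_mulVec, mulVec_inv_cancel] at h1
    rw [show ((w : Matrix (Fin 4) (Fin 4) F)) = W from rfl, Matrix.mulVec_single_one] at h1
    generalize τ 1 = x at h1
    fin_cases x <;> simp [W, Matrix.col] at h1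
  · obtain ⟨t, ht, htv⟩ : ∃ t : GL (Fin 4) F, (t : Matrix (Fin 4) (Fin 4) F).det = 1 ∧
        (t : Matrix (Fin 4) (Fin 4) F) = !![1, 0, 1, 0; 0, 1, 0, 0; 0, 0, 1, 0; 0, 0, 0, 1] := by
      have hd : (!![1, 0, 1, 0; 0, 1, 0, 0; 0, 0, 1, 0; 0, 0, 0, 1] : Matrix (Fin 4) (Fin 4) F).det = 1 := by
        simp [Matrix.det_succ_row_zero, Fin.sum_univ_succ, Fin.succAbove]
      exact ⟨Matrix.GeneralLinearGroup.mkOfDetNeZero _ (by rw [hd]; exact one_ne_zero), hd, rfl⟩
    have hmem : B * t * B⁻¹ ∈ K ⊓ specialLinear (Fin 4) F := by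
      rw [e, hval, Units.val_mul, Units.val_mul, Matrix.det_units_conj]
      exact ht
    obtain ⟨u, hu, eu⟩ := hmem.1
    have : u = t := by
      have eu' : B * u * B⁻¹ = B * t * B⁻¹ := eu
      exact mul_left_cancel (mul_right_cancel eu')
    subst this
    have hP : IsPairForm (!![0, 1, 0, 0; -1, 0, 0, 0; 0, 0, 0, 1; 0, 0, -1, 0] : Matrix (Fin 4) (Fin 4) F) := by
      simp [IsPairForm, ← Matrix.ext_iff, Fin.forall_fin_succ, Fin.exists_fin_succ]
    obtain ⟨-, -, h3, -⟩ := (hu _).1 hP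
    rw [htv] at h3
    have := h3 0 1 3 (by simp [Matrix.mul_apply, Fin.sum_univ_succ])
      (by simp [Matrix.mul_apply, Fin.sum_univ_succ])
    exact absurd this (by decide)

end CfsgLib.Geo.Asch
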