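/-
Siegel maps in Ω: irreducibility, and Ω lies in no subfield group and no decomposition stabiliser.
-/
import Cfsg.Agent.Lib.Geo.Asch.Linear
import Cfsg.Agent.Lib.Geo.OrthMaximalBasic
import Cfsg.Agent.Lib.Classical.Quad.OmegaStructure

set_option autoImplicit false

namespace CfsgLib.Geo.Asch

open Matrix Cfsg.Geo
open CfsgLib.Classical CfsgLib.Classical.Quad
open QuadraticMap (polar polarBilin)

variable {F : Type*} [Field F] [Finite F] {ι : Type} [Fintype ι] [DecidableEq ι] {Q : QuadraticForm F (ι → F)}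

theorem omega_le_isometry : omegaGL (⇑Q) ≤ Cfsg.isometryGroup F (⇑Q) := by
  rintro _ ⟨g, -, rfl⟩
  exact g.2

omit [Finite F] in
theorem omega_le_specialLinear : omegaGL (⇑Q) ≤ specialLinear ι F := by
  rintro _ ⟨g, hg, rfl⟩
  have h := Abelianization.commutator_subset_ker
    (Matrix.GeneralLinearGroup.det.comp (Cfsg.isometryGroup F (⇑Q)).subtype) hg
  exact h

theorem fixes_polar {g : GL ι F} (hg : g ∈ omegaGL (⇑Q)) (u v : ι → F) :
    polar Q ((g : Matrix ι ι F) *ᵥ u) ((g : Matrix ι ι F) *ᵥ v) = polar Q u v := by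
  have h : ∀ x, Q ((g : Matrix ι ι F) *ᵥ x) = Q x := fun x => omega_le_isometry hg x 0
  simp only [QuadraticMap.polar, ← Matrix.mulVec_add, h]

/-- Eichler maps are in Ω. -/
theorem exists_omega_eich (hQ : (polarBilin Q).Nondegenerate) (hn : 5 ≤ Fintype.card ι) {w a : ι → F}
    (hw : Q w = 0) (ha : polar Q w a = 0) :
    ∃ g ∈ omegaGL (⇑Q), ∀ z, (g : Matrix ι ι F) *ᵥ z =
      z + (polar Q z a - Q a * polar Q z w) • w + (-polar Q z w) • a := by
  have hn' : 5 ≤ Module.finrank F (ι → F) := by rwa [Module.finrank_pi]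
  let e := oEquiv Q
  have hmap : (commutator ↥(Cfsg.isometryGroup F (⇑Q))).map e.toMonoidHom = commutator (OQ Q) := by
    rw [commutator_def, commutator_def, Subgroup.map_commutator, Subgroup.map_top_of_surjective _ e.surjective]
  have hmem := eich_mem hQ hn' hw ha
  rw [eichGroup_eq_commutator hQ hn', ← hmap, Subgroup.mem_map_equiv] at hmem
  refine ⟨(e.symm (eich hQ hw ha) : GL ι F), ⟨_, hmem, rfl⟩, fun z => ?_⟩
  rw [← oEquiv_apply Q, MulEquiv.apply_symm_apply]
  exact eich_apply hQ hw ha z

theorem actsIrreducibly_omega (h2 : (2 : F) ≠ 0) (hQ : (polarBilin Q).Nondegenerate) (hn : 5 ≤ Fintype.card ι) :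
    ActsIrreducibly (matrixSet (omegaGL (⇑Q))) := by
  rw [actsIrreducibly_iff]
  intro W hW
  have hn' : 5 ≤ Module.finrank F (ι → F) := by rwa [Module.finrank_pi]
  by_cases hall : ∀ w, Q w = 0 → ∀ z ∈ W, polar Q z w = 0
  · left
    rw [Submodule.eq_bot_iff]
    intro z hz
    by_contra hz0
    have hker : Submodule.span F {w : ι → F | Q w = 0} ≤ LinearMap.ker (polarBilin Q z) :=
      Submodule.span_le.2 fun w hw => hall w hw z hz
    rw [singular_span_eq_top hQ hn', top_le_iff, LinearMap.ker_eq_top] at hker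
    exact hz0 (hQ.1 z fun y => LinearMap.congr_fun hker y)
  · right
    push Not at hall
    obtain ⟨w, hw, z, hz, hzw⟩ := hall
    have move : ∀ a, polar Q w a = 0 → (polar Q z a - Q a * polar Q z w) • w + (-polar Q z w) • a ∈ W := by
      intro a ha
      obtain ⟨g, hg, hgz⟩ := exists_omega_eich hQ hn hw ha
      have := stable_matrixSet_iff.1 hW g hg z hz
      rw [hgz, add_assoc] at this
      exact (W.add_mem_iff_right hz).1 this
    have hw0 : w ≠ 0 := fun e => hzw (by rw [e, QuadraticMap.polar_zero_right])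
    obtain ⟨a, hqa, hwa⟩ := exists_nonsingular_perp hQ (Submodule.span F {w})
      (by rw [finrank_span_singleton hw0]; omega)
    have hwa' := hwa w (Submodule.mem_span_singleton_self w)
    have h1 := move a hwa'
    have h3 := move (-a) (by rw [QuadraticMap.polar_neg_right, hwa', neg_zero])
    rw [QuadraticMap.map_neg, QuadraticMap.polar_neg_right] at h3
    have h4 := W.add_mem h1 h3
    rw [show (polar Q z a - Q a * polar Q z w) • w + (-polar Q z w) • a +
      ((-polar Q z a - Q a * polar Q z w) • w + (-polar Q z w) • -a) = (-(2 * Q a * polar Q z w)) • w by module] at h4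
    have hwW : w ∈ W := (W.smul_mem_iff (neg_ne_zero.2 (mul_ne_zero (mul_ne_zero h2 hqa) hzw))).1 h4
    rw [eq_top_iff]
    intro x _
    set c := polar Q x w / polar Q z w
    have hperp : polar Q w (x - c • z) = 0 := by
      rw [sub_eq_add_neg, ← neg_smul, polar_add_right', polar_smul_right', QuadraticMap.polar_comm (⇑Q) w x,
        QuadraticMap.polar_comm (⇑Q) w z, neg_mul, div_mul_cancel₀ _ hzw, add_neg_cancel]
    have h5 := move _ hperp
    have h6 : (-polar Q z w) • (x - c • z) ∈ W := (W.add_mem_iff_right (W.smul_mem _ hwW)).1 h5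
    have h7 := (W.smul_mem_iff (neg_ne_zero.2 hzw)).1 h6
    simpa using W.add_mem h7 (W.smul_mem c hz)

/-- A non-zero singular vector and an independent singular vector orthogonal to it. -/
theorem exists_singular_pair (hQ : (polarBilin Q).Nondegenerate) (hn : 5 ≤ Fintype.card ι) :
    ∃ w a : ι → F, Q w = 0 ∧ Q a = 0 ∧ polar Q w a = 0 ∧ LinearIndependent F ![w, a] := by
  have hn' : 5 ≤ Module.finrank F (ι → F) := by rwa [Module.finrank_pi]
  obtain ⟨w, hw0, hw⟩ := exists_singular hQ (by omega)
  obtain ⟨x, -, hx, hxw, k, hkw, hxk⟩ := exists_singular_perp hQ (Submodule.span F {w})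
    (by rw [finrank_span_singleton hw0]; omega)
  have hwx := hxw w (Submodule.mem_span_singleton_self w)
  have hwk := hkw w (Submodule.mem_span_singleton_self w)
  refine ⟨w, x, hw, hx, hwx, ?_⟩
  rw [linearIndependent_fin2]
  refine ⟨fun e => ?_, fun c e => ?_⟩
  · have hx0 : x = 0 := by simpa using e
    rw [hx0, QuadraticMap.polar_zero_left] at hxk
    exact zero_ne_one hxk
  · have hwc : c • x = w := by simpa using e
    have h := hwk
    rw [← hwc, polar_smul_left', hxk, mul_one] at h
    exact hw0 (by rw [← hwc, h, zero_smul])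

theorem absIrred_omega (h2 : (2 : F) ≠ 0) (hQ : (polarBilin Q).Nondegenerate) (hn : 5 ≤ Fintype.card ι)
    (hr : (Fintype.card ι).Prime) : ActsAbsolutelyIrreducibly (matrixSet (omegaGL (⇑Q))) := by
  rcases commutant_cases hr (actsIrreducibly_omega h2 hQ hn) with h | ⟨hK, hdc⟩
  · exact h
  exfalso
  obtain ⟨w, a, hw, ha, hwa, hli⟩ := exists_singular_pair hQ hn
  obtain ⟨g, hg, hgz⟩ := exists_omega_eich hQ hn hw hwa
  set K := Subalgebra.centralizer F (matrixSet (omegaGL (⇑Q)))
  set M := (g : Matrix ι ι F) - 1 with hM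
  have hMK : M ∈ K := K.sub_mem (hdc _ fun k hk => (Subalgebra.mem_centralizer_iff F).1 hk _ (mem_matrixSet hg)) K.one_mem
  have hMv : ∀ z, M *ᵥ z = polar Q z a • w + (-polar Q z w) • a := fun z => by
    rw [hM, Matrix.sub_mulVec, Matrix.one_mulVec, hgz, ha, zero_mul, sub_zero]
    abel
  have hM2 : M * M = 0 := Matrix.toLin'.injective (LinearMap.ext fun z => by
    rw [Matrix.toLin'_apply, ← Matrix.mulVec_mulVec, hMv z, Matrix.mulVec_add, Matrix.mulVec_smul, Matrix.mulVec_smul,
      hMv, hMv, hwa, QuadraticMap.polar_comm (⇑Q) a w, hwa, polar_self', polar_self', hw, ha]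
    simp)
  have hM0 : M ≠ 0 := by
    intro h0
    by_cases hz : ∃ z, polar Q z w ≠ 0
    · obtain ⟨z, hz⟩ := hz
      have h := hMv z
      rw [h0, Matrix.zero_mulVec] at h
      have h' := LinearIndependent.pair_iff.1 hli _ _ h.symm
      exact hz (neg_eq_zero.1 h'.2)
    · push Not at hz
      have hw0 : w ≠ 0 := by simpa using hli.ne_zero 0
      exact hw0 (hQ.1 w fun y => (QuadraticMap.polar_comm _ _ _).trans (hz y))
  obtain ⟨y, -, hy⟩ := hK.inv _ hMK hM0
  apply hM0
  calc M = M * (M * y) := by rw [hy, mul_one]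
    _ = 0 := by rw [← mul_assoc, hM2, zero_mul]

theorem not_omega_le_subfieldSubgroup (hQ : (polarBilin Q).Nondegenerate) (hn : 5 ≤ Fintype.card ι)
    (hr : (Fintype.card ι).Prime) {F₀ : Subfield F} (hF₀ : F₀ ≠ ⊤) (P : GL ι F) :
    ¬ omegaGL (⇑Q) ≤ subfieldSubgroup F₀ P := by
  intro hle
  haveI : Nonempty ι := Fintype.card_pos_iff.1 (by omega)
  obtain ⟨w, a, hw, ha, hwa, hli⟩ := exists_singular_pair hQ hn
  -- the family t ↦ 1 + t M
  set M : Matrix ι ι F := Matrix.vecMulVec w (fun i => polar Q (Pi.single i 1) a) -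
    Matrix.vecMulVec a (fun i => polar Q (Pi.single i 1) w) with hM
  have hdot : ∀ b z : ι → F, (fun i => polar Q (Pi.single i 1) b) ⬝ᵥ z = polar Q z b := by
    intro b z
    show _ = polarBilin Q z b
    conv_rhs => rw [← (Pi.basisFun F ι).sum_repr z]
    rw [map_sum, LinearMap.sum_apply]
    exact Finset.sum_congr rfl fun i _ => by simp [mul_comm]
  have hMv : ∀ z, M *ᵥ z = polar Q z a • w + (-polar Q z w) • a := fun z => by
    rw [hM, Matrix.sub_mulVec, Matrix.vecMulVec_mulVec, Matrix.vecMulVec_mulVec, hdot, hdot, op_smul_eq_smul,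
      op_smul_eq_smul, sub_eq_add_neg, neg_smul]
  have hfam : ∀ t : F, ∃ d : F, ∃ A : Matrix ι ι F₀,
      1 + t • (((P⁻¹ : GL ι F) : Matrix ι ι F) * M * (P : Matrix ι ι F)) = d • A.map F₀.subtype := by
    intro t
    obtain ⟨g, hg, hgz⟩ := exists_omega_eich hQ hn (w := t • w) (a := a) (by rw [apply_smul, hw, mul_zero])
      (by rw [polar_smul_left', hwa, mul_zero])
    have hgM : (g : Matrix ι ι F) = 1 + t • M := Matrix.toLin'.injective (LinearMap.ext fun z => by
      rw [Matrix.toLin'_apply, Matrix.toLin'_apply, hgz, Matrix.add_mulVec, Matrix.one_mulVec, Matrix.smul_mulVec,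
        hMv, ha, polar_smul_right']
      module)
    obtain ⟨g', hg', e⟩ := hle hg
    obtain ⟨A₀, ⟨A, rfl⟩, z, hz, hprod⟩ := Subgroup.mem_sup_of_normal_right.1 (show g' ∈ _ ⊔ scalars ι F from hg')
    obtain ⟨d, hd⟩ := (mem_scalars_iff z).1 hz
    refine ⟨d, (A : Matrix ι ι F₀), ?_⟩
    have hg'' : g' = P⁻¹ * g * P := by rw [← e]; simp [mul_assoc]
    have hval := congrArg (Units.val : GL ι F → Matrix ι ι F) hprod
    rw [Units.val_mul, hd, Matrix.mul_smul, mul_one, hg'', Units.val_mul, Units.val_mul, hgM, mul_add, mul_one,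
      add_mul, ← Units.val_mul, inv_mul_cancel, Units.val_one, Matrix.mul_smul, Matrix.smul_mul] at hval
    exact hval.symm
  set M' := ((P⁻¹ : GL ι F) : Matrix ι ι F) * M * (P : Matrix ι ι F) with hM'
  have hM2 : M * M = 0 := Matrix.toLin'.injective (LinearMap.ext fun z => by
    rw [Matrix.toLin'_apply, ← Matrix.mulVec_mulVec, hMv z, Matrix.mulVec_add, Matrix.mulVec_smul, Matrix.mulVec_smul,
      hMv, hMv, hwa, QuadraticMap.polar_comm (⇑Q) a w, hwa, polar_self', polar_self', hw, ha]
    simp)
  have hM'2 : M' * M' = 0 := by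
    rw [hM', show ((P⁻¹ : GL ι F) : Matrix ι ι F) * M * (P : Matrix ι ι F) *
      (((P⁻¹ : GL ι F) : Matrix ι ι F) * M * (P : Matrix ι ι F)) = ((P⁻¹ : GL ι F) : Matrix ι ι F) * (M *
        ((P : Matrix ι ι F) * ((P⁻¹ : GL ι F) : Matrix ι ι F)) * M) * (P : Matrix ι ι F) by simp only [mul_assoc],
      ← Units.val_mul, mul_inv_cancel, Units.val_one, mul_one, hM2, mul_zero, zero_mul]
  have htr : M'.trace = 0 := by
    rw [hM', Matrix.trace_units_conj', hM, Matrix.trace_sub, Matrix.trace_vecMulVec, Matrix.trace_vecMulVec,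
      dotProduct_comm w, hdot, dotProduct_comm a, hdot, hwa, QuadraticMap.polar_comm (⇑Q) a w, hwa, sub_zero]
  have hrat : ∀ (t : F) i j, t * M' i j ∈ F₀ := by
    intro t i j
    obtain ⟨d, A, hA⟩ := hfam t
    suffices hd : d ∈ F₀ by
      have h := congrFun (congrFun hA i) j
      rw [Matrix.add_apply, Matrix.smul_apply, Matrix.smul_apply, smul_eq_mul, smul_eq_mul] at h
      rw [show t * M' i j = d * (A.map F₀.subtype) i j - (1 : Matrix ι ι F) i j by linear_combination h]
      refine sub_mem (mul_mem hd (SetLike.coe_mem _)) ?_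
      rw [Matrix.one_apply]; split
      · exact one_mem _
      · exact zero_mem _
    by_cases hn0 : (Fintype.card ι : F) = 0
    · haveI : CharP F (Fintype.card ι) := (CharP.charP_iff_prime_eq_zero hr).2 hn0
      haveI : Fact (Fintype.card ι).Prime := ⟨hr⟩
      haveI : CharP F₀ (Fintype.card ι) := F₀.subtype.charP F₀.subtype.injective _
      haveI : CharP (Matrix ι ι F) (Fintype.card ι) := Matrix.charP _
      have hpow : (1 + t • M') ^ Fintype.card ι = 1 := by
        rw [add_pow_char_of_commute _ (Commute.one_left _), one_pow,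
          pow_eq_zero_of_le (m := 2) hr.two_le (by rw [pow_two, Matrix.smul_mul, Matrix.mul_smul, hM'2, smul_zero, smul_zero]),
          add_zero]
      rw [hA, smul_pow] at hpow
      set A' := A.map F₀.subtype ^ Fintype.card ι with hA'
      have hA'e : A' = (A ^ Fintype.card ι).map F₀.subtype := by
        rw [hA', ← RingHom.mapMatrix_apply, ← map_pow]
        rfl
      obtain ⟨k⟩ := (inferInstance : Nonempty ι)
      have hk := congrFun (congrFun hpow k) k
      rw [Matrix.smul_apply, Matrix.one_apply_eq, smul_eq_mul, hA'e] at hk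
      obtain ⟨v, hv⟩ := (Finite.injective_iff_surjective.1 (frobenius F₀ (Fintype.card ι)).injective)
        ((A ^ Fintype.card ι) k k)⁻¹
      have hv' : (v : F) ^ Fintype.card ι = d ^ Fintype.card ι := by
        rw [eq_inv_of_mul_eq_one_left hk]
        exact congrArg Subtype.val hv
      rw [← frobenius_inj F _ (show frobenius F (Fintype.card ι) (v : F) = frobenius F (Fintype.card ι) d from hv')]
      exact v.2
    · have h1 := congrArg Matrix.trace hA
      have hmt : (A.map F₀.subtype).trace = (A.trace : F) := (AddMonoidHom.map_trace F₀.subtype.toAddMonoidHom _).symm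
      rw [Matrix.trace_add, Matrix.trace_one, Matrix.trace_smul, htr, smul_zero, add_zero, Matrix.trace_smul, hmt,
        smul_eq_mul] at h1
      have : d = (Fintype.card ι : F) / (A.trace : F) := by
        rw [h1, mul_div_assoc, div_self, mul_one]
        intro h0
        exact hn0 (by rw [h1, h0, mul_zero])
      rw [this]
      exact div_mem (natCast_mem F₀ _) (SetLike.coe_mem _)
  obtain ⟨i, j, hij⟩ : ∃ i j, M' i j ≠ 0 := by
    by_contra! hall
    have hM0 : M = 0 := by
      have : M = (P : Matrix ι ι F) * M' * ((P⁻¹ : GL ι F) : Matrix ι ι F) := by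
        simp [hM', mul_assoc, ← Units.val_mul, ← mul_assoc (P : Matrix ι ι F)]
      rw [this, show M' = 0 from Matrix.ext hall]
      simp
    by_cases hz : ∃ z, polar Q z w ≠ 0
    · obtain ⟨z, hz⟩ := hz
      have h := hMv z
      rw [hM0, Matrix.zero_mulVec] at h
      exact hz (neg_eq_zero.1 (LinearIndependent.pair_iff.1 hli _ _ h.symm).2)
    · push Not at hz
      have hw0 : w ≠ 0 := by simpa using hli.ne_zero 0
      exact hw0 (hQ.1 w fun y => (QuadraticMap.polar_comm _ _ _).trans (hz y))
  refine hF₀ (SetLike.ext fun x => iff_of_true ?_ (Subfield.mem_top x))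
  have := hrat (x / M' i j) i j
  rwa [div_mul_cancel₀ _ hij] at this

theorem exists_two_squares (h2 : (2 : F) ≠ 0) : ∃ x y : F, x ^ 2 + y ^ 2 = -1 := by
  haveI := Fintype.ofFinite F
  have hodd : Fintype.card F % 2 = 1 := FiniteField.odd_card_of_char_ne_two fun h => h2 (by
    have := CharP.cast_eq_zero F (ringChar F)
    rw [h] at this
    exact_mod_cast this)
  have hd1 : (Polynomial.X ^ 2 : Polynomial F).degree = 2 := Polynomial.degree_X_pow 2
  have hd2 : (Polynomial.X ^ 2 + Polynomial.C (1 : F) : Polynomial F).degree = 2 :=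
    Polynomial.degree_X_pow_add_C (by norm_num) _
  obtain ⟨x, y, hxy⟩ := FiniteField.exists_root_sum_quadratic hd1 hd2 hodd
  refine ⟨x, y, ?_⟩
  simp only [Polynomial.eval_pow, Polynomial.eval_X, Polynomial.eval_add, Polynomial.eval_C] at hxy
  linear_combination hxy

theorem not_omega_le_decompositionStabilizer (h2 : (2 : F) ≠ 0) (hQ : (polarBilin Q).Nondegenerate) {t : ℕ}
    (ht : 6 ≤ t) (hn : 5 ≤ Fintype.card ι) {D : Fin t → Submodule F (ι → F)} (b : Fin t → ι → F)
    (hb : ∀ i, b i ∈ D i) {c : F} (hc : c ≠ 0) (hqb : ∀ i, Q (b i) = c)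
    (hperp : ∀ i j, i ≠ j → ∀ u ∈ D i, ∀ v ∈ D j, polar Q u v = 0) :
    ¬ omegaGL (⇑Q) ≤ decompositionStabilizer D := by
  intro hle
  have horth : ∀ i j, i ≠ j → polar Q (b i) (b j) = 0 := fun i j h => hperp i j h _ (hb i) _ (hb j)
  let I : Fin 6 → Fin t := fun k => ⟨k, by omega⟩
  have hI : Function.Injective I := fun k l e => Fin.ext (by simpa [I] using e)
  have hself : ∀ i, polar Q (b i) (b i) = 2 * c := fun i => by rw [polar_self', hqb]
  obtain ⟨x, y, hxy⟩ := exists_two_squares h2
  set a := b (I 1) + x • b (I 2) + y • b (I 3) with ha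
  set w := b (I 0) + x • b (I 4) + y • b (I 5) with hw
  have o : ∀ k l : Fin 6, k ≠ l → polar Q (b (I k)) (b (I l)) = 0 := fun k l h => horth _ _ (hI.ne h)
  have hqa : Q a = 0 := by
    simp only [ha, apply_add, apply_smul, polar_add_left', polar_smul_left', polar_smul_right', hqb,
      o 1 2 (by decide), o 1 3 (by decide), o 2 3 (by decide)]
    linear_combination c * hxy
  have hqw : Q w = 0 := by
    simp only [hw, apply_add, apply_smul, polar_add_left', polar_smul_left', polar_smul_right', hqb,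
      o 0 4 (by decide), o 0 5 (by decide), o 4 5 (by decide)]
    linear_combination c * hxy
  have hwa : polar Q w a = 0 := by
    simp only [hw, ha, polar_add_left', polar_add_right', polar_smul_left', polar_smul_right', o 0 1 (by decide),
      o 0 2 (by decide), o 0 3 (by decide), o 4 1 (by decide), o 4 2 (by decide), o 4 3 (by decide), o 5 1 (by decide),
      o 5 2 (by decide), o 5 3 (by decide)]
    ring
  obtain ⟨g, hg, hgz⟩ := exists_omega_eich hQ hn hqw hwa
  obtain ⟨τ, hτ⟩ := hle hg
  set v := (g : Matrix ι ι F) *ᵥ b (I 0) with hv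
  have hvmem : v ∈ D (τ (I 0)) := by
    rw [← hτ]
    exact ⟨_, hb _, Matrix.toLin'_apply _ _⟩
  have hval : v = b (I 0) + (-(2 * c)) • a := by
    rw [hv, hgz, hqa]
    have e1 : polar Q (b (I 0)) a = 0 := by
      simp only [ha, polar_add_right', polar_smul_right', o 0 1 (by decide), o 0 2 (by decide), o 0 3 (by decide)]
      ring
    have e2 : polar Q (b (I 0)) w = 2 * c := by
      simp only [hw, polar_add_right', polar_smul_right', hself, o 0 4 (by decide), o 0 5 (by decide)]
      ring
    rw [e1, e2]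
    simp
  have h2c : 2 * c ≠ 0 := mul_ne_zero h2 hc
  have h0 : τ (I 0) = I 0 := by
    by_contra hne
    have h := hperp _ _ hne _ hvmem _ (hb (I 0))
    rw [hval, ha] at h
    simp only [polar_add_left', polar_smul_left', hself, o 1 0 (by decide), o 2 0 (by decide), o 3 0 (by decide)] at h
    exact h2c (by linear_combination h)
  have h1 : τ (I 0) = I 1 := by
    by_contra hne
    have h := hperp _ _ hne _ hvmem _ (hb (I 1))
    rw [hval, ha] at h
    simp only [polar_add_left', polar_smul_left', hself, o 0 1 (by decide), o 2 1 (by decide), o 3 1 (by decide)] at h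
    exact mul_ne_zero h2c h2c (by linear_combination -h)
  exact hI.ne (show (0 : Fin 6) ≠ 1 by decide) (h0.symm.trans h1)

end CfsgLib.Geo.Asch
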