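/-
Maximal subgroups of Ω in odd prime dimension: Aschbacher's dichotomy.
-/
import Cfsg.Agent.Lib.Geo.Asch.OmegaTools
import Cfsg.Agent.Lib.Geo.Asch.Descent
import Cfsg.Agent.Lib.Classical.Quad.StandardForms

set_option autoImplicit false

namespace CfsgLib.Geo.Asch

open Matrix Cfsg.Geo
open CfsgLib.Classical CfsgLib.Classical.Quad CfsgLib.Geo.OrthMax
open scoped commutatorElement
open QuadraticMap (polar polarBilin)

variable {F : Type*} [Field F] [Finite F] {ι : Type} [Fintype ι] [DecidableEq ι] {Q : QuadraticForm F (ι → F)}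

theorem polar_isBilinear : IsBilinearForm (polar Q) where
  add_left x y v := QuadraticMap.polar_add_left Q x y v
  smul_left c x v := by rw [QuadraticMap.polar_smul_left, smul_eq_mul]
  add_right x v w := QuadraticMap.polar_add_right Q x v w
  smul_right c x v := by rw [QuadraticMap.polar_smul_right, smul_eq_mul]

theorem polar_isNondegenerate (hQ : (polarBilin Q).Nondegenerate) : IsNondegenerateForm (polar Q) := by
  intro v hv
  obtain ⟨x, hx⟩ : ∃ x, polar Q v x ≠ 0 := by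
    by_contra! h
    exact hv (hQ.1 v h)
  exact ⟨⟨x, by rwa [QuadraticMap.polar_comm]⟩, ⟨x, hx⟩⟩

theorem fixes_polar_of_isometry {g : Matrix ι ι F} (h : ∀ v, Q (g *ᵥ v) = Q v) (u v : ι → F) :
    polar Q (g *ᵥ u) (g *ᵥ v) = polar Q u v := by
  simp only [QuadraticMap.polar, ← Matrix.mulVec_add, h]

omit [Fintype ι] [DecidableEq ι] in
theorem apply_eq_half_polar (h2 : (2 : F) ≠ 0) (v : ι → F) : Q v = polar Q v v / 2 := by
  rw [polar_self', mul_div_assoc]
  field_simp

/-- An isometry of determinant one in odd dimension fixes a vector. -/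
theorem det_sub_one (h2 : (2 : F) ≠ 0) (hQ : (polarBilin Q).Nondegenerate) (hodd : Odd (Fintype.card ι))
    {g : Matrix ι ι F} (hg : ∀ v, Q (g *ᵥ v) = Q v) (hdet : g.det = 1) : (g - 1).det = 0 := by
  set G := gramIn (polar Q) (1 : Matrix ι ι F)
  have hs := isSesqForm_of_bilinear (polar_isBilinear (Q := Q))
  have hG : G.det ≠ 0 :=
    ((Matrix.isUnit_iff_isUnit_det _).1 (isUnit_gram hs (polar_isNondegenerate hQ))).ne_zero
  have h1 : gᵀ * G * g.map (RingEquiv.refl F) = G := gram_fixed hs (fixes_polar_of_isometry hg)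
  rw [show g.map (RingEquiv.refl F) = g from Matrix.map_id _] at h1
  have h3 : gᵀ * G * (g - 1) = -((gᵀ - 1) * G) := by rw [mul_sub, h1, mul_one, sub_mul, one_mul]; abel
  have h4 := congrArg Matrix.det h3
  rw [Matrix.det_neg, hodd.neg_one_pow, Matrix.det_mul, Matrix.det_mul, Matrix.det_mul, Matrix.det_transpose, hdet,
    one_mul, show gᵀ - 1 = (g - 1)ᵀ by rw [Matrix.transpose_sub, Matrix.transpose_one], Matrix.det_transpose] at h4
  have h5 : (2 * G.det) * (g - 1).det = 0 := by linear_combination h4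
  exact (mul_eq_zero.1 h5).resolve_left (mul_ne_zero h2 hG)

theorem mem_omega_facts {g : GL ι F} (hg : g ∈ omegaGL (⇑Q)) :
    (∀ v, Q ((g : Matrix ι ι F) *ᵥ v) = Q v) ∧ (g : Matrix ι ι F).det = 1 := by
  refine ⟨fun v => omega_le_isometry hg v 0, ?_⟩
  have h := omega_le_specialLinear hg
  exact congrArg Units.val (show Matrix.GeneralLinearGroup.det g = 1 from h)

/-- A subgroup of Ω with a field of dimension r as commutant is trivial. -/
theorem le_bot_of_commutant (h2 : (2 : F) ≠ 0) (hQ : (polarBilin Q).Nondegenerate) (hodd : Odd (Fintype.card ι))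
    {r : ℕ} {N : Subgroup (GL ι F)} (hN : N ≤ omegaGL (⇑Q))
    (hK : IsFieldSubalgebra r (Subalgebra.centralizer F (matrixSet N)))
    (hdc : ∀ M : Matrix ι ι F, (∀ k ∈ Subalgebra.centralizer F (matrixSet N), M * k = k * M) →
      M ∈ Subalgebra.centralizer F (matrixSet N)) : N ≤ ⊥ := by
  intro g hg
  set K := Subalgebra.centralizer F (matrixSet N)
  obtain ⟨hiso, hdet⟩ := mem_omega_facts (hN hg)
  have hgK : (g : Matrix ι ι F) ∈ K :=
    hdc _ fun k hk => (Subalgebra.mem_centralizer_iff F).1 hk _ (mem_matrixSet hg)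
  have h0 : (g : Matrix ι ι F) - 1 = 0 := by
    by_contra hne
    obtain ⟨y, -, hy⟩ := hK.inv _ (K.sub_mem hgK K.one_mem) hne
    have := congrArg Matrix.det hy
    rw [Matrix.det_mul, det_sub_one h2 hQ hodd hiso hdet, zero_mul, Matrix.det_one] at this
    exact zero_ne_one this
  exact Subgroup.mem_bot.2 (Units.ext (sub_eq_zero.1 h0))

theorem subfieldSubgroup_mul_scalar (F₀ : Subfield F) (P : GL ι F) {z : GL ι F} (hz : z ∈ scalars ι F) :
    subfieldSubgroup F₀ (P * z) = subfieldSubgroup F₀ P := by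
  unfold subfieldSubgroup
  congr 1
  refine MonoidHom.ext fun g => ?_
  show P * z * g * (P * z)⁻¹ = P * g * P⁻¹
  rw [_root_.mul_inv_rev, mul_assoc P z g, scalar_commute hz]
  group

theorem det_mem_subfield {F₁ : Subfield F} {M : Matrix ι ι F} (h : ∀ i j, M i j ∈ F₁) : M.det ∈ F₁ := by
  let M' : Matrix ι ι F₁ := fun i j => ⟨M i j, h i j⟩
  have : M = F₁.subtype.mapMatrix M' := rfl
  rw [this, ← RingHom.map_det]
  exact SetLike.coe_mem _

/-- A structure over a subfield of an absolutely irreducible subgroup of Ω carries a multiple of Q. -/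
theorem exists_quad_structure (h2 : (2 : F) ≠ 0) (hQ : (polarBilin Q).Nondegenerate) [Nonempty ι] {m : ℕ}
    (hm : Fintype.card ι = 2 * m + 1) {N : Subgroup (GL ι F)} (hN : ActsAbsolutelyIrreducibly (matrixSet N))
    (hNQ : N ≤ omegaGL (⇑Q)) {F₁ : Subfield F}
    (hgram : ∀ i j, gramIn (polar Q) (1 : Matrix ι ι F) i j ∈ F₁) (P : GL ι F)
    (hP : ∀ n ∈ N, ∀ i j, (((P⁻¹ : GL ι F) : Matrix ι ι F) * (n : Matrix ι ι F) * (P : Matrix ι ι F)) i j ∈ F₁) :
    ∃ c ∈ scalars ι F, IsQuadFormRationalStructure (⇑Q) F₁ (P * c) := by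
  have hs := isSesqForm_of_bilinear (polar_isBilinear (Q := Q))
  have hnd := polar_isNondegenerate hQ
  have hfix : FixesForm (matrixSet N) (polar Q) := by
    rintro _ ⟨n, hn, rfl⟩ u v
    exact fixes_polar_of_isometry (mem_omega_facts (hNQ hn)).1 u v
  obtain ⟨z, hz, hzG, -⟩ := exists_rational_gram hN hs hnd hfix (fun a ha => ha) P hP
  set G := gramIn (polar Q) (1 : Matrix ι ι F) with hG
  set G' := gramIn (polar Q) (P : Matrix ι ι F) with hG'
  have hG'eq : G' = (P : Matrix ι ι F)ᵀ * G * (P : Matrix ι ι F) := by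
    ext i j
    rw [hG', gramIn, ← Matrix.one_mulVec ((P : Matrix ι ι F) *ᵥ Pi.single i 1),
      ← Matrix.one_mulVec ((P : Matrix ι ι F) *ᵥ Pi.single j 1), form_eq_gram hs]
    simp only [Matrix.mul_apply, Matrix.transpose_apply, Matrix.mulVec_single_one, Matrix.col_apply, Finset.sum_mul,
      RingEquiv.refl_apply]
    rw [Finset.sum_comm]
    exact Finset.sum_congr rfl fun a _ => Finset.sum_congr rfl fun c _ => by rw [hG]; ring
  have hD0 : G.det ≠ 0 := ((Matrix.isUnit_iff_isUnit_det _).1 (isUnit_gram hs hnd)).ne_zero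
  set d := (P : Matrix ι ι F).det with hd
  have hd0 : d ≠ 0 := (P.isUnit.map Matrix.detMonoidHom).ne_zero
  set l := z ^ m * d with hl
  have hl0 : l ≠ 0 := mul_ne_zero (pow_ne_zero _ hz) hd0
  have hzl : z * l ^ 2 ∈ F₁ := by
    have h1 : (z • G').det ∈ F₁ := det_mem_subfield fun i j => hzG i j
    have h3 : z * l ^ 2 = (z • G').det / G.det := by
      rw [Matrix.det_smul, hm, hG'eq, Matrix.det_mul, Matrix.det_mul, Matrix.det_transpose, ← hd, eq_div_iff hD0, hl]
      ring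
    rw [h3]
    exact div_mem h1 (det_mem_subfield hgram)
  let c : GL ι F := Units.map (Matrix.scalar ι).toMonoidHom (Units.mk0 l hl0)⁻¹
  have hc : (c : Matrix ι ι F) = l⁻¹ • 1 := by
    ext i j
    by_cases hij : i = j <;> simp [c, hij]
  refine ⟨c, mem_scalars_of_coe hc, fun u hu => ?_⟩
  rw [Units.val_mul, hc, Matrix.mul_smul, mul_one, Matrix.smul_mulVec, apply_eq_half_polar h2]
  refine div_mem ?_ (natCast_mem F₁ 2)
  rw [QuadraticMap.polar_smul_left, QuadraticMap.polar_smul_right, smul_smul, smul_eq_mul, form_eq_gram hs]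
  have e : l⁻¹ * l⁻¹ = (z * l ^ 2)⁻¹ * z := by field_simp
  rw [e, mul_assoc, Finset.mul_sum]
  refine mul_mem (inv_mem hzl) (sum_mem fun i _ => ?_)
  rw [Finset.mul_sum]
  refine sum_mem fun j _ => ?_
  rw [RingEquiv.refl_apply, show z * (u i * (gramIn (polar Q) (P : Matrix ι ι F) i j * u j)) =
    u i * (z * gramIn (polar Q) (P : Matrix ι ι F) i j) * u j by ring]
  exact mul_mem (mul_mem (hu i) (hzG i j)) (hu j)

/-- The eigenlines of a normal subgroup are orthogonal, non-degenerate and isometric, with equal norms. -/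
theorem orth_lines (h2 : (2 : F) ≠ 0) (hQ : (polarBilin Q).Nondegenerate) {r : ℕ} (hodd : Odd r)
    {H N : Subgroup (GL ι F)} (hH : ActsIrreducibly (matrixSet H)) (hHQ : H ≤ omegaGL (⇑Q)) (hNH : N ≤ H)
    {D : Fin r → Submodule F (ι → F)} {ψ : Fin r → N → F} (hD : IsMDecomposition 1 D)
    (hHD : H ≤ decompositionStabilizer D) (hψ : Function.Injective ψ) (hDψ : ∀ i, D i = eig N (ψ i)) :
    IsOrthogonalMDecomposition (⇑Q) 1 D ∧ ∃ (b : Fin r → ι → F) (c : F), c ≠ 0 ∧ (∀ i, b i ∈ D i) ∧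
      (∀ i, ∀ w ∈ D i, ∃ a : F, w = a • b i) ∧ ∀ i, Q (b i) = c := by
  classical
  have hline : ∀ i, ∃ b, b ∈ D i ∧ b ≠ 0 ∧ ∀ w ∈ D i, ∃ a : F, w = a • b := by
    intro i
    obtain ⟨⟨b, hb⟩, hb0, hspan⟩ := finrank_eq_one_iff'.1 (hD.finrank_eq i)
    refine ⟨b, hb, fun e => hb0 (Subtype.ext e), fun w hw => ?_⟩
    obtain ⟨a, ha⟩ := hspan ⟨w, hw⟩
    exact ⟨a, (congrArg Subtype.val ha).symm⟩
  choose b hb hb0 hbs using hline
  have hiso : ∀ g ∈ H, ∀ v, Q ((g : Matrix ι ι F) *ᵥ v) = Q v := fun g hg => (mem_omega_facts (hHQ hg)).1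
  -- transitivity
  have htrans : ∀ i j, ∃ g ∈ H, (D i).map (linEquiv g : (ι → F) →ₗ[F] (ι → F)) = D j := by
    have hlin : ∀ g : GL ι F, (linEquiv g : (ι → F) →ₗ[F] (ι → F)) = Matrix.toLin' (g : Matrix ι ι F) := fun g =>
      LinearMap.ext fun v => (Matrix.toLin'_apply _ _).symm
    intro i j
    set O := {k : Fin r | ∃ g ∈ H, (D i).map (linEquiv g : (ι → F) →ₗ[F] (ι → F)) = D k}
    set X := ⨆ k : O, D k with hX
    have hiO : i ∈ O := ⟨1, H.one_mem, by
      rw [show (linEquiv (1 : GL ι F) : (ι → F) →ₗ[F] (ι → F)) = LinearMap.id from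
        LinearMap.ext fun v => Matrix.one_mulVec v, Submodule.map_id]⟩
    rcases actsIrreducibly_iff.1 hH X (stable_matrixSet_iff.2 fun g hg v hv => by
        obtain ⟨π, hπ⟩ := hHD hg
        have hle : X.map (Matrix.toLin' (g : Matrix ι ι F)) ≤ X := by
          rw [hX, Submodule.map_iSup]
          refine iSup_le fun k => ?_
          obtain ⟨h, hh, hk⟩ := k.2
          refine le_iSup_of_le ⟨π k, g * h, H.mul_mem hg hh, ?_⟩ (hπ k).le
          rw [hlin, Units.val_mul, Matrix.toLin'_mul, Submodule.map_comp, ← hlin h, hk, hπ]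
        exact hle ⟨v, hv, Matrix.toLin'_apply _ _⟩) with h | h
    · exact absurd ((Submodule.eq_bot_iff _).1 h _ (Submodule.mem_iSup_of_mem ⟨i, hiO⟩ (hb i))) (hb0 i)
    · by_contra hj
      have hle : X ≤ ⨆ k, ⨆ (_ : k ≠ j), D k :=
        iSup_le fun k => le_iSup₂_of_le (k : Fin r) (fun e => hj (e ▸ k.2)) le_rfl
      exact hb0 j (Submodule.disjoint_def.1 (hD.indep j) _ (hb j) (hle (h ▸ Submodule.mem_top)))
  have hchar : ∀ i j, polar Q (b i) (b j) ≠ 0 → ∀ n : N, ψ i n * ψ j n = 1 := by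
    intro i j hne n
    have h1 := fixes_polar_of_isometry (hiso n (hNH n.2)) (b i) (b j)
    rw [mem_eig.1 (hDψ i ▸ hb i) n, mem_eig.1 (hDψ j ▸ hb j) n, QuadraticMap.polar_smul_left,
      QuadraticMap.polar_smul_right, smul_smul, smul_eq_mul] at h1
    exact mul_right_cancel₀ hne (h1.trans (one_mul _).symm)
  have hex : ∀ i, ∃ j, polar Q (b i) (b j) ≠ 0 := by
    intro i
    by_contra! hall
    refine hb0 i (hQ.1 _ fun x => ?_)
    have hx' : x ∈ iSup D := hD.iSup_eq_top.symm ▸ Submodule.mem_top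
    show polar Q (b i) x = 0
    induction hx' using Submodule.iSup_induction' with
    | mem j w hw =>
      obtain ⟨a, rfl⟩ := hbs j w hw
      rw [QuadraticMap.polar_smul_right, hall, smul_zero]
    | zero => exact QuadraticMap.polar_zero_right _ _
    | add y z _ _ hy hz => rw [QuadraticMap.polar_add_right, hy, hz, add_zero]
  choose τ hτ using hex
  have huniq : ∀ i j, polar Q (b i) (b j) ≠ 0 → j = τ i := by
    intro i j hne
    refine hψ (funext fun n => ?_)
    have h1 := hchar i j hne n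
    have h2 := hchar i (τ i) (hτ i) n
    have h0 : ψ i n ≠ 0 := fun e => by rw [e, zero_mul] at h1; exact zero_ne_one h1
    exact mul_left_cancel₀ h0 (h1.trans h2.symm)
  have hττ : ∀ i, τ (τ i) = i := fun i =>
    (huniq (τ i) i (fun e => hτ i (by rw [QuadraticMap.polar_comm]; exact e))).symm
  obtain ⟨i₀, hi₀⟩ : ∃ i, τ i = i := by
    by_contra! hfix
    let π : Equiv.Perm (Fin r) := ⟨τ, τ, hττ, hττ⟩
    have hsupp : π.support = Finset.univ := Finset.eq_univ_of_forall fun i => Equiv.Perm.mem_support.2 (hfix i)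
    have h2 : π ^ 2 = 1 := Equiv.ext fun i => hττ i
    have := Equiv.Perm.two_dvd_card_support h2
    rw [hsupp, Finset.card_univ, Fintype.card_fin] at this
    exact (Nat.not_even_iff_odd.2 hodd) (even_iff_two_dvd.2 this)
  choose g hgH hgmap using htrans i₀
  set b' : Fin r → ι → F := fun j => (g j : Matrix ι ι F) *ᵥ b i₀ with hb'
  have hb'D : ∀ j, b' j ∈ D j := fun j => (hgmap j).le ⟨_, hb i₀, rfl⟩
  have hq0 : Q (b i₀) ≠ 0 := fun e => hτ i₀ (by rw [hi₀, polar_self', e, mul_zero])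
  have hqb : ∀ j, Q (b' j) = Q (b i₀) := fun j => hiso _ (hgH j) _
  have hb's : ∀ j, ∀ w ∈ D j, ∃ a : F, w = a • b' j := by
    intro j w hw
    obtain ⟨v, hv, rfl⟩ := (hgmap j).ge hw
    obtain ⟨a, rfl⟩ := hbs i₀ v hv
    exact ⟨a, map_smul (linEquiv (g j) : (ι → F) →ₗ[F] (ι → F)) a (b i₀)⟩
  have hb'ne : ∀ j, polar Q (b' j) (b' j) ≠ 0 := fun j => by
    rw [polar_self', hqb]
    exact mul_ne_zero h2 hq0
  have hall : ∀ j, τ j = j := by
    intro j
    obtain ⟨a, ha⟩ := hbs j _ (hb'D j)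
    refine (huniq j j fun e => hb'ne j ?_).symm
    rw [ha, QuadraticMap.polar_smul_left, QuadraticMap.polar_smul_right, e, smul_zero, smul_zero]
  refine ⟨⟨⟨hD, fun i w hw hw0 => ?_, fun i j hij u hu v hv => ?_⟩, fun i j => ?_⟩, b', Q (b i₀), hq0, hb'D, hb's, hqb⟩
  · obtain ⟨a, rfl⟩ := hb's i w hw
    have ha0 : a ≠ 0 := fun e => hw0 (by rw [e, zero_smul])
    exact ⟨⟨b' i, hb'D i, by rw [QuadraticMap.polar_smul_right, smul_eq_mul]; exact mul_ne_zero ha0 (hb'ne i)⟩,
      ⟨b' i, hb'D i, by rw [QuadraticMap.polar_smul_left, smul_eq_mul]; exact mul_ne_zero ha0 (hb'ne i)⟩⟩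
  · obtain ⟨a, rfl⟩ := hbs i u hu
    obtain ⟨d, rfl⟩ := hbs j v hv
    have h0 : polar Q (b i) (b j) = 0 := by
      by_contra hne
      exact hij (((huniq i j hne).trans (hall i)).symm)
    rw [QuadraticMap.polar_smul_left, QuadraticMap.polar_smul_right, h0, smul_zero, smul_zero]
  · obtain ⟨g', hg', hmap⟩ : ∃ g' ∈ H, (D i).map (linEquiv g' : (ι → F) →ₗ[F] (ι → F)) = D j := by
      refine ⟨g j * (g i)⁻¹, H.mul_mem (hgH j) (H.inv_mem (hgH i)), ?_⟩
      rw [← hgmap j, ← hgmap i, ← Submodule.map_comp]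
      congr 1
      refine LinearMap.ext fun v => ?_
      rw [LinearMap.comp_apply]
      show ((g j * (g i)⁻¹ : GL ι F) : Matrix ι ι F) *ᵥ ((g i : Matrix ι ι F) *ᵥ v) = (g j : Matrix ι ι F) *ᵥ v
      rw [Matrix.mulVec_mulVec, ← Units.val_mul, mul_assoc, inv_mul_cancel, mul_one]
    exact ⟨((linEquiv g').submoduleMap (D i)).trans (LinearEquiv.ofEq _ _ hmap), fun w => hiso g' hg' w⟩

/-- A monomial subgroup of Ω with lines of equal norm is written over the prime field. -/
theorem realisable_bot_of_lines {r : ℕ} (hr : Fintype.card ι = r) {H : Subgroup (GL ι F)}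
    (hHQ : H ≤ omegaGL (⇑Q)) {D : Fin r → Submodule F (ι → F)} (hD : IsMDecomposition 1 D)
    (hHD : H ≤ decompositionStabilizer D) {b : Fin r → ι → F} {c : F} (hc : c ≠ 0) (hb : ∀ i, b i ∈ D i)
    (hbs : ∀ i, ∀ w ∈ D i, ∃ a : F, w = a • b i) (hqb : ∀ i, Q (b i) = c) :
    RealisableOver (⊥ : Subfield F) (matrixSet H) := by
  classical
  have e : ι ≃ Fin r := Fintype.equivFinOfCardEq hr
  have hb0 : ∀ i, b i ≠ 0 := fun i h0 => hc (by rw [← hqb i, h0, QuadraticMap.map_zero])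
  have hli : LinearIndependent F b := hD.indep.linearIndependent (fun i => D i) hb hb0
  let M : Matrix ι ι F := Matrix.of fun i j => b (e j) i
  have hM : IsUnit M := Matrix.linearIndependent_cols_iff_isUnit.1 (hli.comp _ e.injective)
  refine ⟨hM.unit⁻¹, ?_⟩
  rintro _ ⟨g, hg, rfl⟩ i j
  rw [inv_inv]
  obtain ⟨π, hπ⟩ := hHD hg
  have hcol : ∀ k, ∃ a : F, (g : Matrix ι ι F) *ᵥ b k = a • b (π k) ∧ (a = 1 ∨ a = -1) := by
    intro k
    obtain ⟨a, ha⟩ := hbs _ _ ((hπ k).le ⟨b k, hb k, Matrix.toLin'_apply _ _⟩)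
    refine ⟨a, ha, sq_eq_one_iff.1 ?_⟩
    have h1 : Q ((g : Matrix ι ι F) *ᵥ b k) = Q (b k) := (mem_omega_facts (hHQ hg)).1 _
    rw [ha, QuadraticMap.map_smul, hqb, hqb, smul_eq_mul] at h1
    rw [pow_two]
    exact mul_right_cancel₀ hc (h1.trans (one_mul _).symm)
  choose a ha ha1 using hcol
  let T : Matrix ι ι F := Matrix.of fun k l => if k = e.symm (π (e l)) then a (e l) else 0
  have hgM : (g : Matrix ι ι F) * M = M * T := by
    ext k l
    have h1 : ((g : Matrix ι ι F) * M) k l = ((g : Matrix ι ι F) *ᵥ b (e l)) k := rfl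
    rw [h1, ha, Matrix.mul_apply, Finset.sum_eq_single (e.symm (π (e l)))]
    · simp [M, T, mul_comm]
    · intro x _ hx
      simp [T, hx]
    · simp
  have hT : ((hM.unit⁻¹ : GL ι F) : Matrix ι ι F) * (g : Matrix ι ι F) * (hM.unit : Matrix ι ι F) = T := by
    rw [hM.unit_spec, mul_assoc, hgM, ← mul_assoc, hM.val_inv_mul, one_mul]
  rw [hT]
  simp only [T, Matrix.of_apply]
  split
  · rcases ha1 (e j) with h | h
    · rw [h]; exact one_mem _
    · rw [h]; exact neg_mem (one_mem _)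
  · exact zero_mem _

theorem ne_bot_top_of_not_prime [Fintype F] (h : ¬ (Fintype.card F).Prime) : (⊥ : Subfield F) ≠ ⊤ := by
  intro htop
  obtain ⟨p, hp⟩ := CharP.exists F
  haveI : Fact p.Prime := ⟨CharP.char_is_prime F p⟩
  have h1 := Subfield.card_bot F p
  rw [htop, Nat.card_congr Subfield.topEquiv.toEquiv, Nat.card_eq_fintype_card] at h1
  exact h (h1 ▸ Fact.out)

/-- Over the field of three elements the stabiliser of a plus plane fixes a non-singular line in it. -/
theorem exists_line_of_plus_plane [Fintype F] (h3 : Fintype.card F = 3)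
    {H : Subgroup (GL ι F)} (hHQ : H ≤ omegaGL (⇑Q)) {U : Submodule F (ι → F)} (hU : Stable (matrixSet H) U)
    (hnd : IsNondegenerateOn (polar Q) U) (hd : Module.finrank F U = 2) (hplus : IsPlusTypeOn (⇑Q) U) :
    ∃ v : ι → F, Q v = 1 ∧ Stable (matrixSet H) (F ∙ v) := by
  obtain ⟨L, hLU, hLs, hLd⟩ := hplus
  obtain ⟨⟨u, huL⟩, hu0, -⟩ := finrank_eq_one_iff'.1 (show Module.finrank F L = 1 by omega)
  have hu0' : u ≠ 0 := fun e => hu0 (Subtype.ext e)
  obtain ⟨-, x, hx, hux⟩ := hnd u (hLU huL) hu0'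
  obtain ⟨v, hvU, huv⟩ : ∃ v ∈ U, polar Q u v = 1 := ⟨(polar Q u x)⁻¹ • x, U.smul_mem _ hx, by
    rw [QuadraticMap.polar_smul_right, smul_eq_mul, inv_mul_cancel₀ hux]⟩
  set w := v + (-Q v) • u with hw
  have hqu : Q u = 0 := hLs u huL
  have huw : polar Q u w = 1 := by
    rw [hw, QuadraticMap.polar_add_right, QuadraticMap.polar_smul_right, huv, polar_self', hqu, mul_zero, smul_zero,
      add_zero]
  have hqw : Q w = 0 := by
    rw [hw, apply_add, apply_smul, hqu, QuadraticMap.polar_smul_right, QuadraticMap.polar_comm, huv, smul_eq_mul]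
    ring
  have hwU : w ∈ U := U.add_mem hvU (U.smul_mem _ (hLU huL))
  have hli : LinearIndependent F ![u, w] := by
    rw [linearIndependent_fin2]
    refine ⟨fun h => ?_, fun a h => ?_⟩
    · have hw0 : w = 0 := by simpa using h
      rw [hw0, QuadraticMap.polar_zero_right] at huw
      exact zero_ne_one huw
    · have hwu : a • w = u := by simpa using h
      rw [← hwu, QuadraticMap.polar_smul_left, polar_self', hqw, mul_zero, smul_zero] at huw
      exact zero_ne_one huw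
  have hspan : Submodule.span F (Set.range ![u, w]) = U := by
    refine Submodule.eq_of_le_of_finrank_eq (Submodule.span_le.2 ?_) (by rw [finrank_span_eq_card hli, hd]; rfl)
    rintro _ ⟨i, rfl⟩
    fin_cases i
    · exact hLU huL
    · exact hwU
  refine ⟨u + w, ?_, stable_matrixSet_iff.2 fun g hg z hz => ?_⟩
  · rw [apply_add, hqu, hqw, huw]; ring
  obtain ⟨t, rfl⟩ := Submodule.mem_span_singleton.1 hz
  rw [Matrix.mulVec_smul]
  refine Submodule.smul_mem _ _ ?_
  have hmem := stable_matrixSet_iff.1 hU g hg (u + w) (U.add_mem (hLU huL) hwU)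
  rw [← hspan, Matrix.range_cons, Matrix.range_cons, Matrix.range_empty, Set.union_empty,
    Set.singleton_union, Submodule.mem_span_pair] at hmem
  obtain ⟨a, b, hab⟩ := hmem
  have hq1 : Q ((g : Matrix ι ι F) *ᵥ (u + w)) = 1 := by
    rw [(mem_omega_facts (hHQ hg)).1, apply_add, hqu, hqw, huw]; ring
  rw [← hab, apply_add, apply_smul, apply_smul, hqu, hqw, QuadraticMap.polar_smul_left,
    QuadraticMap.polar_smul_right, huw] at hq1
  have hab1 : a * b = 1 := by
    simp only [smul_eq_mul] at hq1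
    linear_combination hq1
  have ha2 : a * a = 1 := by
    have := FiniteField.pow_card_sub_one_eq_one a (left_ne_zero_of_mul_eq_one hab1)
    rwa [h3, pow_two] at this
  have hba : b = a := mul_left_cancel₀ (left_ne_zero_of_mul_eq_one hab1) (hab1.trans ha2.symm)
  rw [← hab, hba, ← smul_add]
  exact Submodule.smul_mem _ _ (Submodule.mem_span_singleton_self _)

/-- Aschbacher's dichotomy for Ω in odd prime dimension at least seven. -/
theorem orth_cases [Fintype F] (h2 : (2 : F) ≠ 0) (hQ : (polarBilin Q).Nondegenerate) {r m : ℕ} (hr : r.Prime)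
    (hr7 : 7 ≤ r) (hm : r = 2 * m + 1) (hcard : Fintype.card ι = r)
    (hgram : ∀ (F₁ : Subfield F) i j, gramIn (polar Q) (1 : Matrix ι ι F) i j ∈ F₁)
    {H : Subgroup (GL ι F)} (hH : IsMaximalIn (omegaGL (⇑Q)) H) :
    (∃ W : Submodule F (ι → F), W ≠ ⊥ ∧ IsTotallySingularQuad (⇑Q) W ∧ H = subspaceStabilizer W ⊓ omegaGL (⇑Q)) ∨
    (∃ W : Submodule F (ι → F), W ≠ ⊥ ∧ Even (Module.finrank F W) ∧ IsNondegenerateOn (polar Q) W ∧
      ¬ (Fintype.card F = 3 ∧ Module.finrank F W = 2 ∧ IsPlusTypeOn (⇑Q) W) ∧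
      H = subspaceStabilizer W ⊓ omegaGL (⇑Q)) ∨
    ((Fintype.card F).Prime ∧ ∃ D : Fin r → Submodule F (ι → F), IsOrthogonalMDecomposition (⇑Q) 1 D ∧
      H = decompositionStabilizer D ⊓ omegaGL (⇑Q)) ∨
    (∃ (F₀ : Subfield F) (s : ℕ) (P : GL ι F), s.Prime ∧ Fintype.card F = Nat.card F₀ ^ s ∧
      IsQuadFormRationalStructure (⇑Q) F₀ P ∧ H = subfieldSubgroup F₀ P ⊓ omegaGL (⇑Q)) ∨
    InOrthogonalResidualClass H := by
  classical
  obtain ⟨⟨hle, hnle⟩, hmax⟩ := hH
  have hr' : (Fintype.card ι).Prime := hcard ▸ hr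
  haveI : Nonempty ι := Fintype.card_pos_iff.1 hr'.pos
  haveI : Nontrivial ι := Fintype.one_lt_card_iff_nontrivial.1 hr'.one_lt
  have hodd : Odd r := ⟨m, hm⟩
  have hodd' : Odd (Fintype.card ι) := hcard ▸ hodd
  have hn5 : 5 ≤ Fintype.card ι := by omega
  have eqn : ∀ M : Subgroup (GL ι F), H ≤ M → ¬ omegaGL (⇑Q) ≤ M → H = M ⊓ omegaGL (⇑Q) := by
    intro M hHM hM
    rcases hmax (M ⊓ omegaGL (⇑Q)) (le_inf hHM hle) inf_le_right with h | h
    · exact h.symm
    · exact absurd (h.ge.trans inf_le_left) hM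
  have hiso : ∀ g ∈ H, ∀ v, Q ((g : Matrix ι ι F) *ᵥ v) = Q v := fun g hg => (mem_omega_facts (hle hg)).1
  by_cases hirr : ActsIrreducibly (matrixSet H)
  swap
  · rw [actsIrreducibly_iff] at hirr
    push Not at hirr
    obtain ⟨W, hW, hW0, hW1⟩ := hirr
    have stab : ∀ U : Submodule F (ι → F), Stable (matrixSet H) U → H ≤ subspaceStabilizer U := by
      intro U hU g hg
      refine (mem_subspaceStabilizer_iff U g).2 fun v => ⟨fun hv => stable_matrixSet_iff.1 hU g hg v hv, fun hv => ?_⟩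
      simpa [mulVec_inv_cancel] using stable_matrixSet_iff.1 hU g⁻¹ (H.inv_mem hg) _ hv
    have notle : ∀ U : Submodule F (ι → F), U ≠ ⊥ → U ≠ ⊤ → ¬ omegaGL (⇑Q) ≤ subspaceStabilizer U := by
      intro U h0 h1 hle'
      rcases actsIrreducibly_iff.1 (actsIrreducibly_omega h2 hQ hn5) U (stable_matrixSet_iff.2 fun g hg v hv =>
        ((mem_subspaceStabilizer_iff U g).1 (hle' hg) v).1 hv) with h | h
      · exact h0 h
      · exact h1 h
    have hperp : ∀ U : Submodule F (ι → F), Stable (matrixSet H) U → Stable (matrixSet H) (perp Q U) := fun U hU =>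
      stable_matrixSet_iff.2 fun g hg v hv => mem_perp.2 fun w hw => by
        rw [← inv_mulVec_cancel g w, fixes_polar_of_isometry (hiso g hg)]
        exact mem_perp.1 hv _ (stable_matrixSet_iff.1 hU g⁻¹ (H.inv_mem hg) w hw)
    by_cases hrad : W ⊓ perp Q W = ⊥
    swap
    · exact Or.inl ⟨W ⊓ perp Q W, hrad,
        fun v hv => by rw [apply_eq_half_polar h2, mem_perp.1 hv.2 v hv.1, zero_div],
        eqn _ (stab _ fun s hs v hv => ⟨hW s hs v hv.1, hperp W hW s hs v hv.2⟩)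
          (notle _ hrad fun e => hW1 (top_le_iff.1 (e ▸ inf_le_left)))⟩
    have hd : ∀ U : Submodule F (ι → F), Module.finrank F (perp Q U) = r - Module.finrank F U := fun U => by
      rw [finrank_perp hQ, Module.finrank_pi, hcard]
    have hlt : ∀ U : Submodule F (ι → F), U ≠ ⊤ → Module.finrank F U < r := fun U hU => by
      simpa [Module.finrank_pi, hcard] using Submodule.finrank_lt hU
    have hpos : 0 < Module.finrank F W := Nat.pos_of_ne_zero fun e => hW0 (Submodule.finrank_eq_zero.1 e)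
    have hWlt := hlt W hW1
    -- a non-degenerate stable subspace of positive even dimension
    obtain ⟨U, hU, hUe, hU0, hUrad⟩ : ∃ U : Submodule F (ι → F), Stable (matrixSet H) U ∧
        Even (Module.finrank F U) ∧ U ≠ ⊥ ∧ U ⊓ perp Q U = ⊥ := by
      rcases Nat.even_or_odd (Module.finrank F W) with h | h
      · exact ⟨W, hW, h, hW0, hrad⟩
      · refine ⟨perp Q W, hperp W hW, ?_, fun e => ?_, by rw [perp_perp hQ, inf_comm]; exact hrad⟩
        · rw [hd, Nat.even_sub hWlt.le]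
          exact iff_of_false (Nat.not_even_iff_odd.2 hodd) (Nat.not_even_iff_odd.2 h)
        · have := hd W
          rw [e, finrank_bot] at this
          omega
    have ndOn : ∀ U : Submodule F (ι → F), U ⊓ perp Q U = ⊥ → IsNondegenerateOn (polar Q) U := by
      intro U hU' w hw hw0
      obtain ⟨x, hx, hxw⟩ : ∃ x ∈ U, polar Q x w ≠ 0 := by
        by_contra! hall
        exact hw0 ((Submodule.eq_bot_iff _).1 hU' w ⟨hw, mem_perp.2 hall⟩)
      exact ⟨⟨x, hx, hxw⟩, ⟨x, hx, by rwa [QuadraticMap.polar_comm]⟩⟩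
    have hne : ∀ U : Submodule F (ι → F), Even (Module.finrank F U) → U ≠ ⊤ := fun U h e => by
      rw [e, finrank_top, Module.finrank_pi, hcard] at h
      exact Nat.not_even_iff_odd.2 hodd h
    right; left
    by_cases hex : Fintype.card F = 3 ∧ Module.finrank F U = 2 ∧ IsPlusTypeOn (⇑Q) U
    · obtain ⟨v, hv1, hvst⟩ := exists_line_of_plus_plane hex.1 hle hU (ndOn U hUrad) hex.2.1 hex.2.2
      have hv0 : v ≠ 0 := fun e => by rw [e, QuadraticMap.map_zero] at hv1; exact zero_ne_one hv1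
      have hrad' : (F ∙ v) ⊓ perp Q (F ∙ v) = ⊥ := by
        rw [Submodule.eq_bot_iff]
        rintro x ⟨hx, hx'⟩
        obtain ⟨t, rfl⟩ := Submodule.mem_span_singleton.1 hx
        have h := mem_perp.1 hx' v (Submodule.mem_span_singleton_self v)
        rw [QuadraticMap.polar_smul_right, polar_self', hv1, mul_one, smul_eq_mul] at h
        rw [(mul_eq_zero.1 h).resolve_right h2, zero_smul]
      have hd1 := hd (F ∙ v)
      rw [finrank_span_singleton hv0] at hd1
      have hev : Even (Module.finrank F (perp Q (F ∙ v))) := ⟨m, by omega⟩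
      have hW'0 : perp Q (F ∙ v) ≠ ⊥ := fun e => by rw [e, finrank_bot] at hd1; omega
      exact ⟨_, hW'0, hev, ndOn _ (by rw [perp_perp hQ, inf_comm]; exact hrad'), fun h => by omega,
        eqn _ (stab _ (hperp _ hvst)) (notle _ hW'0 (hne _ hev))⟩
    · exact ⟨U, hU0, hUe, ndOn U hUrad, hex, eqn _ (stab U hU) (notle U hU0 (hne U hUe))⟩
  haveI : Finite (GL ι F) := Finite.of_injective (fun g : GL ι F => (g : Matrix ι ι F)) Units.val_injective
  haveI : Finite (Subgroup (GL ι F)) := Finite.of_injective (fun K => (K : Set (GL ι F))) SetLike.coe_injective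
  have habs : ActsAbsolutelyIrreducibly (matrixSet H) := by
    rcases commutant_cases hr' hirr with h | ⟨hK, hdc⟩
    · exact h
    exfalso
    have hbot := le_bot_of_commutant h2 hQ hodd' hle hK hdc
    obtain ⟨i₀⟩ := (inferInstance : Nonempty ι)
    have hst : Stable (matrixSet H) (F ∙ (Pi.single i₀ 1 : ι → F)) := stable_matrixSet_iff.2 fun g hg v hv => by
      rw [Subgroup.mem_bot.1 (hbot hg), Units.val_one, Matrix.one_mulVec]
      exact hv
    have h1 : Module.finrank F (F ∙ (Pi.single i₀ 1 : ι → F)) = 1 := finrank_span_singleton (by simp)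
    rcases actsIrreducibly_iff.1 hirr _ hst with h | h
    · rw [h, finrank_bot] at h1
      exact zero_ne_one h1
    · rw [h, finrank_top, Module.finrank_pi] at h1
      omega
  have subfield : ∀ N : Subgroup (GL ι F), N ≤ H → (∀ h ∈ H, ∀ x ∈ N, h * x * h⁻¹ ∈ N) →
      ActsAbsolutelyIrreducibly (matrixSet N) → ∀ F₀ : Subfield F, F₀ ≠ ⊤ → RealisableOver F₀ (matrixSet N) →
      ∃ (F₁ : Subfield F) (s : ℕ) (P : GL ι F), s.Prime ∧ Fintype.card F = Nat.card F₁ ^ s ∧
        IsQuadFormRationalStructure (⇑Q) F₁ P ∧ H = subfieldSubgroup F₁ P ⊓ omegaGL (⇑Q) := by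
    intro N hNH hnH hN F₀ hne ⟨B, hB⟩
    obtain ⟨F₁, s, hle₁, hs₁, hc₁⟩ := exists_prime_index hne
    have hP : ∀ g ∈ N, ∀ i j, ((((B⁻¹)⁻¹ : GL ι F) : Matrix ι ι F) * (g : Matrix ι ι F) *
        ((B⁻¹ : GL ι F) : Matrix ι ι F)) i j ∈ F₁ := fun g hg i j => by
      rw [inv_inv]
      exact hle₁ (hB _ (mem_matrixSet hg) i j)
    obtain ⟨c, hc, hrat⟩ := exists_quad_structure h2 hQ (hcard.trans hm) hN (hNH.trans hle) (hgram F₁) B⁻¹ hP
    have hne1 : F₁ ≠ ⊤ := by
      intro htop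
      have e : Nat.card F₁ = Fintype.card F := by
        rw [htop, ← Nat.card_eq_fintype_card]
        exact Nat.card_congr Subfield.topEquiv.toEquiv
      rw [e] at hc₁
      have h1 := Nat.pow_lt_pow_right (Fintype.one_lt_card (α := F)) hs₁.one_lt
      rw [pow_one, ← hc₁] at h1
      exact lt_irrefl _ h1
    refine ⟨F₁, s, B⁻¹ * c, hs₁, hc₁, hrat, eqn _ ?_ (not_omega_le_subfieldSubgroup hQ hn5 hr' hne1 _)⟩
    rw [subfieldSubgroup_mul_scalar F₁ _ hc]
    exact le_subfieldSubgroup_of_realised hnH hN hle₁ B hB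
  let 𝒩 := {L : Subgroup (GL ι F) | L ≤ H ∧ (∀ h ∈ H, ∀ x ∈ L, h * x * h⁻¹ ∈ L) ∧ ¬ L ≤ scalars ι F}
  have hHn : H ∈ 𝒩 := ⟨le_rfl, fun h hh x hx => H.mul_mem (H.mul_mem hh hx) (H.inv_mem hh), fun hs' => by
    obtain ⟨x, hx, y, hy, hxy⟩ := not_abelian_of_absIrred habs
    exact hxy (scalar_commute (hs' hx) y)⟩
  obtain ⟨N, ⟨hNH, hnH, hNs⟩, hmin'⟩ := wellFounded_lt.has_min 𝒩 ⟨H, hHn⟩
  have hmin : ∀ L : Subgroup (GL ι F), L ≤ N → (∀ h ∈ H, ∀ x ∈ L, h * x * h⁻¹ ∈ L) →
      ¬ L ≤ scalars ι F → L = N := fun L hL hLn hLs => by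
    by_contra hne
    exact hmin' L ⟨hL.trans hNH, hLn, hLs⟩ (lt_of_le_of_ne hL hne)
  rcases eigen_or_irred hr' hirr hnH with ⟨⟨v, hv0, hv⟩, -⟩ | hNirr
  · obtain ⟨D, ψ, hD, hHD, hψ, hDψ⟩ := exists_lines_eig hr hcard hirr hnH hNs hv0 hv
    obtain ⟨hdec, b, c, hc, hb, hbs, hqb⟩ := orth_lines h2 hQ hodd hirr hle hNH hD hHD hψ hDψ
    by_cases hp : (Fintype.card F).Prime
    · refine Or.inr (Or.inr (Or.inl ⟨hp, D, hdec, eqn _ hHD ?_⟩))
      exact not_omega_le_decompositionStabilizer h2 hQ (by omega) hn5 b hb hc hqb hdec.decomp.orthogonal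
    · exact Or.inr (Or.inr (Or.inr (Or.inl (subfield H le_rfl hHn.2.1 habs ⊥ (ne_bot_top_of_not_prime hp)
        (realisable_bot_of_lines hcard hle hD hHD hc hb hbs hqb)))))
  rcases commutant_cases hr' hNirr with hN | ⟨hK, hdc⟩
  swap
  · exact absurd ((le_bot_of_commutant h2 hQ hodd' (hNH.trans hle) hK hdc).trans bot_le) hNs
  by_cases hreal : ∃ F₀ : Subfield F, F₀ ≠ ⊤ ∧ RealisableOver F₀ (matrixSet N)
  · obtain ⟨F₀, hne, hre⟩ := hreal
    exact Or.inr (Or.inr (Or.inr (Or.inl (subfield N hNH hnH hN F₀ hne hre))))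
  push Not at hreal
  have hcomm : ¬ ⁅N, N⁆ ≤ scalars ι F := by
    intro hc
    obtain ⟨x, hx, y, hy, hxy⟩ := not_abelian_of_absIrred hN
    apply hxy
    have hmem : ⁅x, y⁆ ∈ omegaGL (⇑Q) := by
      have := Subgroup.commutator_mem_commutator hx hy
      exact (hNH.trans hle) (Subgroup.commutator_le.2 (fun a ha b hb =>
        N.mul_mem (N.mul_mem (N.mul_mem ha hb) (N.inv_mem ha)) (N.inv_mem hb)) this)
    obtain ⟨μ, hμ⟩ := (mem_scalars_iff _).1 (hc (Subgroup.commutator_mem_commutator hx hy))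
    obtain ⟨hisoc, hdetc⟩ := mem_omega_facts hmem
    rw [hμ, Matrix.det_smul, Matrix.det_one, mul_one, hcard] at hdetc
    obtain ⟨v, hv⟩ : ∃ v, Q v ≠ 0 := by
      by_contra! hall
      obtain ⟨a, b, ha, -, -, -⟩ := exists_singular_pair hQ hn5
      obtain ⟨u, hu0⟩ := exists_ne (0 : ι → F)
      exact hu0 (hQ.1 u fun w => by show polar Q u w = 0; simp [QuadraticMap.polar, hall])
    have h1 := hisoc v
    rw [hμ, Matrix.smul_mulVec, Matrix.one_mulVec, QuadraticMap.map_smul, smul_eq_mul] at h1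
    have hsq : (μ : F) * (μ : F) = 1 := mul_right_cancel₀ hv (h1.trans (one_mul _).symm)
    rw [hm, pow_succ, pow_mul, pow_two, hsq, one_pow, one_mul] at hdetc
    have hone : ⁅x, y⁆ = 1 := Units.ext (by rw [hμ, hdetc, one_smul]; rfl)
    exact commutatorElement_eq_one_iff_mul_comm.1 hone
  have hperf : ⁅N, N⁆ = N := by
    refine hmin _ ?_ (conj_mem_commutator hnH) hcomm
    rw [Subgroup.commutator_le]
    exact fun x hx y hy => N.mul_mem (N.mul_mem (N.mul_mem hx hy) (N.inv_mem hx)) (N.inv_mem hy)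
  refine Or.inr (Or.inr (Or.inr (Or.inr ⟨N, isResidualCore_of_minimal hr' hNH hnH hmin hN hperf hreal, ?_⟩)))
  rintro ⟨σ, f, hf, hffix⟩
  refine hreal (fixedSubfield σ) (fun e => hf.ne_refl (RingEquiv.ext fun a => ?_))
    (realisable_fixed_of_forms hodd' hN hf hffix polar_isBilinear (polar_isNondegenerate hQ) ?_)
  · exact mem_fixedSubfield.1 (e ▸ Subfield.mem_top a)
  · rintro _ ⟨n, hn, rfl⟩ u w
    exact fixes_polar_of_isometry (mem_omega_facts (hle (hNH hn))).1 u w

theorem gram_qOdd_mem (m : ℕ) (F₁ : Subfield F) (i j : Unit ⊕ (Fin m ⊕ Fin m)) :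
    gramIn (polar (qOdd m F)) (1 : Matrix _ _ F) i j ∈ F₁ := by
  have e : gramIn (polar (qOdd m F)) (1 : Matrix _ _ F) i j = polar (qOdd m F) (Pi.single i 1) (Pi.single j 1) := by
    simp only [gramIn, Matrix.one_mulVec]
  rw [e, polar_qOdd, polar_qPlus]
  refine add_mem (mul_mem (mul_mem (natCast_mem F₁ 2) ?_) ?_) (sum_mem fun k _ => add_mem (mul_mem ?_ ?_) (mul_mem ?_ ?_))
  all_goals
    simp only [Function.comp_apply, Pi.single_apply]
    split
    · exact one_mem _
    · exact zero_mem _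

end CfsgLib.Geo.Asch
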