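/-
Adjoints and invariant functionals for a quadratic form on a column space.
-/
import Cfsg.Agent.Lib.Geo.Asch.Orth
import Cfsg.Agent.Lib.Geo.Asch.Clifford

set_option autoImplicit false
set_option linter.unusedSectionVars false

namespace CfsgLib.Geo.Asch

open Matrix Cfsg.Geo
open CfsgLib.Classical CfsgLib.Classical.Quad CfsgLib.Geo.OrthMax
open QuadraticMap (polar polarBilin)

variable {F : Type*} [Field F] [Finite F] {ι : Type} [Fintype ι] [DecidableEq ι]

/-- A non-degenerate quadratic form given as a function is a `QuadraticForm`. -/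
theorem exists_quadraticForm {f : (ι → F) → F} (h : IsNondegenerateQuadraticForm f) :
    ∃ Q : QuadraticForm F (ι → F), ⇑Q = f ∧ (polarBilin Q).Nondegenerate := by
  let Q : QuadraticForm F (ι → F) := QuadraticMap.ofPolar f
    (fun a x => by rw [h.smul]; simp only [smul_eq_mul, pow_two])
    (fun x x' y => h.polar_bilinear.add_left x x' y)
    (fun a x y => by rw [h.polar_bilinear.smul_left]; rfl)
  have hQ : ⇑Q = f := rfl
  refine ⟨Q, hQ, ?_, ?_⟩
  · intro x hx
    by_contra hx0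
    obtain ⟨y, hy⟩ := (h.nondegenerate x hx0).2
    exact hy (hx y)
  · intro y hy
    by_contra hy0
    obtain ⟨x, hx⟩ := (h.nondegenerate y hy0).1
    exact hx (hy x)

variable {Q : QuadraticForm F (ι → F)}

theorem polar_isSesq : IsSesqForm (RingEquiv.refl F) (polar Q) where
  add_left x y v := QuadraticMap.polar_add_left Q x y v
  smul_left c x v := by rw [QuadraticMap.polar_smul_left, smul_eq_mul]
  add_right x v w := QuadraticMap.polar_add_right Q x v w
  smul_right c x v := by rw [QuadraticMap.polar_smul_right, smul_eq_mul]; rfl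

/-- The Gram matrix of the polar form. -/
def gramQ (Q : QuadraticForm F (ι → F)) : Matrix ι ι F := gramIn (polar Q) 1

theorem polar_eq_dot (u v : ι → F) : polar Q u v = u ⬝ᵥ (gramQ Q *ᵥ v) := by
  conv_lhs => rw [← Matrix.one_mulVec u, ← Matrix.one_mulVec v]
  rw [form_eq_gram (polar_isSesq (Q := Q))]
  simp only [dotProduct, Matrix.mulVec, gramQ, Finset.mul_sum, RingEquiv.refl_apply]

theorem isUnit_gramQ (hQ : (polarBilin Q).Nondegenerate) : IsUnit (gramQ Q) := by
  refine isUnit_gram polar_isSesq fun v hv => ?_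
  obtain ⟨x, hx⟩ : ∃ x, polar Q v x ≠ 0 := by
    by_contra! h
    exact hv (hQ.1 v h)
  exact ⟨⟨x, by rwa [QuadraticMap.polar_comm]⟩, ⟨x, hx⟩⟩

theorem gramQ_transpose : (gramQ Q)ᵀ = gramQ Q := by
  ext i j
  simp only [gramQ, gramIn, Matrix.transpose_apply]
  exact QuadraticMap.polar_comm _ _ _

/-- The adjoint of a matrix for the polar form. -/
noncomputable def adjQ (Q : QuadraticForm F (ι → F)) (X : Matrix ι ι F) : Matrix ι ι F :=
  (gramQ Q)⁻¹ * Xᵀ * gramQ Q

theorem polar_adjQ (hQ : (polarBilin Q).Nondegenerate) (X : Matrix ι ι F) (u v : ι → F) :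
    polar Q (X *ᵥ u) v = polar Q u (adjQ Q X *ᵥ v) := by
  have hu := (Matrix.isUnit_iff_isUnit_det _).1 (isUnit_gramQ hQ)
  have h1 : gramQ Q * adjQ Q X = Xᵀ * gramQ Q := by
    rw [adjQ, ← mul_assoc, ← mul_assoc, Matrix.mul_nonsing_inv _ hu, one_mul]
  rw [polar_eq_dot, polar_eq_dot, Matrix.mulVec_mulVec v (gramQ Q) (adjQ Q X), h1,
    ← Matrix.mulVec_mulVec, Matrix.dotProduct_mulVec u Xᵀ, Matrix.vecMul_transpose]

theorem adjQ_unique (hQ : (polarBilin Q).Nondegenerate) {X Y : Matrix ι ι F}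
    (h : ∀ u v, polar Q (X *ᵥ u) v = polar Q u (Y *ᵥ v)) : Y = adjQ Q X := by
  refine Matrix.toLin'.injective (LinearMap.ext fun v => ?_)
  rw [Matrix.toLin'_apply, Matrix.toLin'_apply]
  refine sub_eq_zero.1 (hQ.2 _ fun u => ?_)
  show polar Q u (Y *ᵥ v - adjQ Q X *ᵥ v) = 0
  rw [QuadraticMap.polar_sub_right, ← h, ← polar_adjQ hQ, sub_self]

theorem adjQ_mul (hQ : (polarBilin Q).Nondegenerate) (X Y : Matrix ι ι F) :
    adjQ Q (X * Y) = adjQ Q Y * adjQ Q X :=
  (adjQ_unique hQ fun u v => by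
    rw [← Matrix.mulVec_mulVec, polar_adjQ hQ, polar_adjQ hQ, Matrix.mulVec_mulVec]).symm

theorem adjQ_one (hQ : (polarBilin Q).Nondegenerate) : adjQ Q (1 : Matrix ι ι F) = 1 :=
  (adjQ_unique hQ fun u v => by rw [Matrix.one_mulVec, Matrix.one_mulVec]).symm

theorem adjQ_add (X Y : Matrix ι ι F) : adjQ Q (X + Y) = adjQ Q X + adjQ Q Y := by
  simp only [adjQ, Matrix.transpose_add, Matrix.mul_add, Matrix.add_mul]

theorem adjQ_smul (c : F) (X : Matrix ι ι F) : adjQ Q (c • X) = c • adjQ Q X := by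
  simp only [adjQ, Matrix.transpose_smul, Matrix.mul_smul, Matrix.smul_mul]

theorem adjQ_adjQ (hQ : (polarBilin Q).Nondegenerate) (X : Matrix ι ι F) : adjQ Q (adjQ Q X) = X :=
  (adjQ_unique hQ fun u v => by
    rw [QuadraticMap.polar_comm, ← polar_adjQ hQ, QuadraticMap.polar_comm]).symm

theorem adjQ_iso (hQ : (polarBilin Q).Nondegenerate) {g : GL ι F}
    (hg : ∀ v, Q ((g : Matrix ι ι F) *ᵥ v) = Q v) :
    adjQ Q (g : Matrix ι ι F) = ((g⁻¹ : GL ι F) : Matrix ι ι F) :=
  (adjQ_unique hQ fun u v => by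
    conv_lhs => rw [← inv_mulVec_cancel g v]
    exact fixes_polar_of_isometry hg u _).symm

theorem adjQ_mem_comm (hQ : (polarBilin Q).Nondegenerate) {N : Subgroup (GL ι F)}
    (hN : ∀ g ∈ N, ∀ v, Q ((g : Matrix ι ι F) *ᵥ v) = Q v) {X : Matrix ι ι F} (hX : X ∈ comm N) :
    adjQ Q X ∈ comm N := by
  rw [Subalgebra.mem_centralizer_iff] at hX ⊢
  rintro _ ⟨g, hg, rfl⟩
  have h1 := congrArg (adjQ Q) (hX _ (mem_matrixSet (N.inv_mem hg)))
  rw [adjQ_mul hQ, adjQ_mul hQ, adjQ_iso hQ (hN _ (N.inv_mem hg)), inv_inv] at h1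
  exact h1.symm

theorem adjQ_mem_centreComm (hQ : (polarBilin Q).Nondegenerate) {N : Subgroup (GL ι F)}
    (hN : ∀ g ∈ N, ∀ v, Q ((g : Matrix ι ι F) *ᵥ v) = Q v) {X : Matrix ι ι F} (hX : X ∈ centreComm N) :
    adjQ Q X ∈ centreComm N := by
  refine ⟨adjQ_mem_comm hQ hN hX.1, (Subalgebra.mem_centralizer_iff F).2 fun c hc => ?_⟩
  have h1 := congrArg (adjQ Q) ((Subalgebra.mem_centralizer_iff F).1 hX.2 _ (adjQ_mem_comm hQ hN hc))
  rw [adjQ_mul hQ, adjQ_mul hQ, adjQ_adjQ hQ] at h1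
  exact h1.symm

theorem ndOn_of_inf_perp {U : Submodule F (ι → F)} (hU : U ⊓ perp Q U = ⊥) :
    IsNondegenerateOn (polar Q) U := by
  intro w hw hw0
  obtain ⟨x, hx, hxw⟩ : ∃ x ∈ U, polar Q x w ≠ 0 := by
    by_contra! hall
    exact hw0 ((Submodule.eq_bot_iff _).1 hU w ⟨hw, mem_perp.2 hall⟩)
  exact ⟨⟨x, hx, hxw⟩, ⟨x, hx, by rwa [QuadraticMap.polar_comm]⟩⟩

theorem inf_perp_of_ndOn {U : Submodule F (ι → F)} (hU : IsNondegenerateOn (polar Q) U) :
    U ⊓ perp Q U = ⊥ := by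
  rw [Submodule.eq_bot_iff]
  rintro w ⟨hw, hw'⟩
  by_contra hw0
  obtain ⟨⟨x, hx, hxw⟩, -⟩ := hU w hw hw0
  exact hxw (mem_perp.1 hw' x hx)

/-- An element of the isometry group stabilising a subspace stabilises its perpendicular. -/
theorem perp_map_mem {g : GL ι F} (hg : ∀ v, Q ((g : Matrix ι ι F) *ᵥ v) = Q v)
    {U : Submodule F (ι → F)} (hU : ∀ v ∈ U, ((g⁻¹ : GL ι F) : Matrix ι ι F) *ᵥ v ∈ U) {v : ι → F}
    (hv : v ∈ perp Q U) : (g : Matrix ι ι F) *ᵥ v ∈ perp Q U :=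
  mem_perp.2 fun w hw => by
    rw [← inv_mulVec_cancel g w, fixes_polar_of_isometry hg]
    exact mem_perp.1 hv _ (hU w hw)

/-- An invariant function that is additive and semilinear vanishes for a homogeneous non-trivial group. -/
theorem eq_zero_of_invariant {N : Subgroup (GL ι F)} (hhom : IsHomog N) (hN : N ≠ ⊥)
    {D : (ι → F) → F} (hadd : ∀ u v, D (u + v) = D u + D v)
    (hsmul : ∀ (c : F) v, D v = 0 → D (c • v) = 0)
    (hinv : ∀ g ∈ N, ∀ v, D ((g : Matrix ι ι F) *ᵥ v) = D v) (v : ι → F) : D v = 0 := by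
  classical
  have h0 : D 0 = 0 := by
    have := hadd 0 0
    rw [add_zero] at this
    exact left_eq_add.1 this
  let K : Submodule F (ι → F) :=
    { carrier := {v | D v = 0}
      add_mem' := fun {a b} ha hb => by
        show D (a + b) = 0
        rw [hadd, show D a = 0 from ha, show D b = 0 from hb, add_zero]
      zero_mem' := h0
      smul_mem' := fun c x hx => hsmul c x hx }
  let U : Submodule F (ι → F) :=
    Submodule.span F {x | ∃ g ∈ N, ∃ v, x = (g : Matrix ι ι F) *ᵥ v - v}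
  have hUK : U ≤ K := Submodule.span_le.2 (by
    rintro _ ⟨g, hg, v, rfl⟩
    show D _ = 0
    have := hadd ((g : Matrix ι ι F) *ᵥ v - v) v
    rw [sub_add_cancel, hinv g hg] at this
    exact right_eq_add.1 this)
  have hUst : Stable (NC N) U := by
    intro s hs x hx
    induction hx using Submodule.span_induction with
    | mem y hy =>
      obtain ⟨g, hg, v, rfl⟩ := hy
      rw [Matrix.mulVec_sub, Matrix.mulVec_mulVec]
      refine Submodule.subset_span ?_
      rcases hs with ⟨n, hn, rfl⟩ | hs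
      · refine ⟨n * g * n⁻¹, N.mul_mem (N.mul_mem hn hg) (N.inv_mem hn), (n : Matrix ι ι F) *ᵥ v, ?_⟩
        rw [Matrix.mulVec_mulVec, ← Units.val_mul, ← Units.val_mul, inv_mul_cancel_right]
      · refine ⟨g, hg, s *ᵥ v, ?_⟩
        rw [Matrix.mulVec_mulVec, (Subalgebra.mem_centralizer_iff F).1 hs _ (mem_matrixSet hg)]
    | zero => rw [Matrix.mulVec_zero]; exact U.zero_mem
    | add a b _ _ ha hb => rw [Matrix.mulVec_add]; exact U.add_mem ha hb
    | smul c a _ ha => rw [Matrix.mulVec_smul]; exact U.smul_mem c ha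
  rcases actsIrreducibly_iff.1 hhom U hUst with h | h
  · exfalso
    refine hN (N.eq_bot_iff_forall.2 fun g hg => Units.ext (Matrix.toLin'.injective (LinearMap.ext fun x => ?_)))
    rw [Units.val_one, Matrix.toLin'_apply, Matrix.toLin'_apply, Matrix.one_mulVec]
    exact sub_eq_zero.1 ((Submodule.eq_bot_iff _).1 h _ (Submodule.subset_span ⟨g, hg, x, rfl⟩))
  · exact hUK (h.ge Submodule.mem_top)

end CfsgLib.Geo.Asch
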