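/-
Plus and minus type of orthogonal sums.
-/
import Cfsg.Agent.Lib.Geo.Asch.OrthTools
import Cfsg.Agent.Lib.Known.QuadClassify
import Cfsg.Agent.Lib.Classical.Quad.PlusMinusType

set_option autoImplicit false
set_option linter.unusedSectionVars false

namespace CfsgLib.Geo.Asch

open Matrix Cfsg.Geo
open CfsgLib.Classical CfsgLib.Classical.Quad CfsgLib.Geo.OrthMax
open QuadraticMap (polar polarBilin)

variable {F : Type*} [Field F] [Finite F] {ι : Type} [Fintype ι] [DecidableEq ι] {Q : QuadraticForm F (ι → F)}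

theorem polar_comp_subtype (W : Submodule F (ι → F)) (x y : W) :
    polar (Q.comp W.subtype) x y = polar Q (x : ι → F) y := by
  simp only [polar, QuadraticMap.comp_apply, Submodule.subtype_apply, Submodule.coe_add]

theorem restrict_nondeg {W : Submodule F (ι → F)} (hW : IsNondegenerateOn (polar Q) W) :
    (polarBilin (Q.comp W.subtype)).Nondegenerate := by
  refine ⟨fun x hx => ?_, fun x hx => ?_⟩ <;>
  · by_contra hx0
    obtain ⟨⟨y, hy, hyx⟩, ⟨z, hz, hxz⟩⟩ := hW x x.2 fun e => hx0 (Subtype.ext e)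
    first
      | exact hxz (by rw [← polar_comp_subtype W x ⟨z, hz⟩]; exact hx ⟨z, hz⟩)
      | exact hyx (by rw [← polar_comp_subtype W ⟨y, hy⟩ x]; exact hx ⟨y, hy⟩)

theorem polar_zero_of_singular {U : Submodule F (ι → F)} (hU : ∀ w ∈ U, Q w = 0) {x y : ι → F} (hx : x ∈ U)
    (hy : y ∈ U) : polar Q x y = 0 := by
  rw [QuadraticMap.polar, hU _ (U.add_mem hx hy), hU x hx, hU y hy]
  ring

theorem two_mul_le_of_singular {W U : Submodule F (ι → F)} (hW : IsNondegenerateOn (polar Q) W) (hUW : U ≤ W)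
    (hU : ∀ w ∈ U, Q w = 0) : 2 * Module.finrank F U ≤ Module.finrank F W := by
  have := two_mul_finrank_le (restrict_nondeg hW) (W := U.comap W.subtype) fun w hw => hU _ hw
  rwa [(Submodule.comapSubtypeEquivOfLe hUW).finrank_eq] at this

theorem finrank_sup_of_orth {W W' : Submodule F (ι → F)} (hW : IsNondegenerateOn (polar Q) W)
    (horth : AreOrthogonalFor (polar Q) W W') :
    Module.finrank F ↥(W ⊔ W') = Module.finrank F W + Module.finrank F W' := by
  have h := Submodule.finrank_sup_add_finrank_inf_eq W W'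
  have hinf : W ⊓ W' = ⊥ := by
    rw [Submodule.eq_bot_iff]
    rintro w ⟨hw, hw'⟩
    by_contra hw0
    obtain ⟨⟨x, hx, hxw⟩, -⟩ := hW w hw hw0
    exact hxw (horth x hx w hw')
  rw [hinf, finrank_bot] at h
  omega

theorem ndOn_sup {W W' : Submodule F (ι → F)} (hW : IsNondegenerateOn (polar Q) W)
    (hW' : IsNondegenerateOn (polar Q) W') (horth : AreOrthogonalFor (polar Q) W W') :
    IsNondegenerateOn (polar Q) (W ⊔ W') := by
  intro w hw hw0
  obtain ⟨a, ha, b, hb, rfl⟩ := Submodule.mem_sup.1 hw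
  suffices h : ∃ x ∈ W ⊔ W', polar Q (a + b) x ≠ 0 by
    obtain ⟨x, hx, hx0⟩ := h
    exact ⟨⟨x, hx, by rwa [QuadraticMap.polar_comm]⟩, ⟨x, hx, hx0⟩⟩
  by_cases ha0 : a = 0
  · rw [ha0, zero_add] at hw0 ⊢
    obtain ⟨-, x, hx, hx0⟩ := hW' b hb hw0
    exact ⟨x, Submodule.mem_sup_right hx, hx0⟩
  · obtain ⟨-, x, hx, hx0⟩ := hW a ha ha0
    refine ⟨x, Submodule.mem_sup_left hx, ?_⟩
    rw [polar_add_left', QuadraticMap.polar_comm (⇑Q) b x, horth x hx b hb, add_zero]
    exact hx0

/-- A sum of two plus-type spaces has plus type. -/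
theorem plus_sup {W W' : Submodule F (ι → F)} (hW : IsNondegenerateOn (polar Q) W)
    (horth : AreOrthogonalFor (polar Q) W W') (h : IsPlusTypeOn (⇑Q) W) (h' : IsPlusTypeOn (⇑Q) W') :
    IsPlusTypeOn (⇑Q) (W ⊔ W') := by
  obtain ⟨U, hUW, hU, hUd⟩ := h
  obtain ⟨U', hU'W, hU', hU'd⟩ := h'
  refine ⟨U ⊔ U', sup_le_sup hUW hU'W, fun w hw => ?_, ?_⟩
  · obtain ⟨a, ha, b, hb, rfl⟩ := Submodule.mem_sup.1 hw
    rw [apply_add, hU a ha, hU' b hb, horth a (hUW ha) b (hU'W hb), add_zero, add_zero]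
  · have hinf : U ⊓ U' = ⊥ := by
      rw [Submodule.eq_bot_iff]
      rintro w ⟨hw, hw'⟩
      by_contra hw0
      obtain ⟨⟨x, hx, hxw⟩, -⟩ := hW w (hUW hw) hw0
      exact hxw (horth x hx w (hU'W hw'))
    have h1 := Submodule.finrank_sup_add_finrank_inf_eq U U'
    rw [hinf, finrank_bot] at h1
    rw [finrank_sup_of_orth hW horth]
    omega

/-- A totally singular subspace lies in one that is maximal inside a given subspace. -/
theorem exists_maximal_singular (W : Submodule F (ι → F)) :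
    ∃ X, X ≤ W ∧ (∀ w ∈ X, Q w = 0) ∧ ∀ Y, X ≤ Y → Y ≤ W → (∀ w ∈ Y, Q w = 0) → Y = X := by
  haveI : Finite (Submodule F (ι → F)) := Finite.of_injective _ SetLike.coe_injective
  obtain ⟨X, ⟨hXW, hX⟩, hmax⟩ := wellFounded_gt.has_min {X : Submodule F (ι → F) | X ≤ W ∧ ∀ w ∈ X, Q w = 0}
    ⟨⊥, bot_le, fun w hw => by rw [(Submodule.mem_bot F).1 hw, QuadraticMap.map_zero]⟩
  refine ⟨X, hXW, hX, fun Y hXY hYW hY => ?_⟩
  by_contra hne
  exact hmax Y ⟨hYW, hY⟩ (lt_of_le_of_ne hXY (Ne.symm hne))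

/-- A plus-type space plus a non-plus one is not of plus type. -/
theorem not_plus_sup {W W' : Submodule F (ι → F)} (hW : IsNondegenerateOn (polar Q) W)
    (hW' : IsNondegenerateOn (polar Q) W') (horth : AreOrthogonalFor (polar Q) W W') (h : IsPlusTypeOn (⇑Q) W)
    (h' : ¬ IsPlusTypeOn (⇑Q) W') : ¬ IsPlusTypeOn (⇑Q) (W ⊔ W') := by
  rintro ⟨Z, hZle, hZ, hZd⟩
  obtain ⟨U, hUW, hU, hUd⟩ := h
  obtain ⟨X', hX'W, hX', hmax⟩ := exists_maximal_singular (Q := Q) W'
  have hX'lt : 2 * Module.finrank F X' < Module.finrank F W' :=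
    lt_of_le_of_ne (two_mul_le_of_singular hW' hX'W hX') fun e => h' ⟨X', hX'W, hX', e⟩
  have horth' : ∀ u ∈ W, ∀ v ∈ W', polar Q u v = 0 := horth
  set S := W ⊔ W' with hS
  have hSnd := restrict_nondeg (ndOn_sup hW hW' horth)
  have hXle : U ⊔ X' ≤ S := sup_le_sup hUW hX'W
  have hXsing : ∀ w ∈ U ⊔ X', Q w = 0 := fun w hw => by
    obtain ⟨a, ha, b, hb, rfl⟩ := Submodule.mem_sup.1 hw
    rw [apply_add, hU a ha, hX' b hb, horth' a (hUW ha) b (hX'W hb), add_zero, add_zero]
  have hXmax : ∀ Y : Submodule F S, (U ⊔ X').comap S.subtype ≤ Y → (∀ w ∈ Y, (Q.comp S.subtype) w = 0) →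
      Y = (U ⊔ X').comap S.subtype := by
    intro Y hXY hY
    refine le_antisymm (fun y hy => ?_) hXY
    obtain ⟨a, ha, b, hb, hab⟩ := Submodule.mem_sup.1 y.2
    have hYp : ∀ x ∈ U ⊔ X', polar Q x (y : ι → F) = 0 := fun x hx => by
      rw [← polar_comp_subtype S ⟨x, hXle hx⟩ y]
      have hxY : (⟨x, hXle hx⟩ : S) ∈ Y := hXY hx
      rw [QuadraticMap.polar, hY _ (Y.add_mem hxY hy), hY _ hxY, hY _ hy]
      ring
    have haU : a ∈ U := by
      have hle : U.comap W.subtype ≤ perp (Q.comp W.subtype) (U.comap W.subtype) := fun x hx =>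
        mem_perp.2 fun z hz => by rw [polar_comp_subtype]; exact polar_zero_of_singular hU hz hx
      have heq : U.comap W.subtype = perp (Q.comp W.subtype) (U.comap W.subtype) :=
        Submodule.eq_of_le_of_finrank_eq hle (by
          rw [finrank_perp (restrict_nondeg hW), (Submodule.comapSubtypeEquivOfLe hUW).finrank_eq]; omega)
      have : (⟨a, ha⟩ : W) ∈ perp (Q.comp W.subtype) (U.comap W.subtype) := mem_perp.2 fun z hz => by
        rw [polar_comp_subtype]
        have h1 := hYp z (Submodule.mem_sup_left hz)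
        rw [← hab, polar_add_right', horth' _ z.2 b hb, add_zero] at h1
        exact h1
      rw [← heq] at this
      exact this
    have hbX : b ∈ X' := by
      have hQb : Q b = 0 := by
        have h1 : Q (y : ι → F) = 0 := hY y hy
        rwa [← hab, apply_add, hU a haU, horth' a ha b hb, zero_add, add_zero] at h1
      have hpb : ∀ x ∈ X', polar Q x b = 0 := fun x hx => by
        have h1 := hYp x (Submodule.mem_sup_right hx)
        rwa [← hab, polar_add_right', QuadraticMap.polar_comm (⇑Q) x a, horth' a ha x (hX'W hx), zero_add] at h1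
      have := hmax (X' ⊔ Submodule.span F {b}) le_sup_left
        (sup_le hX'W ((Submodule.span_singleton_le_iff_mem _ _).2 hb)) fun w hw => by
          obtain ⟨x, hx, z, hz, rfl⟩ := Submodule.mem_sup.1 hw
          obtain ⟨c, rfl⟩ := Submodule.mem_span_singleton.1 hz
          rw [apply_add, apply_smul, polar_smul_right', hX' x hx, hQb, hpb x hx]
          ring
      exact this ▸ Submodule.mem_sup_right (Submodule.mem_span_singleton_self b)
    show (y : ι → F) ∈ U ⊔ X'
    rw [← hab]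
    exact Submodule.add_mem_sup haU hbX
  have hd1 : Module.finrank F ((U ⊔ X').comap S.subtype) = Module.finrank F ↥(U ⊔ X') :=
    (Submodule.comapSubtypeEquivOfLe hXle).finrank_eq
  have hd2 : Module.finrank F (Z.comap S.subtype) = Module.finrank F Z :=
    (Submodule.comapSubtypeEquivOfLe hZle).finrank_eq
  have h2 := Submodule.finrank_add_le_finrank_add_finrank U X'
  have h3 := finrank_sup_of_orth hW horth
  rw [← hS] at h3
  have hle : Module.finrank F ((U ⊔ X').comap S.subtype) ≤ Module.finrank F (Z.comap S.subtype) := by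
    rw [hd1, hd2]; omega
  have := (finrank_eq_of_maximal hSnd (fun w hw => hXsing _ hw) (fun w hw => hZ _ hw) hXmax hle).symm.trans hd1
  rw [hd2] at this
  omega

/-- Two isometric even-dimensional spaces together have plus type. -/
theorem plus_of_isometric {W W' : Submodule F (ι → F)} (hW : IsNondegenerateOn (polar Q) W) {m : ℕ}
    (hd : Module.finrank F W = 2 * m) (horth : AreOrthogonalFor (polar Q) W W')
    (hiso : AreIsometricFor (⇑Q) W W') : IsPlusTypeOn (⇑Q) (W ⊔ W') := by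
  obtain ⟨e, he⟩ := hiso
  obtain ⟨g, hg⟩ := CfsgLib.Known.QuadClassify.similarity_surjective hd (Q.comp W.subtype) (restrict_nondeg hW)
    (-1) (neg_ne_zero.2 one_ne_zero)
  let L : W →ₗ[F] (ι → F) := W.subtype + W'.subtype.comp ((e : W →ₗ[F] W').comp (g : W →ₗ[F] W))
  have hinj : Function.Injective L := by
    rw [← LinearMap.ker_eq_bot, LinearMap.ker_eq_bot']
    intro w hw
    by_contra hw0
    obtain ⟨⟨x, hx, hxw⟩, -⟩ := hW w w.2 fun h => hw0 (Subtype.ext h)
    have h1 : (w : ι → F) = -((e (g w) : W') : ι → F) := eq_neg_of_add_eq_zero_left hw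
    rw [h1, QuadraticMap.polar_neg_right, horth x hx _ (e (g w)).2, neg_zero] at hxw
    exact hxw rfl
  refine ⟨LinearMap.range L, ?_, ?_, ?_⟩
  · rintro _ ⟨w, rfl⟩
    exact Submodule.add_mem_sup w.2 (e (g w)).2
  · rintro _ ⟨w, rfl⟩
    show Q ((w : ι → F) + ((e (g w) : W') : ι → F)) = 0
    rw [apply_add, he, horth _ w.2 _ (e (g w)).2, add_zero,
      show Q ((g w : W) : ι → F) = -1 * Q (w : ι → F) from hg w]
    ring
  · rw [LinearMap.finrank_range_of_inj hinj, finrank_sup_of_orth hW horth, e.finrank_eq]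
    omega

/-- Spaces of minus type of equal dimension are isometric. -/
theorem isometric_of_not_plus {W W' : Submodule F (ι → F)} (hW : IsNondegenerateOn (polar Q) W)
    (hW' : IsNondegenerateOn (polar Q) W') {m : ℕ} (hd : Module.finrank F W = 2 * m)
    (hd' : Module.finrank F W' = 2 * m) (h : ¬ IsPlusTypeOn (⇑Q) W) (h' : ¬ IsPlusTypeOn (⇑Q) W') :
    AreIsometricFor (⇑Q) W W' := by
  have plus : ∀ {X : Submodule F (ι → F)}, Module.finrank F X = 2 * m →
      (∃ e : (Fin m ⊕ Fin m → F) ≃ₗ[F] X, ∀ v, Q ((e v : X) : ι → F) = Cfsg.quadFormPlus m F v) →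
      IsPlusTypeOn (⇑Q) X := by
    rintro X hX ⟨e, he⟩
    let J : (Fin m → F) →ₗ[F] (Fin m ⊕ Fin m → F) :=
      { toFun := fun w => Sum.elim w 0
        map_add' := fun u v => by ext x; rcases x with i | i <;> simp
        map_smul' := fun r v => by ext x; rcases x with i | i <;> simp }
    let L := X.subtype.comp ((e : (Fin m ⊕ Fin m → F) →ₗ[F] X).comp J)
    have hL : Function.Injective L := X.injective_subtype.comp (e.injective.comp fun u v h => funext fun i => by
      simpa [J] using congrFun h (Sum.inl i))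
    refine ⟨LinearMap.range L, ?_, ?_, ?_⟩
    · rintro _ ⟨w, rfl⟩; exact (e (J w)).2
    · rintro _ ⟨w, rfl⟩
      show Q ((e (J w) : X) : ι → F) = 0
      rw [he]
      simp [Cfsg.quadFormPlus, J]
    · rw [LinearMap.finrank_range_of_inj hL, Module.finrank_fin_fun, hX]
  rcases CfsgLib.Known.QuadClassify.classify_even hd _ (restrict_nondeg hW) with ⟨e, he⟩ | ⟨-, ζ, e, hζ, he⟩
  · exact absurd (plus hd ⟨e, he⟩) h
  rcases CfsgLib.Known.QuadClassify.classify_even hd' _ (restrict_nondeg hW') with ⟨e', he'⟩ | ⟨-, η, e', hη, he'⟩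
  · exact absurd (plus hd' ⟨e', he'⟩) h'
  obtain ⟨g, hg⟩ := CfsgLib.Known.QuadClassify.minus_equiv (m - 1) hη hζ
  refine ⟨e.symm.trans (g.trans e'), fun w => ?_⟩
  have h1 := he' (g (e.symm w))
  have h2 := he (e.symm w)
  rw [LinearEquiv.apply_symm_apply] at h2
  simp only [QuadraticMap.comp_apply, Submodule.subtype_apply] at h1 h2
  rw [LinearEquiv.trans_apply, LinearEquiv.trans_apply, h1, hg, h2]

/-- Two spaces of minus type of equal dimension together have plus type. -/
theorem plus_of_not_plus {W W' : Submodule F (ι → F)} (hW : IsNondegenerateOn (polar Q) W)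
    (hW' : IsNondegenerateOn (polar Q) W') {m : ℕ} (hd : Module.finrank F W = 2 * m)
    (hd' : Module.finrank F W' = 2 * m) (horth : AreOrthogonalFor (polar Q) W W')
    (h : ¬ IsPlusTypeOn (⇑Q) W) (h' : ¬ IsPlusTypeOn (⇑Q) W') : IsPlusTypeOn (⇑Q) (W ⊔ W') :=
  plus_of_isometric hW hd horth (isometric_of_not_plus hW hW' hd hd' h h')

/-- Four pairwise isometric spaces together have plus type. -/
theorem plus_four {W : Fin 4 → Submodule F (ι → F)} (hW : ∀ i, IsNondegenerateOn (polar Q) (W i))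
    (horth : ∀ i j, i ≠ j → AreOrthogonalFor (polar Q) (W i) (W j))
    (hiso : ∀ i, AreIsometricFor (⇑Q) (W 0) (W i)) : IsPlusTypeOn (⇑Q) ((W 0 ⊔ W 1) ⊔ (W 2 ⊔ W 3)) := by
  obtain ⟨x, y, hxy⟩ : ∃ x y : F, x ^ 2 + y ^ 2 = -1 := by
    by_cases h2 : (2 : F) = 0
    · exact ⟨1, 0, by linear_combination h2⟩
    · exact exists_two_squares h2
  choose e he using hiso
  let T : ∀ i, W 0 →ₗ[F] (ι → F) := fun i => (W i).subtype.comp (e i : W 0 →ₗ[F] W i)
  have hT : ∀ i a, T i a ∈ W i := fun i a => (e i a).2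
  have hQT : ∀ i a, Q (T i a) = Q (a : ι → F) := fun i a => he i a
  have hp : ∀ i a b, polar Q (T i a) (T i b) = polar Q (a : ι → F) (b : ι → F) := fun i a b => by
    rw [QuadraticMap.polar, QuadraticMap.polar, ← map_add, hQT, hQT, hQT]
    rfl
  let L : (W 0 × W 0) →ₗ[F] (ι → F) :=
    LinearMap.coprod (T 0 + x • T 2 + y • T 3) (T 1 + y • T 2 + (-x) • T 3)
  have hL : ∀ a b, L (a, b) = T 0 a + T 1 b + (x • T 2 a + y • T 2 b) + (y • T 3 a + (-x) • T 3 b) := fun a b => by
    simp only [L, LinearMap.coprod_apply, LinearMap.add_apply, LinearMap.smul_apply]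
    abel
  have hsing : ∀ a b, Q (L (a, b)) = 0 := by
    intro a b
    rw [hL]
    simp only [apply_add, apply_smul, polar_add_left', polar_add_right', polar_smul_left', polar_smul_right', hQT, hp,
      horth 0 1 (by decide) _ (hT 0 _) _ (hT 1 _), horth 0 2 (by decide) _ (hT 0 _) _ (hT 2 _),
      horth 0 3 (by decide) _ (hT 0 _) _ (hT 3 _), horth 1 2 (by decide) _ (hT 1 _) _ (hT 2 _),
      horth 1 3 (by decide) _ (hT 1 _) _ (hT 3 _), horth 2 3 (by decide) _ (hT 2 _) _ (hT 3 _)]
    linear_combination (Q (a : ι → F) + Q (b : ι → F)) * hxy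
  have hinj : Function.Injective L := by
    rw [← LinearMap.ker_eq_bot, LinearMap.ker_eq_bot']
    rintro ⟨a, b⟩ hab
    rw [hL] at hab
    have key : ∀ j : Fin 4, (j = 0 ∨ j = 1) → ∀ z : W 0,
        polar Q (T j z) (T 0 a + T 1 b) = 0 := by
      intro j hj z
      have h1 := congrArg (polar Q (T j z)) hab
      rw [QuadraticMap.polar_zero_right] at h1
      simp only [polar_add_right', polar_smul_right'] at h1
      have h2 : ∀ k : Fin 4, (k = 2 ∨ k = 3) → ∀ u, polar Q (T j z) (T k u) = 0 := fun k hk u =>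
        horth j k (by rcases hj with rfl | rfl <;> rcases hk with rfl | rfl <;> decide) _ (hT j _) _ (hT k _)
      rw [h2 2 (Or.inl rfl), h2 2 (Or.inl rfl), h2 3 (Or.inr rfl), h2 3 (Or.inr rfl)] at h1
      rw [polar_add_right']
      linear_combination h1
    have hz : ∀ v : W 0, (∀ z : W 0, polar Q (z : ι → F) (v : ι → F) = 0) → v = 0 := fun v hv => by
      by_contra hv0
      obtain ⟨⟨z, hz, hzv⟩, -⟩ := hW 0 v v.2 fun h => hv0 (Subtype.ext h)
      exact hzv (hv ⟨z, hz⟩)
    refine Prod.ext (hz a fun z => ?_) (hz b fun z => ?_)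
    · have h1 := key 0 (Or.inl rfl) z
      rwa [polar_add_right', horth 0 1 (by decide) _ (hT 0 _) _ (hT 1 _), add_zero, hp] at h1
    · have h1 := key 1 (Or.inr rfl) z
      rwa [polar_add_right', horth 1 0 (by decide) _ (hT 1 _) _ (hT 0 _), zero_add, hp] at h1
  have hd : ∀ i, Module.finrank F (W i) = Module.finrank F (W 0) := fun i => (e i).finrank_eq.symm
  refine ⟨LinearMap.range L, ?_, ?_, ?_⟩
  · rintro _ ⟨⟨a, b⟩, rfl⟩
    rw [hL]
    refine Submodule.add_mem _ (Submodule.add_mem _ (Submodule.add_mem _ ?_ ?_) ?_) ?_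
    · exact Submodule.mem_sup_left (Submodule.mem_sup_left (hT 0 _))
    · exact Submodule.mem_sup_left (Submodule.mem_sup_right (hT 1 _))
    · exact Submodule.mem_sup_right (Submodule.mem_sup_left
        (Submodule.add_mem _ (Submodule.smul_mem _ _ (hT 2 _)) (Submodule.smul_mem _ _ (hT 2 _))))
    · exact Submodule.mem_sup_right (Submodule.mem_sup_right
        (Submodule.add_mem _ (Submodule.smul_mem _ _ (hT 3 _)) (Submodule.smul_mem _ _ (hT 3 _))))
  · rintro _ ⟨⟨a, b⟩, rfl⟩
    exact hsing a b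
  · have h01 := ndOn_sup (hW 0) (hW 1) (horth 0 1 (by decide))
    have hort : AreOrthogonalFor (polar Q) (W 0 ⊔ W 1) (W 2 ⊔ W 3) := by
      intro u hu v hv
      obtain ⟨a, ha, b, hb, rfl⟩ := Submodule.mem_sup.1 hu
      obtain ⟨c, hc, d, hd, rfl⟩ := Submodule.mem_sup.1 hv
      rw [polar_add_left', polar_add_right', polar_add_right', horth 0 2 (by decide) a ha c hc,
        horth 0 3 (by decide) a ha d hd, horth 1 2 (by decide) b hb c hc, horth 1 3 (by decide) b hb d hd]
      ring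
    rw [LinearMap.finrank_range_of_inj hinj, Module.finrank_prod, finrank_sup_of_orth h01 hort,
      finrank_sup_of_orth (hW 0) (horth 0 1 (by decide)), finrank_sup_of_orth (hW 2) (horth 2 3 (by decide)),
      hd 1, hd 2, hd 3]
    ring

/-- Plus type of the whole space in terms of the discriminant. -/
theorem plus_top_iff [Fintype F] (h2 : (2 : F) ≠ 0) (hQ : (polarBilin Q).Nondegenerate) {N : ℕ} (hN : 1 ≤ N)
    (hV : Fintype.card ι = 2 * N) :
    IsPlusTypeOn (⇑Q) ⊤ ↔ IsSquare ((-1) ^ N * (gramQ Q).det) := by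
  have hS : LinearMap.BilinForm.IsSymm (polarBilin Q) := ⟨fun u v => QuadraticMap.polar_comm _ u v⟩
  have hV' : Module.finrank F (ι → F) = 2 * N := by rw [Module.finrank_pi, hV]
  have hM : LinearMap.BilinForm.toMatrix (Pi.basisFun F ι) (polarBilin Q) = gramQ Q := by
    ext i j
    rw [LinearMap.BilinForm.toMatrix_apply, Pi.basisFun_apply, Pi.basisFun_apply]
    simp only [gramQ, gramIn, Matrix.one_mulVec]
    rfl
  rw [← hM, ← exists_half_iff_det h2 hS hQ hN hV' (Pi.basisFun F ι)]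
  constructor
  · rintro ⟨U, -, hU, hUd⟩
    rw [finrank_top] at hUd
    exact ⟨U, by omega, fun x hx y hy => polar_zero_of_singular hU hx hy⟩
  · rintro ⟨X, hXd, hX⟩
    refine ⟨X, le_top, fun w hw => ?_, by rw [finrank_top]; omega⟩
    have h1 : polar Q w w = 0 := hX w hw w hw
    rw [polar_self'] at h1
    exact (mul_eq_zero.1 h1).resolve_left h2

end CfsgLib.Geo.Asch
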