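/-
Field subalgebras normalised by subgroups of orthogonal groups.
-/
import Cfsg.Agent.Lib.Geo.Asch.OrthTools
import Cfsg.Agent.Lib.Geo.Asch.OrthType
import Cfsg.Agent.Lib.Geo.Asch.Core
import Cfsg.Agent.Lib.Geo.Asch.LinearMax
import Cfsg.Agent.Lib.Geo.Asch.TwoFactors

set_option autoImplicit false
set_option linter.unusedSectionVars false

namespace CfsgLib.Geo.Asch

open Matrix Cfsg.Geo
open CfsgLib.Classical CfsgLib.Classical.Quad CfsgLib.Geo.OrthMax
open QuadraticMap (polar polarBilin)
open scoped commutatorElement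

section

variable {ι : Type} [Fintype ι] [DecidableEq ι] {F : Type*} [Field F]

/-- The subfield of a given prime degree. -/
theorem exists_subalgebra_of_dvd [Fintype F] [Nonempty ι] {e r : ℕ} {K : Subalgebra F (Matrix ι ι F)}
    (hK : IsFieldSubalgebra e K) (hr : r.Prime) (hre : r ∣ e) :
    ∃ L : Subalgebra F (Matrix ι ι F), L ≤ K ∧ IsFieldSubalgebra r L ∧
      subalgebraNormalizer K ≤ subalgebraNormalizer L ∧
      ∀ x, x ∈ L ↔ x ∈ K ∧ x ^ (Fintype.card F ^ r) = x := by
  classical
  haveI : Nontrivial (Matrix ι ι F) := inferInstance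
  have hKf : IsField K :=
    { exists_pair_ne := ⟨0, 1, fun h => zero_ne_one (congrArg Subtype.val h)⟩
      mul_comm := fun a b => Subtype.ext (hK.comm _ a.2 _ b.2)
      mul_inv_cancel := fun {a} ha => by
        obtain ⟨y, hy, hy'⟩ := hK.inv a a.2 fun h => ha (Subtype.ext h)
        exact ⟨⟨y, hy⟩, Subtype.ext hy'⟩ }
  letI : Field K := hKf.toField
  haveI : Finite K := inferInstance
  obtain ⟨p, hp⟩ := CharP.exists F
  haveI : Fact p.Prime := ⟨CharP.char_is_prime F p⟩
  haveI : CharP (Matrix ι ι F) p := Matrix.charP p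
  obtain ⟨a, -, ha⟩ := FiniteField.card F p
  have he0 : 0 < e := hK.finrank_eq ▸ Module.finrank_pos
  set q := Fintype.card F with hq
  set Q := q ^ r with hQ
  have hQp : Q = p ^ ((a : ℕ) * r) := by rw [hQ, ha, pow_mul]
  have hq2 : 2 ≤ q := Fintype.one_lt_card
  have hQ1 : 1 < Q := Nat.one_lt_pow hr.ne_zero hq2
  have hscal : ∀ c : F, (algebraMap F (Matrix ι ι F) c) ^ Q = algebraMap F (Matrix ι ι F) c := fun c => by
    rw [← map_pow, hQ, FiniteField.pow_card_pow]
  let L : Subalgebra F (Matrix ι ι F) :=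
    { carrier := {x | x ∈ K ∧ x ^ Q = x}
      mul_mem' := fun {x y} hx hy => ⟨K.mul_mem hx.1 hy.1, by
        rw [Commute.mul_pow (hK.comm x hx.1 y hy.1), hx.2, hy.2]⟩
      one_mem' := ⟨K.one_mem, one_pow _⟩
      add_mem' := fun {x y} hx hy => ⟨K.add_mem hx.1 hy.1, by
        rw [hQp, add_pow_char_pow_of_commute _ _ (hK.comm x hx.1 y hy.1), ← hQp, hx.2, hy.2]⟩
      zero_mem' := ⟨K.zero_mem, zero_pow (by omega)⟩
      algebraMap_mem' := fun c => ⟨K.algebraMap_mem c, hscal c⟩ }
  have hmem : ∀ x, x ∈ L ↔ x ∈ K ∧ x ^ Q = x := fun x => Iff.rfl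
  have hLK : L ≤ K := fun x hx => hx.1
  have hcardK : Nat.card K = q ^ e := by
    rw [Module.natCard_eq_pow_finrank (K := F), hK.finrank_eq, Nat.card_eq_fintype_card]
  have hker : Nat.card (powMonoidHom (Q - 1) : Kˣ →* Kˣ).ker = Q - 1 := by
    rw [IsCyclic.card_powMonoidHom_ker, Nat.card_units, hcardK]
    obtain ⟨b, rfl⟩ := hre
    exact Nat.gcd_eq_right (by rw [pow_mul]; simpa only [one_pow] using Nat.sub_dvd_pow_sub_pow (q ^ r) 1 b)
  have hcardL : Nat.card L = q ^ r := by
    let φ : Option (powMonoidHom (Q - 1) : Kˣ →* Kˣ).ker → L := fun o => o.elim ⟨0, L.zero_mem⟩ fun u =>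
      ⟨((u : Kˣ) : K), (hmem _).2 ⟨((u : Kˣ) : K).2, by
        have hu : ((u : Kˣ) : K) ^ Q = (u : Kˣ) := by
          rw [show ((u : Kˣ) : K) ^ Q = ((u : Kˣ) : K) ^ (Q - 1 + 1) from
            congrArg (((u : Kˣ) : K) ^ ·) (Nat.sub_add_cancel hQ1.le).symm]
          rw [pow_succ, ← Units.val_pow_eq_pow_val, show (u : Kˣ) ^ (Q - 1) = 1 from u.2, Units.val_one, one_mul]
        exact congrArg Subtype.val hu⟩⟩
    have hφ : Function.Bijective φ := by
      constructor
      · rintro (_ | u) (_ | v) h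
        · rfl
        · have h1 : (0 : Matrix ι ι F) = (((v : Kˣ) : K) : Matrix ι ι F) := congrArg Subtype.val h
          exact absurd (Subtype.ext h1.symm) (v : Kˣ).ne_zero
        · have h1 : (((u : Kˣ) : K) : Matrix ι ι F) = 0 := congrArg Subtype.val h
          exact absurd (Subtype.ext h1) (u : Kˣ).ne_zero
        · have h1 : (((u : Kˣ) : K) : Matrix ι ι F) = (((v : Kˣ) : K) : Matrix ι ι F) := congrArg (fun z : L => (z : Matrix ι ι F)) h
          exact congrArg some (Subtype.ext (Units.ext (Subtype.ext h1)))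
      · intro x
        by_cases h0 : (x : Matrix ι ι F) = 0
        · exact ⟨none, Subtype.ext h0.symm⟩
        · obtain ⟨hxK, hxQ⟩ := (hmem _).1 x.2
          have hne : (⟨x, hxK⟩ : K) ≠ 0 := fun h => h0 (congrArg Subtype.val h)
          refine ⟨some ⟨Units.mk0 _ hne, Units.ext ?_⟩, rfl⟩
          show ((⟨x, hxK⟩ : K)) ^ (Q - 1) = 1
          refine mul_right_cancel₀ hne ?_
          rw [← pow_succ, show Q - 1 + 1 = Q by omega, one_mul]
          exact Subtype.ext hxQ
    rw [← Nat.card_eq_of_bijective φ hφ, Finite.card_option, hker]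
    omega
  refine ⟨L, hLK, ⟨fun x hx y hy => hK.comm x (hLK hx) y (hLK hy),
    fun x hx hx0 => CfsgLib.Geo.inv_mem_of_le K L hK.inv hK.comm hLK x hx hx0, ?_⟩, fun g hg k => ?_, hmem⟩
  · rw [Module.natCard_eq_pow_finrank (K := F), Nat.card_eq_fintype_card] at hcardL
    exact Nat.pow_right_injective hq2 hcardL
  · rw [hmem, hmem, Units.conj_pow]
    refine and_congr (hg k) ?_
    rw [IsUnit.mul_left_inj (Units.isUnit g⁻¹), IsUnit.mul_right_inj g.isUnit]

end

variable {F : Type*} [Field F] [Finite F] {ι : Type} [Fintype ι] [DecidableEq ι] {Q : QuadraticForm F (ι → F)}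

theorem isField_of_fieldSubalgebra [Nonempty ι] {e : ℕ} {K : Subalgebra F (Matrix ι ι F)}
    (hK : IsFieldSubalgebra e K) : IsField K :=
  { exists_pair_ne := ⟨0, 1, fun h => zero_ne_one (congrArg Subtype.val h)⟩
    mul_comm := fun a b => Subtype.ext (hK.comm _ a.2 _ b.2)
    mul_inv_cancel := fun {a} ha => by
      obtain ⟨y, hy, hy'⟩ := hK.inv a a.2 fun h => ha (Subtype.ext h)
      exact ⟨⟨y, hy⟩, Subtype.ext hy'⟩ }

theorem selfAdjoint_iff (hQ : (polarBilin Q).Nondegenerate) {K : Subalgebra F (Matrix ι ι F)} :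
    IsSelfAdjointFor (polar Q) K ↔ ∀ k ∈ K, adjQ Q k = k :=
  ⟨fun h k hk => (adjQ_unique hQ (h k hk)).symm,
    fun h k hk u v => by rw [polar_adjQ hQ, h k hk]⟩

theorem adjointClosed_of_adjQ (hQ : (polarBilin Q).Nondegenerate) {K : Subalgebra F (Matrix ι ι F)}
    (h : ∀ k ∈ K, adjQ Q k ∈ K) : IsAdjointClosedFor (polar Q) K :=
  fun k hk => ⟨adjQ Q k, h k hk, polar_adjQ hQ k⟩

/-- An adjoint-closed field of prime degree is self-adjoint, or quadratic with scalar norms. -/
theorem selfAdjoint_or_quadratic [Fintype F] [Nonempty ι] (hQ : (polarBilin Q).Nondegenerate) {r : ℕ}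
    (hr : r.Prime) {L : Subalgebra F (Matrix ι ι F)} (hL : IsFieldSubalgebra r L) (hadj : ∀ k ∈ L, adjQ Q k ∈ L) :
    IsSelfAdjointFor (polar Q) L ∨
      (r = 2 ∧ ¬ IsSelfAdjointFor (polar Q) L ∧ ∀ k ∈ L, ∃ c : F, adjQ Q k * k = c • (1 : Matrix ι ι F)) := by
  classical
  by_cases hs : IsSelfAdjointFor (polar Q) L
  · exact Or.inl hs
  letI : Field L := (isField_of_fieldSubalgebra hL).toField
  haveI : Finite L := inferInstance
  let ψ : L →ₐ[F] L :=
    { toFun := fun x => ⟨adjQ Q x.1, hadj _ x.2⟩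
      map_one' := Subtype.ext (adjQ_one hQ)
      map_mul' := fun x y => by
        rw [mul_comm (⟨adjQ Q x.1, hadj _ x.2⟩ : L)]
        exact Subtype.ext (adjQ_mul hQ _ _)
      map_zero' := Subtype.ext (by simp [adjQ])
      map_add' := fun x y => Subtype.ext (adjQ_add _ _)
      commutes' := fun c => Subtype.ext (by
        show adjQ Q (algebraMap F (Matrix ι ι F) c) = algebraMap F (Matrix ι ι F) c
        rw [Algebra.algebraMap_eq_smul_one, adjQ_smul, adjQ_one hQ]) }
  let Ψ : L ≃ₐ[F] L := AlgEquiv.ofBijective ψ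
    ⟨ψ.toRingHom.injective, Finite.injective_iff_surjective.1 ψ.toRingHom.injective⟩
  have hne : Ψ ≠ 1 := fun h => hs ((selfAdjoint_iff hQ).2 fun k hk =>
    congrArg Subtype.val (AlgEquiv.congr_fun h ⟨k, hk⟩))
  have hord : orderOf Ψ = 2 := orderOf_eq_prime (AlgEquiv.ext fun x => Subtype.ext (adjQ_adjQ hQ _)) hne
  have hdvd : 2 ∣ r := by
    have h1 := orderOf_dvd_natCard Ψ
    rwa [hord, IsGalois.card_aut_eq_finrank, hL.finrank_eq] at h1
  have hr2 : r = 2 := ((Nat.prime_dvd_prime_iff_eq Nat.prime_two hr).1 hdvd).symm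
  refine Or.inr ⟨hr2, hs, fun k hk => ?_⟩
  set x : L := ψ ⟨k, hk⟩ * ⟨k, hk⟩ with hx
  have hfix : Ψ x = x := by
    show ψ x = x
    rw [hx, map_mul, show ψ (ψ ⟨k, hk⟩) = ⟨k, hk⟩ from Subtype.ext (adjQ_adjQ hQ _), mul_comm]
  by_contra hno
  push Not at hno
  have hli : LinearIndependent F ![(1 : L), x] := by
    rw [LinearIndependent.pair_iff]
    intro a b hab
    have hb : b = 0 := by
      by_contra hb
      refine hno (-(b⁻¹ * a)) ?_
      have h1 : b⁻¹ • (a • (1 : L) + b • x) = 0 := by rw [hab, smul_zero]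
      rw [smul_add, smul_smul, smul_smul, inv_mul_cancel₀ hb, one_smul] at h1
      have h2 := congrArg Subtype.val (eq_neg_of_add_eq_zero_right h1)
      rw [neg_smul]
      exact h2
    rw [hb, zero_smul, add_zero] at hab
    exact ⟨(smul_eq_zero.1 hab).resolve_right one_ne_zero, hb⟩
  have hspan : Submodule.span F (Set.range ![(1 : L), x]) = ⊤ :=
    hli.span_eq_top_of_card_eq_finrank' (by rw [hL.finrank_eq, hr2, Fintype.card_fin])
  refine hne (AlgEquiv.ext fun y => ?_)
  have hy : y ∈ Submodule.span F (Set.range ![(1 : L), x]) := hspan ▸ Submodule.mem_top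
  rw [Matrix.range_cons, Matrix.range_cons, Matrix.range_empty, Set.union_empty, Set.singleton_union,
    Submodule.mem_span_pair] at hy
  obtain ⟨a, b, rfl⟩ := hy
  rw [map_add, map_smul, map_smul, map_one, hfix]
  rfl

/-- A quadratic field with scalar norms acts by similitudes. -/
theorem similitudes_of_norm (hQ : (polarBilin Q).Nondegenerate) {N : Subgroup (GL ι F)}
    (hhom : IsHomog N) (hN : N ≠ ⊥) (hNQ : ∀ g ∈ N, ∀ v, Q ((g : Matrix ι ι F) *ᵥ v) = Q v)
    {k : Matrix ι ι F} (hk : k ∈ comm N) {c : F} (hc : adjQ Q k * k = c • (1 : Matrix ι ι F)) (v : ι → F) :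
    Q (k *ᵥ v) = c * Q v := by
  have hp : ∀ u w, polar Q (k *ᵥ u) (k *ᵥ w) = c * polar Q u w := fun u w => by
    rw [polar_adjQ hQ, Matrix.mulVec_mulVec, hc, Matrix.smul_mulVec, Matrix.one_mulVec, polar_smul_right']
  refine sub_eq_zero.1 (eq_zero_of_invariant hhom hN (D := fun v => Q (k *ᵥ v) - c * Q v) (fun u w => ?_)
    (fun a w hw => ?_) (fun g hg w => ?_) v)
  · rw [Matrix.mulVec_add, apply_add, apply_add, hp]; ring
  · show Q (k *ᵥ (a • w)) - c * Q (a • w) = 0
    rw [Matrix.mulVec_smul, apply_smul, apply_smul]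
    linear_combination (a * a) * hw
  · show Q (k *ᵥ ((g : Matrix ι ι F) *ᵥ w)) - c * Q ((g : Matrix ι ι F) *ᵥ w) = _
    rw [hNQ g hg, Matrix.mulVec_mulVec, ← (Subalgebra.mem_centralizer_iff F).1 hk _ (mem_matrixSet hg),
      ← Matrix.mulVec_mulVec, hNQ g hg]

/-- In characteristic two a quadratic self-adjoint field needs a multiple of four dimensions. -/
theorem four_dvd_of_selfAdjoint (h2 : (2 : F) = 0) (hQ : (polarBilin Q).Nondegenerate)
    {L : Subalgebra F (Matrix ι ι F)} (hL : IsFieldSubalgebra 2 L) (hs : IsSelfAdjointFor (polar Q) L) :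
    4 ∣ Fintype.card ι := by
  classical
  haveI : CharP F 2 := charP_two_of_eq_zero h2
  rcases isEmpty_or_nonempty ι with hι | hι
  · simp
  haveI : CharP (Matrix ι ι F) 2 := Matrix.charP 2
  obtain ⟨ω, hω, hωn⟩ : ∃ ω ∈ L, ∀ c : F, ω ≠ c • (1 : Matrix ι ι F) := by
    by_contra! hall
    have h1 : Module.finrank F L ≤ 1 := finrank_le_one (1 : L) fun x => by
      obtain ⟨c, hc⟩ := hall x x.2
      exact ⟨c, Subtype.ext hc.symm⟩
    rw [hL.finrank_eq] at h1
    omega
  obtain ⟨α, β, hab⟩ : ∃ α β : F, ω * ω = α • ω + β • (1 : Matrix ι ι F) := by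
    have hli : LinearIndependent F ![(1 : L), ⟨ω, hω⟩] := by
      rw [LinearIndependent.pair_iff]
      intro a b hab
      have hab' : a • (1 : Matrix ι ι F) + b • ω = 0 := congrArg Subtype.val hab
      have hb : b = 0 := by
        by_contra hb
        refine hωn (-(b⁻¹ * a)) ?_
        have h1 : b⁻¹ • (a • (1 : Matrix ι ι F) + b • ω) = 0 := by rw [hab', smul_zero]
        rw [smul_add, smul_smul, smul_smul, inv_mul_cancel₀ hb, one_smul] at h1
        rw [neg_smul]
        exact eq_neg_of_add_eq_zero_right h1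
      rw [hb, zero_smul, add_zero] at hab'
      exact ⟨(smul_eq_zero.1 hab').resolve_right one_ne_zero, hb⟩
    have hspan := hli.span_eq_top_of_card_eq_finrank' (by rw [hL.finrank_eq, Fintype.card_fin])
    have hy : (⟨ω, hω⟩ * ⟨ω, hω⟩ : L) ∈ Submodule.span F (Set.range ![(1 : L), ⟨ω, hω⟩]) :=
      hspan ▸ Submodule.mem_top
    rw [Matrix.range_cons, Matrix.range_cons, Matrix.range_empty, Set.union_empty, Set.singleton_union,
      Submodule.mem_span_pair] at hy
    obtain ⟨a, b, hh⟩ := hy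
    exact ⟨b, a, (congrArg Subtype.val hh).symm.trans (add_comm _ _)⟩
  have hβ : β ≠ 0 := by
    rintro rfl
    rw [zero_smul, add_zero] at hab
    obtain ⟨y, -, hy⟩ := hL.inv ω hω fun h => hωn 0 (by rw [h, zero_smul])
    refine hωn α ?_
    calc ω = ω * (ω * y) := by rw [hy, mul_one]
      _ = α • ω * y := by rw [← mul_assoc, hab]
      _ = α • 1 := by rw [Matrix.smul_mul, hy]
  have halt : ∀ u, polar Q (ω *ᵥ u) u = 0 := by
    intro u
    have hj : ∃ s ∈ L, s * s = ω := by
      let sq : L → L := fun x => x * x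
      have hinj : Function.Injective sq := fun x y hxy => by
        have hxy' : (x : Matrix ι ι F) * x = (y : Matrix ι ι F) * y := congrArg Subtype.val hxy
        refine Subtype.ext (by_contra fun hne => ?_)
        obtain ⟨z, -, hz⟩ := hL.inv ((x : Matrix ι ι F) - y) (L.sub_mem x.2 y.2) (sub_ne_zero.2 hne)
        have h0 : ((x : Matrix ι ι F) - y) * ((x : Matrix ι ι F) - y) = 0 := by
          have hcm := hL.comm _ x.2 _ y.2
          rw [sub_mul, mul_sub, mul_sub, hxy', ← hcm]
          have h2' : ∀ M : Matrix ι ι F, M + M = 0 := fun M => by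
            rw [← two_smul F M, h2, zero_smul]
          rw [sub_sub_sub_eq, ← sub_add_eq_add_sub]
          abel_nf
          rw [show (2 : ℤ) • ((y : Matrix ι ι F) * y) = 0 by rw [two_zsmul]; exact h2' _,
            show (-2 : ℤ) • ((x : Matrix ι ι F) * y) = 0 by rw [neg_zsmul, two_zsmul, h2' _, neg_zero], add_zero]
        have h1 : ((x : Matrix ι ι F) - y) = 0 := by
          calc ((x : Matrix ι ι F) - y) = ((x : Matrix ι ι F) - y) * (((x : Matrix ι ι F) - y) * z) := by
                rw [hz, mul_one]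
            _ = 0 := by rw [← mul_assoc, h0, zero_mul]
        exact hne (sub_eq_zero.1 h1)
      obtain ⟨s, hs'⟩ := Finite.injective_iff_surjective.1 hinj ⟨ω, hω⟩
      exact ⟨s, s.2, congrArg Subtype.val hs'⟩
    obtain ⟨s, hsL, rfl⟩ := hj
    rw [← Matrix.mulVec_mulVec, hs s hsL, polar_self', h2, zero_mul]
  have hωω : ∀ u, ω *ᵥ (ω *ᵥ u) = α • (ω *ᵥ u) + β • u := fun u => by
    rw [Matrix.mulVec_mulVec, hab, Matrix.add_mulVec, Matrix.smul_mulVec, Matrix.smul_mulVec, Matrix.one_mulVec]
  have key : ∀ d, ∀ W : Submodule F (ι → F), Module.finrank F W = d → IsNondegenerateOn (polar Q) W →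
      (∀ v ∈ W, ω *ᵥ v ∈ W) → 4 ∣ d := by
    intro d
    induction d using Nat.strong_induction_on with
    | _ d ih =>
      intro W hd hW hωW
      rcases Nat.eq_zero_or_pos d with rfl | hpos
      · exact dvd_zero 4
      obtain ⟨u, hu, hu0⟩ := Submodule.exists_mem_ne_zero_of_ne_bot
        (show W ≠ ⊥ from fun e => by rw [e, finrank_bot] at hd; omega)
      have hind : ∀ a b : F, a • u + b • (ω *ᵥ u) = 0 → a = 0 ∧ b = 0 := by
        intro a b hh
        have hMv : (a • (1 : Matrix ι ι F) + b • ω) *ᵥ u = 0 := by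
          rw [Matrix.add_mulVec, Matrix.smul_mulVec, Matrix.smul_mulVec, Matrix.one_mulVec, hh]
        by_cases hM : a • (1 : Matrix ι ι F) + b • ω = 0
        · have hb : b = 0 := by
            by_contra hb
            refine hωn (-(b⁻¹ * a)) ?_
            have h1 : b⁻¹ • (a • (1 : Matrix ι ι F) + b • ω) = 0 := by rw [hM, smul_zero]
            rw [smul_add, smul_smul, smul_smul, inv_mul_cancel₀ hb, one_smul] at h1
            rw [neg_smul]
            exact eq_neg_of_add_eq_zero_right h1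
          rw [hb, zero_smul, add_zero] at hM
          exact ⟨(smul_eq_zero.1 hM).resolve_right one_ne_zero, hb⟩
        · exfalso
          obtain ⟨y, -, hy⟩ := hL.inv _ (L.add_mem (L.smul_mem L.one_mem a) (L.smul_mem hω b)) hM
          apply hu0
          rw [← Matrix.one_mulVec u, ← mul_eq_one_comm.1 hy, ← Matrix.mulVec_mulVec, hMv, Matrix.mulVec_zero]
      obtain ⟨v, hv, hv1, hv2⟩ : ∃ v ∈ W, polar Q u v = 1 ∧ polar Q (ω *ᵥ u) v = 0 := by
        have hne : (⟨u, hu⟩ : W) ∉ Submodule.span F {(⟨ω *ᵥ u, hωW u hu⟩ : W)} := fun h => by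
          obtain ⟨c, hc⟩ := Submodule.mem_span_singleton.1 h
          exact one_ne_zero (hind 1 (-c) (by
            rw [one_smul, neg_smul, ← sub_eq_add_neg, sub_eq_zero]
            exact (congrArg Subtype.val hc).symm)).1
        obtain ⟨v, hv, hvw⟩ := exists_sep_polar (restrict_nondeg hW) hne
        rw [polar_comp_subtype] at hv
        refine ⟨v, v.2, hv, ?_⟩
        have := hvw _ (Submodule.mem_span_singleton_self _)
        rwa [polar_comp_subtype] at this
      let U : Submodule F (ι → F) := Submodule.span F {u, ω *ᵥ u, v, ω *ᵥ v}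
      have hUW : U ≤ W := Submodule.span_le.2 (by
        rintro x (rfl | rfl | rfl | rfl)
        exacts [hu, hωW u hu, hv, hωW _ hv])
      have hmemU : ∀ x ∈ U, ∃ a b c e : F, x = a • u + b • (ω *ᵥ u) + c • v + e • (ω *ᵥ v) := by
        intro x hx
        obtain ⟨a, y, hy, rfl⟩ := Submodule.mem_span_insert.1 hx
        obtain ⟨b, z, hz, rfl⟩ := Submodule.mem_span_insert.1 hy
        obtain ⟨c, e, rfl⟩ := Submodule.mem_span_pair.1 hz
        exact ⟨a, b, c, e, by abel⟩
      have hp1 : polar Q u u = 0 := by rw [polar_self', h2, zero_mul]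
      have hp2 : polar Q v v = 0 := by rw [polar_self', h2, zero_mul]
      have hp3 : polar Q u (ω *ᵥ u) = 0 := by rw [QuadraticMap.polar_comm]; exact halt u
      have hp4 : polar Q v (ω *ᵥ v) = 0 := by rw [QuadraticMap.polar_comm]; exact halt v
      have hp5 : polar Q u (ω *ᵥ v) = 0 := by rw [← hs ω hω]; exact hv2
      have hp6 : polar Q (ω *ᵥ u) (ω *ᵥ v) = β := by
        rw [← hs ω hω, hωω, polar_add_left', polar_smul_left', polar_smul_left', hv2, hv1]
        ring
      have hp7 : polar Q (ω *ᵥ u) (ω *ᵥ u) = 0 := by rw [polar_self', h2, zero_mul]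
      have hp8 : polar Q (ω *ᵥ v) (ω *ᵥ v) = 0 := by rw [polar_self', h2, zero_mul]
      have hpair : ∀ a b c e : F,
          polar Q (a • u + b • (ω *ᵥ u) + c • v + e • (ω *ᵥ v)) u = c ∧
          polar Q (a • u + b • (ω *ᵥ u) + c • v + e • (ω *ᵥ v)) v = a ∧
          polar Q (a • u + b • (ω *ᵥ u) + c • v + e • (ω *ᵥ v)) (ω *ᵥ u) = e * β ∧
          polar Q (a • u + b • (ω *ᵥ u) + c • v + e • (ω *ᵥ v)) (ω *ᵥ v) = b * β := by
        intro a b c e
        refine ⟨?_, ?_, ?_, ?_⟩ <;>
        simp only [polar_add_left', polar_smul_left', hp1, hp2, hp3, hp4, hp5, hp6, hp7, hp8, hv1, hv2, halt,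
          QuadraticMap.polar_comm (⇑Q) v u, QuadraticMap.polar_comm (⇑Q) (ω *ᵥ v) u,
          QuadraticMap.polar_comm (⇑Q) v (ω *ᵥ u), QuadraticMap.polar_comm (⇑Q) (ω *ᵥ v) (ω *ᵥ u)] <;> ring
      have hU : IsNondegenerateOn (polar Q) U := by
        intro x hx hx0
        obtain ⟨a, b, c, e, rfl⟩ := hmemU x hx
        obtain ⟨h1, h3, h4, h5⟩ := hpair a b c e
        obtain ⟨z, hz, hzx⟩ : ∃ z ∈ U, polar Q (a • u + b • (ω *ᵥ u) + c • v + e • (ω *ᵥ v)) z ≠ 0 := by
          by_contra! hall
          have hc0 : c = 0 := h1.symm.trans (hall u (Submodule.subset_span (by simp)))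
          have ha0 : a = 0 := h3.symm.trans (hall v (Submodule.subset_span (by simp)))
          have he0 : e = 0 := (mul_eq_zero.1 (h4.symm.trans (hall _ (Submodule.subset_span (by simp))))).resolve_right hβ
          have hb0 : b = 0 := (mul_eq_zero.1 (h5.symm.trans (hall _ (Submodule.subset_span (by simp))))).resolve_right hβ
          exact hx0 (by rw [ha0, hb0, hc0, he0]; simp)
        exact ⟨⟨z, hz, by rwa [QuadraticMap.polar_comm]⟩, ⟨z, hz, hzx⟩⟩
      have hUd : Module.finrank F U = 4 := by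
        have hli : LinearIndependent F ![u, ω *ᵥ u, v, ω *ᵥ v] := by
          rw [Fintype.linearIndependent_iff]
          intro f hf
          rw [Fin.sum_univ_four] at hf
          simp only [Matrix.cons_val_zero, Matrix.cons_val_one, Matrix.cons_val] at hf
          obtain ⟨h1, h3, h4, h5⟩ := hpair (f 0) (f 1) (f 2) (f 3)
          rw [hf, QuadraticMap.polar_zero_left] at h1 h3 h4 h5
          intro i
          fin_cases i
          · exact h3.symm
          · exact (mul_eq_zero.1 h5.symm).resolve_right hβ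
          · exact h1.symm
          · exact (mul_eq_zero.1 h4.symm).resolve_right hβ
        have e : U = Submodule.span F (Set.range ![u, ω *ᵥ u, v, ω *ᵥ v]) := by
          simp only [U, Matrix.range_cons, Matrix.range_empty, Set.union_empty, Set.singleton_union]
        rw [e, finrank_span_eq_card hli, Fintype.card_fin]
      have hωU : ∀ x ∈ U, ω *ᵥ x ∈ U := by
        intro x hx
        obtain ⟨a, b, c, e, rfl⟩ := hmemU x hx
        simp only [Matrix.mulVec_add, Matrix.mulVec_smul, hωω, smul_add, smul_smul]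
        refine U.add_mem (U.add_mem (U.add_mem ?_ ?_) ?_) ?_ <;>
        first
          | exact U.add_mem (U.smul_mem _ (Submodule.subset_span (by simp))) (U.smul_mem _ (Submodule.subset_span (by simp)))
          | exact U.smul_mem _ (Submodule.subset_span (by simp))
      let W' := W ⊓ perp Q U
      have horth : AreOrthogonalFor (polar Q) U W' := fun x hx y hy => mem_perp.1 hy.2 x hx
      have hsup : U ⊔ W' = W := by
        refine le_antisymm (sup_le hUW inf_le_left) fun x hx => ?_
        -- orthogonal projection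
        let T : U →ₗ[F] Module.Dual F U := polarBilin (Q.comp U.subtype)
        have hT : Function.Injective T := by
          rw [← LinearMap.ker_eq_bot, LinearMap.ker_eq_bot']
          exact fun z hz => (restrict_nondeg hU).1 z fun y => LinearMap.congr_fun hz y
        obtain ⟨y, hy⟩ := (LinearMap.injective_iff_surjective_of_finrank_eq_finrank
          (Subspace.dual_finrank_eq).symm).1 hT ((polarBilin Q x).comp U.subtype)
        refine Submodule.mem_sup.2 ⟨y, y.2, x - (y : ι → F), ⟨W.sub_mem hx (hUW y.2), ?_⟩, add_sub_cancel _ _⟩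
        refine mem_perp.2 fun z hz => ?_
        have h1 : polar (Q.comp U.subtype) y ⟨z, hz⟩ = polar Q x z := LinearMap.congr_fun hy ⟨z, hz⟩
        rw [polar_comp_subtype] at h1
        rw [QuadraticMap.polar_sub_right, QuadraticMap.polar_comm (⇑Q) z x, QuadraticMap.polar_comm (⇑Q) z (y : ι → F),
          h1, sub_self]
      have hW' : IsNondegenerateOn (polar Q) W' := by
        intro x hx hx0
        obtain ⟨-, z, hz, hxz⟩ := hW x hx.1 hx0
        obtain ⟨p, hp, w', hw', rfl⟩ := Submodule.mem_sup.1 (hsup.ge hz)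
        rw [polar_add_right', QuadraticMap.polar_comm (⇑Q) x p, horth p hp x hx, zero_add] at hxz
        exact ⟨⟨w', hw', by rwa [QuadraticMap.polar_comm]⟩, ⟨w', hw', hxz⟩⟩
      have h4 : 4 + Module.finrank F W' = d := by
        have h := finrank_sup_of_orth hU horth
        rw [hsup, hd, hUd] at h
        exact h.symm
      have := ih (Module.finrank F W') (by omega) W' rfl hW' fun x hx => ⟨hωW x hx.1, mem_perp.2 fun z hz => by
        rw [← hs ω hω]; exact mem_perp.1 hx.2 _ (hωU z hz)⟩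
      rw [← h4]
      exact Nat.dvd_add dvd_rfl this
  have htop : IsNondegenerateOn (polar Q) (⊤ : Submodule F (ι → F)) := fun w _ hw0 => by
    obtain ⟨x, hx⟩ : ∃ x, polar Q w x ≠ 0 := by
      by_contra! hh
      exact hw0 (hQ.1 w hh)
    exact ⟨⟨x, trivial, by rwa [QuadraticMap.polar_comm]⟩, ⟨x, trivial, hx⟩⟩
  exact key _ ⊤ (by rw [finrank_top, Module.finrank_pi]) htop fun _ _ => trivial

/-- Matrices commuting with a non-scalar one of size two commute. -/
theorem commute_of_nonscalar {K : Type*} [Field K] {a b c : K} (hab : a ≠ 0 ∨ b ≠ 0 ∨ c ≠ 0)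
    (X Y : Matrix (Fin 2) (Fin 2) K) (hX : X * (symJ K * !![a, b; 0, c]) = (symJ K * !![a, b; 0, c]) * X)
    (hY : Y * (symJ K * !![a, b; 0, c]) = (symJ K * !![a, b; 0, c]) * Y) : X * Y = Y * X := by
  have hS : symJ K * !![a, b; 0, c] = !![0, c; -a, -b] := by
    ext i j; fin_cases i <;> fin_cases j <;> simp [symJ, Matrix.mul_apply, Fin.sum_univ_two]
  rw [hS] at hX hY
  have ent : ∀ M : Matrix (Fin 2) (Fin 2) K, M * !![0, c; -a, -b] = !![0, c; -a, -b] * M →
      (-(a * M 0 1) = c * M 1 0) ∧ (c * M 0 0 - b * M 0 1 = c * M 1 1) ∧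
      (-(a * M 1 1) = -(a * M 0 0) - b * M 1 0) := by
    intro M hM
    have h1 := congrFun (congrFun hM 0) 0
    have h2 := congrFun (congrFun hM 0) 1
    have h3 := congrFun (congrFun hM 1) 0
    simp [Matrix.mul_apply, Fin.sum_univ_two] at h1 h2 h3
    refine ⟨?_, ?_, ?_⟩
    · linear_combination h1
    · linear_combination h2
    · linear_combination h3
  obtain ⟨p1, p2, p3⟩ := ent X hX
  obtain ⟨r1, r2, r3⟩ := ent Y hY
  by_cases ha : a = 0
  · subst ha
    by_cases hc : c = 0
    · subst hc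
      have hb : b ≠ 0 := by
        rcases hab with h0 | h0 | h0
        exacts [absurd rfl h0, h0, absurd rfl h0]
      have g1 : X 0 1 = 0 := (mul_eq_zero.1 (show b * X 0 1 = 0 by linear_combination -p2)).resolve_left hb
      have g2 : X 1 0 = 0 := (mul_eq_zero.1 (show b * X 1 0 = 0 by linear_combination p3)).resolve_left hb
      have h1 : Y 0 1 = 0 := (mul_eq_zero.1 (show b * Y 0 1 = 0 by linear_combination -r2)).resolve_left hb
      have h2 : Y 1 0 = 0 := (mul_eq_zero.1 (show b * Y 1 0 = 0 by linear_combination r3)).resolve_left hb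
      ext i j
      fin_cases i <;> fin_cases j <;> simp [Matrix.mul_apply, Fin.sum_univ_two, g1, g2, h1, h2, mul_comm]
    · have g2 : X 1 0 = 0 := (mul_eq_zero.1 (show c * X 1 0 = 0 by linear_combination -p1)).resolve_left hc
      have h2 : Y 1 0 = 0 := (mul_eq_zero.1 (show c * Y 1 0 = 0 by linear_combination -r1)).resolve_left hc
      ext i j
      fin_cases i <;> fin_cases j <;> simp [Matrix.mul_apply, Fin.sum_univ_two, g2, h2] <;>
      first
        | ring1
        | exact mul_left_cancel₀ hc (by linear_combination Y 0 1 * p2 - X 0 1 * r2)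
  · have eg : X 0 1 = -(c * X 1 0) / a := by field_simp; linear_combination -p1
    have eg' : X 1 1 = (a * X 0 0 + b * X 1 0) / a := by field_simp; linear_combination -p3
    have eh : Y 0 1 = -(c * Y 1 0) / a := by field_simp; linear_combination -r1
    have eh' : Y 1 1 = (a * Y 0 0 + b * Y 1 0) / a := by field_simp; linear_combination -r3
    ext i j
    fin_cases i <;> fin_cases j <;> simp [Matrix.mul_apply, Fin.sum_univ_two, eg, eg', eh, eh'] <;>
    first
      | ring1
      | (field_simp; ring1)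


/-- The isometries of a binary form commute. -/
theorem perfect_binary {K : Type*} [Field K] {a b c : K} (hab : a ≠ 0 ∨ b ≠ 0 ∨ c ≠ 0) {G : Type*} [Group G]
    (φ : G →* Matrix (Fin 2) (Fin 2) K) (hperf : commutator G = ⊤)
    (hφ : ∀ g, ∃ z : K, (φ g)ᵀ * !![a, b; 0, c] * φ g = !![a, b; 0, c] + z • symJ K) (g h : G) :
    φ g * φ h = φ h * φ g := by
  choose z hz using hφ
  let δ : G →* Kˣ := (Matrix.GeneralLinearGroup.det).comp φ.toHomUnits
  have hδ : ∀ g, δ g = 1 := fun g =>
    Abelianization.commutator_subset_ker δ (hperf ▸ Subgroup.mem_top g)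
  have hdet : ∀ g, (φ g).det = 1 := fun g => congrArg Units.val (hδ g)
  have hJ : symJ K ≠ 0 := fun h0 => by simpa [symJ] using congrFun (congrFun h0 0) 1
  have hzmul : ∀ g h, z (g * h) = z g + z h := by
    intro g h
    refine smul_left_injective K hJ (add_left_cancel (a := !![a, b; 0, c]) ?_)
    rw [← hz, map_mul, Matrix.transpose_mul]
    calc (φ h)ᵀ * (φ g)ᵀ * !![a, b; 0, c] * (φ g * φ h)
        = (φ h)ᵀ * ((φ g)ᵀ * !![a, b; 0, c] * φ g) * φ h := by simp only [mul_assoc]
      _ = (φ h)ᵀ * !![a, b; 0, c] * φ h + z g • ((φ h)ᵀ * symJ K * φ h) := by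
          rw [hz, Matrix.mul_add, Matrix.add_mul, Matrix.mul_smul, Matrix.smul_mul]
      _ = !![a, b; 0, c] + (z g + z h) • symJ K := by
          rw [hz, transpose_mul_symJ, hdet, one_smul, add_smul]
          abel
  let ζ : G →* Multiplicative K := MonoidHom.mk' (fun g => Multiplicative.ofAdd (z g)) fun g h => by
    rw [hzmul]; rfl
  have hz0 : ∀ g, z g = 0 := fun g => Multiplicative.ofAdd.injective
    (MonoidHom.mem_ker.1 (Abelianization.commutator_subset_ker ζ (hperf ▸ Subgroup.mem_top g)))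
  have hfix : ∀ g, φ g * (symJ K * !![a, b; 0, c]) = (symJ K * !![a, b; 0, c]) * φ g := by
    intro g
    have h1 : (φ g)ᵀ * !![a, b; 0, c] * φ g = !![a, b; 0, c] := by rw [hz, hz0, zero_smul, add_zero]
    have h2 : (φ g)ᵀ * symJ K * φ g = symJ K := by rw [transpose_mul_symJ, hdet, one_smul]
    have hu : IsUnit (φ g) := (Matrix.isUnit_iff_isUnit_det _).2 (by rw [hdet]; exact isUnit_one)
    have hT : IsUnit ((φ g)ᵀ * symJ K) := by
      refine IsUnit.mul ?_ ?_
      · rw [Matrix.isUnit_iff_isUnit_det, Matrix.det_transpose, hdet]; exact isUnit_one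
      · rw [Matrix.isUnit_iff_isUnit_det, symJ, Matrix.det_fin_two_of]; simp
    refine hT.mul_right_inj.1 ?_
    calc (φ g)ᵀ * symJ K * (φ g * (symJ K * !![a, b; 0, c]))
        = ((φ g)ᵀ * symJ K * φ g) * (symJ K * !![a, b; 0, c]) := by simp only [mul_assoc]
      _ = (-1 : K) • !![a, b; 0, c] := by rw [h2, ← mul_assoc, symJ_sq, Matrix.smul_mul, one_mul]
      _ = (-1 : K) • ((φ g)ᵀ * !![a, b; 0, c] * φ g) := by rw [h1]
      _ = ((φ g)ᵀ * ((-1 : K) • 1)) * !![a, b; 0, c] * φ g := by
          rw [Matrix.mul_smul, mul_one, Matrix.smul_mul, Matrix.smul_mul]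
      _ = _ := by rw [← symJ_sq]; simp only [mul_assoc]
  exact commute_of_nonscalar hab (φ g) (φ h) (hfix g) (hfix h)

end CfsgLib.Geo.Asch
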