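/-
Normal subgroups of orthogonal groups with a self-adjoint field over which the space is a plane.
-/
import Cfsg.Agent.Lib.Geo.Asch.OrthField

set_option autoImplicit false
set_option linter.unusedSectionVars false

namespace CfsgLib.Geo.Asch

open Matrix Cfsg.Geo
open CfsgLib.Classical CfsgLib.Classical.Quad CfsgLib.Geo.OrthMax
open QuadraticMap (polar polarBilin)
open scoped commutatorElement

variable {F : Type*} [Field F] [Finite F] {ι : Type} [Fintype ι] [DecidableEq ι] {Q : QuadraticForm F (ι → F)}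

/-- An abelian minimal normal subgroup spans a field that is not self-adjoint. -/
theorem not_selfAdjoint_of_abelian (hQ : (polarBilin Q).Nondegenerate) [Nonempty ι] {H N : Subgroup (GL ι F)}
    (h : IsMinimalNormal H N) (hNQ : ∀ g ∈ N, ∀ v, Q ((g : Matrix ι ι F) *ᵥ v) = Q v) (hhom : IsHomog N)
    (hab : ∀ x ∈ N, ∀ y ∈ N, x * y = y * x) : ¬ IsSelfAdjointFor (polar Q) (centreComm N) := by
  intro hs
  have hK := centreComm_field hhom
  refine h.not_scalar fun g hg => ?_
  have hgc : (g : Matrix ι ι F) ∈ comm N := by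
    refine (Subalgebra.mem_centralizer_iff F).2 ?_
    rintro _ ⟨y, hy, rfl⟩
    rw [← Units.val_mul, ← Units.val_mul, hab y hy g hg]
  have hgK : (g : Matrix ι ι F) ∈ centreComm N := ⟨hgc, by
    refine (Subalgebra.mem_centralizer_iff F).2 ?_
    intro c hc
    exact ((Subalgebra.mem_centralizer_iff F).1 hc _ (mem_matrixSet hg)).symm⟩
  have hinv : ((g⁻¹ : GL ι F) : Matrix ι ι F) = (g : Matrix ι ι F) := by
    rw [← adjQ_iso hQ (hNQ g hg), (selfAdjoint_iff hQ).1 hs _ hgK]
  have hgg : (g : Matrix ι ι F) * (g : Matrix ι ι F) = 1 := by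
    conv_lhs => arg 2; rw [← hinv]
    exact g.mul_inv
  by_cases h1 : (g : Matrix ι ι F) - 1 = 0
  · exact mem_scalars_of_coe (c := 1) (by rw [one_smul]; exact sub_eq_zero.1 h1)
  · obtain ⟨y, -, hy⟩ := hK.inv _ ((centreComm N).sub_mem hgK (centreComm N).one_mem) h1
    refine mem_scalars_of_coe (c := -1) ?_
    have hy' : y * ((g : Matrix ι ι F) - 1) = 1 := mul_eq_one_comm.1 hy
    have h2 : ((g : Matrix ι ι F) - 1) * ((g : Matrix ι ι F) + 1) = 0 := by
      rw [sub_mul, mul_add, hgg, mul_one, one_mul]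
      abel
    have h3 : (g : Matrix ι ι F) + 1 = 0 :=
      calc (g : Matrix ι ι F) + 1 = y * (((g : Matrix ι ι F) - 1) * ((g : Matrix ι ι F) + 1)) := by
            rw [← mul_assoc, hy', one_mul]
        _ = 0 := by rw [h2, mul_zero]
    rw [neg_one_smul]
    exact eq_neg_of_add_eq_zero_left h3

section Binary

variable {K : Type*} [Field K] (a b c : K) (G : Matrix (Fin 2) (Fin 2) K)

/-- The three equations of an isometry of a binary form give the equation of its upper triangular matrix. -/
theorem binary_of_entries (hA : a * G 0 0 * G 0 0 + b * G 0 0 * G 1 0 + c * G 1 0 * G 1 0 = a)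
    (hC : a * G 0 1 * G 0 1 + b * G 0 1 * G 1 1 + c * G 1 1 * G 1 1 = c)
    (hB : 2 * a * G 0 0 * G 0 1 + b * (G 0 0 * G 1 1 + G 0 1 * G 1 0) + 2 * c * G 1 0 * G 1 1 = b) :
    ∃ z : K, Gᵀ * !![a, b; 0, c] * G = !![a, b; 0, c] + z • symJ K := by
  refine ⟨a * G 0 0 * G 0 1 + b * G 0 0 * G 1 1 + c * G 1 0 * G 1 1 - b, ?_⟩
  ext i j
  fin_cases i <;> fin_cases j <;> simp [symJ, Matrix.mul_apply, Fin.sum_univ_two]
  · linear_combination hA
  · ring
  · linear_combination hB
  · linear_combination hC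

variable {a b c G}

theorem binary_det_or_involution {z : K} (hz : Gᵀ * !![a, b; 0, c] * G = !![a, b; 0, c] + z • symJ K)
    (hdisc : b * b - 4 * a * c ≠ 0) : G.det = 1 ∨ G * G = 1 := by
  have e00 := congrFun (congrFun hz 0) 0
  have e01 := congrFun (congrFun hz 0) 1
  have e10 := congrFun (congrFun hz 1) 0
  have e11 := congrFun (congrFun hz 1) 1
  simp [symJ, Matrix.mul_apply, Fin.sum_univ_two] at e00 e01 e10 e11
  set B : Matrix (Fin 2) (Fin 2) K := !![2 * a, b; b, 2 * c] with hB
  have hGB : Gᵀ * B * G = B := by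
    ext i j
    fin_cases i <;> fin_cases j <;> simp [hB, Matrix.mul_apply, Fin.sum_univ_two]
    · linear_combination 2 * e00
    · linear_combination e01 + e10
    · linear_combination e01 + e10
    · linear_combination 2 * e11
  have hBdet : B.det ≠ 0 := by
    rw [hB, Matrix.det_fin_two_of]
    intro h0
    exact hdisc (by linear_combination -h0)
  have hd := congrArg Matrix.det hGB
  rw [Matrix.det_mul, Matrix.det_mul, Matrix.det_transpose] at hd
  rcases mul_self_eq_one_iff.1 (mul_right_cancel₀ hBdet (show G.det * G.det * B.det = 1 * B.det by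
    linear_combination hd)) with h3 | h3
  · exact Or.inl h3
  by_cases h2 : (2 : K) = 0
  · exact Or.inl (by linear_combination h3 - h2)
  right
  have hadj : G * G.adjugate = G.det • 1 := Matrix.mul_adjugate _
  have e1 : Gᵀ * B = -(B * G.adjugate) := by
    have h4 := congrArg (fun M => M * G.adjugate) hGB
    simp only [mul_assoc, hadj, h3, Matrix.mul_smul, mul_one] at h4
    rw [neg_one_smul] at h4
    rw [← h4, neg_neg]
  have q00 := congrFun (congrFun e1 0) 0
  have q01 := congrFun (congrFun e1 0) 1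
  have q10 := congrFun (congrFun e1 1) 0
  simp [hB, Matrix.adjugate_fin_two, Matrix.mul_apply, Fin.sum_univ_two] at q00 q01 q10
  have htr : G 0 0 + G 1 1 = 0 := by
    by_contra hne
    have k00 : 2 * a * (G 0 0 + G 1 1) = 0 := by linear_combination q00
    have k01 : b * (G 0 0 + G 1 1) = 0 :=
      (mul_eq_zero.1 (show (2 : K) * (b * (G 0 0 + G 1 1)) = 0 by linear_combination q01 + q10)).resolve_left h2
    refine hBdet ?_
    rw [hB, Matrix.det_fin_two_of, (mul_eq_zero.1 k00).resolve_right hne, (mul_eq_zero.1 k01).resolve_right hne]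
    ring
  rw [Matrix.det_fin_two] at h3
  ext i j
  fin_cases i <;> fin_cases j <;> simp [Matrix.mul_apply, Fin.sum_univ_two]
  · linear_combination -h3 + G 0 0 * htr
  · linear_combination G 0 1 * htr
  · linear_combination G 1 0 * htr
  · linear_combination -h3 + G 1 1 * htr

theorem binary_rotation_involution (h2 : (2 : K) ≠ 0) (hd : G.det = 1) (hGG : G * G = 1) :
    G = G 0 0 • 1 ∧ G 0 0 * G 0 0 = 1 := by
  have e1 : G.adjugate = G := by
    rw [← one_mul G.adjugate, ← hGG, mul_assoc, Matrix.mul_adjugate, hd, one_smul, mul_one]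
  have q00 := congrFun (congrFun e1 0) 0
  have q01 := congrFun (congrFun e1 0) 1
  have q10 := congrFun (congrFun e1 1) 0
  simp [Matrix.adjugate_fin_two] at q00 q01 q10
  have g01 : G 0 1 = 0 := (mul_eq_zero.1 (show (2 : K) * G 0 1 = 0 by linear_combination -q01)).resolve_left h2
  have g10 : G 1 0 = 0 := (mul_eq_zero.1 (show (2 : K) * G 1 0 = 0 by linear_combination -q10)).resolve_left h2
  rw [Matrix.det_fin_two, g01, g10, q00, mul_zero, sub_zero] at hd
  refine ⟨?_, hd⟩
  ext i j
  fin_cases i <;> fin_cases j <;> simp [g01, g10, q00]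

theorem binary_rotation_commute (h2 : (2 : K) ≠ 0) {z : K}
    (hz : Gᵀ * !![a, b; 0, c] * G = !![a, b; 0, c] + z • symJ K) (hd : G.det = 1) :
    G * (symJ K * !![a, b; 0, c]) = (symJ K * !![a, b; 0, c]) * G := by
  have e01 := congrFun (congrFun hz 0) 1
  have e10 := congrFun (congrFun hz 1) 0
  have e00 := congrFun (congrFun hz 0) 0
  have e11 := congrFun (congrFun hz 1) 1
  simp [symJ, Matrix.mul_apply, Fin.sum_univ_two] at e00 e01 e10 e11
  rw [Matrix.det_fin_two] at hd
  have hz' : z = 0 := by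
    have h3 : (2 : K) * z = 0 := by linear_combination -e01 + e10 + b * hd
    exact (mul_eq_zero.1 h3).resolve_left h2
  subst hz'
  ext i j
  fin_cases i <;> fin_cases j <;> simp [symJ, Matrix.mul_apply, Fin.sum_univ_two]
  · linear_combination (G 0 1) * e00 - (G 0 0) * e10 + (c * G 1 0) * hd
  · linear_combination (G 0 1) * e01 - (G 0 0) * e11 + (c * G 1 1) * hd
  · linear_combination (G 1 1) * e00 - (G 1 0) * e10 - (a * G 0 0 + b * G 1 0) * hd
  · linear_combination (G 1 1) * e01 - (G 1 0) * e11 - (a * G 0 1 + b * G 1 1) * hd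

end Binary

/-- A non-abelian minimal normal subgroup does not act on a plane over a self-adjoint field. -/
theorem no_plane_over_field [Nonempty ι] (hQ : (polarBilin Q).Nondegenerate) {H N : Subgroup (GL ι F)}
    (h : IsMinimalNormal H N) (hHQ : ∀ g ∈ H, ∀ v, Q ((g : Matrix ι ι F) *ᵥ v) = Q v)
    (hnab : ∃ x ∈ N, ∃ y ∈ N, x * y ≠ y * x) {e : ℕ} {K : Subalgebra F (Matrix ι ι F)}
    (hK : IsFieldSubalgebra e K) (hs : IsSelfAdjointFor (polar Q) K) (hKN : K ≤ comm N)
    (hcard : Fintype.card ι = 2 * e) : False := by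
  classical
  letI : Field K := (isField_of_fieldSubalgebra hK).toField
  letI : Module K (ι → F) :=
    { smul := fun k v => (k : Matrix ι ι F) *ᵥ v
      one_smul := fun v => Matrix.one_mulVec v
      mul_smul := fun a b v => (Matrix.mulVec_mulVec v (a : Matrix ι ι F) b).symm
      smul_zero := fun a => Matrix.mulVec_zero _
      smul_add := fun a u v => Matrix.mulVec_add _ u v
      add_smul := fun a b v => Matrix.add_mulVec _ _ v
      zero_smul := fun v => Matrix.zero_mulVec v }
  haveI : IsScalarTower F K (ι → F) := ⟨fun c k v => Matrix.smul_mulVec c (k : Matrix ι ι F) v⟩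
  haveI : Finite K := inferInstance
  haveI : Module.Finite K (ι → F) := Module.Finite.of_finite
  have hsm : ∀ (k : K) (v : ι → F), k • v = (k : Matrix ι ι F) *ᵥ v := fun k v => rfl
  have he0 : 0 < e := hK.finrank_eq ▸ Module.finrank_pos
  have hd2 : Module.finrank K (ι → F) = 2 := by
    have hh := Module.finrank_mul_finrank F K (ι → F)
    rw [hK.finrank_eq, Module.finrank_pi, hcard, mul_comm 2 e] at hh
    exact Nat.eq_of_mul_eq_mul_left he0 hh
  let β := Module.finBasisOfFinrankEq K (ι → F) hd2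
  set u₁ := β 0
  set u₂ := β 1
  -- a functional identifying `K` with its dual
  obtain ⟨τ, hτ⟩ : ∃ τ : K →ₗ[F] F, τ ≠ 0 := by
    by_contra! hall
    exact one_ne_zero ((Module.forall_dual_apply_eq_zero_iff F (1 : K)).1 fun φ => by rw [hall φ]; rfl)
  let Φ : K →ₗ[F] Module.Dual F K :=
    { toFun := fun c => τ.comp (LinearMap.mulRight F c)
      map_add' := fun c d => LinearMap.ext fun x => by simp [mul_add]
      map_smul' := fun t c => LinearMap.ext fun x => by simp }
  have hΦ : Function.Injective Φ := by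
    rw [← LinearMap.ker_eq_bot, LinearMap.ker_eq_bot']
    intro c hc
    by_contra hc0
    refine hτ (LinearMap.ext fun x => ?_)
    have := LinearMap.congr_fun hc (x * c⁻¹)
    simpa [Φ, mul_assoc, inv_mul_cancel₀ hc0] using this
  have hrep : ∀ φ : K →ₗ[F] F, ∃ c : K, ∀ x, φ x = τ (x * c) := fun φ => by
    obtain ⟨c, hc⟩ := (LinearMap.injective_iff_surjective_of_finrank_eq_finrank
      (Subspace.dual_finrank_eq).symm).1 hΦ φ
    exact ⟨c, fun x => (LinearMap.congr_fun hc x).symm⟩
  have hsq : ∀ D : K, (∀ x : K, τ (x * x * D) = 0) → D = 0 := by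
    intro D hD
    by_contra hD0
    refine hτ (LinearMap.ext fun y => ?_)
    by_cases h2 : (2 : F) = 0
    · haveI : CharP F 2 := charP_two_of_eq_zero h2
      haveI : CharP K 2 := charP_of_injective_algebraMap (algebraMap F K).injective 2
      obtain ⟨r, hr⟩ := isSquare_of_charTwo' (y * D⁻¹)
      rw [LinearMap.zero_apply, ← hD r, ← hr, inv_mul_cancel_right₀ hD0]
    · set x := y * D⁻¹
      have h4 : τ ((4 : F) • y) = 0 := by
        have e1 : (4 : F) • y = (x + 1) * (x + 1) * D - (x - 1) * (x - 1) * D := by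
          rw [show y = x * D from (inv_mul_cancel_right₀ hD0 y).symm, Algebra.smul_def, map_ofNat]
          ring
        rw [e1, map_sub, hD, hD, sub_zero]
      rw [map_smul, smul_eq_mul] at h4
      exact (mul_eq_zero.1 h4).resolve_left (by
        rw [show (4 : F) = 2 * 2 by norm_num]; exact mul_ne_zero h2 h2)
  have hself : ∀ (k : K) u v, polar Q (k • u) v = polar Q u (k • v) := fun k u v => by
    rw [hsm, hsm]; exact hs k k.2 u v
  -- the values of the quadratic form over `K`
  have hval : ∀ u : ι → F, ∃ c : K, ∀ x : K, Q (x • u) = τ (x * x * c) := by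
    intro u
    by_cases h2 : (2 : F) = 0
    · haveI : CharP F 2 := charP_two_of_eq_zero h2
      haveI : CharP K 2 := charP_of_injective_algebraMap (algebraMap F K).injective 2
      have h2K : (2 : K) = 0 := CharTwo.two_eq_zero
      choose r hr using fun x : K => isSquare_of_charTwo' x
      have hrr : ∀ x y : K, x * x = y * y → x = y := fun x y hh => by
        have h1 : (x - y) * (x - y) = 0 := by linear_combination hh + (y * y - x * y) * h2K
        exact sub_eq_zero.1 (mul_self_eq_zero.1 h1)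
      have hadd : ∀ x y, r (x + y) = r x + r y := fun x y => hrr _ _ (by
        linear_combination -hr (x + y) + hr x + hr y - (r x * r y) * h2K)
      let φ : K →ₗ[F] F :=
        { toFun := fun x => Q (r x • u)
          map_add' := fun x y => by
            rw [hadd, add_smul, apply_add, hself, ← mul_smul, add_eq_left]
            obtain ⟨s, hs'⟩ := isSquare_of_charTwo' (r x * r y)
            rw [hs', mul_smul, ← hself, polar_self', h2, zero_mul]
          map_smul' := fun t x => by
            obtain ⟨s, hs'⟩ := isSquare_of_charTwo' t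
            have e1 : r (t • x) = s • r x := hrr _ _ (by
              rw [← hr, smul_mul_smul_comm, ← hs', ← hr])
            rw [e1, smul_assoc, apply_smul, ← hs']
            rfl }
      obtain ⟨c, hc⟩ := hrep φ
      refine ⟨c, fun x => ?_⟩
      rw [← hc (x * x)]
      show Q (x • u) = Q (r (x * x) • u)
      rw [hrr (r (x * x)) x (hr _).symm]
    · let φ : K →ₗ[F] F :=
        { toFun := fun x => polar Q (x • u) u / 2
          map_add' := fun x y => by rw [add_smul, polar_add_left', add_div]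
          map_smul' := fun t x => by rw [smul_assoc, polar_smul_left', RingHom.id_apply, smul_eq_mul, mul_div_assoc] }
      obtain ⟨c, hc⟩ := hrep φ
      refine ⟨c, fun x => ?_⟩
      rw [← hc]
      show _ = polar Q ((x * x) • u) u / 2
      rw [mul_smul, hself, polar_self', eq_div_iff h2, mul_comm]
  obtain ⟨a, ha⟩ := hval u₁
  obtain ⟨c, hc⟩ := hval u₂
  obtain ⟨b, hb⟩ := hrep
    { toFun := fun x : K => polar Q (x • u₁) u₂
      map_add' := fun x y => by rw [add_smul, polar_add_left']
      map_smul' := fun t x => by rw [smul_assoc, polar_smul_left', RingHom.id_apply, smul_eq_mul] }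
  set U : Matrix (Fin 2) (Fin 2) K := !![a, b; 0, c] with hU
  have hQform : ∀ x y : K, Q (x • u₁ + y • u₂) = τ (a * x * x + b * x * y + c * y * y) := by
    intro x y
    rw [apply_add, ha, hc, ← hself, ← mul_smul]
    rw [show polar Q ((y * x) • u₁) u₂ = τ (y * x * b) from hb _]
    rw [show a * x * x + b * x * y + c * y * y = x * x * a + y * y * c + y * x * b by ring, map_add, map_add]
  have hcomm : ∀ g ∈ N, ∀ (k : K) v, (g : Matrix ι ι F) *ᵥ (k • v) = k • ((g : Matrix ι ι F) *ᵥ v) := fun g hg k v => by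
    rw [hsm, hsm, Matrix.mulVec_mulVec, (Subalgebra.mem_centralizer_iff F).1 (hKN k.2) _ (mem_matrixSet hg),
      ← Matrix.mulVec_mulVec]
  let L : N →* ((ι → F) →ₗ[K] (ι → F)) :=
    { toFun := fun g =>
        { toFun := fun v => ((g : GL ι F) : Matrix ι ι F) *ᵥ v
          map_add' := Matrix.mulVec_add _
          map_smul' := fun k v => hcomm g g.2 k v }
      map_one' := LinearMap.ext fun v => Matrix.one_mulVec v
      map_mul' := fun g g' => LinearMap.ext fun v => (Matrix.mulVec_mulVec v _ _).symm }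
  let φ : N →* Matrix (Fin 2) (Fin 2) K :=
    (LinearMap.toMatrixAlgEquiv β : ((ι → F) →ₗ[K] (ι → F)) ≃ₐ[K] _).toAlgHom.toRingHom.toMonoidHom.comp L
  have hφinj : ∀ g g' : N, φ g = φ g' → g = g' := by
    intro g g' hh
    have h1 : L g = L g' := (LinearMap.toMatrixAlgEquiv β).injective hh
    refine Subtype.ext (Units.ext (Matrix.toLin'.injective (LinearMap.ext fun v => ?_)))
    rw [Matrix.toLin'_apply, Matrix.toLin'_apply]
    exact LinearMap.congr_fun h1 v
  have hLu : ∀ (g : N) (j : Fin 2), ((g : GL ι F) : Matrix ι ι F) *ᵥ β j = φ g 0 j • u₁ + φ g 1 j • u₂ := by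
    intro g j
    have h1 := β.sum_repr (L g (β j))
    rw [Fin.sum_univ_two] at h1
    have e0 : ∀ i, φ g i j = β.repr (L g (β j)) i := fun i => LinearMap.toMatrixAlgEquiv_apply β (L g) i j
    rw [e0, e0]
    exact h1.symm
  have hz : ∀ g : N, ∃ z : K, (φ g)ᵀ * U * φ g = U + z • symJ K := by
    intro g
    set G := φ g with hG
    have hfix : ∀ x y : K, τ (a * (G 0 0 * x + G 0 1 * y) * (G 0 0 * x + G 0 1 * y) +
        b * (G 0 0 * x + G 0 1 * y) * (G 1 0 * x + G 1 1 * y) +
        c * (G 1 0 * x + G 1 1 * y) * (G 1 0 * x + G 1 1 * y)) = τ (a * x * x + b * x * y + c * y * y) := by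
      intro x y
      rw [← hQform, ← hQform]
      conv_rhs => rw [← hHQ g (h.le g.2)]
      congr 1
      rw [Matrix.mulVec_add, hcomm g g.2, hcomm g g.2, hLu g 0, hLu g 1]
      module
    have hA : a * G 0 0 * G 0 0 + b * G 0 0 * G 1 0 + c * G 1 0 * G 1 0 = a := by
      refine sub_eq_zero.1 (hsq _ fun x => ?_)
      rw [mul_sub, map_sub, sub_eq_zero]
      convert hfix x 0 using 2 <;> ring
    have hC : a * G 0 1 * G 0 1 + b * G 0 1 * G 1 1 + c * G 1 1 * G 1 1 = c := by
      refine sub_eq_zero.1 (hsq _ fun y => ?_)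
      rw [mul_sub, map_sub, sub_eq_zero]
      convert hfix 0 y using 2 <;> ring
    have hB : 2 * a * G 0 0 * G 0 1 + b * (G 0 0 * G 1 1 + G 0 1 * G 1 0) + 2 * c * G 1 0 * G 1 1 = b := by
      refine sub_eq_zero.1 (by_contra fun hne => hτ (LinearMap.ext fun y => ?_))
      set D := 2 * a * G 0 0 * G 0 1 + b * (G 0 0 * G 1 1 + G 0 1 * G 1 0) + 2 * c * G 1 0 * G 1 1 - b with hD
      have h1 := hfix 1 (y * D⁻¹)
      rw [LinearMap.zero_apply]
      have e1 : a * (G 0 0 * 1 + G 0 1 * (y * D⁻¹)) * (G 0 0 * 1 + G 0 1 * (y * D⁻¹)) +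
          b * (G 0 0 * 1 + G 0 1 * (y * D⁻¹)) * (G 1 0 * 1 + G 1 1 * (y * D⁻¹)) +
          c * (G 1 0 * 1 + G 1 1 * (y * D⁻¹)) * (G 1 0 * 1 + G 1 1 * (y * D⁻¹)) =
          (a * 1 * 1 + b * 1 * (y * D⁻¹) + c * (y * D⁻¹) * (y * D⁻¹)) + y := by
        have hy : y * D⁻¹ * D = y := inv_mul_cancel_right₀ hne y
        linear_combination hA + (y * D⁻¹) ^ 2 * hC + hy + (y * D⁻¹) * hD.symm
      rw [e1, map_add, add_eq_left] at h1
      exact h1
    exact binary_of_entries a b c G hA hC hB
  have hab : a ≠ 0 ∨ b ≠ 0 ∨ c ≠ 0 := by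
    by_contra! hh
    obtain ⟨rfl, rfl, rfl⟩ := hh
    obtain ⟨v, hv⟩ := CfsgLib.Classical.Quad.exists_apply_ne_zero hQ
    refine hv ?_
    have h1 := β.sum_repr v
    rw [Fin.sum_univ_two] at h1
    rw [← h1, hQform]
    simp
  haveI : Finite (GL ι F) := Finite.of_injective (fun g : GL ι F => (g : Matrix ι ι F)) Units.val_injective
  by_cases hcs : ⁅N, N⁆ ≤ scalars ι F
  swap
  · have hperf : ⁅N, N⁆ = N := by
      refine h.min _ ?_ (conj_mem_commutator h.normal) hcs
      rw [Subgroup.commutator_le]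
      exact fun x hx y hy => N.mul_mem (N.mul_mem (N.mul_mem hx hy) (N.inv_mem hx)) (N.inv_mem hy)
    have hperf' : commutator N = ⊤ := by
      apply Subgroup.map_injective N.subtype_injective
      rw [commutator_def, Subgroup.map_commutator, ← MonoidHom.range_eq_map, Subgroup.range_subtype, hperf]
    obtain ⟨x, hx, y, hy, hxy⟩ := hnab
    have h1 := perfect_binary hab φ hperf' hz ⟨x, hx⟩ ⟨y, hy⟩
    rw [← map_mul, ← map_mul] at h1
    exact hxy (congrArg Subtype.val (hφinj _ _ h1))
  -- commutators are signs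
  obtain ⟨x, hx, y, hy, hxy⟩ := hnab
  obtain ⟨v₀, hv₀⟩ := CfsgLib.Classical.Quad.exists_apply_ne_zero hQ
  have h2 : (2 : F) ≠ 0 := by
    intro h2
    apply hxy
    obtain ⟨μ, hμ⟩ := (mem_scalars_iff _).1 (hcs (Subgroup.commutator_mem_commutator hx hy))
    have hmem : ⁅x, y⁆ ∈ N := N.mul_mem (N.mul_mem (N.mul_mem hx hy) (N.inv_mem hx)) (N.inv_mem hy)
    have h1 := hHQ _ (h.le hmem) v₀
    rw [hμ, Matrix.smul_mulVec, Matrix.one_mulVec, apply_smul] at h1
    have hsq' : (μ : F) * μ = 1 := mul_right_cancel₀ hv₀ (h1.trans (one_mul _).symm)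
    have hμ1 : (μ : F) = 1 := by
      rcases mul_self_eq_one_iff.1 hsq' with h3 | h3
      · exact h3
      · rw [h3]; linear_combination -h2
    exact commutatorElement_eq_one_iff_mul_comm.1 (Units.ext (by rw [hμ, hμ1, one_smul]; rfl))
  have h2K : (2 : K) ≠ 0 := fun h0 => h2 ((algebraMap F K).injective (by rw [map_ofNat, map_zero, h0]))
  have hdisc : b * b - 4 * a * c ≠ 0 := by
    intro h0
    -- a vector orthogonal to everything
    have hpol : ∀ x y x' y' : K, polar Q (x • u₁ + y • u₂) (x' • u₁ + y' • u₂) =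
        τ ((2 * a * x + b * y) * x' + (b * x + 2 * c * y) * y') := by
      intro x y x' y'
      rw [QuadraticMap.polar, show x • u₁ + y • u₂ + (x' • u₁ + y' • u₂) = (x + x') • u₁ + (y + y') • u₂ by module,
        hQform, hQform, hQform, ← map_sub, ← map_sub]
      congr 1
      ring
    obtain ⟨p, r, hpr, e1, e2⟩ : ∃ p r : K, (p ≠ 0 ∨ r ≠ 0) ∧ 2 * a * p + b * r = 0 ∧ b * p + 2 * c * r = 0 := by
      by_cases hb0 : b = 0
      · by_cases ha0 : a = 0
        · exact ⟨1, 0, Or.inl one_ne_zero, by rw [ha0]; ring, by rw [hb0]; ring⟩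
        · have hc0 : c = 0 := by
            rw [hb0] at h0
            have h5 : (2 * a) * (2 * c) = 0 := by linear_combination -h0
            exact (mul_eq_zero.1 ((mul_eq_zero.1 h5).resolve_left (mul_ne_zero h2K ha0))).resolve_left h2K
          exact ⟨0, 1, Or.inr one_ne_zero, by rw [hb0]; ring, by rw [hc0]; ring⟩
      · exact ⟨b, -(2 * a), Or.inl hb0, by ring, by linear_combination h0⟩
    have hv : p • u₁ + r • u₂ = 0 := hQ.1 _ fun z => by
      have h1 := β.sum_repr z
      rw [Fin.sum_univ_two] at h1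
      show polar Q _ z = 0
      rw [← h1, hpol, e1, e2, zero_mul, zero_mul, add_zero, map_zero]
    have hli := Fintype.linearIndependent_iff.1 β.linearIndependent ![p, r] (by rw [Fin.sum_univ_two]; exact hv)
    rcases hpr with hh | hh
    exacts [hh (hli 0), hh (hli 1)]
  have ent : ∀ g : N, (φ g).det = 1 ∨ φ g * φ g = 1 := fun g => by
    obtain ⟨z, hzg⟩ := hz g
    exact binary_det_or_involution hzg hdisc
  -- rotations of order two are scalar
  have hrot : ∀ g : N, (φ g).det = 1 → φ g * φ g = 1 → (g : GL ι F) ∈ scalars ι F := by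
    intro g hd hgg
    obtain ⟨hG, hd'⟩ := binary_rotation_involution h2K hd hgg
    have hall : ∀ s : K, φ g 0 0 = s → φ g = s • 1 := fun s hs' => hs' ▸ hG
    replace hd := hd'
    rcases mul_self_eq_one_iff.1 hd with h3 | h3
    · refine mem_scalars_of_coe (c := 1) ?_
      have h4 : g = 1 := hφinj _ _ (by rw [hall 1 h3, one_smul, map_one])
      rw [h4, one_smul]
      rfl
    · refine mem_scalars_of_coe (c := -1) ?_
      have h4 : L g = -1 := (LinearMap.toMatrixAlgEquiv β).injective (by
        rw [map_neg, map_one]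
        exact (hall (-1) h3).trans (neg_one_smul K 1))
      refine Matrix.toLin'.injective (LinearMap.ext fun v => ?_)
      rw [Matrix.toLin'_apply, Matrix.toLin'_apply, neg_one_smul, Matrix.neg_mulVec, Matrix.one_mulVec]
      exact LinearMap.congr_fun h4 v
  -- the rotations form a normal subgroup
  let δ : N →* Kˣ := (Matrix.GeneralLinearGroup.det).comp φ.toHomUnits
  have hδ : ∀ g : N, g ∈ δ.ker ↔ (φ g).det = 1 := fun g => by
    rw [MonoidHom.mem_ker]
    exact ⟨fun hh => congrArg Units.val hh, fun hh => Units.ext hh⟩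
  let R : Subgroup (GL ι F) := δ.ker.map N.subtype
  have hRn : ∀ g ∈ H, ∀ z ∈ R, g * z * g⁻¹ ∈ R := by
    rintro g hg _ ⟨z, hz', rfl⟩
    refine ⟨⟨g * z * g⁻¹, h.normal g hg z z.2⟩, (hδ _).2 ?_, rfl⟩
    by_contra hne
    have hgg := (ent ⟨g * z * g⁻¹, h.normal g hg z z.2⟩).resolve_left hne
    rw [← map_mul] at hgg
    have h5 : (⟨g * z * g⁻¹, h.normal g hg z z.2⟩ * ⟨g * z * g⁻¹, h.normal g hg z z.2⟩ : N) = 1 :=
      hφinj _ _ (hgg.trans (map_one φ).symm)
    have h6 : (z : GL ι F) * z = 1 := by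
      have h7 : g * (z : GL ι F) * g⁻¹ * (g * z * g⁻¹) = 1 := congrArg Subtype.val h5
      have h8 : g * ((z : GL ι F) * z) * g⁻¹ = 1 := by rw [← h7]; group
      exact conj_eq_one_iff.1 h8
    have hzs := hrot z ((hδ z).1 hz') (by
      rw [← map_mul, show z * z = 1 from Subtype.ext h6, map_one])
    refine hne ?_
    have h9 : g * (z : GL ι F) * g⁻¹ = z := by rw [← scalar_commute hzs g, mul_inv_cancel_right]
    rw [show (⟨g * z * g⁻¹, h.normal g hg z z.2⟩ : N) = z from Subtype.ext h9]
    exact (hδ z).1 hz'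
  have hRN : R ≤ N := Subgroup.map_subtype_le _
  have hnotrot : ∀ g : N, (φ g).det ≠ 1 → φ g * φ g = 1 := fun g hg => (ent g).resolve_left hg
  by_cases hRs : R ≤ scalars ι F
  · -- the quotient by scalars has order at most two
    apply hxy
    by_cases hxr : (φ ⟨x, hx⟩).det = 1
    · exact scalar_commute (hRs ⟨⟨x, hx⟩, (hδ _).2 hxr, rfl⟩) y
    by_cases hyr : (φ ⟨y, hy⟩).det = 1
    · exact (scalar_commute (hRs ⟨⟨y, hy⟩, (hδ _).2 hyr, rfl⟩) x).symm
    have hdd : ∀ g : N, (φ g).det ≠ 1 → (φ g).det = -1 := fun g hg => by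
      have h3 := congrArg Matrix.det (hnotrot g hg)
      rw [Matrix.det_mul, Matrix.det_one] at h3
      exact (mul_self_eq_one_iff.1 h3).resolve_left hg
    have hm : x * y ∈ scalars ι F := hRs ⟨⟨x, hx⟩ * ⟨y, hy⟩, (hδ _).2 (by
      rw [map_mul, Matrix.det_mul, hdd _ hxr, hdd _ hyr]; ring), rfl⟩
    have hxx : x * x = 1 := by
      have h3 := hnotrot ⟨x, hx⟩ hxr
      rw [← map_mul] at h3
      exact congrArg Subtype.val (hφinj _ _ (h3.trans (map_one φ).symm))
    have hy' : y = x * (x * y) := by rw [← mul_assoc, hxx, one_mul]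
    rw [hy', ← mul_assoc, hxx, one_mul, mul_assoc x (x * y) x, scalar_commute hm x, ← mul_assoc, hxx, one_mul]
  · -- the rotations are everything and commute
    have hRe : R = N := h.min R hRN hRn hRs
    apply hxy
    have hz0 : ∀ g : N, φ g * (symJ K * U) = (symJ K * U) * φ g := by
      intro g
      obtain ⟨g', hd, hgg'⟩ := hRe.ge g.2
      obtain rfl : g' = g := Subtype.ext hgg'
      obtain ⟨z, hzg⟩ := hz g'
      exact binary_rotation_commute h2K hzg ((hδ _).1 hd)
    have h1 := commute_of_nonscalar hab (φ ⟨x, hx⟩) (φ ⟨y, hy⟩) (hz0 ⟨x, hx⟩) (hz0 ⟨y, hy⟩)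
    rw [← map_mul, ← map_mul] at h1
    exact congrArg Subtype.val (hφinj _ _ h1)

end CfsgLib.Geo.Asch
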