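/-
Transvections of SU: irreducibility, and SU lies in none of the prime-degree geometric subgroups.
-/
import Cfsg.Agent.Lib.Geo.Asch.NotLe
import Cfsg.Agent.Lib.Geo.Asch.Forms

set_option autoImplicit false

namespace CfsgLib.Geo.Asch

open Matrix Cfsg.Geo

variable {F : Type*} [Field F]

/-- `σ` is the automorphism `x ↦ x^q` of the field with `q²` elements. -/
structure IsQPow (σ : F ≃+* F) (q : ℕ) : Prop where
  eq_pow : ∀ a, σ a = a ^ q
  involutive : ∀ a, σ (σ a) = a
  moved : ∃ c, σ c ≠ c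

theorem exists_isQPow [Fintype F] {q : ℕ} (hF : Fintype.card F = q ^ 2) :
    ∃ σ : F ≃+* F, IsQPow σ q := by
  obtain ⟨p, hp⟩ := CharP.exists F
  haveI : Fact p.Prime := ⟨CharP.char_is_prime F p⟩
  obtain ⟨f, -, hf⟩ := FiniteField.card F p
  obtain ⟨a, -, ha⟩ := (Nat.dvd_prime_pow Fact.out).1 (show q ∣ p ^ (f : ℕ) by
    rw [← hf, hF]; exact dvd_pow_self q two_ne_zero)
  let σ : F ≃+* F := RingEquiv.ofBijective (iterateFrobenius F p a)
    (Finite.injective_iff_bijective.1 (iterateFrobenius F p a).injective)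
  have hσ : ∀ x : F, σ x = x ^ q := fun x => by rw [ha]; exact iterateFrobenius_def p a x
  have hq : 1 < q := by
    have := Fintype.one_lt_card (α := F)
    rw [hF] at this
    by_contra! h
    interval_cases q <;> simp at this
  refine ⟨σ, hσ, fun x => by rw [hσ, hσ, ← pow_mul, ← pow_two, ← hF, FiniteField.pow_card], ?_⟩
  obtain ⟨g, hg⟩ := IsCyclic.exists_generator (α := Fˣ)
  refine ⟨(g : F), fun e => ?_⟩
  have h1 : g ^ q = g := Units.ext (by rw [Units.val_pow_eq_pow_val, ← hσ, e])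
  have h2 : g ^ (q - 1) = 1 := by
    apply mul_right_cancel (b := g)
    rw [one_mul, ← pow_succ, Nat.sub_add_cancel hq.le, h1]
  have h3 := orderOf_dvd_of_pow_eq_one h2
  rw [orderOf_eq_card_of_forall_mem_zpowers hg, Nat.card_units, Nat.card_eq_fintype_card, hF] at h3
  have h4 := Nat.le_of_dvd (by omega) h3
  have h5 : 2 * q ≤ q ^ 2 := by nlinarith
  omega

variable {σ : F ≃+* F} {q n : ℕ}

theorem IsQPow.one_lt [Fintype F] (hF : Fintype.card F = q ^ 2) : 1 < q := by
  have := Fintype.one_lt_card (α := F)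
  rw [hF] at this
  by_contra! h
  interval_cases q <;> simp at this

theorem IsQPow.exists_norm [Fintype F] (h : IsQPow σ q) (hF : Fintype.card F = q ^ 2) {b : F} (hb : σ b = b) :
    ∃ a, a * σ a = b := by
  by_cases hb0 : b = 0
  · exact ⟨0, by simp [hb0]⟩
  have hq := IsQPow.one_lt hF
  obtain ⟨g, hg⟩ := IsCyclic.exists_generator (α := Fˣ)
  obtain ⟨k, hk⟩ := (mem_powers_iff_mem_zpowers (x := g) (y := Units.mk0 b hb0)).2 (hg _)
  have hbq : Units.mk0 b hb0 ^ (q - 1) = 1 := by
    apply mul_right_cancel (b := Units.mk0 b hb0)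
    rw [one_mul, ← pow_succ, Nat.sub_add_cancel hq.le]
    exact Units.ext (by rw [Units.val_pow_eq_pow_val, Units.val_mk0, ← h.eq_pow, hb])
  rw [← hk] at hbq
  simp only [← pow_mul] at hbq
  have hd := orderOf_dvd_of_pow_eq_one hbq
  rw [orderOf_eq_card_of_forall_mem_zpowers hg, Nat.card_units, Nat.card_eq_fintype_card, hF,
    show q ^ 2 - 1 = (q + 1) * (q - 1) by rw [← Nat.sq_sub_sq, one_pow]] at hd
  obtain ⟨m, hm⟩ := Nat.dvd_of_mul_dvd_mul_right (by omega) hd
  refine ⟨((g ^ m : Fˣ) : F), ?_⟩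
  have hk' : ((g ^ k : Fˣ) : F) = b := congrArg Units.val hk
  rw [← hk', h.eq_pow, ← Units.val_pow_eq_pow_val, ← Units.val_mul, ← pow_succ', ← pow_mul, hm, mul_comm]

theorem IsQPow.exists_trace_zero (h : IsQPow σ q) : ∃ a : F, a ≠ 0 ∧ a + σ a = 0 := by
  obtain ⟨c, hc⟩ := h.moved
  exact ⟨c - σ c, sub_ne_zero.2 hc.symm, by rw [map_sub, h.involutive]; ring⟩

/-- The group SU inside GL. -/
abbrev SUg (n : ℕ) (F : Type*) [Field F] (q : ℕ) : Subgroup (GL (Fin n) F) :=
  Cfsg.GU n F q ⊓ specialLinear (Fin n) F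

theorem hermForm_eq (h : IsQPow σ q) (u v : Fin n → F) : Cfsg.hermForm n F q u v = ∑ i, u i * σ (v i) := by
  simp [Cfsg.hermForm, h.eq_pow]

theorem isUnitaryForm_hermForm (h : IsQPow σ q) : IsUnitaryForm σ (Cfsg.hermForm n F q) := by
  have hnd : ∀ v : Fin n → F, v ≠ 0 → ∃ x, Cfsg.hermForm n F q x v ≠ 0 := by
    intro v hv
    obtain ⟨i, hi⟩ := Function.ne_iff.1 hv
    refine ⟨Pi.single i 1, ?_⟩
    rw [hermForm_eq h, Finset.sum_eq_single i]
    · simpa using hi
    · intro j _ hj; simp [Pi.single_eq_of_ne hj]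
    · simp
  have hher : ∀ v w : Fin n → F, Cfsg.hermForm n F q v w = σ (Cfsg.hermForm n F q w v) := fun v w => by
    simp only [hermForm_eq h, map_sum, map_mul, h.involutive, mul_comm]
  refine ⟨fun e => ?_, h.involutive, fun x y v => by simp [hermForm_eq h, add_mul, Finset.sum_add_distrib],
    fun c x v => by simp [hermForm_eq h, Finset.mul_sum, mul_assoc], hher, fun v hv => ?_⟩
  · obtain ⟨c, hc⟩ := h.moved
    exact hc (by rw [e]; rfl)
  · obtain ⟨x, hx⟩ := hnd v hv
    exact ⟨⟨x, hx⟩, ⟨x, fun h0 => hx (by rw [hher, h0, map_zero])⟩⟩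

theorem fixesForm_of_le_GU {N : Subgroup (GL (Fin n) F)} (hN : N ≤ Cfsg.GU n F q) :
    FixesForm (matrixSet N) (Cfsg.hermForm n F q) := by
  rintro _ ⟨g, hg, rfl⟩ u v
  exact hN hg u v

/-- The unitary transvection with centre the isotropic vector `u`. -/
theorem exists_SU_transvection (h : IsQPow σ q) {u : Fin n → F} (hu : Cfsg.hermForm n F q u u = 0) {a : F}
    (ha : a + σ a = 0) :
    ∃ (φ : Fin n → F) (hφ : φ ⬝ᵥ u = 0), transvectionGL φ u hφ ∈ SUg n F q ∧
      ∀ x, φ ⬝ᵥ x = a * Cfsg.hermForm n F q x u := by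
  have hφx : ∀ x : Fin n → F, (fun j => a * σ (u j)) ⬝ᵥ x = a * Cfsg.hermForm n F q x u := fun x => by
    simp only [dotProduct, hermForm_eq h, Finset.mul_sum]
    exact Finset.sum_congr rfl fun j _ => by ring
  refine ⟨fun j => a * σ (u j), by rw [hφx, hu, mul_zero], ⟨fun x y => ?_, transvectionGL_mem_specialLinear _ _ _⟩, hφx⟩
  have hf := isUnitaryForm_hermForm (n := n) h
  have hs := isSesqForm_of_unitary hf
  show Cfsg.hermForm n F q _ _ = _
  simp only [Units.coeHom_apply, transvectionGL_mulVec, hφx, hs.add_left, hs.add_right, hs.smul_left, hs.smul_right,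
    hu, map_mul]
  rw [← hf.herm u y]
  linear_combination (Cfsg.hermForm n F q x u * Cfsg.hermForm n F q u y) * ha

/-- An isotropic vector supported on two coordinates. -/
def pairVec (i j : Fin n) (c : F) : Fin n → F := Pi.single i 1 + Pi.single j c

theorem herm_pairVec (h : IsQPow σ q) {i j : Fin n} (hij : i ≠ j) (c d : F) :
    Cfsg.hermForm n F q (pairVec i j c) (pairVec i j d) = 1 + c * σ d := by
  rw [hermForm_eq h, Finset.sum_eq_add i j hij]
  · simp [pairVec, hij, hij.symm]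
  · intro k _ hk; simp [pairVec, hk.1, hk.2]
  · simp
  · simp

theorem exists_pair_norms [Fintype F] (h : IsQPow σ q) (hF : Fintype.card F = q ^ 2) :
    ∃ c d : F, c ≠ d ∧ c * σ c = -1 ∧ d * σ d = -1 := by
  obtain ⟨c, hc⟩ := h.exists_norm hF (b := -1) (by rw [map_neg, map_one])
  obtain ⟨m, hm⟩ := h.moved
  have hm0 : m ≠ 0 := fun e => hm (by rw [e, map_zero])
  have hσm0 : σ m ≠ 0 := fun e => hm0 (by simpa using e)
  refine ⟨c, c * (σ m / m), fun e => ?_, hc, ?_⟩
  · have hc0 : c ≠ 0 := fun e => by simp [e] at hc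
    have h1 : σ m / m = 1 := mul_left_cancel₀ hc0 (by rw [← e, mul_one])
    exact hm (by rwa [div_eq_one_iff_eq hm0] at h1)
  · rw [map_mul, map_div₀, h.involutive]
    calc c * (σ m / m) * (σ c * (m / σ m)) = (c * σ c) * ((σ m / m) * (m / σ m)) := by ring
      _ = -1 := by rw [hc, div_mul_div_cancel₀ hm0, div_self hσm0, mul_one]

theorem eq_bot_or_top_of_transvections [Fintype F] (h : IsQPow σ q) (hF : Fintype.card F = q ^ 2) (hn : 2 ≤ n)
    {W : Submodule F (Fin n → F)}
    (hW : ∀ (φ u : Fin n → F) (hφ : φ ⬝ᵥ u = 0), transvectionGL φ u hφ ∈ SUg n F q →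
      ∀ w ∈ W, ((transvectionGL φ u hφ : GL (Fin n) F) : Matrix (Fin n) (Fin n) F) *ᵥ w ∈ W) :
    W = ⊥ ∨ W = ⊤ := by
  obtain ⟨a, ha0, ha⟩ := h.exists_trace_zero
  obtain ⟨c, d, hcd, hc, hd⟩ := exists_pair_norms h hF
  have hf := isUnitaryForm_hermForm (n := n) h
  have hs := isSesqForm_of_unitary hf
  have iso : ∀ u : Fin n → F, Cfsg.hermForm n F q u u = 0 → u ∈ W ∨ ∀ w ∈ W, Cfsg.hermForm n F q w u = 0 := by
    intro u hu
    rw [or_iff_not_imp_left]
    intro huW w hw
    obtain ⟨φ, hφ, hmem, hφx⟩ := exists_SU_transvection h hu ha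
    have := hW φ u hφ hmem w hw
    rw [transvectionGL_mulVec, W.add_mem_iff_right hw] at this
    by_contra h0
    exact huW ((W.smul_mem_iff (by rw [hφx]; exact mul_ne_zero ha0 h0)).1 this)
  let P : Fin n → Prop := fun i => (Pi.single i 1 : Fin n → F) ∈ W
  let Q : Fin n → Prop := fun i => ∀ w ∈ W, Cfsg.hermForm n F q w (Pi.single i 1) = 0
  have pair : ∀ i j, i ≠ j → (P i ∧ P j) ∨ (Q i ∧ Q j) := by
    intro i j hij
    have hsolve : ∀ w z : Fin n → F, (c - d)⁻¹ • (c • (pairVec i j d) - d • (pairVec i j c)) = Pi.single i 1 ∧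
        (c - d)⁻¹ • (pairVec i j c - pairVec i j d) = Pi.single j 1 := by
      intro w z
      have hne := sub_ne_zero.2 hcd
      constructor <;> funext k <;> by_cases hki : k = i <;> by_cases hkj : k = j <;>
        simp_all [pairVec, Pi.single_apply] <;> field_simp <;> ring
    obtain ⟨e1, e2⟩ := hsolve 0 0
    rcases iso (pairVec i j c) (by rw [herm_pairVec h hij, hc, add_neg_cancel]) with h1 | h1 <;>
      rcases iso (pairVec i j d) (by rw [herm_pairVec h hij, hd, add_neg_cancel]) with h2 | h2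
    · left
      exact ⟨show _ ∈ W from e1 ▸ W.smul_mem _ (W.sub_mem (W.smul_mem _ h2) (W.smul_mem _ h1)),
        show _ ∈ W from e2 ▸ W.smul_mem _ (W.sub_mem h1 h2)⟩
    · exfalso
      have := h2 _ h1
      rw [herm_pairVec h hij] at this
      have hd0 : σ d ≠ 0 := fun e => by simp [e] at hd
      exact hcd (mul_right_cancel₀ hd0 (by linear_combination this - hd))
    · exfalso
      have := h1 _ h2
      rw [herm_pairVec h hij] at this
      have hc0 : σ c ≠ 0 := fun e => by simp [e] at hc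
      exact hcd (mul_right_cancel₀ hc0 (by linear_combination hc - this))
    · right
      refine ⟨fun w hw => ?_, fun w hw => ?_⟩
      · rw [← e1, hs.smul_right, show c • pairVec i j d - d • pairVec i j c =
            c • pairVec i j d + (-d) • pairVec i j c by module, hs.add_right, hs.smul_right, hs.smul_right,
          h1 w hw, h2 w hw]
        simp
      · rw [← e2, hs.smul_right, show pairVec i j c - pairVec i j d =
            pairVec i j c + (-1 : F) • pairVec i j d by module, hs.add_right, hs.smul_right, h1 w hw, h2 w hw]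
        simp
  by_cases hall : ∀ i, P i
  · right
    rw [eq_top_iff]
    intro v _
    rw [pi_eq_sum_univ' v]
    exact Submodule.sum_mem _ fun i _ => W.smul_mem _ (hall i)
  · left
    push Not at hall
    obtain ⟨i, hi⟩ := hall
    obtain ⟨j, hji⟩ : ∃ j, i ≠ j := by
      haveI : Nontrivial (Fin n) := Fin.nontrivial_iff_two_le.2 hn
      obtain ⟨j, hj⟩ := exists_ne i
      exact ⟨j, hj.symm⟩
    have hQ : ∀ k, Q k := fun k => by
      by_cases hki : i = k
      · subst hki; exact ((pair i j hji).resolve_left fun hp => hi hp.1).1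
      · exact ((pair i k hki).resolve_left fun hp => hi hp.1).2
    rw [Submodule.eq_bot_iff]
    intro w hw
    funext k
    have := hQ k w hw
    rw [hermForm_eq h, Finset.sum_eq_single k] at this
    · simpa using this
    · intro l _ hl; simp [Pi.single_eq_of_ne hl]
    · simp

theorem actsIrreducibly_SU [Fintype F] (h : IsQPow σ q) (hF : Fintype.card F = q ^ 2) (hn : 2 ≤ n) :
    ActsIrreducibly (matrixSet (SUg n F q)) :=
  actsIrreducibly_iff.2 fun _ hW => eq_bot_or_top_of_transvections h hF hn fun _ _ _ hmem =>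
    stable_matrixSet_iff.1 hW _ hmem

theorem exists_isotropic [Fintype F] (h : IsQPow σ q) (hF : Fintype.card F = q ^ 2) (hn : 2 ≤ n) :
    ∃ u : Fin n → F, u ≠ 0 ∧ Cfsg.hermForm n F q u u = 0 := by
  obtain ⟨c, d, -, hc, -⟩ := exists_pair_norms h hF
  let i : Fin n := ⟨0, by omega⟩
  let j : Fin n := ⟨1, by omega⟩
  have hij : i ≠ j := by simp [i, j]
  refine ⟨pairVec i j c, fun e => one_ne_zero (α := F) ?_, by rw [herm_pairVec h hij, hc, add_neg_cancel]⟩
  simpa [pairVec, hij] using congrFun e i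

theorem exists_SU_transvection_ne_one [Fintype F] (h : IsQPow σ q) (hF : Fintype.card F = q ^ 2) (hn : 2 ≤ n) :
    ∃ (u φ : Fin n → F) (hφ : φ ⬝ᵥ u = 0), u ≠ 0 ∧ φ ≠ 0 ∧ transvectionGL φ u hφ ∈ SUg n F q := by
  obtain ⟨u, hu0, hu⟩ := exists_isotropic h hF hn
  obtain ⟨a, ha0, ha⟩ := h.exists_trace_zero
  obtain ⟨φ, hφ, hmem, hφx⟩ := exists_SU_transvection h hu ha
  refine ⟨u, φ, hφ, hu0, fun e => ?_, hmem⟩
  obtain ⟨x, hx⟩ := ((isUnitaryForm_hermForm h).nondegenerate u hu0).1
  have := hφx x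
  rw [e, zero_dotProduct] at this
  exact mul_ne_zero ha0 hx this.symm

theorem transvection_sub_one_sq {ι : Type} [Fintype ι] [DecidableEq ι] {φ u : ι → F} (hφ : φ ⬝ᵥ u = 0) :
    ((transvectionGL φ u hφ : GL ι F) : Matrix ι ι F) - 1 = Matrix.vecMulVec u φ ∧
      Matrix.vecMulVec u φ * Matrix.vecMulVec u φ = 0 := by
  refine ⟨?_, by rw [Matrix.vecMulVec_mul_vecMulVec, hφ, zero_smul, Matrix.vecMulVec_zero]⟩
  show (1 + Matrix.vecMulVec u φ) - 1 = _
  rw [add_sub_cancel_left]

theorem vecMulVec_ne_zero' {ι : Type} [Fintype ι] [DecidableEq ι] {φ u : ι → F} (hu : u ≠ 0) (hφ : φ ≠ 0) :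
    Matrix.vecMulVec u φ ≠ 0 := by
  obtain ⟨i, hi⟩ := Function.ne_iff.1 hu
  obtain ⟨j, hj⟩ := Function.ne_iff.1 hφ
  intro e
  have := congrFun (congrFun e i) j
  rw [Matrix.vecMulVec_apply] at this
  exact mul_ne_zero hi hj this

theorem absIrred_SU [Fintype F] (h : IsQPow σ q) (hF : Fintype.card F = q ^ 2) (hn : n.Prime) :
    ActsAbsolutelyIrreducibly (matrixSet (SUg n F q)) := by
  have hn' : (Fintype.card (Fin n)).Prime := by rwa [Fintype.card_fin]
  rcases commutant_cases hn' (actsIrreducibly_SU h hF hn.two_le) with h' | ⟨hK, hdc⟩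
  · exact h'
  exfalso
  obtain ⟨u, φ, hφ, hu0, hφ0, hmem⟩ := exists_SU_transvection_ne_one h hF hn.two_le
  set K := Subalgebra.centralizer F (matrixSet (SUg n F q))
  have ht : ((transvectionGL φ u hφ : GL (Fin n) F) : Matrix (Fin n) (Fin n) F) ∈ K :=
    hdc _ fun k hk => (Subalgebra.mem_centralizer_iff F).1 hk _ (mem_matrixSet hmem)
  obtain ⟨e1, e2⟩ := transvection_sub_one_sq hφ
  have hM : Matrix.vecMulVec u φ ∈ K := e1 ▸ K.sub_mem ht K.one_mem
  obtain ⟨y, -, hy⟩ := hK.inv _ hM (vecMulVec_ne_zero' hu0 hφ0)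
  apply vecMulVec_ne_zero' hu0 hφ0
  calc Matrix.vecMulVec u φ = Matrix.vecMulVec u φ * (Matrix.vecMulVec u φ * y) := by rw [hy, mul_one]
    _ = 0 := by rw [← mul_assoc, e2, zero_mul]

/-- A transvection normalising a field subalgebra centralises it. -/
theorem commute_of_normalizes {ι : Type} [Fintype ι] [DecidableEq ι] (hn : 3 ≤ Fintype.card ι)
    {K : Subalgebra F (Matrix ι ι F)} {m : ℕ} (hK : IsFieldSubalgebra m K) {φ u : ι → F} {hφ : φ ⬝ᵥ u = 0}
    (ht : transvectionGL φ u hφ ∈ subalgebraNormalizer K) {k : Matrix ι ι F} (hk : k ∈ K) :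
    ((transvectionGL φ u hφ : GL ι F) : Matrix ι ι F) * k = k * (transvectionGL φ u hφ : GL ι F) := by
  classical
  set t := transvectionGL φ u hφ with ht'
  have hD := K.sub_mem ((ht k).1 hk) hk
  by_contra hne
  have hD0 : (t : Matrix ι ι F) * k * ((t⁻¹ : GL ι F) : Matrix ι ι F) - k ≠ 0 := by
    intro e
    rw [sub_eq_zero] at e
    apply hne
    conv_rhs => rw [← e, mul_assoc, ← Units.val_mul, inv_mul_cancel, Units.val_one, mul_one]
  obtain ⟨y, -, hy⟩ := hK.inv _ hD hD0
  have hspan : ∀ v : ι → F,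
      ((t : Matrix ι ι F) * k * ((t⁻¹ : GL ι F) : Matrix ι ι F) - k) *ᵥ v ∈ Submodule.span F ({u, k *ᵥ u} : Set (ι → F)) := by
    intro v
    set w := ((t⁻¹ : GL ι F) : Matrix ι ι F) *ᵥ v with hw
    have hv : v = w + (φ ⬝ᵥ w) • u := by
      rw [← transvectionGL_mulVec φ u hφ, hw, ← ht', inv_mulVec_cancel]
    have : ((t : Matrix ι ι F) * k * ((t⁻¹ : GL ι F) : Matrix ι ι F) - k) *ᵥ v =
        (φ ⬝ᵥ (k *ᵥ w)) • u - (φ ⬝ᵥ w) • (k *ᵥ u) := by
      rw [Matrix.sub_mulVec, ← Matrix.mulVec_mulVec, ← Matrix.mulVec_mulVec, ← hw, ht', transvectionGL_mulVec]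
      conv_lhs => arg 2; rw [hv, Matrix.mulVec_add, Matrix.mulVec_smul]
      abel
    rw [this]
    exact Submodule.sub_mem _ (Submodule.smul_mem _ _ (Submodule.subset_span (by simp)))
      (Submodule.smul_mem _ _ (Submodule.subset_span (by simp)))
  have htop : Submodule.span F ({u, k *ᵥ u} : Set (ι → F)) = ⊤ := Submodule.eq_top_iff'.2 fun v => by
    have := hspan (y *ᵥ v)
    rwa [Matrix.mulVec_mulVec, hy, Matrix.one_mulVec] at this
  have h1 := finrank_span_finset_le_card (R := F) ({u, k *ᵥ u} : Finset (ι → F))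
  have h2 : Finset.card ({u, k *ᵥ u} : Finset (ι → F)) ≤ 2 := Finset.card_le_two
  rw [Finset.coe_pair, Set.finrank, htop, finrank_top, Module.finrank_pi] at h1
  omega

theorem exists_nonscalar {ι : Type} [Fintype ι] [DecidableEq ι] [Nonempty ι] {K : Subalgebra F (Matrix ι ι F)}
    {m : ℕ} (hK : IsFieldSubalgebra m K) (hm : 1 < m) : ∃ k ∈ K, ∀ c : F, k ≠ c • 1 := by
  by_contra! h
  have hbot : K = ⊥ := by
    rw [eq_bot_iff]
    intro k hk
    obtain ⟨c, hc⟩ := h k hk
    exact Algebra.mem_bot.2 ⟨c, by rw [hc, Algebra.algebraMap_eq_smul_one]⟩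
  have := hK.finrank_eq
  rw [hbot, Subalgebra.finrank_bot] at this
  omega

/-- SU is generated enough by transvections: what commutes with all unitary transvections is scalar. -/
theorem scalar_of_commute_transvections [Fintype F] (h : IsQPow σ q) (hF : Fintype.card F = q ^ 2) (hn : 3 ≤ n)
    {k : Matrix (Fin n) (Fin n) F}
    (hk : ∀ (φ u : Fin n → F) (hφ : φ ⬝ᵥ u = 0), transvectionGL φ u hφ ∈ SUg n F q →
      ((transvectionGL φ u hφ : GL (Fin n) F) : Matrix (Fin n) (Fin n) F) * k = k * (transvectionGL φ u hφ : GL (Fin n) F)) :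
    ∃ c : F, k = c • 1 := by
  obtain ⟨a, ha0, ha⟩ := h.exists_trace_zero
  have heig : ∀ u : Fin n → F, Cfsg.hermForm n F q u u = 0 → ∃ b : F, k *ᵥ u = b • u := by
    intro u hu
    by_cases hu0 : u = 0
    · exact ⟨0, by simp [hu0]⟩
    obtain ⟨φ, hφ, hmem, hφx⟩ := exists_SU_transvection h hu ha
    obtain ⟨x, hx⟩ := ((isUnitaryForm_hermForm h).nondegenerate u hu0).1
    have := congrArg (fun A => A *ᵥ x) (hk φ u hφ hmem)
    simp only [← Matrix.mulVec_mulVec, transvectionGL_mulVec, Matrix.mulVec_add, Matrix.mulVec_smul] at this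
    have h0 : φ ⬝ᵥ x ≠ 0 := by rw [hφx]; exact mul_ne_zero ha0 hx
    refine ⟨(φ ⬝ᵥ x)⁻¹ * (φ ⬝ᵥ (k *ᵥ x)), ?_⟩
    rw [mul_smul, add_left_cancel this, smul_smul, inv_mul_cancel₀ h0, one_smul]
  obtain ⟨c, d, hcd, hc, hd⟩ := exists_pair_norms h hF
  -- every coordinate vector is an eigenvector
  have hpair : ∀ i j : Fin n, i ≠ j → ∃ α β : F, k *ᵥ pairVec i j c = α • pairVec i j c ∧
      k *ᵥ pairVec i j d = β • pairVec i j d := fun i j hij =>
    ⟨_, _, (heig _ (by rw [herm_pairVec h hij, hc, add_neg_cancel])).choose_spec,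
      (heig _ (by rw [herm_pairVec h hij, hd, add_neg_cancel])).choose_spec⟩
  have hcol : ∀ i j : Fin n, i ≠ j → ∀ l, l ≠ i → l ≠ j → k l i = 0 := by
    intro i j hij l hli hlj
    obtain ⟨α, β, e1, e2⟩ := hpair i j hij
    have h1 := congrFun e1 l
    have h2 := congrFun e2 l
    simp [pairVec, Matrix.mulVec_add, Matrix.mulVec_single, hli, hlj] at h1 h2
    have h3 : k l j * (c - d) = 0 := by linear_combination h1 - h2
    rw [(mul_eq_zero.1 h3).resolve_right (sub_ne_zero.2 hcd)] at h1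
    linear_combination h1
  have hoff : ∀ i l : Fin n, i ≠ l → k l i = 0 := by
    intro i l hil
    obtain ⟨j, hj⟩ : ∃ j, j ∉ ({i, l} : Finset (Fin n)) := by
      by_contra! hall
      have h1 := Finset.card_le_card (show (Finset.univ : Finset (Fin n)) ⊆ {i, l} from fun x _ => hall x)
      have h2 : Finset.card ({i, l} : Finset (Fin n)) ≤ 2 := Finset.card_le_two
      rw [Finset.card_univ, Fintype.card_fin] at h1
      omega
    simp only [Finset.mem_insert, Finset.mem_singleton, not_or] at hj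
    exact hcol i j (Ne.symm hj.1) l hil.symm (Ne.symm hj.2)
  have hdiag : ∀ i j : Fin n, i ≠ j → k i i = k j j := by
    intro i j hij
    obtain ⟨α, -, e1, -⟩ := hpair i j hij
    have h1 := congrFun e1 i
    have h2 := congrFun e1 j
    simp [pairVec, Matrix.mulVec_add, Matrix.mulVec_single, hij, hij.symm, hoff i j hij, hoff j i hij.symm] at h1 h2
    have hc0 : c ≠ 0 := fun e => by simp [e] at hc
    rw [h1]
    exact mul_right_cancel₀ hc0 (by linear_combination -h2)
  let i₀ : Fin n := ⟨0, by omega⟩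
  refine ⟨k i₀ i₀, Matrix.ext fun i j => ?_⟩
  by_cases hij : i = j
  · subst hij
    by_cases hi : i = i₀
    · simp [hi]
    · simp [hdiag i i₀ hi]
  · simp [hoff j i (Ne.symm hij), hij]

theorem not_SU_le_subalgebraNormalizer [Fintype F] (h : IsQPow σ q) (hF : Fintype.card F = q ^ 2) (hn : 3 ≤ n)
    {K : Subalgebra F (Matrix (Fin n) (Fin n) F)} {m : ℕ} (hK : IsFieldSubalgebra m K) (hm : 1 < m) :
    ¬ SUg n F q ≤ subalgebraNormalizer K := by
  intro hle
  haveI : Nonempty (Fin n) := ⟨⟨0, by omega⟩⟩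
  obtain ⟨k, hk, hns⟩ := exists_nonscalar hK hm
  obtain ⟨c, hc⟩ := scalar_of_commute_transvections h hF hn fun φ u hφ hmem =>
    commute_of_normalizes (by simpa using hn) hK (hle hmem) hk
  exact hns c hc

theorem not_SU_le_decompositionStabilizer [Fintype F] (h : IsQPow σ q) (hF : Fintype.card F = q ^ 2) (hn : 4 ≤ n)
    {D : Fin n → Submodule F (Fin n → F)} (hD : IsNondegenerateMDecomposition (Cfsg.hermForm n F q) 1 D) :
    ¬ SUg n F q ≤ decompositionStabilizer D := by
  intro hle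
  have hf := isUnitaryForm_hermForm (n := n) h
  have hs := isSesqForm_of_unitary hf
  have hbasis : ∀ i, ∃ b ∈ D i, Cfsg.hermForm n F q b b ≠ 0 := by
    intro i
    obtain ⟨⟨b, hb⟩, hb0, hspan⟩ := finrank_eq_one_iff'.1 (hD.decomp.finrank_eq i)
    refine ⟨b, hb, fun h0 => ?_⟩
    obtain ⟨⟨x, hx, hx0⟩, -⟩ := hD.nondegenerate i b hb fun e => hb0 (Subtype.ext e)
    obtain ⟨s, hs'⟩ := hspan ⟨x, hx⟩
    have hx' : s • b = x := congrArg Subtype.val hs'
    rw [← hx', hf.smul_left, h0, mul_zero] at hx0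
    exact hx0 rfl
  choose b hbD hb0 using hbasis
  have horth : ∀ i j, i ≠ j → Cfsg.hermForm n F q (b i) (b j) = 0 := fun i j hij =>
    hD.orthogonal i j hij _ (hbD i) _ (hbD j)
  have hfix : ∀ i, σ (Cfsg.hermForm n F q (b i) (b i)) = Cfsg.hermForm n F q (b i) (b i) := fun i =>
    (hf.herm _ _).symm
  let I : Fin 4 → Fin n := fun k => ⟨k, by omega⟩
  have hI : Function.Injective I := fun k l e => Fin.ext (by simpa [I] using e)
  have hx : ∀ k : Fin 4, ∃ x : F, x ≠ 0 ∧
      x * σ x * Cfsg.hermForm n F q (b (I k)) (b (I k)) = if (k : ℕ) % 2 = 0 then 1 else -1 := by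
    intro k
    obtain ⟨x, hx⟩ := h.exists_norm hF
      (b := (if (k : ℕ) % 2 = 0 then 1 else -1) / Cfsg.hermForm n F q (b (I k)) (b (I k)))
      (by rw [map_div₀, hfix]; split <;> simp)
    refine ⟨x, fun e => ?_, by rw [hx, div_mul_cancel₀ _ (hb0 _)]⟩
    rw [e, zero_mul, eq_comm, div_eq_zero_iff] at hx
    rcases hx with hx | hx
    · split at hx <;> simp at hx
    · exact hb0 _ hx
  choose x hx0 hxn using hx
  set u := ∑ k, x k • b (I k) with hu'
  have hub : ∀ l, Cfsg.hermForm n F q u (b (I l)) = x l * Cfsg.hermForm n F q (b (I l)) (b (I l)) := by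
    intro l
    simp only [hu', Fin.sum_univ_four, hs.add_left, hs.smul_left]
    fin_cases l <;> simp [horth, hI.ne]
  have hu : Cfsg.hermForm n F q u u = 0 := by
    conv_lhs => arg 5; rw [hu']
    simp only [Fin.sum_univ_four, hs.add_right, hs.smul_right, hub]
    have e0 := hxn 0
    have e1 := hxn 1
    have e2 := hxn 2
    have e3 := hxn 3
    simp at e0 e1 e2 e3
    linear_combination e0 + e1 + e2 + e3
  obtain ⟨a, ha0, ha⟩ := h.exists_trace_zero
  obtain ⟨φ, hφ, hmem, hφx⟩ := exists_SU_transvection h hu ha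
  obtain ⟨τ, hτ⟩ := hle hmem
  set v := b (I 0) + (φ ⬝ᵥ b (I 0)) • u with hv
  have hvmem : v ∈ D (τ (I 0)) := by
    rw [← hτ]
    exact ⟨_, hbD _, by rw [Matrix.toLin'_apply, transvectionGL_mulVec]⟩
  have hcoef : φ ⬝ᵥ b (I 0) ≠ 0 := by
    rw [hφx, hf.herm, hub]
    exact mul_ne_zero ha0 fun e => mul_ne_zero (hx0 0) (hb0 (I 0)) (by simpa using e)
  have hne : ∀ l : Fin 4, l ≠ 0 → τ (I 0) = I l := by
    intro l hl
    by_contra hne
    have h0 : Cfsg.hermForm n F q v (b (I l)) = 0 := hD.orthogonal _ _ hne _ hvmem _ (hbD _)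
    rw [hv, hs.add_left, hs.smul_left, horth _ _ (hI.ne hl.symm), zero_add, hub] at h0
    exact mul_ne_zero hcoef (mul_ne_zero (hx0 l) (hb0 _)) h0
  exact absurd (hI ((hne 1 (by decide)).symm.trans (hne 2 (by decide)))) (by decide)

theorem not_SU_le_subgroupNormalizer [Fintype F] [NeZero n] (h : IsQPow σ q) (hF : Fintype.card F = q ^ 2)
    (hn : 4 ≤ n) {N : Subgroup (GL (Fin n) F)} (hN : ScalarComm n N) : ¬ SUg n F q ≤ subgroupNormalizer N := by
  classical
  intro hle
  haveI : Nonempty (Fin n) := ⟨⟨0, by omega⟩⟩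
  obtain ⟨u, φ, hφ, hu0, hφ0, hmem⟩ := exists_SU_transvection_ne_one (n := n) h hF (by omega)
  set t := transvectionGL φ u hφ with ht
  have hcomm : ∀ x ∈ N, t * x = x * t := by
    intro x hx
    set c := x * t * x⁻¹ * t⁻¹ with hc
    have hcN : c ∈ N := by
      have h1 := (Subgroup.mem_normalizer_iff.1 (hle hmem) x⁻¹).1 (N.inv_mem hx)
      simpa [hc, mul_assoc] using N.mul_mem hx h1
    suffices hc1 : c = 1 by
      rw [hc, mul_inv_eq_one, mul_inv_eq_iff_eq_mul] at hc1
      exact hc1.symm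
    -- two independent fixed vectors
    let L : (Fin n → F) →ₗ[F] F × F :=
      LinearMap.prod
        { toFun := fun w => φ ⬝ᵥ w, map_add' := dotProduct_add φ, map_smul' := fun a w => dotProduct_smul a φ w }
        { toFun := fun w => φ ⬝ᵥ (((x⁻¹ : GL (Fin n) F) : Matrix (Fin n) (Fin n) F) *ᵥ w)
          map_add' := fun a b => by rw [Matrix.mulVec_add, dotProduct_add]
          map_smul' := fun a w => by rw [Matrix.mulVec_smul, dotProduct_smul, RingHom.id_apply] }
    have hfix : ∀ w ∈ LinearMap.ker L, (c : Matrix (Fin n) (Fin n) F) *ᵥ w = w := by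
      intro w hw
      rw [LinearMap.mem_ker] at hw
      have h1 : φ ⬝ᵥ w = 0 := congrArg Prod.fst hw
      have h2 : φ ⬝ᵥ (((x⁻¹ : GL (Fin n) F) : Matrix (Fin n) (Fin n) F) *ᵥ w) = 0 := congrArg Prod.snd hw
      have ht1 : ((t⁻¹ : GL (Fin n) F) : Matrix (Fin n) (Fin n) F) *ᵥ w = w := by
        conv_lhs => rw [show w = (t : Matrix (Fin n) (Fin n) F) *ᵥ w by rw [ht, transvectionGL_mulVec, h1, zero_smul, add_zero]]
        rw [mulVec_inv_cancel]
      rw [hc, Units.val_mul, Units.val_mul, Units.val_mul, ← Matrix.mulVec_mulVec, ht1, ← Matrix.mulVec_mulVec,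
        ← Matrix.mulVec_mulVec, ht, transvectionGL_mulVec, h2, zero_smul, add_zero, inv_mulVec_cancel]
    have hdim : 2 ≤ Module.finrank F (LinearMap.ker L) := by
      have h1 := LinearMap.finrank_range_add_finrank_ker L
      have h2 := Submodule.finrank_le (LinearMap.range L)
      rw [Module.finrank_prod, Module.finrank_self] at h2
      rw [Module.finrank_pi, Fintype.card_fin] at h1
      omega
    by_cases hs : c ∈ scalars (Fin n) F
    · obtain ⟨s, hs'⟩ := (mem_scalars_iff c).1 hs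
      obtain ⟨w, hw, hw0⟩ := Submodule.exists_mem_ne_zero_of_ne_bot (p := LinearMap.ker L)
        (fun e => by rw [e, finrank_bot] at hdim; omega)
      have := hfix w hw
      rw [hs', Matrix.smul_mulVec, Matrix.one_mulVec] at this
      have : (s : F) = 1 := smul_left_injective F hw0 (this.trans (one_smul F w).symm)
      exact Units.ext (by rw [hs', this, one_smul, Units.val_one])
    · exfalso
      obtain ⟨m, hm, hmc⟩ : ∃ m ∈ N, c * m ≠ m * c := by
        by_contra! hall
        exact hs (mem_scalars_of_commute hN.absIrred hall)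
      obtain ⟨ν, hν, hνr⟩ := exists_conj hN hcN hm
      have hν1 : ν ≠ 1 := by
        rintro rfl
        exact hmc (Units.ext (show (c : Matrix (Fin n) (Fin n) F) * (m : Matrix (Fin n) (Fin n) F) =
          (m : Matrix (Fin n) (Fin n) F) * (c : Matrix (Fin n) (Fin n) F) by rw [hν, one_smul]))
      have p1 : FramePair n N ν c m := ⟨hcN, hm, isPrimitiveRoot_of_ne_one hN.prime hνr hν1, hν⟩
      obtain ⟨B, hB, -⟩ := exists_frame hN p1
      have hline : LinearMap.ker L ≤ Submodule.span F {(B : Matrix (Fin n) (Fin n) F) *ᵥ Pi.single 0 1} := by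
        intro w hw
        set z := ((B⁻¹ : GL (Fin n) F) : Matrix (Fin n) (Fin n) F) *ᵥ w with hz
        have hwz : w = (B : Matrix (Fin n) (Fin n) F) *ᵥ z := (inv_mulVec_cancel B w).symm
        have h1 : frameX n ν *ᵥ z = z := by
          have := hfix w hw
          rw [hwz, Matrix.mulVec_mulVec, hB, ← Matrix.mulVec_mulVec] at this
          have := congrArg (fun v => ((B⁻¹ : GL (Fin n) F) : Matrix (Fin n) (Fin n) F) *ᵥ v) this
          simp only [mulVec_inv_cancel] at this
          exact this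
        have hz0 : ∀ i, i ≠ 0 → z i = 0 := by
          intro i hi
          have h2 := congrFun h1 i
          rw [frameX, Matrix.mulVec_diagonal] at h2
          by_contra hzi
          have h3 : ν⁻¹ ^ (i : ℕ) = 1 := mul_right_cancel₀ hzi (h2.trans (one_mul _).symm)
          exact hi (Fin.ext (p1.root.inv.pow_inj i.2 (NeZero.pos n) (by rw [h3, Fin.val_zero, pow_zero])))
        refine Submodule.mem_span_singleton.2 ⟨z 0, ?_⟩
        rw [hwz, ← Matrix.mulVec_smul]
        congr 1
        funext i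
        by_cases hi : i = 0
        · simp [hi]
        · simp [hi, hz0 i hi]
      have := (Submodule.finrank_mono hline).trans (finrank_span_le_card _)
      simp at this
      omega
  obtain ⟨s, hs⟩ := (mem_scalars_iff t).1 (mem_scalars_of_commute hN.absIrred hcomm)
  obtain ⟨e1, e2⟩ := transvection_sub_one_sq hφ
  rw [← ht, hs] at e1
  have hE : Matrix.vecMulVec u φ = ((s : F) - 1) • (1 : Matrix (Fin n) (Fin n) F) := by rw [← e1, sub_smul, one_smul]
  have h0 := e2
  rw [hE, Matrix.smul_mul, one_mul, smul_smul, smul_eq_zero] at h0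
  rcases h0 with h0 | h0
  · exact vecMulVec_ne_zero' hu0 hφ0 (by rw [hE, (mul_self_eq_zero.1 h0), zero_smul])
  · exact one_ne_zero h0

end CfsgLib.Geo.Asch
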