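/-
Adjoints for the standard hermitian form: adjoint-closed fields and the systems of imprimitivity of unitary groups.
-/
import Cfsg.Agent.Lib.Geo.Asch.Clifford
import Cfsg.Agent.Lib.Geo.Asch.FieldSub
import Cfsg.Agent.Lib.Geo.Asch.SUTools

set_option autoImplicit false

namespace CfsgLib.Geo.Asch

open Matrix Cfsg.Geo

variable {F : Type*} [Field F] {σ : F ≃+* F} {q n : ℕ}

/-- The conjugate transpose. -/
def adj (σ : F ≃+* F) (X : Matrix (Fin n) (Fin n) F) : Matrix (Fin n) (Fin n) F := (X.map σ)ᵀ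

theorem adj_mul (X Y : Matrix (Fin n) (Fin n) F) : adj σ (X * Y) = adj σ Y * adj σ X := by
  rw [adj, Matrix.map_mul, Matrix.transpose_mul]; rfl

theorem adj_one : adj σ (1 : Matrix (Fin n) (Fin n) F) = 1 := by
  rw [adj, Matrix.map_one _ (map_zero σ) (map_one σ), Matrix.transpose_one]

theorem adj_add (X Y : Matrix (Fin n) (Fin n) F) : adj σ (X + Y) = adj σ X + adj σ Y := by
  ext i j
  simp [adj]

theorem adj_smul (c : F) (X : Matrix (Fin n) (Fin n) F) : adj σ (c • X) = σ c • adj σ X := by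
  ext i j
  simp [adj]

theorem adj_adj (hq : IsQPow σ q) (X : Matrix (Fin n) (Fin n) F) : adj σ (adj σ X) = X := by
  ext i j
  simp [adj, hq.involutive]

theorem adj_pow (X : Matrix (Fin n) (Fin n) F) (k : ℕ) : adj σ (X ^ k) = adj σ X ^ k := by
  induction k with
  | zero => simp [adj_one]
  | succ k ih => rw [pow_succ, adj_mul, ih, ← pow_succ']

theorem herm_adj (hq : IsQPow σ q) (X : Matrix (Fin n) (Fin n) F) (u v : Fin n → F) :
    Cfsg.hermForm n F q (X *ᵥ u) v = Cfsg.hermForm n F q u (adj σ X *ᵥ v) := by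
  simp only [hermForm_eq hq, adj, Matrix.mulVec, dotProduct, Matrix.transpose_apply, Matrix.map_apply, map_sum,
    map_mul, hq.involutive, Finset.mul_sum, Finset.sum_mul]
  rw [Finset.sum_comm]
  exact Finset.sum_congr rfl fun a _ => Finset.sum_congr rfl fun b _ => by ring

theorem adj_gu (hq : IsQPow σ q) {g : GL (Fin n) F} (hg : g ∈ Cfsg.GU n F q) :
    adj σ (g : Matrix (Fin n) (Fin n) F) = ((g⁻¹ : GL (Fin n) F) : Matrix (Fin n) (Fin n) F) := by
  have hf := isUnitaryForm_hermForm (n := n) hq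
  have hs := isSesqForm_of_unitary hf
  refine Matrix.toLin'.injective (LinearMap.ext fun v => ?_)
  rw [Matrix.toLin'_apply, Matrix.toLin'_apply]
  by_contra hne
  obtain ⟨x, hx⟩ := (hf.nondegenerate _ (sub_ne_zero.2 hne)).1
  refine hx ?_
  rw [sub_eq_add_neg, ← neg_one_smul F (((g⁻¹ : GL (Fin n) F) : Matrix (Fin n) (Fin n) F) *ᵥ v), hs.add_right,
    hs.smul_right, ← herm_adj hq]
  have e : Cfsg.hermForm n F q ((g : Matrix (Fin n) (Fin n) F) *ᵥ x) v =
      Cfsg.hermForm n F q x (((g⁻¹ : GL (Fin n) F) : Matrix (Fin n) (Fin n) F) *ᵥ v) := by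
    conv_lhs => rw [← inv_mulVec_cancel g v]
    exact hg x _
  rw [e]
  simp

theorem adj_mem_comm (hq : IsQPow σ q) {N : Subgroup (GL (Fin n) F)} (hN : N ≤ Cfsg.GU n F q)
    {X : Matrix (Fin n) (Fin n) F} (hX : X ∈ comm N) : adj σ X ∈ comm N := by
  rw [Subalgebra.mem_centralizer_iff] at hX ⊢
  rintro _ ⟨g, hg, rfl⟩
  have h1 := congrArg (adj σ) (hX _ (mem_matrixSet (N.inv_mem hg)))
  rw [adj_mul, adj_mul, adj_gu hq (hN (N.inv_mem hg)), inv_inv] at h1
  exact h1.symm

theorem adj_mem_centreComm (hq : IsQPow σ q) {N : Subgroup (GL (Fin n) F)} (hN : N ≤ Cfsg.GU n F q)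
    {X : Matrix (Fin n) (Fin n) F} (hX : X ∈ centreComm N) : adj σ X ∈ centreComm N := by
  refine ⟨adj_mem_comm hq hN hX.1, (Subalgebra.mem_centralizer_iff F).2 fun c hc => ?_⟩
  have h1 := congrArg (adj σ) ((Subalgebra.mem_centralizer_iff F).1 hX.2 _ (adj_mem_comm hq hN hc))
  rw [adj_mul, adj_mul, adj_adj hq] at h1
  exact h1.symm

theorem isAdjointClosedFor_of_adj (hq : IsQPow σ q) {K : Subalgebra F (Matrix (Fin n) (Fin n) F)}
    (h : ∀ k ∈ K, adj σ k ∈ K) : IsAdjointClosedFor (Cfsg.hermForm n F q) K :=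
  fun k hk => ⟨adj σ k, h k hk, herm_adj hq k⟩

/-- The left orthogonal of a subspace. -/
def orthLeft' {ι : Type} {f : (ι → F) → (ι → F) → F} (hadd : ∀ x y v, f (x + y) v = f x v + f y v)
    (hsmul : ∀ (c : F) (x v : ι → F), f (c • x) v = c * f x v) (W : Submodule F (ι → F)) : Submodule F (ι → F) where
  carrier := {x | ∀ w ∈ W, f x w = 0}
  add_mem' {a b} ha hb w hw := by rw [hadd, ha w hw, hb w hw, add_zero]
  zero_mem' w _ := by simpa using hsmul 0 0 w
  smul_mem' c x hx w hw := by rw [hsmul, hx w hw, mul_zero]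

variable [Fintype F]

/-- An adjoint-closed field subalgebra has odd degree. -/
theorem odd_of_adjointClosed (hq : IsQPow σ q) (hF : Fintype.card F = q ^ 2) [Nonempty (Fin n)] {e : ℕ}
    {K : Subalgebra F (Matrix (Fin n) (Fin n) F)} (hK : IsFieldSubalgebra e K) (hadj : ∀ k ∈ K, adj σ k ∈ K) :
    Odd e := by
  classical
  have hKf : IsField K :=
    { exists_pair_ne := ⟨0, 1, fun h => zero_ne_one (congrArg Subtype.val h)⟩
      mul_comm := fun a b => Subtype.ext (hK.comm _ a.2 _ b.2)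
      mul_inv_cancel := fun {a} ha => by
        obtain ⟨y, hy, hy'⟩ := hK.inv a a.2 fun h => ha (Subtype.ext h)
        exact ⟨⟨y, hy⟩, Subtype.ext hy'⟩ }
  letI : Field K := hKf.toField
  haveI : Finite K := inferInstance
  obtain ⟨p, hp⟩ := CharP.exists F
  haveI : Fact p.Prime := ⟨CharP.char_is_prime F p⟩
  haveI : CharP (Matrix (Fin n) (Fin n) F) p := Matrix.charP p
  haveI : CharP K p := (Algebra.charP_iff F K p).1 hp
  obtain ⟨f, -, hf⟩ := FiniteField.card F p
  obtain ⟨a, -, ha⟩ := (Nat.dvd_prime_pow Fact.out).1 (show q ∣ p ^ (f : ℕ) by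
    rw [← hf, hF]; exact dvd_pow_self q two_ne_zero)
  -- conjugation followed by the q-th power fixes the scalars
  let ψ : K →ₐ[F] K :=
    { toFun := fun x => (⟨adj σ x.1, hadj _ x.2⟩ : K) ^ q
      map_one' := by
        rw [show (⟨adj σ ((1 : K) : Matrix (Fin n) (Fin n) F), hadj _ (1 : K).2⟩ : K) = 1 from Subtype.ext adj_one,
          one_pow]
      map_mul' := fun x y => by
        rw [show (⟨adj σ ((x * y : K) : Matrix (Fin n) (Fin n) F), hadj _ (x * y).2⟩ : K) =
          ⟨adj σ y.1, hadj _ y.2⟩ * ⟨adj σ x.1, hadj _ x.2⟩ from Subtype.ext (adj_mul _ _), mul_pow, mul_comm]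
      map_zero' := by
        rw [show (⟨adj σ ((0 : K) : Matrix (Fin n) (Fin n) F), hadj _ (0 : K).2⟩ : K) = 0 from Subtype.ext (by
          ext i j; simp [adj]), zero_pow]
        have := IsQPow.one_lt hF; omega
      map_add' := fun x y => by
        rw [show (⟨adj σ ((x + y : K) : Matrix (Fin n) (Fin n) F), hadj _ (x + y).2⟩ : K) =
          ⟨adj σ x.1, hadj _ x.2⟩ + ⟨adj σ y.1, hadj _ y.2⟩ from Subtype.ext (adj_add _ _), ha, add_pow_char_pow]
      commutes' := fun c => by
        refine Subtype.ext ?_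
        show adj σ (algebraMap F (Matrix (Fin n) (Fin n) F) c) ^ q = algebraMap F (Matrix (Fin n) (Fin n) F) c
        rw [Algebra.algebraMap_eq_smul_one, adj_smul, adj_one, smul_pow, one_pow, ← hq.eq_pow, hq.involutive] }
  obtain ⟨i, hi⟩ := (FiniteField.bijective_frobeniusAlgEquivOfAlgebraic_pow F K).2
    (AlgEquiv.ofBijective ψ ⟨ψ.toRingHom.injective, Finite.injective_iff_surjective.1 ψ.toRingHom.injective⟩)
  have hψ : ∀ x, ψ x = x ^ Fintype.card F ^ (i : ℕ) := fun x => by
    have h1 := AlgEquiv.congr_fun hi x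
    simp only [AlgEquiv.coe_pow, FiniteField.coe_frobeniusAlgEquivOfAlgebraic_iterate] at h1
    exact h1.symm
  generalize (i : ℕ) = j at hψ
  -- twice
  have hpow : ∀ x : K, x ^ (Fintype.card F) ^ (2 * j) = x ^ Fintype.card F := by
    intro x
    have h1 : ψ (ψ x) = x ^ q ^ 2 := by
      refine Subtype.ext ?_
      show adj σ ((adj σ x.1) ^ q) ^ q = (x.1 : Matrix (Fin n) (Fin n) F) ^ q ^ 2
      rw [adj_pow, adj_adj hq, ← pow_mul, pow_two]
    rw [hψ, hψ, ← pow_mul, ← pow_add, ← two_mul, ← hF] at h1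
    exact h1
  have hmax := FiniteField.orderOf_frobeniusAlgEquivOfAlgebraic F K
  have hdvd : orderOf (FiniteField.frobeniusAlgEquivOfAlgebraic F K) ∣ 2 * j + (Module.finrank F K - 1) := by
    rw [orderOf_dvd_iff_pow_eq_one]
    refine AlgEquiv.ext fun x => ?_
    simp only [AlgEquiv.coe_pow, FiniteField.coe_frobeniusAlgEquivOfAlgebraic_iterate, AlgEquiv.one_apply]
    rw [pow_add, pow_mul, hpow, ← pow_mul, ← pow_succ']
    have hfr : Module.finrank F K - 1 + 1 = Module.finrank F K :=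
      Nat.sub_add_cancel Module.finrank_pos
    haveI := Fintype.ofFinite K
    rw [hfr, ← Nat.card_eq_fintype_card, ← Module.natCard_eq_pow_finrank, Nat.card_eq_fintype_card,
      FiniteField.pow_card]
  rcases Nat.even_or_odd e with ⟨k, hk⟩ | he
  swap
  · exact he
  exfalso
  rw [hmax, hK.finrank_eq] at hdvd
  obtain ⟨c, hc⟩ := hdvd
  have he0 : 0 < e := hK.finrank_eq ▸ Module.finrank_pos
  rw [hk] at hc
  have : (k + k) * c % 2 = 0 := by
    rw [← two_mul, mul_assoc]
    exact Nat.mul_mod_right 2 _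
  omega

/-- An adjoint-closed field subalgebra contains one of odd prime degree. -/
theorem exists_adjoint_prime_subalgebra (hq : IsQPow σ q) (hF : Fintype.card F = q ^ 2) [Nonempty (Fin n)] {e : ℕ}
    {K : Subalgebra F (Matrix (Fin n) (Fin n) F)} (hK : IsFieldSubalgebra e K) (hadj : ∀ k ∈ K, adj σ k ∈ K)
    (he : e ≠ 1) :
    ∃ (r : ℕ) (L : Subalgebra F (Matrix (Fin n) (Fin n) F)), r.Prime ∧ Odd r ∧ IsFieldSubalgebra r L ∧
      IsAdjointClosedFor (Cfsg.hermForm n F q) L ∧ subalgebraNormalizer K ≤ subalgebraNormalizer L := by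
  obtain ⟨r, L, hr, hre, -, hL, hnorm, hmem⟩ := exists_prime_subalgebra' hK he
  refine ⟨r, L, hr, (odd_of_adjointClosed hq hF hK hadj).of_dvd_nat hre, hL, isAdjointClosedFor_of_adj hq fun k hk => ?_,
    hnorm⟩
  obtain ⟨hkK, hkQ⟩ := (hmem k).1 hk
  exact (hmem _).2 ⟨hadj k hkK, by rw [← adj_pow, hkQ]⟩

omit [Fintype F] in
/-- The projection to a member of a decomposition commutes with what preserves all members. -/
theorem projection_commute {ι : Type} [Fintype ι] [DecidableEq ι] {t m : ℕ} {D : Fin t → Submodule F (ι → F)}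
    (hD : IsMDecomposition m D) (j : Fin t) :
    ∃ p : Matrix ι ι F, (∀ v ∈ D j, p *ᵥ v = v) ∧ (∀ i, i ≠ j → ∀ v ∈ D i, p *ᵥ v = 0) ∧
      ∀ X : Matrix ι ι F, (∀ i, ∀ v ∈ D i, X *ᵥ v ∈ D i) → X * p = p * X := by
  classical
  have hc : IsCompl (D j) (⨆ k, ⨆ (_ : k ≠ j), D k) := by
    refine ⟨hD.indep j, codisjoint_iff.2 (eq_top_iff.2 (hD.iSup_eq_top ▸ iSup_le fun k => ?_))⟩
    by_cases hk : k = j
    · exact hk ▸ le_sup_left
    · exact le_sup_of_le_right (le_iSup₂_of_le k hk le_rfl)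
  refine ⟨LinearMap.toMatrix' ((D j).projection _ hc), fun v hv => ?_, fun i hi v hv => ?_, fun X hX => ?_⟩
  · rw [← Matrix.toLin'_apply, Matrix.toLin'_toMatrix']
    exact Submodule.projection_apply_of_mem_left hc hv
  · rw [← Matrix.toLin'_apply, Matrix.toLin'_toMatrix']
    exact Submodule.projection_apply_right hc ⟨v, le_iSup₂_of_le (f := fun k (_ : k ≠ j) => D k) i hi le_rfl hv⟩
  refine Matrix.toLin'.injective (LinearMap.ext fun v => ?_)
  simp only [Matrix.toLin'_mul, Matrix.toLin'_toMatrix', LinearMap.comp_apply, Matrix.toLin'_apply]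
  set a := (D j).projection _ hc v with ha
  have h1 : X *ᵥ a ∈ D j := hX j _ (Submodule.projection_apply_mem hc v)
  have hle : (⨆ k, ⨆ (_ : k ≠ j), D k).map (Matrix.toLin' X) ≤ ⨆ k, ⨆ (_ : k ≠ j), D k := by
    simp only [Submodule.map_iSup]
    refine iSup₂_le fun k hk => le_iSup₂_of_le k hk ?_
    rintro _ ⟨x, hx, rfl⟩
    exact hX k x hx
  have h2 : X *ᵥ (v - a) ∈ ⨆ k, ⨆ (_ : k ≠ j), D k :=
    hle ⟨v - a, Submodule.sub_projection_mem hc v, Matrix.toLin'_apply _ _⟩
  conv_rhs => rw [show v = a + (v - a) by abel, Matrix.mulVec_add, map_add,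
    Submodule.projection_apply_of_mem_left hc h1,
    show (D j).projection _ hc (X *ᵥ (v - a)) = 0 from Submodule.projection_apply_right hc ⟨_, h2⟩, add_zero]

omit [Fintype F] in
/-- The homogeneous components of a normal subgroup of a unitary group are orthogonal or pair off. -/
theorem herm_decomposition (hq : IsQPow σ q) {H N : Subgroup (GL (Fin n) F)} (hHU : H ≤ Cfsg.GU n F q)
    (hNH : N ≤ H) {t m : ℕ} {D : Fin t → Submodule F (Fin n → F)} (hD : IsMDecomposition m D)
    (hHD : H ≤ decompositionStabilizer D) (hst : ∀ i, Stable (NC N) (D i))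
    (hmin : ∀ i, ∀ U, U ≤ D i → Stable (NC N) U → U = ⊥ ∨ U = D i)
    (htr : ∀ i j, ∃ h ∈ H, (D i).map (linEquiv h : (Fin n → F) →ₗ[F] (Fin n → F)) = D j) :
    IsNondegenerateMDecomposition (Cfsg.hermForm n F q) m D ∨
    (t = 2 ∧ ∀ i, IsTotallySingularFor (Cfsg.hermForm n F q) (D i)) ∨
    (∃ (t' : ℕ) (E : Fin t' → Submodule F (Fin n → F)), 2 * t' = t ∧
      IsNondegenerateMDecomposition (Cfsg.hermForm n F q) (2 * m) E ∧ H ≤ decompositionStabilizer E) := by
  classical
  have hf := isUnitaryForm_hermForm (n := n) hq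
  have hs := isSesqForm_of_unitary hf
  set f := Cfsg.hermForm n F q with hf'
  have hne : ∀ i, D i ≠ ⊥ := fun i h => hD.pos.ne' (by rw [← hD.finrank_eq i, h, finrank_bot])
  have hDinj : Function.Injective D := hD.indep.injective hne
  have hNU : N ≤ Cfsg.GU n F q := hNH.trans hHU
  choose p hp1 hp0 hpc using fun j => projection_commute hD j
  have hpC : ∀ j, p j ∈ centreComm N := by
    have hcomm : ∀ j, p j ∈ comm N := fun j => (Subalgebra.mem_centralizer_iff F).2 fun s hs' =>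
      hpc j s fun i v hv => hst i s (Or.inl hs') v hv
    exact fun j => ⟨hcomm j, (Subalgebra.mem_centralizer_iff F).2 fun c hc =>
      hpc j c fun i v hv => hst i c (Or.inr hc) v hv⟩
  have hsum : ∀ (v x : Fin n → F), (∀ i, ∀ w ∈ D i, f v w = 0) → f v x = 0 := by
    intro v x hall
    have hx : x ∈ iSup D := hD.iSup_eq_top.symm ▸ Submodule.mem_top
    induction hx using Submodule.iSup_induction' with
    | mem j w hw => exact hall j w hw
    | zero => exact hs.map_zero_right _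
    | add y z _ _ hy hz => rw [hs.add_right, hy, hz, add_zero]
  -- a member is orthogonal to another or paired faithfully with it
  have hdich : ∀ i j, (∀ u ∈ D i, ∀ w ∈ D j, f u w = 0) ∨ (∀ u ∈ D i, u ≠ 0 → ∃ w ∈ D j, f u w ≠ 0) := by
    intro i j
    let R : Submodule F (Fin n → F) := D i ⊓ orthLeft' (f := f) hs.add_left hs.smul_left (D j)
    have hRs : Stable (NC N) R := by
      intro s hs' u hu
      refine ⟨hst i s hs' u hu.1, fun w hw => ?_⟩
      rw [hf', herm_adj hq]
      refine hu.2 _ ?_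
      rcases hs' with ⟨g, hg, rfl⟩ | hc
      · rw [adj_gu hq (hNU hg)]
        exact hst j _ (Or.inl (mem_matrixSet (N.inv_mem hg))) w hw
      · exact hst j _ (Or.inr (adj_mem_comm hq hNU hc)) w hw
    rcases hmin i R inf_le_left hRs with h | h
    · refine Or.inr fun u hu hu0 => ?_
      by_contra! hall
      exact hu0 ((Submodule.eq_bot_iff _).1 h u ⟨hu, hall⟩)
    · exact Or.inl fun u hu w hw => (h.ge hu).2 w hw
  have hex : ∀ i, ∃ j, ∀ u ∈ D i, u ≠ 0 → ∃ w ∈ D j, f u w ≠ 0 := by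
    intro i
    obtain ⟨u, hu, hu0⟩ := Submodule.exists_mem_ne_zero_of_ne_bot (hne i)
    by_contra! hall
    obtain ⟨x, hx⟩ := (hf.nondegenerate u hu0).2
    refine hx (hsum u x fun j w hw => ?_)
    rcases hdich i j with h | h
    · exact h u hu w hw
    · obtain ⟨a, ha, ha0, hz⟩ := hall j
      obtain ⟨b, hb, hb0⟩ := h a ha ha0
      exact absurd (hz b hb) hb0
  choose τ hτ using hex
  have huniq : ∀ i j, j ≠ τ i → ∀ u ∈ D i, ∀ w ∈ D j, f u w = 0 := by
    intro i j hj
    rcases hdich i j with h | h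
    · exact h
    exfalso
    set a := adj σ (p (τ i))
    have haC := adj_mem_centreComm hq hNU (hpC (τ i))
    obtain ⟨u, hu, hu0⟩ := Submodule.exists_mem_ne_zero_of_ne_bot (hne i)
    have hau : ∀ v ∈ D i, a *ᵥ v ∈ D i := fun v hv => hst i a (Or.inr haC.1) v hv
    let U : Submodule F (Fin n → F) := D i ⊓ LinearMap.ker (Matrix.toLin' a)
    have hUs : Stable (NC N) U := by
      intro s hs' v hv
      refine ⟨hst i s hs' v hv.1, ?_⟩
      have hcom : a * s = s * a := by
        rcases hs' with hg | hc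
        · exact ((Subalgebra.mem_centralizer_iff F).1 haC.1 s hg).symm
        · exact ((Subalgebra.mem_centralizer_iff F).1 haC.2 s hc).symm
      show Matrix.toLin' a (s *ᵥ v) = 0
      rw [Matrix.toLin'_apply, Matrix.mulVec_mulVec, hcom, ← Matrix.mulVec_mulVec]
      have : a *ᵥ v = 0 := by simpa [← Matrix.toLin'_apply] using hv.2
      rw [this, Matrix.mulVec_zero]
    have key : ∀ v w, f (a *ᵥ v) w = f v (p (τ i) *ᵥ w) := fun v w => by
      rw [hf', herm_adj hq, adj_adj hq]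
    rcases hmin i U inf_le_left hUs with hU | hU
    · obtain ⟨w, hw, hw0⟩ := h (a *ᵥ u) (hau u hu) fun h0 => hu0 ((Submodule.eq_bot_iff _).1 hU u
        ⟨hu, by simpa [← Matrix.toLin'_apply] using h0⟩)
      rw [key, hp0 (τ i) j hj w hw, hs.map_zero_right] at hw0
      exact hw0 rfl
    · obtain ⟨w, hw, hw0⟩ := hτ i u hu hu0
      have h0 : a *ᵥ u = 0 := by simpa [← Matrix.toLin'_apply] using (hU.ge hu).2
      have := key u w
      rw [h0, hs.map_zero_left, hp1 (τ i) w hw] at this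
      exact hw0 this.symm
  have hττ : ∀ i, τ (τ i) = i := by
    intro i
    obtain ⟨u, hu, hu0⟩ := Submodule.exists_mem_ne_zero_of_ne_bot (hne i)
    obtain ⟨w, hw, hw0⟩ := hτ i u hu hu0
    by_contra hne'
    exact hw0 (by rw [hf.herm, huniq (τ i) i (Ne.symm hne') w hw u hu, map_zero])
  have hequiv : ∀ h ∈ H, ∃ π : Equiv.Perm (Fin t), (∀ i, (D i).map (Matrix.toLin' (h : Matrix (Fin n) (Fin n) F)) = D (π i)) ∧
      ∀ i, τ (π i) = π (τ i) := by
    intro h hh
    obtain ⟨π, hπ⟩ := hHD hh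
    refine ⟨π, hπ, fun i => ?_⟩
    obtain ⟨u, hu, hu0⟩ := Submodule.exists_mem_ne_zero_of_ne_bot (hne i)
    obtain ⟨w, hw, hw0⟩ := hτ i u hu hu0
    by_contra hne'
    refine hw0 ?_
    refine (hHU hh u w).symm.trans ?_
    exact huniq (π i) (π (τ i)) (fun e => hne' e.symm) _ (hπ i ▸ ⟨u, hu, Matrix.toLin'_apply _ _⟩) _
      (hπ (τ i) ▸ ⟨w, hw, Matrix.toLin'_apply _ _⟩)
  by_cases hfix : ∀ i, τ i = i
  · left
    refine ⟨hD, fun i w hw hw0 => ?_, fun i j hij => huniq i j (by rw [hfix i]; exact hij.symm)⟩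
    obtain ⟨x, hx, hx0⟩ := hτ i w hw hw0
    rw [hfix i] at hx
    exact ⟨⟨x, hx, fun e => hx0 (by rw [hf.herm, e, map_zero])⟩, ⟨x, hx, hx0⟩⟩
  right
  have hmove : ∀ i, τ i ≠ i := by
    push Not at hfix
    obtain ⟨i₀, hi₀⟩ := hfix
    intro i hi
    obtain ⟨h, hh, hmap⟩ := htr i i₀
    obtain ⟨π, hπ, heq⟩ := hequiv h hh
    obtain rfl : π i = i₀ := hDinj ((hπ i).symm.trans hmap)
    exact hi₀ (by rw [heq, hi])
  have hts : ∀ i, IsTotallySingularFor f (D i) := fun i => huniq i i (Ne.symm (hmove i))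
  by_cases ht : t = 2
  · exact Or.inl ⟨ht, hts⟩
  right
  let R := {i : Fin t // i < τ i}
  have hrep : ∀ i, ∃ r : R, i = r.1 ∨ i = τ r.1 := fun i => by
    rcases lt_or_gt_of_ne (hmove i) with h | h
    · exact ⟨⟨τ i, by rw [hττ]; exact h⟩, Or.inr (hττ i).symm⟩
    · exact ⟨⟨i, h⟩, Or.inl rfl⟩
  have hdis : ∀ r r' : R, r.1 ≠ τ r'.1 := fun r r' e => by
    have h1 := r.2
    rw [e, hττ] at h1
    exact lt_asymm h1 r'.2
  have hcardR : 2 * Fintype.card R = t := by
    let e : R ⊕ R → Fin t := Sum.elim (fun r => r.1) (fun r => τ r.1)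
    have hb : Function.Bijective e := by
      refine ⟨?_, fun i => ?_⟩
      · rintro (r | r) (r' | r') h
        · exact congrArg Sum.inl (Subtype.ext h)
        · exact absurd h (hdis r r')
        · exact absurd h.symm (hdis r' r)
        · exact congrArg Sum.inr (Subtype.ext (by simpa [e, hττ] using congrArg τ h))
      · obtain ⟨r, h | h⟩ := hrep i
        · exact ⟨Sum.inl r, h.symm⟩
        · exact ⟨Sum.inr r, h.symm⟩
    have := Fintype.card_congr (Equiv.ofBijective e hb)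
    rw [Fintype.card_sum, Fintype.card_fin] at this
    omega
  let enum := (Fintype.equivFin R).symm
  let E : Fin (Fintype.card R) → Submodule F (Fin n → F) := fun k => D (enum k).1 ⊔ D (τ (enum k).1)
  have hmemE : ∀ i k, (i = (enum k).1 ∨ i = τ (enum k).1) → D i ≤ E k := by
    rintro i k (rfl | rfl)
    exacts [le_sup_left, le_sup_right]
  have hcov : ∀ i, ∃ k, i = (enum k).1 ∨ i = τ (enum k).1 := fun i => by
    obtain ⟨r, h⟩ := hrep i
    exact ⟨enum.symm r, by simpa using h⟩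
  have horth : ∀ k l, k ≠ l → AreOrthogonalFor f (E k) (E l) := by
    intro k l hkl u hu v hv
    have hne' : (enum k).1 ≠ (enum l).1 := fun e => hkl (enum.injective (Subtype.ext e))
    obtain ⟨a, ha, b, hb, rfl⟩ := Submodule.mem_sup.1 hu
    obtain ⟨c, hc, d, hd, rfl⟩ := Submodule.mem_sup.1 hv
    rw [hs.add_left, hs.add_right, hs.add_right,
      huniq _ _ (fun e => hdis (enum l) (enum k) e) a ha c hc,
      huniq (enum k).1 (τ (enum l).1) (fun e => hne' (show (enum k).1 = (enum l).1 by simpa [hττ] using (congrArg τ e).symm)) a ha d hd,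
      huniq _ _ (by rw [hττ]; exact hne'.symm) b hb c hc,
      huniq _ _ (by rw [hττ]; exact fun e => hdis (enum k) (enum l) e.symm) b hb d hd]
    simp
  have hnd : ∀ k, IsNondegenerateOn f (E k) := by
    intro k w hw hw0
    obtain ⟨a, ha, b, hb, rfl⟩ := Submodule.mem_sup.1 hw
    have : ∃ x ∈ E k, f (a + b) x ≠ 0 := by
      by_cases ha0 : a = 0
      · subst ha0
        rw [zero_add] at hw0 ⊢
        obtain ⟨x, hx, hx0⟩ := hτ _ b hb hw0
        rw [hττ] at hx
        exact ⟨x, le_sup_left (a := D (enum k).1) hx, hx0⟩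
      · obtain ⟨x, hx, hx0⟩ := hτ _ a ha ha0
        refine ⟨x, le_sup_right (a := D (enum k).1) hx, ?_⟩
        rw [hs.add_left, huniq _ _ (by rw [hττ]; exact hmove _) b hb x hx, add_zero]
        exact hx0
    obtain ⟨x, hx, hx0⟩ := this
    exact ⟨⟨x, hx, fun e => hx0 (by rw [hf.herm, e, map_zero])⟩, ⟨x, hx, hx0⟩⟩
  refine ⟨_, E, hcardR, ⟨⟨?_, by have := hD.pos; omega, fun k => ?_, ?_, ?_⟩, hnd, horth⟩, ?_⟩
  · have := hD.two_le; omega
  · have h := Submodule.finrank_sup_add_finrank_inf_eq (D (enum k).1) (D (τ (enum k).1))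
    rw [hD.finrank_eq, hD.finrank_eq, (hD.indep.pairwiseDisjoint (Ne.symm (hmove _))).eq_bot, finrank_bot] at h
    show Module.finrank F (E k) = 2 * m
    simp only [E]
    omega
  · intro k
    rw [Submodule.disjoint_def]
    intro v hv hv'
    by_contra hv0
    obtain ⟨-, x, hx, hx0⟩ := hnd k v hv hv0
    have hle : (⨆ l, ⨆ (_ : l ≠ k), E l) ≤ orthLeft' (f := f) hs.add_left hs.smul_left (E k) :=
      iSup₂_le fun l hl y hy z hz => horth l k hl y hy z hz
    exact hx0 (hle hv' x hx)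
  · rw [eq_top_iff, ← hD.iSup_eq_top]
    refine iSup_le fun i => ?_
    obtain ⟨k, hk⟩ := hcov i
    exact le_iSup_of_le k (hmemE i k hk)
  · intro h hh
    obtain ⟨π, hπ, heq⟩ := hequiv h hh
    choose ρ hρ using fun k => hcov (π (enum k).1)
    have hmap : ∀ k, (E k).map (Matrix.toLin' (h : Matrix (Fin n) (Fin n) F)) = E (ρ k) := by
      intro k
      show (D (enum k).1 ⊔ D (τ (enum k).1)).map _ = D (enum (ρ k)).1 ⊔ D (τ (enum (ρ k)).1)
      rw [Submodule.map_sup, hπ, hπ, ← heq]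
      rcases hρ k with h | h <;> rw [h]
      rw [hττ, sup_comm]
    have hinj : Function.Injective ρ := by
      intro k l e
      have hinjh : Function.Injective (Matrix.toLin' (h : Matrix (Fin n) (Fin n) F)) := (linEquiv h).injective
      have h2 : E k = E l := Submodule.map_injective_of_injective hinjh (by rw [hmap, hmap, e])
      by_contra hkl
      obtain ⟨u, hu, hu0⟩ := Submodule.exists_mem_ne_zero_of_ne_bot (hne (enum k).1)
      have huk : u ∈ E k := hmemE _ k (Or.inl rfl) hu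
      obtain ⟨-, x, hx, hx0⟩ := hnd k u huk hu0
      exact hx0 (horth k l hkl u huk x (h2 ▸ hx))
    exact ⟨Equiv.ofBijective ρ ⟨hinj, Finite.injective_iff_surjective.1 hinj⟩, hmap⟩

end CfsgLib.Geo.Asch
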