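/-
Systems of imprimitivity of orthogonal groups: the homogeneous components are orthogonal or pair off.
-/
import Cfsg.Agent.Lib.Geo.Asch.OrthTools
import Cfsg.Agent.Lib.Geo.Asch.UnitAdjoint

set_option autoImplicit false
set_option linter.unusedSectionVars false

namespace CfsgLib.Geo.Asch

open Matrix Cfsg.Geo
open CfsgLib.Classical CfsgLib.Classical.Quad CfsgLib.Geo.OrthMax
open QuadraticMap (polar polarBilin)

variable {F : Type*} [Field F] [Finite F] {ι : Type} [Fintype ι] [DecidableEq ι] {Q : QuadraticForm F (ι → F)}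

theorem polar_isNondeg' (hQ : (polarBilin Q).Nondegenerate) {v : ι → F} (hv : v ≠ 0) :
    (∃ x, polar Q x v ≠ 0) ∧ ∃ x, polar Q v x ≠ 0 := by
  obtain ⟨x, hx⟩ : ∃ x, polar Q v x ≠ 0 := by
    by_contra! h
    exact hv (hQ.1 v h)
  exact ⟨⟨x, by rwa [QuadraticMap.polar_comm]⟩, ⟨x, hx⟩⟩

/-- The homogeneous components of a normal subgroup of an orthogonal group are orthogonal or pair off. -/
theorem orth_decomposition (hQ : (polarBilin Q).Nondegenerate) {H N : Subgroup (GL ι F)}
    (hHU : ∀ g ∈ H, ∀ v, Q ((g : Matrix ι ι F) *ᵥ v) = Q v)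
    (hNH : N ≤ H) {t m : ℕ} {D : Fin t → Submodule F (ι → F)} (hD : IsMDecomposition m D)
    (hHD : H ≤ decompositionStabilizer D) (hst : ∀ i, Stable (NC N) (D i))
    (hmin : ∀ i, ∀ U, U ≤ D i → Stable (NC N) U → U = ⊥ ∨ U = D i)
    (htr : ∀ i j, ∃ h ∈ H, (D i).map (linEquiv h : (ι → F) →ₗ[F] (ι → F)) = D j) :
    IsNondegenerateMDecomposition (polar Q) m D ∨
    (t = 2 ∧ ∀ i, IsTotallySingularFor (polar Q) (D i)) ∨
    (∃ (t' : ℕ) (E : Fin t' → Submodule F (ι → F)), 2 * t' = t ∧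
      IsNondegenerateMDecomposition (polar Q) (2 * m) E ∧ H ≤ decompositionStabilizer E) := by
  classical
  have hs := polar_isSesq (Q := Q)
  set f := polar Q with hf'
  have hne : ∀ i, D i ≠ ⊥ := fun i h => hD.pos.ne' (by rw [← hD.finrank_eq i, h, finrank_bot])
  have hDinj : Function.Injective D := hD.indep.injective hne
  have hNU : ∀ g ∈ N, ∀ v, Q ((g : Matrix ι ι F) *ᵥ v) = Q v := fun g hg => hHU g (hNH hg)
  choose p hp1 hp0 hpc using fun j => projection_commute hD j
  have hpC : ∀ j, p j ∈ centreComm N := by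
    have hcomm : ∀ j, p j ∈ comm N := fun j => (Subalgebra.mem_centralizer_iff F).2 fun s hs' =>
      hpc j s fun i v hv => hst i s (Or.inl hs') v hv
    exact fun j => ⟨hcomm j, (Subalgebra.mem_centralizer_iff F).2 fun c hc =>
      hpc j c fun i v hv => hst i c (Or.inr hc) v hv⟩
  have hsum : ∀ (v x : ι → F), (∀ i, ∀ w ∈ D i, f v w = 0) → f v x = 0 := by
    intro v x hall
    have hx : x ∈ iSup D := hD.iSup_eq_top.symm ▸ Submodule.mem_top
    induction hx using Submodule.iSup_induction' with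
    | mem j w hw => exact hall j w hw
    | zero => exact hs.map_zero_right _
    | add y z _ _ hy hz => rw [hs.add_right, hy, hz, add_zero]
  -- a member is orthogonal to another or paired faithfully with it
  have hdich : ∀ i j, (∀ u ∈ D i, ∀ w ∈ D j, f u w = 0) ∨ (∀ u ∈ D i, u ≠ 0 → ∃ w ∈ D j, f u w ≠ 0) := by
    intro i j
    let R : Submodule F (ι → F) := D i ⊓ orthLeft' (f := f) hs.add_left hs.smul_left (D j)
    have hRs : Stable (NC N) R := by
      intro s hs' u hu
      refine ⟨hst i s hs' u hu.1, fun w hw => ?_⟩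
      rw [hf', polar_adjQ hQ]
      refine hu.2 _ ?_
      rcases hs' with ⟨g, hg, rfl⟩ | hc
      · rw [adjQ_iso hQ (hNU g hg)]
        exact hst j _ (Or.inl (mem_matrixSet (N.inv_mem hg))) w hw
      · exact hst j _ (Or.inr (adjQ_mem_comm hQ hNU hc)) w hw
    rcases hmin i R inf_le_left hRs with h | h
    · refine Or.inr fun u hu hu0 => ?_
      by_contra! hall
      exact hu0 ((Submodule.eq_bot_iff _).1 h u ⟨hu, hall⟩)
    · exact Or.inl fun u hu w hw => (h.ge hu).2 w hw
  have hex : ∀ i, ∃ j, ∀ u ∈ D i, u ≠ 0 → ∃ w ∈ D j, f u w ≠ 0 := by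
    intro i
    obtain ⟨u, hu, hu0⟩ := Submodule.exists_mem_ne_zero_of_ne_bot (hne i)
    by_contra! hall
    obtain ⟨x, hx⟩ := (polar_isNondeg' hQ hu0).2
    refine hx (hsum u x fun j w hw => ?_)
    rcases hdich i j with h | h
    · exact h u hu w hw
    · obtain ⟨a, ha, ha0, hz⟩ := hall j
      obtain ⟨b, hb, hb0⟩ := h a ha ha0
      exact absurd (hz b hb) hb0
  choose τ hτ using hex
  have huniq : ∀ i j, j ≠ τ i → ∀ u ∈ D i, ∀ w ∈ D j, f u w = 0 := by
    intro i j hj
    rcases hdich i j with h | h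
    · exact h
    exfalso
    set a := adjQ Q (p (τ i))
    have haC := adjQ_mem_centreComm hQ hNU (hpC (τ i))
    obtain ⟨u, hu, hu0⟩ := Submodule.exists_mem_ne_zero_of_ne_bot (hne i)
    have hau : ∀ v ∈ D i, a *ᵥ v ∈ D i := fun v hv => hst i a (Or.inr haC.1) v hv
    let U : Submodule F (ι → F) := D i ⊓ LinearMap.ker (Matrix.toLin' a)
    have hUs : Stable (NC N) U := by
      intro s hs' v hv
      refine ⟨hst i s hs' v hv.1, ?_⟩
      have hcom : a * s = s * a := by
        rcases hs' with hg | hc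
        · exact ((Subalgebra.mem_centralizer_iff F).1 haC.1 s hg).symm
        · exact ((Subalgebra.mem_centralizer_iff F).1 haC.2 s hc).symm
      show Matrix.toLin' a (s *ᵥ v) = 0
      rw [Matrix.toLin'_apply, Matrix.mulVec_mulVec, hcom, ← Matrix.mulVec_mulVec]
      have : a *ᵥ v = 0 := by simpa [← Matrix.toLin'_apply] using hv.2
      rw [this, Matrix.mulVec_zero]
    have key : ∀ v w, f (a *ᵥ v) w = f v (p (τ i) *ᵥ w) := fun v w => by
      rw [hf', polar_adjQ hQ, adjQ_adjQ hQ]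
    rcases hmin i U inf_le_left hUs with hU | hU
    · obtain ⟨w, hw, hw0⟩ := h (a *ᵥ u) (hau u hu) fun h0 => hu0 ((Submodule.eq_bot_iff _).1 hU u
        ⟨hu, by simpa [← Matrix.toLin'_apply] using h0⟩)
      rw [key, hp0 (τ i) j hj w hw, hs.map_zero_right] at hw0
      exact hw0 rfl
    · obtain ⟨w, hw, hw0⟩ := hτ i u hu hu0
      have h0 : a *ᵥ u = 0 := by simpa [← Matrix.toLin'_apply] using (hU.ge hu).2
      have := key u w
      rw [h0, hs.map_zero_left, hp1 (τ i) w hw] at this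
      exact hw0 this.symm
  have hττ : ∀ i, τ (τ i) = i := by
    intro i
    obtain ⟨u, hu, hu0⟩ := Submodule.exists_mem_ne_zero_of_ne_bot (hne i)
    obtain ⟨w, hw, hw0⟩ := hτ i u hu hu0
    by_contra hne'
    exact hw0 (by rw [hf', QuadraticMap.polar_comm]; exact huniq (τ i) i (Ne.symm hne') w hw u hu)
  have hequiv : ∀ h ∈ H, ∃ π : Equiv.Perm (Fin t), (∀ i, (D i).map (Matrix.toLin' (h : Matrix ι ι F)) = D (π i)) ∧
      ∀ i, τ (π i) = π (τ i) := by
    intro h hh
    obtain ⟨π, hπ⟩ := hHD hh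
    refine ⟨π, hπ, fun i => ?_⟩
    obtain ⟨u, hu, hu0⟩ := Submodule.exists_mem_ne_zero_of_ne_bot (hne i)
    obtain ⟨w, hw, hw0⟩ := hτ i u hu hu0
    by_contra hne'
    refine hw0 ?_
    refine (fixes_polar_of_isometry (hHU h hh) u w).symm.trans ?_
    exact huniq (π i) (π (τ i)) (fun e => hne' e.symm) _ (hπ i ▸ ⟨u, hu, Matrix.toLin'_apply _ _⟩) _
      (hπ (τ i) ▸ ⟨w, hw, Matrix.toLin'_apply _ _⟩)
  by_cases hfix : ∀ i, τ i = i
  · left
    refine ⟨hD, fun i w hw hw0 => ?_, fun i j hij => huniq i j (by rw [hfix i]; exact hij.symm)⟩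
    obtain ⟨x, hx, hx0⟩ := hτ i w hw hw0
    rw [hfix i] at hx
    exact ⟨⟨x, hx, fun e => hx0 (by rw [hf', QuadraticMap.polar_comm]; exact e)⟩, ⟨x, hx, hx0⟩⟩
  right
  have hmove : ∀ i, τ i ≠ i := by
    push Not at hfix
    obtain ⟨i₀, hi₀⟩ := hfix
    intro i hi
    obtain ⟨h, hh, hmap⟩ := htr i i₀
    obtain ⟨π, hπ, heq⟩ := hequiv h hh
    obtain rfl : π i = i₀ := hDinj ((hπ i).symm.trans hmap)
    exact hi₀ (by rw [heq, hi])
  have hts : ∀ i, IsTotallySingularFor f (D i) := fun i => huniq i i (Ne.symm (hmove i))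
  by_cases ht : t = 2
  · exact Or.inl ⟨ht, hts⟩
  right
  let R := {i : Fin t // i < τ i}
  have hrep : ∀ i, ∃ r : R, i = r.1 ∨ i = τ r.1 := fun i => by
    rcases lt_or_gt_of_ne (hmove i) with h | h
    · exact ⟨⟨τ i, by rw [hττ]; exact h⟩, Or.inr (hττ i).symm⟩
    · exact ⟨⟨i, h⟩, Or.inl rfl⟩
  have hdis : ∀ r r' : R, r.1 ≠ τ r'.1 := fun r r' e => by
    have h1 := r.2
    rw [e, hττ] at h1
    exact lt_asymm h1 r'.2
  have hcardR : 2 * Fintype.card R = t := by
    let e : R ⊕ R → Fin t := Sum.elim (fun r => r.1) (fun r => τ r.1)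
    have hb : Function.Bijective e := by
      refine ⟨?_, fun i => ?_⟩
      · rintro (r | r) (r' | r') h
        · exact congrArg Sum.inl (Subtype.ext h)
        · exact absurd h (hdis r r')
        · exact absurd h.symm (hdis r' r)
        · exact congrArg Sum.inr (Subtype.ext (by simpa [e, hττ] using congrArg τ h))
      · obtain ⟨r, h | h⟩ := hrep i
        · exact ⟨Sum.inl r, h.symm⟩
        · exact ⟨Sum.inr r, h.symm⟩
    have := Fintype.card_congr (Equiv.ofBijective e hb)
    rw [Fintype.card_sum, Fintype.card_fin] at this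
    omega
  let enum := (Fintype.equivFin R).symm
  let E : Fin (Fintype.card R) → Submodule F (ι → F) := fun k => D (enum k).1 ⊔ D (τ (enum k).1)
  have hmemE : ∀ i k, (i = (enum k).1 ∨ i = τ (enum k).1) → D i ≤ E k := by
    rintro i k (rfl | rfl)
    exacts [le_sup_left, le_sup_right]
  have hcov : ∀ i, ∃ k, i = (enum k).1 ∨ i = τ (enum k).1 := fun i => by
    obtain ⟨r, h⟩ := hrep i
    exact ⟨enum.symm r, by simpa using h⟩
  have horth : ∀ k l, k ≠ l → AreOrthogonalFor f (E k) (E l) := by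
    intro k l hkl u hu v hv
    have hne' : (enum k).1 ≠ (enum l).1 := fun e => hkl (enum.injective (Subtype.ext e))
    obtain ⟨a, ha, b, hb, rfl⟩ := Submodule.mem_sup.1 hu
    obtain ⟨c, hc, d, hd, rfl⟩ := Submodule.mem_sup.1 hv
    rw [hs.add_left, hs.add_right, hs.add_right,
      huniq _ _ (fun e => hdis (enum l) (enum k) e) a ha c hc,
      huniq (enum k).1 (τ (enum l).1) (fun e => hne' (show (enum k).1 = (enum l).1 by simpa [hττ] using (congrArg τ e).symm)) a ha d hd,
      huniq _ _ (by rw [hττ]; exact hne'.symm) b hb c hc,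
      huniq _ _ (by rw [hττ]; exact fun e => hdis (enum k) (enum l) e.symm) b hb d hd]
    simp
  have hnd : ∀ k, IsNondegenerateOn f (E k) := by
    intro k w hw hw0
    obtain ⟨a, ha, b, hb, rfl⟩ := Submodule.mem_sup.1 hw
    have : ∃ x ∈ E k, f (a + b) x ≠ 0 := by
      by_cases ha0 : a = 0
      · subst ha0
        rw [zero_add] at hw0 ⊢
        obtain ⟨x, hx, hx0⟩ := hτ _ b hb hw0
        rw [hττ] at hx
        exact ⟨x, le_sup_left (a := D (enum k).1) hx, hx0⟩
      · obtain ⟨x, hx, hx0⟩ := hτ _ a ha ha0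
        refine ⟨x, le_sup_right (a := D (enum k).1) hx, ?_⟩
        rw [hs.add_left, huniq _ _ (by rw [hττ]; exact hmove _) b hb x hx, add_zero]
        exact hx0
    obtain ⟨x, hx, hx0⟩ := this
    exact ⟨⟨x, hx, fun e => hx0 (by rw [hf', QuadraticMap.polar_comm]; exact e)⟩, ⟨x, hx, hx0⟩⟩
  refine ⟨_, E, hcardR, ⟨⟨?_, by have := hD.pos; omega, fun k => ?_, ?_, ?_⟩, hnd, horth⟩, ?_⟩
  · have := hD.two_le; omega
  · have h := Submodule.finrank_sup_add_finrank_inf_eq (D (enum k).1) (D (τ (enum k).1))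
    rw [hD.finrank_eq, hD.finrank_eq, (hD.indep.pairwiseDisjoint (Ne.symm (hmove _))).eq_bot, finrank_bot] at h
    show Module.finrank F (E k) = 2 * m
    simp only [E]
    omega
  · intro k
    rw [Submodule.disjoint_def]
    intro v hv hv'
    by_contra hv0
    obtain ⟨-, x, hx, hx0⟩ := hnd k v hv hv0
    have hle : (⨆ l, ⨆ (_ : l ≠ k), E l) ≤ orthLeft' (f := f) hs.add_left hs.smul_left (E k) :=
      iSup₂_le fun l hl y hy z hz => horth l k hl y hy z hz
    exact hx0 (hle hv' x hx)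
  · rw [eq_top_iff, ← hD.iSup_eq_top]
    refine iSup_le fun i => ?_
    obtain ⟨k, hk⟩ := hcov i
    exact le_iSup_of_le k (hmemE i k hk)
  · intro h hh
    obtain ⟨π, hπ, heq⟩ := hequiv h hh
    choose ρ hρ using fun k => hcov (π (enum k).1)
    have hmap : ∀ k, (E k).map (Matrix.toLin' (h : Matrix ι ι F)) = E (ρ k) := by
      intro k
      show (D (enum k).1 ⊔ D (τ (enum k).1)).map _ = D (enum (ρ k)).1 ⊔ D (τ (enum (ρ k)).1)
      rw [Submodule.map_sup, hπ, hπ, ← heq]
      rcases hρ k with h | h <;> rw [h]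
      rw [hττ, sup_comm]
    have hinj : Function.Injective ρ := by
      intro k l e
      have hinjh : Function.Injective (Matrix.toLin' (h : Matrix ι ι F)) := (linEquiv h).injective
      have h2 : E k = E l := Submodule.map_injective_of_injective hinjh (by rw [hmap, hmap, e])
      by_contra hkl
      obtain ⟨u, hu, hu0⟩ := Submodule.exists_mem_ne_zero_of_ne_bot (hne (enum k).1)
      have huk : u ∈ E k := hmemE _ k (Or.inl rfl) hu
      obtain ⟨-, x, hx, hx0⟩ := hnd k u huk hu0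
      exact hx0 (horth k l hkl u huk x (h2 ▸ hx))
    exact ⟨Equiv.ofBijective ρ ⟨hinj, Finite.injective_iff_surjective.1 hinj⟩, hmap⟩

end CfsgLib.Geo.Asch
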