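/-
The standard symplectic form for the Aschbacher dichotomy: adjoints, Gram matrices in coordinates,
fixed bilinear forms, quadratic forms in characteristic two, and descent along a field automorphism.
-/
import Cfsg.Agent.Lib.Geo.Asch.SympField
import Cfsg.Agent.Lib.Geo.Asch.Descent
import Cfsg.Agent.Lib.Geo.Asch.TensorPower
import Cfsg.Agent.Lib.Geo.QuadInSymplectic
import Cfsg.Agent.Lib.Known.Descent

set_option autoImplicit false

namespace CfsgLib.Geo.Asch

open Matrix Cfsg.Geo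
open scoped Kronecker
open CfsgLib.Geo.Roots (isSymplecticForm_sympForm mem_spGL_iff)

section Bilinear

variable {κ : Type} [Fintype κ] [DecidableEq κ] {F : Type*} [Field F]

/-- The bilinear form with a given Gram matrix. -/
theorem formOfGram_id_eq (X : Matrix κ κ F) (x y : κ → F) : formOfGram id X x y = x ⬝ᵥ X *ᵥ y := by
  simp only [formOfGram, id, dotProduct, Matrix.mulVec, Finset.mul_sum, mul_assoc]

theorem isBilinearForm_formOfGram (X : Matrix κ κ F) : IsBilinearForm (formOfGram id X) where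
  add_left x y v := by simp only [formOfGram_id_eq, add_dotProduct]
  smul_left c x v := by simp only [formOfGram_id_eq, smul_dotProduct, smul_eq_mul]
  add_right v x y := by simp only [formOfGram_id_eq, Matrix.mulVec_add, dotProduct_add]
  smul_right c v x := by simp only [formOfGram_id_eq, Matrix.mulVec_smul, dotProduct_smul, smul_eq_mul]

theorem gramMatrix_formOfGram (X : Matrix κ κ F) : gramMatrix (formOfGram id X) = X := by
  ext a b
  simp [gramMatrix, formOfGram_id_eq]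

theorem formOfGram_swap {X : Matrix κ κ F} {l : F} (hX : Xᵀ = l • X) (x y : κ → F) :
    formOfGram id X y x = l * formOfGram id X x y := by
  rw [formOfGram_id_eq, formOfGram_id_eq, Matrix.dotProduct_mulVec, ← Matrix.mulVec_transpose, hX, Matrix.smul_mulVec,
    smul_dotProduct, smul_eq_mul, dotProduct_comm]

theorem formOfGram_nondegenerate {X : Matrix κ κ F} (hX : IsUnit X) : IsNondegenerateForm (formOfGram id X) := by
  intro v hv
  have hd : X.det ≠ 0 := ((Matrix.isUnit_iff_isUnit_det X).1 hX).ne_zero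
  constructor
  · by_contra! h
    refine hv (Matrix.mulVec_injective_iff_isUnit.2 hX ?_)
    ext a
    rw [Matrix.mulVec_zero, Pi.zero_apply, ← h (Pi.single a 1), formOfGram_id_eq, single_one_dotProduct]
  · by_contra! h
    refine hv (Matrix.vecMul_injective_iff_isUnit.2 hX ?_)
    ext a
    show (v ᵥ* X) a = (0 ᵥ* X) a
    rw [Matrix.zero_vecMul, Pi.zero_apply, ← h (Pi.single a 1), formOfGram_id_eq, Matrix.dotProduct_mulVec,
      dotProduct_single_one]

/-- A skew matrix with zero diagonal is alternating as a form. -/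
theorem alternating_of_skew {X : Matrix κ κ F} (hX : Xᵀ = -X) (hd : ∀ i, X i i = 0) (v : κ → F) :
    v ⬝ᵥ X *ᵥ v = 0 := by
  classical
  simp only [dotProduct, Matrix.mulVec, Finset.mul_sum]
  rw [← Finset.sum_product']
  refine Finset.sum_involution (fun p _ => (p.2, p.1)) (fun p _ => ?_) (fun p _ hp => ?_) (fun p _ => by simp)
    fun p _ => rfl
  · have h := congrFun (congrFun hX p.1) p.2
    simp only [Matrix.transpose_apply, Matrix.neg_apply] at h
    linear_combination v p.1 * v p.2 * h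
  · intro he
    apply hp
    have h1 : p.2 = p.1 := congrArg Prod.fst he
    rw [h1, hd, zero_mul, mul_zero]

theorem isSymplecticForm_formOfGram {X : Matrix κ κ F} (hu : IsUnit X) (hX : Xᵀ = -X) (hd : ∀ i, X i i = 0) :
    IsSymplecticForm (formOfGram id X) :=
  ⟨isBilinearForm_formOfGram X, fun v w => by rw [formOfGram_swap (l := -1) (by rw [hX, neg_one_smul]) w v]; ring,
    fun v => by rw [formOfGram_id_eq]; exact alternating_of_skew hX hd v, formOfGram_nondegenerate hu⟩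

theorem isSymmetricForm_formOfGram {X : Matrix κ κ F} (hu : IsUnit X) (hX : Xᵀ = X) :
    IsSymmetricForm (formOfGram id X) :=
  ⟨isBilinearForm_formOfGram X, fun u v => by rw [formOfGram_swap (l := 1) (by rw [hX, one_smul]) v u, one_mul],
    formOfGram_nondegenerate hu⟩

theorem diag_eq_zero_of_skew (h2 : (2 : F) ≠ 0) {X : Matrix κ κ F} (hX : Xᵀ = -X) (i : κ) : X i i = 0 := by
  have h := congrFun (congrFun hX i) i
  simp only [Matrix.transpose_apply, Matrix.neg_apply] at h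
  exact (mul_eq_zero.1 (show (2 : F) * X i i = 0 by linear_combination h)).resolve_left h2

/-- The space of a non-degenerate skew matrix with zero diagonal has even dimension. -/
theorem even_card_of_skew {X : Matrix κ κ F} (hu : IsUnit X) (hX : Xᵀ = -X) (hd : ∀ i, X i i = 0) :
    Even (Fintype.card κ) := by
  by_contra h
  obtain ⟨hb, -, ha, hn⟩ := isSymplecticForm_formOfGram hu hX hd
  exact not_alternating (Nat.not_even_iff_odd.1 h) hb ha hn

variable [Finite F]

/-- In characteristic two an additive function with `φ (c v) = c² φ v` fixed by an irreducible set vanishes. -/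
theorem semilinear_eq_zero (h2 : (2 : F) = 0) (hn : 2 ≤ Fintype.card κ) {S : Set (Matrix κ κ F)}
    (hS : ActsIrreducibly S) {φ : (κ → F) → F} (hadd : ∀ u v, φ (u + v) = φ u + φ v)
    (hsmul : ∀ (c : F) v, φ (c • v) = c ^ 2 * φ v) (hfix : ∀ s ∈ S, ∀ v, φ (s *ᵥ v) = φ v) (v : κ → F) :
    φ v = 0 := by
  let W : Submodule F (κ → F) :=
    { carrier := {v | φ v = 0}
      add_mem' := fun {a b} ha hb => by
        show φ (a + b) = 0
        rw [hadd, show φ a = 0 from ha, show φ b = 0 from hb, add_zero]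
      zero_mem' := by show φ 0 = 0; simpa using hsmul 0 0
      smul_mem' := fun c a ha => by show φ (c • a) = 0; rw [hsmul, show φ a = 0 from ha, mul_zero] }
  rcases actsIrreducibly_iff.1 hS W (fun s hs x hx => by show φ _ = 0; rw [hfix s hs]; exact hx) with hW | hW
  · exfalso
    haveI := Fintype.ofFinite F
    have hinj : Function.Injective φ := by
      intro a b hab
      have hmem : a + b ∈ W := by
        show φ (a + b) = 0
        rw [hadd, hab]
        linear_combination φ b * h2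
      rw [hW, Submodule.mem_bot] at hmem
      have h3 : a = -b := eq_neg_of_add_eq_zero_left hmem
      have h4 : (-1 : F) = 1 := by linear_combination -h2
      rw [h3, ← neg_one_smul F b, h4, one_smul]
    have := Fintype.card_le_of_injective _ hinj
    rw [Fintype.card_fun] at this
    have := lt_of_lt_of_le (Nat.pow_lt_pow_right (Fintype.one_lt_card (α := F)) (show 1 < Fintype.card κ by omega)) this
    simp at this
  · exact (hW.symm ▸ Submodule.mem_top : v ∈ W)

/-- In characteristic two a symmetric matrix fixed by an irreducible set is alternating. -/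
theorem diag_eq_zero_of_fixed (h2 : (2 : F) = 0) (hn : 2 ≤ Fintype.card κ) {S : Set (Matrix κ κ F)}
    (hS : ActsIrreducibly S) {X : Matrix κ κ F} (hX : Xᵀ = X) (hfix : ∀ A ∈ S, Aᵀ * X * A = X) (i : κ) :
    X i i = 0 := by
  have hb := isBilinearForm_formOfGram X
  have hsym : ∀ u v, formOfGram id X u v = formOfGram id X v u := fun u v => by
    rw [formOfGram_swap (l := 1) (by rw [hX, one_smul]) v u, one_mul]
  have h0 := semilinear_eq_zero h2 hn hS (φ := fun v => formOfGram id X v v)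
    (fun u v => by simp only [hb.add_left, hb.add_right, hsym v u]; linear_combination formOfGram id X u v * h2)
    (fun c v => by simp only [hb.smul_left, hb.smul_right]; ring)
    (fun A hA v => by
      simp only [formOfGram_id_eq]
      rw [Matrix.mulVec_mulVec, Matrix.dotProduct_mulVec, Matrix.vecMul_mulVec, ← Matrix.dotProduct_mulVec,
        ← Matrix.mul_assoc, hfix A hA]) (Pi.single i 1)
  simpa [formOfGram_id_eq] using h0

omit [Finite F]

/-- A bilinear form fixed by an absolutely irreducible set is invertible and unique up to a scalar. -/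
theorem bilin_gram_unique {s : Set (Matrix κ κ F)} (hs : ActsAbsolutelyIrreducibly s) (hdet : ∀ A ∈ s, A.det ≠ 0)
    {X : Matrix κ κ F} (hX : X ≠ 0) (hfix : ∀ A ∈ s, Aᵀ * X * A = X) :
    IsUnit X ∧ ∀ Y : Matrix κ κ F, (∀ A ∈ s, Aᵀ * Y * A = Y) → ∃ c : F, Y = c • X := by
  have hu : IsUnit X := by
    rw [Matrix.isUnit_iff_isUnit_det, isUnit_iff_ne_zero]
    intro h0
    obtain ⟨v, hv0, hv⟩ := Matrix.exists_mulVec_eq_zero_iff.2 h0
    have hmem : ∀ w, w ∈ LinearMap.ker (Matrix.toLin' X) ↔ X *ᵥ w = 0 := fun w => by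
      rw [LinearMap.mem_ker, Matrix.toLin'_apply]
    rcases actsIrreducibly_iff.1 hs.1 (LinearMap.ker (Matrix.toLin' X)) (fun A hA w hw => by
      rw [hmem] at hw ⊢
      refine Matrix.mulVec_injective_iff_isUnit.2 (show IsUnit Aᵀ by
        rw [Matrix.isUnit_iff_isUnit_det, Matrix.det_transpose]; exact isUnit_iff_ne_zero.2 (hdet A hA)) ?_
      rw [Matrix.mulVec_zero, Matrix.mulVec_mulVec, Matrix.mulVec_mulVec, hfix A hA, hw]) with hk | hk
    · exact hv0 ((Submodule.eq_bot_iff _).1 hk v ((hmem v).2 hv))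
    · apply hX
      refine Matrix.toLin'.injective (LinearMap.ext fun w => ?_)
      rw [map_zero, LinearMap.zero_apply]
      exact hk.ge Submodule.mem_top
  refine ⟨hu, fun Y hY => ?_⟩
  set X' := ((hu.unit⁻¹ : GL κ F) : Matrix κ κ F) with hX'
  obtain ⟨c, hc⟩ := hs.2 (X' * Y) (fun A hA => by
    have hAu : IsUnit Aᵀ := by
      rw [Matrix.isUnit_iff_isUnit_det, Matrix.det_transpose]; exact isUnit_iff_ne_zero.2 (hdet A hA)
    refine (IsUnit.mul_right_inj (hAu.mul hu)).1 ?_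
    rw [mul_assoc Aᵀ X (X' * Y * A), ← mul_assoc X (X' * Y), ← mul_assoc X X', hX', hu.mul_val_inv, one_mul,
      ← mul_assoc Aᵀ Y A, hY A hA, ← mul_assoc (Aᵀ * X) A, hfix A hA, ← mul_assoc X X', hu.mul_val_inv, one_mul])
  refine ⟨c, ?_⟩
  have := congrArg (X * ·) hc
  rwa [← mul_assoc, hX', hu.mul_val_inv, one_mul, Matrix.mul_smul, mul_one] at this

end Bilinear

section Descent

variable {ι : Type} [Fintype ι] [DecidableEq ι] {F : Type*} [Field F] [Finite F]

/-- A group fixing a σ-sesquilinear and a bilinear form is written over the fixed field of σ. -/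
theorem realisable_fixed_of_sesq [Nonempty ι] {σ : F ≃+* F} {N : Subgroup (GL ι F)}
    (hN : ActsAbsolutelyIrreducibly (matrixSet N)) {f : (ι → F) → (ι → F) → F} (hf : IsSesqForm σ f)
    (hnd : IsNondegenerateForm f) (hffix : FixesForm (matrixSet N) f) {B : (ι → F) → (ι → F) → F}
    (hB : IsBilinearForm B) (hBnd : IsNondegenerateForm B) (hBfix : FixesForm (matrixSet N) B) :
    RealisableOver (fixedSubfield σ) (matrixSet N) := by
  haveI : Finite (F ≃+* F) := Finite.of_injective (fun e : F ≃+* F => (e : F → F)) DFunLike.coe_injective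
  set r := orderOf σ with hrdef
  have hr : 0 < r := orderOf_pos σ
  have hsB := isSesqForm_of_bilinear hB
  set G := gramIn f (1 : Matrix ι ι F) with hG
  set C := gramIn B (1 : Matrix ι ι F) with hC
  have hCu : IsUnit C := isUnit_gram hsB hBnd
  have hGu : IsUnit G := isUnit_gram hf hnd
  set A := ((hCu.unit⁻¹ : GL ι F) : Matrix ι ι F) * G with hA
  have hCA : C * A = G := by rw [hA, ← mul_assoc, hCu.mul_val_inv, one_mul]
  have hAu : IsUnit A := (Units.isUnit (hCu.unit⁻¹)).mul hGu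
  have key : ∀ g ∈ N, (g : Matrix ι ι F) * A = A * (g : Matrix ι ι F).map σ := by
    intro g hg
    have h1 := gram_fixed hsB (hBfix _ (mem_matrixSet hg))
    rw [show (g : Matrix ι ι F).map (RingEquiv.refl F) = (g : Matrix ι ι F) from Matrix.map_id _] at h1
    have h2 := gram_fixed hf (hffix _ (mem_matrixSet hg))
    refine (IsUnit.mul_right_inj (show IsUnit ((g : Matrix ι ι F)ᵀ * C) from ?_)).1 ?_
    · refine IsUnit.mul ?_ hCu
      rw [Matrix.isUnit_iff_isUnit_det, Matrix.det_transpose, ← Matrix.isUnit_iff_isUnit_det]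
      exact g.isUnit
    · rw [← mul_assoc, h1, hCA, ← mul_assoc, mul_assoc _ C A, hCA, h2]
  have hnorm : ∀ k, ∀ g ∈ N, (g : Matrix ι ι F) * Known.Descent.normMat A σ k =
      Known.Descent.normMat A σ k * (g : Matrix ι ι F).map (σ ^ k : F ≃+* F) := by
    intro k
    induction k with
    | zero =>
      intro g _
      show (g : Matrix ι ι F) * 1 = 1 * (g : Matrix ι ι F).map (σ ^ 0 : F ≃+* F)
      rw [mul_one, one_mul, pow_zero]
      rfl
    | succ k ih =>
      intro g hg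
      rw [Known.Descent.normMat, ← mul_assoc, key g hg, mul_assoc, ← Matrix.map_mul, ih g hg, Matrix.map_mul,
        ← mul_assoc, Matrix.map_map, pow_succ' σ k]
      rfl
  obtain ⟨c, hc⟩ := hN.2 (Known.Descent.normMat A σ r) (by
    rintro _ ⟨g, hg, rfl⟩
    show Known.Descent.normMat A σ r * (g : Matrix ι ι F) = (g : Matrix ι ι F) * Known.Descent.normMat A σ r
    rw [hnorm r g hg, hrdef, pow_orderOf_eq_one]
    rfl)
  obtain ⟨h, s, hs⟩ := Known.Descent.exists_conj_of_norm_scalar σ rfl hr hAu.unit (c := c)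
    (by rw [IsUnit.unit_spec]; exact hc)
  rw [IsUnit.unit_spec] at hs
  refine ⟨h⁻¹, ?_⟩
  rintro _ ⟨g, hg, rfl⟩ i j
  rw [inv_inv, mem_fixedSubfield]
  set R := ((h⁻¹ : GL ι F) : Matrix ι ι F) * (g : Matrix ι ι F) * (h : Matrix ι ι F) with hR
  have hhR : (h : Matrix ι ι F) * R = g * h := by
    rw [hR, ← mul_assoc, ← mul_assoc, ← Units.val_mul, mul_inv_cancel, Units.val_one, one_mul]
  have h1 : (s : F) • ((h : Matrix ι ι F) * R.map σ) = (s : F) • ((h : Matrix ι ι F) * R) := by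
    rw [← Matrix.smul_mul, ← hs, mul_assoc, ← Matrix.map_mul, hhR, Matrix.map_mul, ← mul_assoc, ← key g hg, mul_assoc,
      hs, Matrix.mul_smul]
  exact congrFun (congrFun ((IsUnit.mul_right_inj h.isUnit).1 (smul_right_injective _ s.ne_zero h1)) i) j

omit [DecidableEq ι] [Fintype ι] [Finite F] in
theorem fixedSubfield_ne_top' {σ : F ≃+* F} (hσ : σ ≠ RingEquiv.refl F) : fixedSubfield σ ≠ ⊤ := fun h =>
  hσ (RingEquiv.ext fun a => mem_fixedSubfield.1 (h ▸ Subfield.mem_top a))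

end Descent

section Symp

variable {F : Type*} [Field F] {m : ℕ}

theorem sympSesq : IsSesqForm (RingEquiv.refl F) (Cfsg.sympForm m F) :=
  isSesqForm_of_bilinear isSymplecticForm_sympForm.bilinear

theorem fixesForm_of_le_spGL {N : Subgroup (GL (Fin m ⊕ Fin m) F)} (h : N ≤ Cfsg.spGL m F) :
    FixesForm (matrixSet N) (Cfsg.sympForm m F) := by
  rintro _ ⟨g, hg, rfl⟩ u v
  exact h hg u v

/-- The adjoint for the standard symplectic form. -/
def adjS (X : Matrix (Fin m ⊕ Fin m) (Fin m ⊕ Fin m) F) : Matrix (Fin m ⊕ Fin m) (Fin m ⊕ Fin m) F :=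
  -(Matrix.J (Fin m) F * Xᵀ * Matrix.J (Fin m) F)

theorem J_mul_adjS (X : Matrix (Fin m ⊕ Fin m) (Fin m ⊕ Fin m) F) :
    Matrix.J (Fin m) F * adjS X = Xᵀ * Matrix.J (Fin m) F := by
  rw [adjS, mul_neg, ← mul_assoc, ← mul_assoc, Matrix.J_squared]
  simp

theorem sympForm_adjS (X : Matrix (Fin m ⊕ Fin m) (Fin m ⊕ Fin m) F) (u v : Fin m ⊕ Fin m → F) :
    Cfsg.sympForm m F (X *ᵥ u) v = Cfsg.sympForm m F u (adjS X *ᵥ v) := by
  rw [Cfsg.sympForm, Cfsg.sympForm, Matrix.mulVec_mulVec, J_mul_adjS, ← Matrix.mulVec_mulVec, dotProduct_comm,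
    Matrix.dotProduct_mulVec, ← Matrix.mulVec_transpose, dotProduct_comm]

theorem adjS_unique {X Y : Matrix (Fin m ⊕ Fin m) (Fin m ⊕ Fin m) F}
    (h : ∀ u v, Cfsg.sympForm m F (X *ᵥ u) v = Cfsg.sympForm m F u (Y *ᵥ v)) : adjS X = Y := by
  refine Matrix.toLin'.injective (LinearMap.ext fun v => ?_)
  rw [Matrix.toLin'_apply, Matrix.toLin'_apply]
  by_contra hne
  obtain ⟨⟨x, hx⟩, -⟩ := (isSymplecticForm_sympForm (m := m) (F := F)).nondegenerate _ (sub_ne_zero.2 hne)
  refine hx ?_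
  have hb := (isSymplecticForm_sympForm (m := m) (F := F)).bilinear
  rw [sub_eq_add_neg, hb.add_right, ← neg_one_smul F, hb.smul_right, ← h x v, sympForm_adjS]
  ring

theorem adjS_adjS (X : Matrix (Fin m ⊕ Fin m) (Fin m ⊕ Fin m) F) : adjS (adjS X) = X := by
  have hf := isSymplecticForm_sympForm (m := m) (F := F)
  refine adjS_unique fun u v => ?_
  rw [hf.skew, ← sympForm_adjS, ← hf.skew]

theorem adjS_mul (X Y : Matrix (Fin m ⊕ Fin m) (Fin m ⊕ Fin m) F) : adjS (X * Y) = adjS Y * adjS X :=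
  adjS_unique fun u v => by rw [← Matrix.mulVec_mulVec, sympForm_adjS, sympForm_adjS, Matrix.mulVec_mulVec]

theorem adjS_one : adjS (1 : Matrix (Fin m ⊕ Fin m) (Fin m ⊕ Fin m) F) = 1 :=
  adjS_unique fun u v => by rw [Matrix.one_mulVec, Matrix.one_mulVec]

theorem adjS_add (X Y : Matrix (Fin m ⊕ Fin m) (Fin m ⊕ Fin m) F) : adjS (X + Y) = adjS X + adjS Y := by
  simp only [adjS, Matrix.transpose_add, mul_add, add_mul, neg_add]

theorem adjS_smul (c : F) (X : Matrix (Fin m ⊕ Fin m) (Fin m ⊕ Fin m) F) : adjS (c • X) = c • adjS X := by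
  simp only [adjS, Matrix.transpose_smul, Matrix.mul_smul, Matrix.smul_mul, smul_neg]

theorem adjS_pow (X : Matrix (Fin m ⊕ Fin m) (Fin m ⊕ Fin m) F) (k : ℕ) : adjS (X ^ k) = adjS X ^ k := by
  induction k with
  | zero => simp [adjS_one]
  | succ k ih => rw [pow_succ, adjS_mul, ih, pow_succ']

theorem adjS_of_mem {g : GL (Fin m ⊕ Fin m) F} (hg : g ∈ Cfsg.spGL m F) :
    adjS (g : Matrix (Fin m ⊕ Fin m) (Fin m ⊕ Fin m) F) = ((g⁻¹ : GL (Fin m ⊕ Fin m) F) : Matrix _ _ F) :=
  adjS_unique fun u v => by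
    conv_lhs => rw [← inv_mulVec_cancel g v]
    exact hg _ _

/-- The similitude group of a quadratic form with polar the symplectic form, inside the symplectic group. -/
theorem le_quad_of_fixed [Finite F] (hm : 1 ≤ m) (h2 : (2 : F) = 0) {H N : Subgroup (GL (Fin m ⊕ Fin m) F)}
    (hn : ∀ h ∈ H, ∀ x ∈ N, h * x * h⁻¹ ∈ N) (hN : ActsAbsolutelyIrreducibly (matrixSet N))
    (hHS : H ≤ Cfsg.spGL m F) (hNS : N ≤ Cfsg.spGL m F) {Q₀ : (Fin m ⊕ Fin m → F) → F}
    (hQ₀ : IsNondegenerateQuadraticForm Q₀) (hfix₀ : FixesQuadForm (matrixSet N) Q₀) :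
    ∃ Q : (Fin m ⊕ Fin m → F) → F, IsNondegenerateQuadraticForm Q ∧
      (∀ u v, QuadraticMap.polar Q u v = Cfsg.sympForm m F u v) ∧ H ≤ quadSimilarityGroup Q := by
  haveI : Nonempty (Fin m ⊕ Fin m) := ⟨Sum.inl ⟨0, by omega⟩⟩
  have hpfix : FixesForm (matrixSet N) (QuadraticMap.polar Q₀) := fun s hs u v => by
    simp only [QuadraticMap.polar, ← Matrix.mulVec_add, hfix₀ s hs]
  have hf := isSymplecticForm_sympForm (m := m) (F := F)
  obtain ⟨c, hc⟩ := exists_smul_of_fixed hN (isSesqForm_of_bilinear hQ₀.polar_bilinear) sympSesq hQ₀.nondegenerate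
    hpfix (fixesForm_of_le_spGL hNS)
  set Q : (Fin m ⊕ Fin m → F) → F := fun v => c * Q₀ v with hQdef
  have hpol : ∀ u v, QuadraticMap.polar Q u v = Cfsg.sympForm m F u v := fun u v => by
    rw [hc u v]; simp only [QuadraticMap.polar, hQdef]; ring
  have hpol' : QuadraticMap.polar Q = Cfsg.sympForm m F := funext fun u => funext fun v => hpol u v
  have hQ : IsNondegenerateQuadraticForm Q :=
    ⟨fun a v => by simp only [hQdef, hQ₀.smul]; ring, hpol' ▸ hf.bilinear, hpol' ▸ hf.nondegenerate⟩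
  have hfix : FixesQuadForm (matrixSet N) Q := fun s hs v => by simp only [hQdef, hfix₀ s hs]
  refine ⟨Q, hQ, hpol, fun h hh => ⟨1, fun v => ?_⟩⟩
  have key := semilinear_eq_zero h2 (by simp; omega) hN.1
    (φ := fun v => Q ((h : Matrix (Fin m ⊕ Fin m) (Fin m ⊕ Fin m) F) *ᵥ v) - Q v) ?_ ?_ ?_ v
  · rw [Units.val_one, one_mul]
    exact sub_eq_zero.1 key
  · intro u v
    have h1 := hpol ((h : Matrix (Fin m ⊕ Fin m) (Fin m ⊕ Fin m) F) *ᵥ u) ((h : Matrix (Fin m ⊕ Fin m) (Fin m ⊕ Fin m) F) *ᵥ v)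
    rw [mem_spGL_iff.1 (hHS hh) u v, ← hpol u v] at h1
    simp only [QuadraticMap.polar, ← Matrix.mulVec_add] at h1
    linear_combination h1
  · intro a v
    simp only [Matrix.mulVec_smul, hQ.smul]
    ring
  · rintro _ ⟨x, hx, rfl⟩ v
    have hmv : (h : Matrix (Fin m ⊕ Fin m) (Fin m ⊕ Fin m) F) *ᵥ ((x : Matrix (Fin m ⊕ Fin m) (Fin m ⊕ Fin m) F) *ᵥ v) =
        ((h * x * h⁻¹ : GL (Fin m ⊕ Fin m) F) : Matrix (Fin m ⊕ Fin m) (Fin m ⊕ Fin m) F) *ᵥ
          ((h : Matrix (Fin m ⊕ Fin m) (Fin m ⊕ Fin m) F) *ᵥ v) := by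
      rw [Matrix.mulVec_mulVec, Matrix.mulVec_mulVec, ← Units.val_mul, ← Units.val_mul, inv_mul_cancel_right]
    simp only [hmv, hfix _ (mem_matrixSet (hn h hh x hx)), hfix _ (mem_matrixSet hx)]

variable {κ : Type}

/-- The Gram matrix of the symplectic form in coordinates. -/
def spGram (e : (Fin m ⊕ Fin m) ≃ κ) (P : GL (Fin m ⊕ Fin m) F) : Matrix κ κ F :=
  ((P : Matrix (Fin m ⊕ Fin m) (Fin m ⊕ Fin m) F)ᵀ * Matrix.J (Fin m) F *
    (P : Matrix (Fin m ⊕ Fin m) (Fin m ⊕ Fin m) F)).submatrix e.symm e.symm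

variable [Fintype κ] [DecidableEq κ]

theorem spGram_isUnit (e : (Fin m ⊕ Fin m) ≃ κ) (P : GL (Fin m ⊕ Fin m) F) : IsUnit (spGram e P) := by
  rw [spGram, Matrix.isUnit_iff_isUnit_det, Matrix.det_submatrix_equiv_self, Matrix.det_mul, Matrix.det_mul,
    Matrix.det_transpose]
  exact ((P.isUnit.map Matrix.detMonoidHom).mul (Matrix.isUnit_det_J (Fin m) F)).mul (P.isUnit.map Matrix.detMonoidHom)

theorem sympForm_coord (e : (Fin m ⊕ Fin m) ≃ κ) (P : GL (Fin m ⊕ Fin m) F) (x y : κ → F) :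
    Cfsg.sympForm m F ((P : Matrix (Fin m ⊕ Fin m) (Fin m ⊕ Fin m) F) *ᵥ (x ∘ e))
      ((P : Matrix (Fin m ⊕ Fin m) (Fin m ⊕ Fin m) F) *ᵥ (y ∘ e)) = x ⬝ᵥ spGram e P *ᵥ y := by
  rw [spGram, Matrix.submatrix_mulVec_equiv, Equiv.symm_symm, Cfsg.sympForm, Matrix.mulVec_mulVec,
    Matrix.dotProduct_mulVec, Matrix.vecMul_mulVec, ← Matrix.dotProduct_mulVec, Matrix.mul_assoc]
  simp only [dotProduct, Function.comp_apply]
  exact Fintype.sum_equiv e _ _ fun i => by simp

theorem spGram_apply (e : (Fin m ⊕ Fin m) ≃ κ) (P : GL (Fin m ⊕ Fin m) F) (a b : κ) :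
    spGram e P a b = Cfsg.sympForm m F ((P : Matrix (Fin m ⊕ Fin m) (Fin m ⊕ Fin m) F) *ᵥ (Pi.single a 1 ∘ e))
      ((P : Matrix (Fin m ⊕ Fin m) (Fin m ⊕ Fin m) F) *ᵥ (Pi.single b 1 ∘ e)) := by
  rw [sympForm_coord]; simp

theorem spGram_transpose (e : (Fin m ⊕ Fin m) ≃ κ) (P : GL (Fin m ⊕ Fin m) F) :
    (spGram e P)ᵀ = -spGram e P := by
  ext a b
  rw [Matrix.transpose_apply, Matrix.neg_apply, spGram_apply, spGram_apply]
  exact isSymplecticForm_sympForm.skew _ _

theorem spGram_diag (e : (Fin m ⊕ Fin m) ≃ κ) (P : GL (Fin m ⊕ Fin m) F) (a : κ) : spGram e P a a = 0 := by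
  rw [spGram_apply]
  exact isSymplecticForm_sympForm.alternating _

theorem mulVec_coord (e : (Fin m ⊕ Fin m) ≃ κ) (P : GL (Fin m ⊕ Fin m) F)
    (X : Matrix (Fin m ⊕ Fin m) (Fin m ⊕ Fin m) F) (x : κ → F) :
    X *ᵥ ((P : Matrix (Fin m ⊕ Fin m) (Fin m ⊕ Fin m) F) *ᵥ (x ∘ e)) =
      (P : Matrix (Fin m ⊕ Fin m) (Fin m ⊕ Fin m) F) *ᵥ ((coord e P X *ᵥ x) ∘ e) := by
  rw [coord, Matrix.submatrix_mulVec_equiv, Equiv.symm_symm, Function.comp_assoc, Equiv.symm_comp_self,
    Function.comp_id, Matrix.mulVec_mulVec, Matrix.mulVec_mulVec, ← Matrix.mul_assoc, ← Matrix.mul_assoc,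
    ← Units.val_mul, mul_inv_cancel, Units.val_one, one_mul]

theorem spGram_fix (e : (Fin m ⊕ Fin m) ≃ κ) (P : GL (Fin m ⊕ Fin m) F) {g : GL (Fin m ⊕ Fin m) F}
    (hg : g ∈ Cfsg.spGL m F) :
    (coord e P (g : Matrix (Fin m ⊕ Fin m) (Fin m ⊕ Fin m) F))ᵀ * spGram e P *
      coord e P (g : Matrix (Fin m ⊕ Fin m) (Fin m ⊕ Fin m) F) = spGram e P := by
  ext a b
  have h := hg ((P : Matrix (Fin m ⊕ Fin m) (Fin m ⊕ Fin m) F) *ᵥ (Pi.single a 1 ∘ e))
    ((P : Matrix (Fin m ⊕ Fin m) (Fin m ⊕ Fin m) F) *ᵥ (Pi.single b 1 ∘ e))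
  change Cfsg.sympForm m F ((g : Matrix (Fin m ⊕ Fin m) (Fin m ⊕ Fin m) F) *ᵥ _)
    ((g : Matrix (Fin m ⊕ Fin m) (Fin m ⊕ Fin m) F) *ᵥ _) = _ at h
  rw [mulVec_coord, mulVec_coord, sympForm_coord, sympForm_coord, Matrix.dotProduct_mulVec, Matrix.vecMul_mulVec,
    ← Matrix.dotProduct_mulVec] at h
  rw [Matrix.mulVec_mulVec, single_one_dotProduct, single_one_dotProduct] at h
  simpa [Matrix.mulVec_single_one, ← Matrix.mul_assoc] using h

theorem isTensorFormStructure_of_spGram {n₁ n₂ : ℕ} (e : (Fin m ⊕ Fin m) ≃ Fin n₁ × Fin n₂)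
    (P : GL (Fin m ⊕ Fin m) F) {X : Matrix (Fin n₁) (Fin n₁) F} {Y : Matrix (Fin n₂) (Fin n₂) F}
    (h : spGram e P = X ⊗ₖ Y) :
    IsTensorFormStructure id (Cfsg.sympForm m F) (formOfGram id X) (formOfGram id Y) e P :=
  ⟨1, one_ne_zero, fun x y => by
    rw [gramMatrix_formOfGram, gramMatrix_formOfGram, sympForm_coord, h, formOfGram_id_eq, one_mul]⟩

theorem isTensorPowerFormStructure_of_spGram {k t : ℕ} (e : (Fin m ⊕ Fin m) ≃ (Fin t → Fin k))
    (P : GL (Fin m ⊕ Fin m) F) {X : Matrix (Fin k) (Fin k) F} {c : F} (hc : c ≠ 0)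
    (h : spGram e P = c • pureT k t F fun _ => X) :
    IsTensorPowerFormStructure id (Cfsg.sympForm m F) (formOfGram id X) e P :=
  ⟨c, hc, fun x y => by
    rw [gramMatrix_formOfGram, sympForm_coord, h, Matrix.smul_mulVec, dotProduct_smul, smul_eq_mul]
    congr 1
    simp only [dotProduct, Matrix.mulVec, Finset.mul_sum, pureT_apply, id, mul_assoc]⟩

end Symp

end CfsgLib.Geo.Asch
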