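/-
Gram matrices of a quadratic form in coordinates, congruence of symmetric matrices, and the isometries of the
tensor square of the alternating plane.
-/
import Cfsg.Agent.Lib.Geo.Asch.OrthType
import Cfsg.Agent.Lib.Geo.Asch.TensorSplit
import Cfsg.Agent.Lib.Geo.Asch.TwoFactors
import Cfsg.Agent.Lib.Geo.Asch.SpForms

set_option autoImplicit false
set_option linter.unusedSectionVars false

namespace CfsgLib.Geo.Asch

open Matrix Cfsg.Geo
open scoped Kronecker
open CfsgLib.Classical CfsgLib.Classical.Quad CfsgLib.Geo.OrthMax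
open QuadraticMap (polar polarBilin)

variable {F : Type*} [Field F] [Finite F]

section Gram

variable {ι : Type} [Fintype ι] [DecidableEq ι] {Q : QuadraticForm F (ι → F)}
variable {κ : Type} [Fintype κ] [DecidableEq κ]

/-- The vector with given coordinates. -/
def vecIn (e : ι ≃ κ) (P : GL ι F) : (κ → F) →ₗ[F] (ι → F) :=
  ((P : Matrix ι ι F).mulVecLin).comp (LinearMap.funLeft F F e)

theorem vecIn_apply (e : ι ≃ κ) (P : GL ι F) (x : κ → F) : vecIn e P x = (P : Matrix ι ι F) *ᵥ (x ∘ e) := rfl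

theorem vecIn_surjective (e : ι ≃ κ) (P : GL ι F) : Function.Surjective (vecIn e P) := fun v =>
  ⟨(((P⁻¹ : GL ι F) : Matrix ι ι F) *ᵥ v) ∘ e.symm, by
    rw [vecIn_apply, Function.comp_assoc, Equiv.symm_comp_self, Function.comp_id, inv_mulVec_cancel]⟩

theorem vecIn_injective (e : ι ≃ κ) (P : GL ι F) : Function.Injective (vecIn e P) := by
  intro x y h
  have h1 := congrArg (fun v => ((P⁻¹ : GL ι F) : Matrix ι ι F) *ᵥ v) h
  simp only [vecIn_apply, mulVec_inv_cancel] at h1
  exact funext fun k => by simpa using congrFun h1 (e.symm k)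

theorem mulVec_vecIn (e : ι ≃ κ) (P : GL ι F) (X : Matrix ι ι F) (x : κ → F) :
    X *ᵥ vecIn e P x = vecIn e P (coord e P X *ᵥ x) := by
  rw [vecIn_apply, vecIn_apply, coord, Matrix.submatrix_mulVec_equiv, Equiv.symm_symm, Function.comp_assoc,
    Equiv.symm_comp_self, Function.comp_id, Matrix.mulVec_mulVec, Matrix.mulVec_mulVec, ← Matrix.mul_assoc,
    ← Matrix.mul_assoc, ← Units.val_mul, mul_inv_cancel, Units.val_one, one_mul]

/-- The Gram matrix of the polar form in coordinates. -/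
def orGram (Q : QuadraticForm F (ι → F)) (e : ι ≃ κ) (P : GL ι F) : Matrix κ κ F :=
  (gramIn (polar Q) (P : Matrix ι ι F)).submatrix e.symm e.symm

theorem polar_vecIn (e : ι ≃ κ) (P : GL ι F) (x y : κ → F) :
    polar Q (vecIn e P x) (vecIn e P y) = x ⬝ᵥ orGram Q e P *ᵥ y := by
  rw [vecIn_apply, vecIn_apply, form_eq_gram (polar_isSesq (Q := Q))]
  simp only [dotProduct, Matrix.mulVec, orGram, Matrix.submatrix_apply, Finset.mul_sum, RingEquiv.refl_apply,
    Function.comp_apply]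
  refine Fintype.sum_equiv e _ _ fun i => Fintype.sum_equiv e _ _ fun j => ?_
  simp

theorem orGram_transpose (e : ι ≃ κ) (P : GL ι F) : (orGram Q e P)ᵀ = orGram Q e P := by
  ext a b
  exact QuadraticMap.polar_comm _ _ _

theorem orGram_diag (e : ι ≃ κ) (P : GL ι F) (a : κ) :
    orGram Q e P a a = 2 * Q (vecIn e P (Pi.single a 1)) := by
  have h := polar_vecIn (Q := Q) e P (Pi.single a 1) (Pi.single a 1)
  rw [polar_self'] at h
  rw [h]
  simp

theorem orGram_isUnit (hQ : (polarBilin Q).Nondegenerate) (e : ι ≃ κ) (P : GL ι F) : IsUnit (orGram Q e P) := by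
  rw [← Matrix.mulVec_injective_iff_isUnit]
  intro x y h
  refine vecIn_injective e P (sub_eq_zero.1 ?_)
  rw [← map_sub]
  refine hQ.1 _ fun z => ?_
  obtain ⟨w, rfl⟩ := vecIn_surjective e P z
  show polar Q _ _ = 0
  rw [QuadraticMap.polar_comm, polar_vecIn, Matrix.mulVec_sub, sub_eq_zero.2 h, dotProduct_zero]

theorem orGram_fix (e : ι ≃ κ) (P : GL ι F) {g : GL ι F} (hg : ∀ v, Q ((g : Matrix ι ι F) *ᵥ v) = Q v) :
    (coord e P (g : Matrix ι ι F))ᵀ * orGram Q e P * coord e P (g : Matrix ι ι F) = orGram Q e P := by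
  ext a b
  have h := fixes_polar_of_isometry hg (vecIn e P (Pi.single a 1)) (vecIn e P (Pi.single b 1))
  rw [mulVec_vecIn, mulVec_vecIn, polar_vecIn, polar_vecIn, Matrix.dotProduct_mulVec, Matrix.vecMul_mulVec,
    ← Matrix.dotProduct_mulVec, Matrix.mulVec_mulVec, single_one_dotProduct, single_one_dotProduct] at h
  simpa [Matrix.mulVec_single_one, ← Matrix.mul_assoc] using h

theorem orGram_reindex {μ : Type} [Fintype μ] [DecidableEq μ] (e : ι ≃ κ) (f : κ ≃ μ) (P : GL ι F) :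
    orGram Q (e.trans f) P = (orGram Q e P).submatrix f.symm f.symm := rfl

theorem orGram_mul_reindex (e : ι ≃ κ) (P : GL ι F) (K : GL κ F) :
    orGram Q e (P * glReindex (F := F) e.symm K) = (K : Matrix κ κ F)ᵀ * orGram Q e P * (K : Matrix κ κ F) := by
  have hv : ∀ x, vecIn e (P * glReindex (F := F) e.symm K) x = vecIn e P ((K : Matrix κ κ F) *ᵥ x) := by
    intro x
    have hK : ((glReindex (F := F) e.symm K : GL ι F) : Matrix ι ι F) = (K : Matrix κ κ F).submatrix e e := by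
      ext i j
      simp [glReindex]
    rw [vecIn_apply, vecIn_apply, Units.val_mul, hK, ← Matrix.mulVec_mulVec, Matrix.submatrix_mulVec_equiv,
      Function.comp_assoc, Equiv.self_comp_symm, Function.comp_id]
  ext a b
  have h := polar_vecIn (Q := Q) e (P * glReindex (F := F) e.symm K) (Pi.single a 1) (Pi.single b 1)
  rw [hv, hv, polar_vecIn, Matrix.dotProduct_mulVec, Matrix.vecMul_mulVec, ← Matrix.dotProduct_mulVec,
    Matrix.mulVec_mulVec, single_one_dotProduct, single_one_dotProduct] at h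
  simpa [Matrix.mulVec_single_one, ← Matrix.mul_assoc] using h.symm

theorem apply_vecIn_of_two (h2 : (2 : F) ≠ 0) (e : ι ≃ κ) (P : GL ι F) (x : κ → F) :
    Q (vecIn e P x) = x ⬝ᵥ orGram Q e P *ᵥ x / 2 := by
  rw [apply_eq_half_polar h2, polar_vecIn]

end Gram

section Congr

/-- Symmetric matrices of the same size whose determinants agree up to squares are congruent. -/
theorem exists_congr_of_det (h2 : (2 : F) ≠ 0) {d : ℕ} (hd : 1 ≤ d) {X Y : Matrix (Fin d) (Fin d) F} (hXu : IsUnit X)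
    (hYu : IsUnit Y) (hX : Xᵀ = X) (hY : Yᵀ = Y) (h : IsSquare (X.det * Y.det)) :
    ∃ M : GL (Fin d) F, Y = (M : Matrix (Fin d) (Fin d) F)ᵀ * X * (M : Matrix (Fin d) (Fin d) F) := by
  obtain ⟨k, rfl⟩ : ∃ k, d = k + 1 := ⟨d - 1, by omega⟩
  have hsym : ∀ {Z : Matrix (Fin (k + 1)) (Fin (k + 1)) F}, Zᵀ = Z → LinearMap.BilinForm.IsSymm (Matrix.toBilin' Z) :=
    fun {Z} hZ => ⟨fun u v => by
      rw [Matrix.toBilin'_apply', Matrix.toBilin'_apply', Matrix.dotProduct_mulVec, ← Matrix.mulVec_transpose, hZ]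
      exact dotProduct_comm _ _⟩
  have hnd : ∀ {Z : Matrix (Fin (k + 1)) (Fin (k + 1)) F}, IsUnit Z → (Matrix.toBilin' Z).Nondegenerate :=
    fun {Z} hZ => LinearMap.BilinForm.nondegenerate_toBilin'_of_det_ne_zero' _
      ((Matrix.isUnit_iff_isUnit_det _).1 hZ).ne_zero
  have hmat : ∀ Z : Matrix (Fin (k + 1)) (Fin (k + 1)) F,
      LinearMap.BilinForm.toMatrix (Pi.basisFun F (Fin (k + 1))) (Matrix.toBilin' Z) = Z := fun Z => by
    ext i j
    rw [LinearMap.BilinForm.toMatrix_apply, Pi.basisFun_apply, Pi.basisFun_apply, Matrix.toBilin'_single]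
  obtain ⟨φ, hφ⟩ := exists_isometry_of_det h2 (hsym hY) (hnd hYu) (hsym hX) (hnd hXu)
    (Pi.basisFun F (Fin (k + 1))) (Pi.basisFun F (Fin (k + 1))) (n := k) (by simp) (by simp)
    (by rwa [hmat, hmat, mul_comm])
  have hk : IsUnit (LinearMap.toMatrix' (φ : (Fin (k + 1) → F) →ₗ[F] (Fin (k + 1) → F))) := by
    rw [← Matrix.mulVec_injective_iff_isUnit]
    intro x y hxy
    exact φ.injective (by simpa using hxy)
  refine ⟨hk.unit, ?_⟩
  rw [IsUnit.unit_spec]
  ext a b
  have h := hφ (Pi.single a 1) (Pi.single b 1)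
  rw [Matrix.toBilin'_apply', Matrix.toBilin'_apply',
    show φ (Pi.single a 1) = LinearMap.toMatrix' (φ : (Fin (k + 1) → F) →ₗ[F] (Fin (k + 1) → F)) *ᵥ Pi.single a 1 by
      rw [LinearMap.toMatrix'_mulVec]; rfl,
    show φ (Pi.single b 1) = LinearMap.toMatrix' (φ : (Fin (k + 1) → F) →ₗ[F] (Fin (k + 1) → F)) *ᵥ Pi.single b 1 by
      rw [LinearMap.toMatrix'_mulVec]; rfl,
    Matrix.mulVec_mulVec, Matrix.dotProduct_mulVec, Matrix.vecMul_mulVec, ← Matrix.dotProduct_mulVec,
    Matrix.mulVec_single_one, single_one_dotProduct, Matrix.mulVec_single_one, single_one_dotProduct] at h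
  rw [mul_assoc]
  exact h.symm

/-- In odd dimension all non-degenerate symmetric matrices are congruent up to a scalar. -/
theorem exists_congr_odd (h2 : (2 : F) ≠ 0) {d : ℕ} (hd : Odd d) {X Y : Matrix (Fin d) (Fin d) F} (hXu : IsUnit X)
    (hYu : IsUnit Y) (hX : Xᵀ = X) (hY : Yᵀ = Y) :
    ∃ (μ : F) (M : GL (Fin d) F), μ ≠ 0 ∧
      Y = μ • ((M : Matrix (Fin d) (Fin d) F)ᵀ * X * (M : Matrix (Fin d) (Fin d) F)) := by
  set μ := X.det * Y.det
  have hμ : μ ≠ 0 :=
    mul_ne_zero ((Matrix.isUnit_iff_isUnit_det _).1 hXu).ne_zero ((Matrix.isUnit_iff_isUnit_det _).1 hYu).ne_zero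
  have hs : IsSquare ((μ • X).det * Y.det) := by
    rw [Matrix.det_smul, Fintype.card_fin, mul_assoc]
    obtain ⟨j, rfl⟩ := hd
    refine ⟨μ ^ (j + 1), ?_⟩
    show μ ^ (2 * j + 1) * μ = μ ^ (j + 1) * μ ^ (j + 1)
    ring
  obtain ⟨M, hM⟩ := exists_congr_of_det h2 (Nat.one_le_iff_ne_zero.2 fun h0 => by simp [h0] at hd)
    (X := μ • X) (Y := Y) (hXu.smul (Units.mk0 μ hμ)) hYu (by rw [Matrix.transpose_smul, hX]) hY hs
  exact ⟨μ, M, hμ, by rw [hM, Matrix.mul_smul, Matrix.smul_mul]⟩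

end Congr

section Square

variable {K : Type*} [Field K]

/-- A vector on which the tensor square of the alternating plane vanishes is a pure tensor. -/
theorem pure_of_singular {v : Fin 2 × Fin 2 → K} (h : v (0, 0) * v (1, 1) = v (0, 1) * v (1, 0)) :
    ∃ p q : Fin 2 → K, v = fun a => p a.1 * q a.2 := by
  by_cases h00 : v (0, 0) = 0
  · rw [h00, zero_mul] at h
    rcases mul_eq_zero.1 h.symm with h1 | h1
    · refine ⟨![0, 1], ![v (1, 0), v (1, 1)], funext fun a => ?_⟩
      obtain ⟨i, j⟩ := a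
      fin_cases i <;> fin_cases j <;> simp [h00, h1]
    · refine ⟨![v (0, 1), v (1, 1)], ![0, 1], funext fun a => ?_⟩
      obtain ⟨i, j⟩ := a
      fin_cases i <;> fin_cases j <;> simp [h00, h1]
  · refine ⟨![1, v (1, 0) / v (0, 0)], ![v (0, 0), v (0, 1)], funext fun a => ?_⟩
    obtain ⟨i, j⟩ := a
    fin_cases i <;> fin_cases j <;> simp
    · field_simp
    · field_simp
      linear_combination h

/-- Vectors with vanishing area are proportional. -/
theorem eq_smul_of_area {p q : Fin 2 → K} (hp : p ≠ 0) (h : p 0 * q 1 - p 1 * q 0 = 0) : ∃ c : K, q = c • p := by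
  by_cases h0 : p 0 = 0
  · have h1 : p 1 ≠ 0 := fun h1 => hp (funext fun i => by fin_cases i <;> simp [h0, h1])
    refine ⟨q 1 / p 1, funext fun i => ?_⟩
    have hq : q 0 = 0 := (mul_eq_zero.1 (show p 1 * q 0 = 0 by linear_combination -h + q 1 * h0)).resolve_left h1
    fin_cases i <;> simp [h0, hq, div_mul_cancel₀ _ h1]
  · refine ⟨q 0 / p 0, funext fun i => ?_⟩
    fin_cases i <;> simp [div_mul_cancel₀ _ h0]
    field_simp
    linear_combination h

/-- An isometry of determinant one of the tensor square of the alternating plane is a Kronecker product. -/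
theorem exists_kron_of_isometry (h2 : (2 : K) ≠ 0) {b : Matrix (Fin 2 × Fin 2) (Fin 2 × Fin 2) K}
    (hb : bᵀ * (symJ K ⊗ₖ symJ K) * b = symJ K ⊗ₖ symJ K) (hdet : b.det = 1) :
    ∃ c d : Matrix (Fin 2) (Fin 2) K, b = c ⊗ₖ d := by
  -- the values of the form on the columns
  have hcol : ∀ x y : Fin 2 × Fin 2, b (0, 0) x * b (1, 1) y - b (0, 1) x * b (1, 0) y - b (1, 0) x * b (0, 1) y +
      b (1, 1) x * b (0, 0) y = symJ K x.1 y.1 * symJ K x.2 y.2 := by
    intro x y
    have h := congrFun (congrFun hb x) y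
    simp [Matrix.mul_apply, Fintype.sum_prod_type, Fin.sum_univ_two, symJ] at h
    simp [symJ]
    linear_combination h
  have hsing : ∀ x, b (0, 0) x * b (1, 1) x = b (0, 1) x * b (1, 0) x := fun x => by
    have hJ : ∀ i : Fin 2, symJ K i i = 0 := fun i => by fin_cases i <;> simp [symJ]
    have h := hcol x x
    rw [hJ, zero_mul] at h
    exact sub_eq_zero.1 ((mul_eq_zero.1 (show (2 : K) *
      (b (0, 0) x * b (1, 1) x - b (0, 1) x * b (1, 0) x) = 0 by linear_combination h)).resolve_left h2)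
  choose p q hpq using fun x => pure_of_singular (v := fun a => b a x) (hsing x)
  have hbe : ∀ a x, b a x = p x a.1 * q x a.2 := fun a x => congrFun (hpq x) a
  let A : (Fin 2 → K) → (Fin 2 → K) → K := fun u v => u 0 * v 1 - u 1 * v 0
  have hA : ∀ x y, A (p x) (p y) * A (q x) (q y) = symJ K x.1 y.1 * symJ K x.2 y.2 := fun x y => by
    rw [← hcol x y]
    simp only [hbe, A]
    ring
  have h03 : A (p (0, 0)) (p (1, 1)) * A (q (0, 0)) (q (1, 1)) = 1 := by rw [hA]; simp [symJ]
  have h12 : A (p (0, 1)) (p (1, 0)) * A (q (0, 1)) (q (1, 0)) = -1 := by rw [hA]; simp [symJ]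
  have hp0 : ∀ x y, A (p x) (p y) ≠ 0 → p x ≠ 0 ∧ p y ≠ 0 := fun x y h =>
    ⟨fun e => h (by simp [A, e]), fun e => h (by simp [A, e])⟩
  have hq0 : ∀ x y, A (q x) (q y) ≠ 0 → q x ≠ 0 ∧ q y ≠ 0 := fun x y h =>
    ⟨fun e => h (by simp [A, e]), fun e => h (by simp [A, e])⟩
  have hP03 : A (p (0, 0)) (p (1, 1)) ≠ 0 := left_ne_zero_of_mul_eq_one h03
  have hQ03 : A (q (0, 0)) (q (1, 1)) ≠ 0 := right_ne_zero_of_mul_eq_one h03
  have hP12 : A (p (0, 1)) (p (1, 0)) ≠ 0 := fun e => by rw [e, zero_mul] at h12; simp at h12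
  have hQ12 : A (q (0, 1)) (q (1, 0)) ≠ 0 := fun e => by rw [e, mul_zero] at h12; simp at h12
  -- a middle column is proportional to the outer ones
  have split : ∀ x, A (p (0, 0)) (p x) * A (q (0, 0)) (q x) = 0 → A (p x) (p (1, 1)) * A (q x) (q (1, 1)) = 0 →
      p x ≠ 0 → q x ≠ 0 → (∃ a c : K, p x = a • p (0, 0) ∧ q x = c • q (1, 1)) ∨
        (∃ a c : K, p x = a • p (1, 1) ∧ q x = c • q (0, 0)) := by
    intro x hl hr hpx hqx
    obtain ⟨hp00, hp11⟩ := hp0 _ _ hP03
    obtain ⟨hq00, hq11⟩ := hq0 _ _ hQ03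
    rcases mul_eq_zero.1 hl with hl | hl
    · obtain ⟨a, ha⟩ := eq_smul_of_area hp00 hl
      refine Or.inl ?_
      have ha0 : a ≠ 0 := fun e => hpx (by rw [ha, e, zero_smul])
      have hr' : A (q x) (q (1, 1)) = 0 := by
        refine (mul_eq_zero.1 hr).resolve_left ?_
        rw [ha, show A (a • p (0, 0)) (p (1, 1)) = a * A (p (0, 0)) (p (1, 1)) by simp [A]; ring]
        exact mul_ne_zero ha0 hP03
      obtain ⟨c, hc⟩ := eq_smul_of_area hq11 (q := q x) (by simp only [A] at hr'; linear_combination -hr')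
      exact ⟨a, c, ha, hc⟩
    · obtain ⟨c, hc⟩ := eq_smul_of_area hq00 hl
      refine Or.inr ?_
      have hc0 : c ≠ 0 := fun e => hqx (by rw [hc, e, zero_smul])
      have hr' : A (p x) (p (1, 1)) = 0 := by
        refine (mul_eq_zero.1 hr).resolve_right ?_
        rw [hc, show A (c • q (0, 0)) (q (1, 1)) = c * A (q (0, 0)) (q (1, 1)) by simp [A]; ring]
        exact mul_ne_zero hc0 hQ03
      obtain ⟨a, ha⟩ := eq_smul_of_area hp11 (q := p x) (by simp only [A] at hr'; linear_combination -hr')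
      exact ⟨a, c, ha, hc⟩
  have s1 := split (0, 1) (by rw [hA]; simp [symJ]) (by rw [hA]; simp [symJ]) (hp0 _ _ hP12).1 (hq0 _ _ hQ12).1
  have s2 := split (1, 0) (by rw [hA]; simp [symJ]) (by rw [hA]; simp [symJ]) (hp0 _ _ hP12).2 (hq0 _ _ hQ12).2
  have hself : ∀ (a c : K) (u : Fin 2 → K), A (a • u) (c • u) = 0 := fun a c u => by simp [A]; ring
  rcases s1 with ⟨β, β', hb1, hb2⟩ | ⟨β, β', hb1, hb2⟩ <;> rcases s2 with ⟨γ, γ', hc1, hc2⟩ | ⟨γ, γ', hc1, hc2⟩
  · exact absurd (by rw [hb1, hc1, hself]) hP12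
  · -- factors
    have e1 : β * β' * (γ * γ') = 1 := by
      rw [hb1, hb2, hc1, hc2] at h12
      simp only [A, Pi.smul_apply, smul_eq_mul] at h12 h03
      linear_combination -h12 - β * β' * (γ * γ') * h03
    refine ⟨Matrix.of fun i a => ![p (0, 0) i, γ * γ' * p (1, 1) i] a,
      Matrix.of fun j a => ![q (0, 0) j, β * β' * q (1, 1) j] a, Matrix.ext ?_⟩
    rintro ⟨i, j⟩ ⟨x, y⟩
    rw [hbe, Matrix.kronecker_apply]
    fin_cases x <;> fin_cases y <;> simp [hb1, hb2, hc1, hc2]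
    · ring
    · ring
    · linear_combination -(p (1, 1) i * q (1, 1) j) * e1
  · -- a swap of the factors
    exfalso
    have e1 : β * β' * (γ * γ') = 1 := by
      rw [hb1, hb2, hc1, hc2] at h12
      simp only [A, Pi.smul_apply, smul_eq_mul] at h12 h03
      linear_combination -h12 - β * β' * (γ * γ') * h03
    let c : Matrix (Fin 2) (Fin 2) K := Matrix.of fun i a => ![p (0, 0) i, β * β' * p (1, 1) i] a
    let d : Matrix (Fin 2) (Fin 2) K := Matrix.of fun j a => ![q (0, 0) j, γ * γ' * q (1, 1) j] a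
    have hbcd : b = (c ⊗ₖ d).submatrix id (Equiv.prodComm (Fin 2) (Fin 2)) := Matrix.ext fun ⟨i, j⟩ ⟨x, y⟩ => by
      rw [hbe, Matrix.submatrix_apply, Matrix.kronecker_apply]
      fin_cases x <;> fin_cases y <;> simp [c, d, hb1, hb2, hc1, hc2]
      · ring
      · ring
      · linear_combination -(p (1, 1) i * q (1, 1) j) * e1
    have hcd : c.det * d.det = 1 := by
      rw [Matrix.det_fin_two, Matrix.det_fin_two]
      simp only [A] at h03
      simp [c, d]
      linear_combination (β * β' * (γ * γ')) * h03 + e1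
    have hsw : Equiv.prodComm (Fin 2) (Fin 2) = Equiv.swap ((0 : Fin 2), (1 : Fin 2)) (1, 0) := by
      ext ⟨x, y⟩ <;> fin_cases x <;> fin_cases y <;> simp [Equiv.swap_apply_of_ne_of_ne]
    rw [hbcd, Matrix.det_permute', hsw, Equiv.Perm.sign_swap (by simp), Matrix.det_kronecker, Fintype.card_fin,
      ← mul_pow, hcd] at hdet
    exact h2 (by simp at hdet; linear_combination -hdet)
  · exact absurd (by rw [hb1, hc1, hself]) hP12

end Square

end CfsgLib.Geo.Asch
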