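/-
Orthogonal decompositions of a quadratic space: frames of lines, discriminants and types.
-/
import Cfsg.Agent.Lib.Geo.Asch.OrthGram
import Cfsg.Agent.Lib.Geo.Asch.Orth
import Cfsg.Agent.Lib.Geo.OrthPlaneApply

set_option autoImplicit false
set_option linter.unusedSectionVars false
set_option maxHeartbeats 400000

namespace CfsgLib.Geo.Asch

open Matrix Cfsg.Geo
open CfsgLib.Classical CfsgLib.Classical.Quad CfsgLib.Geo.OrthMax
open scoped Kronecker
open QuadraticMap (polar polarBilin)

variable {F : Type*} [Field F] [Finite F] {ι : Type} [Fintype ι] [DecidableEq ι] {Q : QuadraticForm F (ι → F)}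

/-- In characteristic two non-degenerate subspaces have even dimension. -/
theorem even_finrank_of_ndOn (h2 : (2 : F) = 0) {W : Submodule F (ι → F)} (hW : IsNondegenerateOn (polar Q) W) :
    Even (Module.finrank F W) := by
  classical
  let b := Module.finBasis F W
  let X : Matrix (Fin (Module.finrank F W)) (Fin (Module.finrank F W)) F :=
    LinearMap.BilinForm.toMatrix b (polarBilin (Q.comp W.subtype))
  have hu : IsUnit X :=
    (Matrix.isUnit_iff_isUnit_det _).2 (isUnit_iff_ne_zero.2
      ((LinearMap.BilinForm.nondegenerate_iff_det_ne_zero b).1 (restrict_nondeg hW)))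
  have hskew : Xᵀ = -X := by
    ext a c
    simp only [X, Matrix.transpose_apply, Matrix.neg_apply, LinearMap.BilinForm.toMatrix_apply]
    show polar (Q.comp W.subtype) (b c) (b a) = -polar (Q.comp W.subtype) (b a) (b c)
    rw [QuadraticMap.polar_comm]
    linear_combination polar (Q.comp W.subtype) (b a) (b c) * h2
  have hd : ∀ i, X i i = 0 := fun i => by
    simp only [X, LinearMap.BilinForm.toMatrix_apply]
    show polar (Q.comp W.subtype) (b i) (b i) = 0
    rw [polar_self', h2, zero_mul]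
  simpa using even_card_of_skew hu hskew hd

/-- A stable subspace of a group of matrices is fixed by it. -/
theorem le_stabilizer_of_stable {H : Subgroup (GL ι F)} {U : Submodule F (ι → F)} (hU : Stable (matrixSet H) U) :
    H ≤ subspaceStabilizer U := fun g hg =>
  (mem_subspaceStabilizer_iff U g).2 fun v => ⟨fun hv => stable_matrixSet_iff.1 hU g hg v hv, fun hv => by
    simpa [mulVec_inv_cancel] using stable_matrixSet_iff.1 hU g⁻¹ (H.inv_mem hg) _ hv⟩

theorem map_eq_of_stable {H : Subgroup (GL ι F)} {U : Submodule F (ι → F)} (hU : Stable (matrixSet H) U)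
    {g : GL ι F} (hg : g ∈ H) : U.map (Matrix.toLin' (g : Matrix ι ι F)) = U := by
  refine le_antisymm ?_ fun v hv => ⟨((g⁻¹ : GL ι F) : Matrix ι ι F) *ᵥ v,
    stable_matrixSet_iff.1 hU g⁻¹ (H.inv_mem hg) v hv, ?_⟩
  · rintro _ ⟨v, hv, rfl⟩
    exact stable_matrixSet_iff.1 hU g hg v hv
  · rw [Matrix.toLin'_apply, inv_mulVec_cancel]

/-- An irreducible group permuting an orthogonal decomposition makes its members isometric. -/
theorem isometric_of_irreducible {H : Subgroup (GL ι F)} (hH : ∀ g ∈ H, ∀ v, Q ((g : Matrix ι ι F) *ᵥ v) = Q v)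
    (hirr : ActsIrreducibly (matrixSet H)) {t m : ℕ} {D : Fin t → Submodule F (ι → F)}
    (hD : IsNondegenerateMDecomposition (polar Q) m D) (hle : H ≤ decompositionStabilizer D) :
    IsOrthogonalMDecomposition (⇑Q) m D := by
  classical
  refine ⟨hD, fun i j => ?_⟩
  let O : Set (Fin t) := {l | ∃ g ∈ H, (D i).map (Matrix.toLin' (g : Matrix ι ι F)) = D l}
  let U : Submodule F (ι → F) := ⨆ l ∈ O, D l
  have hU : ∀ s ∈ matrixSet H, U.map (Matrix.toLin' s) ≤ U := by
    rintro _ ⟨g, hg, rfl⟩
    simp only [U, Submodule.map_iSup]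
    refine iSup₂_le fun l hl => ?_
    obtain ⟨h, hh, hhl⟩ := hl
    obtain ⟨π, hπ⟩ := hle hg
    rw [hπ l]
    refine le_iSup₂_of_le (π l) ⟨g * h, H.mul_mem hg hh, ?_⟩ le_rfl
    rw [Units.val_mul, Matrix.toLin'_mul, Submodule.map_comp, hhl, hπ]
  obtain ⟨g, hg, hgj⟩ : j ∈ O := by
    by_contra hj
    rcases hirr U hU with h | h
    · have hi : D i ≤ U := le_iSup₂_of_le i ⟨1, H.one_mem, by simp⟩ le_rfl
      rw [h, le_bot_iff] at hi
      have := hD.decomp.finrank_eq i
      rw [hi, finrank_bot] at this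
      exact absurd this (by have := hD.decomp.pos; omega)
    · have hdis : Disjoint (D j) (⨆ (l) (_ : l ≠ j), D l) := hD.decomp.indep j
      have hle' : U ≤ ⨆ (l) (_ : l ≠ j), D l :=
        iSup₂_le fun l hl => le_iSup₂_of_le l (fun e : l = j => hj (e ▸ hl)) le_rfl
      rw [h, top_le_iff] at hle'
      rw [hle', disjoint_top] at hdis
      have := hD.decomp.finrank_eq j
      rw [hdis, finrank_bot] at this
      exact absurd this (by have := hD.decomp.pos; omega)
  refine ⟨((linEquiv g).submoduleMap (D i)).trans (LinearEquiv.ofEq _ _ ?_), fun w => hH g hg w⟩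
  rw [← hgj]
  rfl

/-- A group writing a basis over a subfield lies in a subfield group. -/
theorem le_subfieldSubgroup_of_cols {H : Subgroup (GL ι F)} {F₁ : Subfield F} (P : GL ι F)
    (h : ∀ g ∈ H, ∀ i j, (((P⁻¹ : GL ι F) : Matrix ι ι F) * (g : Matrix ι ι F) * (P : Matrix ι ι F)) i j ∈ F₁) :
    H ≤ subfieldSubgroup F₁ P := fun g hg => by
  refine subfieldSubgroup_mem (g := P⁻¹ * g * P) (c := 1) ?_ (by simp)
  intro i j
  simpa only [Units.val_mul] using h g hg i j

/-- Equal norms on pairwise orthogonal vectors give a decomposition into lines. -/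
theorem lines_decomposition (h2 : (2 : F) ≠ 0) {t : ℕ} (ht : 2 ≤ t) (hcard : Fintype.card ι = t)
    (b : Fin t → ι → F) {c : F} (hc : c ≠ 0) (hQb : ∀ k, Q (b k) = c)
    (horth : ∀ i j, i ≠ j → polar Q (b i) (b j) = 0) :
    IsOrthogonalMDecomposition (⇑Q) 1 (fun k => Submodule.span F {b k}) := by
  classical
  have hp : ∀ i, polar Q (b i) (b i) ≠ 0 := fun i => by
    rw [polar_self', hQb]
    exact mul_ne_zero h2 hc
  have hb0 : ∀ i, b i ≠ 0 := fun i e => hp i (by rw [e, QuadraticMap.polar_zero_left])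
  have hli : LinearIndependent F b := by
    refine Fintype.linearIndependent_iff.2 fun a ha i => ?_
    have h := congrArg (fun v => polarBilin Q (b i) v) ha
    simp only [map_sum, map_smul, map_zero] at h
    rw [Finset.sum_eq_single i (fun j _ hj => by
      show a j • polar Q (b i) (b j) = 0
      rw [horth i j (Ne.symm hj), smul_zero]) (by simp)] at h
    exact (mul_eq_zero.1 h).resolve_right (hp i)
  have hspan : Submodule.span F (Set.range b) = ⊤ :=
    hli.span_eq_top_of_card_eq_finrank' (by rw [Fintype.card_fin, Module.finrank_pi, hcard])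
  refine ⟨⟨⟨ht, one_pos, fun k => finrank_span_singleton (hb0 k), hli.iSupIndep_span_singleton, ?_⟩,
    fun k w hw hw0 => ?_, fun i j hij u hu v hv => ?_⟩, fun i j => ?_⟩
  · rw [← Submodule.span_range_eq_iSup, hspan]
  · obtain ⟨a, rfl⟩ := Submodule.mem_span_singleton.1 hw
    have ha : a ≠ 0 := fun e => hw0 (by rw [e, zero_smul])
    exact ⟨⟨b k, Submodule.mem_span_singleton_self _, by
        rw [QuadraticMap.polar_smul_right, smul_eq_mul]; exact mul_ne_zero ha (hp k)⟩,
      ⟨b k, Submodule.mem_span_singleton_self _, by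
        rw [QuadraticMap.polar_smul_left, smul_eq_mul]; exact mul_ne_zero ha (hp k)⟩⟩
  · obtain ⟨a, rfl⟩ := Submodule.mem_span_singleton.1 hu
    obtain ⟨d, rfl⟩ := Submodule.mem_span_singleton.1 hv
    rw [QuadraticMap.polar_smul_left, QuadraticMap.polar_smul_right, horth i j hij, smul_zero, smul_zero]
  · let f := (LinearEquiv.toSpanNonzeroSingleton F (ι → F) (b i) (hb0 i)).symm.trans
      (LinearEquiv.toSpanNonzeroSingleton F (ι → F) (b j) (hb0 j))
    refine ⟨f, fun w => ?_⟩
    obtain ⟨a, ha⟩ := (LinearEquiv.toSpanNonzeroSingleton F (ι → F) (b i) (hb0 i)).surjective w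
    subst ha
    simp only [f, LinearEquiv.trans_apply, LinearEquiv.symm_apply_apply]
    show Q (a • b j) = Q (a • b i)
    rw [QuadraticMap.map_smul, QuadraticMap.map_smul, hQb, hQb]

/-- A group permuting a frame up to sign permutes its lines. -/
theorem lines_of_set (h2 : (2 : F) ≠ 0) {t : ℕ} (ht : 2 ≤ t) (hcard : Fintype.card ι = t) (b : Fin t → ι → F) {c : F}
    (hc : c ≠ 0) (hQb : ∀ k, Q (b k) = c) (horth : ∀ i j, i ≠ j → polar Q (b i) (b j) = 0) {H : Subgroup (GL ι F)}
    (hperm : ∀ g ∈ H, ∀ i, ∃ j, (g : Matrix ι ι F) *ᵥ b i = b j ∨ (g : Matrix ι ι F) *ᵥ b i = -b j) :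
    ∃ D : Fin t → Submodule F (ι → F), IsOrthogonalMDecomposition (⇑Q) 1 D ∧ H ≤ decompositionStabilizer D := by
  classical
  have hD := lines_decomposition h2 ht hcard b hc hQb horth
  refine ⟨_, hD, fun g hg => ?_⟩
  choose f hf using hperm g hg
  have hmap : ∀ i, (Submodule.span F {b i}).map (Matrix.toLin' (g : Matrix ι ι F)) = Submodule.span F {b (f i)} := by
    intro i
    rw [Submodule.map_span, Set.image_singleton, Matrix.toLin'_apply]
    rcases hf i with h | h
    · rw [h]
    · rw [h, Submodule.span_singleton_eq_span_singleton]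
      exact ⟨-1, by simp⟩
  have hinj : Function.Injective f := by
    intro i j hij
    by_contra hne
    have h1 : Submodule.span F {b i} = Submodule.span F {b j} :=
      Submodule.map_injective_of_injective (f := Matrix.toLin' (g : Matrix ι ι F))
        (fun u v huv => (Matrix.mulVec_injective_iff_isUnit.2 g.isUnit) huv) (by rw [hmap, hmap, hij])
    have hdis := hD.decomp.decomp.indep.pairwiseDisjoint hne
    rw [Function.onFun, h1, disjoint_self] at hdis
    have := hD.decomp.decomp.finrank_eq j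
    rw [hdis, finrank_bot] at this
    exact zero_ne_one this
  exact ⟨Equiv.ofBijective f (Finite.injective_iff_bijective.1 hinj), hmap⟩

/-- The frame of a decomposition into isometric lines. -/
theorem frame_of_lines (h2 : (2 : F) ≠ 0) {t : ℕ} {D : Fin t → Submodule F (ι → F)}
    (hD : IsOrthogonalMDecomposition (⇑Q) 1 D) :
    ∃ (b : Fin t → ι → F) (c : F), c ≠ 0 ∧ (∀ k, Q (b k) = c) ∧ (∀ k, D k = Submodule.span F {b k}) ∧
      ∀ i j, i ≠ j → polar Q (b i) (b j) = 0 := by
  classical
  have ht := hD.decomp.decomp.two_le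
  let i₀ : Fin t := ⟨0, by omega⟩
  have hbot : D i₀ ≠ ⊥ := fun e => by
    have := hD.decomp.decomp.finrank_eq i₀
    rw [e, finrank_bot] at this
    exact zero_ne_one this
  obtain ⟨v, hv, hv0⟩ := Submodule.exists_mem_ne_zero_of_ne_bot hbot
  have hone : ∀ k, ∀ w ∈ D k, w ≠ 0 → D k = Submodule.span F {w} := fun k w hw hw0 =>
    (Submodule.eq_of_le_of_finrank_eq ((Submodule.span_singleton_le_iff_mem _ _).2 hw)
      (by rw [finrank_span_singleton hw0, hD.decomp.decomp.finrank_eq])).symm
  choose e he using fun k => hD.isometric i₀ k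
  have hQv : Q v ≠ 0 := by
    intro h0
    obtain ⟨-, x, hx, hxv⟩ := hD.decomp.nondegenerate i₀ v hv hv0
    rw [hone i₀ v hv hv0] at hx
    obtain ⟨a, rfl⟩ := Submodule.mem_span_singleton.1 hx
    exact hxv (by rw [QuadraticMap.polar_smul_right, polar_self', h0, mul_zero, smul_zero])
  refine ⟨fun k => ((e k ⟨v, hv⟩ : D k) : ι → F), Q v, hQv, fun k => he k ⟨v, hv⟩, fun k => hone k _ (e k ⟨v, hv⟩).2 ?_,
    fun i j hij => hD.decomp.orthogonal i j hij _ (e i ⟨v, hv⟩).2 _ (e j ⟨v, hv⟩).2⟩
  intro h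
  exact hQv ((he k ⟨v, hv⟩).symm.trans (by
    have h' : (((e k) ⟨v, hv⟩ : D k) : ι → F) = 0 := h
    rw [h', QuadraticMap.map_zero]))

/-- The determinant of the Gram matrix in coordinates. -/
theorem det_orGram {κ : Type} [Fintype κ] [DecidableEq κ] (e : ι ≃ κ) (P : GL ι F) :
    (orGram Q e P).det = (P : Matrix ι ι F).det * (P : Matrix ι ι F).det * (gramQ Q).det := by
  have h : gramIn (polar Q) (P : Matrix ι ι F) = (P : Matrix ι ι F)ᵀ * gramQ Q * (P : Matrix ι ι F) := by
    ext i j
    show polar Q _ _ = _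
    rw [polar_eq_dot, Matrix.mul_assoc, Matrix.mul_apply]
    simp only [dotProduct, Matrix.mulVec, Matrix.transpose_apply, Matrix.mul_apply]
    refine Finset.sum_congr rfl fun a _ => ?_
    simp [Finset.mul_sum, Matrix.mul_apply, Pi.single_apply]
  rw [orGram, Matrix.det_submatrix_equiv_self, h, Matrix.det_mul, Matrix.det_mul, Matrix.det_transpose]
  ring

/-- Coordinates adapted to a decomposition. -/
theorem exists_coord_parts {t m : ℕ} {D : Fin t → Submodule F (ι → F)} (hD : IsMDecomposition m D)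
    (b : ∀ i, Module.Basis (Fin m) F (D i)) :
    ∃ (e : ι ≃ Fin t × Fin m) (P : GL ι F), ∀ i a, vecIn e P (Pi.single (i, a) 1) = ((b i a : D i) : ι → F) := by
  classical
  let B0 := (DirectSum.isInternal_submodule_of_iSupIndep_of_iSup_eq_top hD.indep hD.iSup_eq_top).collectedBasis b
  let B := B0.reindex (Equiv.sigmaEquivProd (Fin t) (Fin m))
  have hB : ∀ i a, B (i, a) = ((b i a : D i) : ι → F) := fun i a => by
    rw [Module.Basis.reindex_apply, DirectSum.IsInternal.collectedBasis_coe]
    rfl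
  have hcard : Fintype.card ι = Fintype.card (Fin t × Fin m) := by
    rw [← Module.finrank_pi (R := F) (ι := ι), Module.finrank_eq_card_basis B]
  let e : ι ≃ Fin t × Fin m := Fintype.equivOfCardEq hcard
  let M : Matrix ι ι F := Matrix.of fun i j => B (e j) i
  have hM : IsUnit M := Matrix.linearIndependent_cols_iff_isUnit.1 (B.linearIndependent.comp _ e.injective)
  refine ⟨e, hM.unit, fun i a => ?_⟩
  rw [← hB, vecIn_apply, hM.unit_spec]
  ext x
  rw [Matrix.mulVec, dotProduct, Finset.sum_eq_single (e.symm (i, a))]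
  · simp [M]
  · intro y _ hy
    have : e y ≠ (i, a) := fun h => hy (by rw [← h, Equiv.symm_apply_apply])
    simp [this]
  · simp

/-- Isometric members of an orthogonal decomposition have the same Gram matrix in suitable bases. -/
theorem exists_parts_gram {t m : ℕ} {D : Fin t → Submodule F (ι → F)} (hD : IsOrthogonalMDecomposition (⇑Q) m D) :
    ∃ (e : ι ≃ Fin t × Fin m) (P : GL ι F) (Y : Matrix (Fin m) (Fin m) F),
      orGram Q e P = (1 : Matrix (Fin t) (Fin t) F) ⊗ₖ Y := by
  classical
  have ht := hD.decomp.decomp.two_le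
  let i₀ : Fin t := ⟨0, by omega⟩
  choose f hf using fun k => hD.isometric i₀ k
  let b₀ := Module.finBasisOfFinrankEq F (D i₀) (hD.decomp.decomp.finrank_eq i₀)
  obtain ⟨e, P, hP⟩ := exists_coord_parts hD.decomp.decomp fun i => b₀.map (f i)
  refine ⟨e, P, Matrix.of fun a c => polar Q (b₀ a : ι → F) (b₀ c : ι → F), ?_⟩
  ext ⟨i, a⟩ ⟨j, c⟩
  have h := polar_vecIn (Q := Q) e P (Pi.single (i, a) 1) (Pi.single (j, c) 1)
  rw [single_one_dotProduct, Matrix.mulVec_single_one, hP, hP] at h
  refine h.symm.trans ?_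
  rw [Matrix.kronecker_apply, Matrix.of_apply]
  by_cases hij : i = j
  · subst hij
    rw [Matrix.one_apply_eq, one_mul, Module.Basis.map_apply, Module.Basis.map_apply]
    simp only [QuadraticMap.polar, ← Submodule.coe_add, ← map_add, hf]
  · rw [Matrix.one_apply_ne hij, zero_mul]
    exact hD.decomp.orthogonal i j hij _ (b₀.map (f i) a).2 _ (b₀.map (f j) c).2

/-- An even number of isometric members makes the discriminant a square. -/
theorem isSquare_det_of_even {t m : ℕ} {D : Fin t → Submodule F (ι → F)}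
    (hD : IsOrthogonalMDecomposition (⇑Q) m D) (ht : Even t) : IsSquare (gramQ Q).det := by
  obtain ⟨e, P, Y, hY⟩ := exists_parts_gram hD
  have h := det_orGram (Q := Q) e P
  rw [hY, Matrix.det_kronecker, Matrix.det_one, one_pow, one_mul, Fintype.card_fin] at h
  obtain ⟨j, hj⟩ := ht
  have hP : (P : Matrix ι ι F).det ≠ 0 := (P.isUnit.map Matrix.detMonoidHom).ne_zero
  refine ⟨Y.det ^ j / (P : Matrix ι ι F).det, ?_⟩
  rw [div_mul_div_comm, ← pow_add, ← hj, eq_div_iff (mul_ne_zero hP hP), h]
  ring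

/-- A pair of orthogonal spaces of equal dimension is isometric when the discriminant is a square. -/
theorem isometric_pair_iff [Fintype F] (h2 : (2 : F) ≠ 0) (hQ : (polarBilin Q).Nondegenerate) {m : ℕ}
    {D : Fin 2 → Submodule F (ι → F)} (hD : IsNondegenerateMDecomposition (polar Q) m D) :
    AreIsometricFor (⇑Q) (D 0) (D 1) ↔ IsSquare (gramQ Q).det := by
  classical
  constructor
  · intro h
    refine isSquare_det_of_even (D := D) ⟨hD, fun i j => ?_⟩ (by decide)
    obtain ⟨f, hf⟩ := h
    fin_cases i <;> fin_cases j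
    · exact ⟨LinearEquiv.refl F _, fun w => rfl⟩
    · exact ⟨f, hf⟩
    · exact ⟨f.symm, fun w => by
        have := hf (f.symm w)
        rw [LinearEquiv.apply_symm_apply] at this
        exact this.symm⟩
    · exact ⟨LinearEquiv.refl F _, fun w => rfl⟩
  intro hsq
  let b : ∀ i, Module.Basis (Fin m) F (D i) := fun i => Module.finBasisOfFinrankEq F (D i) (hD.decomp.finrank_eq i)
  obtain ⟨e, P, hP⟩ := exists_coord_parts hD.decomp b
  let Y : Fin 2 → Matrix (Fin m) (Fin m) F := fun i =>
    Matrix.of fun a c => polar Q (b i a : ι → F) (b i c : ι → F)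
  have hG : orGram Q e P = (Matrix.blockDiagonal Y).submatrix Prod.swap Prod.swap := by
    ext ⟨i, a⟩ ⟨j, c⟩
    have h := polar_vecIn (Q := Q) e P (Pi.single (i, a) 1) (Pi.single (j, c) 1)
    rw [single_one_dotProduct, Matrix.mulVec_single_one, hP, hP] at h
    refine h.symm.trans ?_
    rw [Matrix.submatrix_apply, Prod.swap_prod_mk, Prod.swap_prod_mk, Matrix.blockDiagonal_apply]
    split_ifs with hij
    · subst hij; rfl
    · exact hD.orthogonal i j hij _ (b i a).2 _ (b j c).2
  have hdet : (orGram Q e P).det = (Y 0).det * (Y 1).det := by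
    rw [hG, show (Prod.swap : Fin 2 × Fin m → Fin m × Fin 2) = ⇑(Equiv.prodComm (Fin 2) (Fin m)) from rfl,
      Matrix.det_submatrix_equiv_self, Matrix.det_blockDiagonal, Fin.prod_univ_two]
  have hprod : IsSquare ((Y 0).det * (Y 1).det) := by
    obtain ⟨s, hs⟩ := hsq
    exact ⟨(P : Matrix ι ι F).det * s, by rw [← hdet, det_orGram, hs]; ring⟩
  have hne : (Y 0).det * (Y 1).det ≠ 0 := by
    rw [← hdet]
    exact ((Matrix.isUnit_iff_isUnit_det _).1 (orGram_isUnit hQ e P)).ne_zero
  have hYs : ∀ i, (Y i)ᵀ = Y i := fun i => by ext a c; exact QuadraticMap.polar_comm _ _ _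
  obtain ⟨M, hM⟩ := exists_congr_of_det h2 hD.decomp.pos (Y := Y 0) (X := Y 1)
    ((Matrix.isUnit_iff_isUnit_det _).2 (isUnit_iff_ne_zero.2 (mul_ne_zero_iff.1 hne).2))
    ((Matrix.isUnit_iff_isUnit_det _).2 (isUnit_iff_ne_zero.2 (mul_ne_zero_iff.1 hne).1)) (hYs 1) (hYs 0)
    (by rwa [mul_comm])
  let L : (Fin m → F) ≃ₗ[F] (Fin m → F) := linEquiv M
  have hL : ∀ x, L x = (M : Matrix (Fin m) (Fin m) F) *ᵥ x := fun x => rfl
  have hval : ∀ i (w : D i), polar Q (w : ι → F) (w : ι → F) = (b i).equivFun w ⬝ᵥ Y i *ᵥ (b i).equivFun w := by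
    intro i w
    conv_lhs => rw [← (b i).sum_equivFun w]
    simp only [Submodule.coe_sum, Submodule.coe_smul]
    show polarBilin Q _ _ = _
    simp only [map_sum, map_smul, LinearMap.coe_sum, Finset.sum_apply, LinearMap.smul_apply, smul_eq_mul,
      dotProduct, Matrix.mulVec, Finset.mul_sum]
    rw [Finset.sum_comm]
    refine Finset.sum_congr rfl fun a _ => Finset.sum_congr rfl fun c _ => ?_
    show _ * (_ * polar Q _ _) = _
    simp [Y, QuadraticMap.polar_comm]
    ring
  refine ⟨(b 0).equivFun.trans (L.trans (b 1).equivFun.symm), fun w => ?_⟩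
  rw [apply_eq_half_polar h2, apply_eq_half_polar h2, hval 1, hval 0, LinearEquiv.trans_apply, LinearEquiv.trans_apply,
    LinearEquiv.apply_symm_apply, hL, Matrix.dotProduct_mulVec, ← Matrix.mulVec_transpose, hM]
  simp only [Matrix.dotProduct_mulVec, Matrix.vecMul_vecMul, ← Matrix.mulVec_transpose, Matrix.mulVec_mulVec,
    Matrix.transpose_mul, Matrix.transpose_transpose, mul_assoc, hYs]

/-- Spaces of plus type of equal dimension are isometric. -/
theorem isometric_of_plus {W W' : Submodule F (ι → F)} (hW : IsNondegenerateOn (polar Q) W)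
    (hW' : IsNondegenerateOn (polar Q) W') {m : ℕ} (hd : Module.finrank F W = 2 * m)
    (hd' : Module.finrank F W' = 2 * m) (h : IsPlusTypeOn (⇑Q) W) (h' : IsPlusTypeOn (⇑Q) W') :
    AreIsometricFor (⇑Q) W W' := by
  have no_minus : ∀ {X : Submodule F (ι → F)}, IsPlusTypeOn (⇑Q) X → Module.finrank F X = 2 * m → 1 ≤ m →
      ∀ (ζ : F) (e : ((Fin (m - 1) ⊕ Fin (m - 1)) ⊕ Fin 2 → F) ≃ₗ[F] X), (∀ t : F, t ^ 2 + t + ζ ≠ 0) →
      (∀ v, Q ((e v : X) : ι → F) = Cfsg.quadFormMinus (m - 1) F 1 ζ v) → False := by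
    rintro X ⟨U, hUX, hU, hUd⟩ hX hm ζ e hζ he
    have hr : Module.finrank F ↥((U.comap X.subtype).map e.symm.toLinearMap) = m := by
      rw [LinearEquiv.finrank_map_eq, (Submodule.comapSubtypeEquivOfLe hUX).finrank_eq]
      omega
    haveI := Fintype.ofFinite F
    have := qMinus_no_half (F := F) (a := 1) (b := ζ)
      (fun z₁ z₂ h => CfsgLib.Known.QuadClassify.aniso_of_no_root hζ z₁ z₂ h) (m - 1)
      ((U.comap X.subtype).map e.symm.toLinearMap) (by
        rintro _ ⟨u, hu, rfl⟩
        have h1 := he (e.symm u)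
        rw [LinearEquiv.apply_symm_apply] at h1
        exact (congrFun (coe_qMinus (m - 1) F 1 ζ) _).trans (h1.symm.trans (hU _ hu)))
    omega
  rcases CfsgLib.Known.QuadClassify.classify_even hd _ (restrict_nondeg hW) with ⟨e, he⟩ | ⟨hm, ζ, e, hζ, he⟩
  swap
  · exact (no_minus h hd hm ζ e hζ he).elim
  rcases CfsgLib.Known.QuadClassify.classify_even hd' _ (restrict_nondeg hW') with ⟨e', he'⟩ | ⟨hm, ζ, e', hζ, he'⟩
  swap
  · exact (no_minus h' hd' hm ζ e' hζ he').elim
  refine ⟨e.symm.trans e', fun w => ?_⟩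
  have h2 := he (e.symm w)
  rw [LinearEquiv.apply_symm_apply] at h2
  exact (he' (e.symm w)).trans h2.symm

/-- The type of an orthogonal sum of isometric members of even dimension. -/
theorem plus_top_parts {t k : ℕ} {D : Fin t → Submodule F (ι → F)}
    (hD : IsOrthogonalMDecomposition (⇑Q) (2 * k) D) (i₀ : Fin t) :
    IsPlusTypeOn (⇑Q) ⊤ ↔ (Even t ∨ IsPlusTypeOn (⇑Q) (D i₀)) := by
  classical
  let S : ℕ → Submodule F (ι → F) := fun j => ⨆ (i : Fin t) (_ : (i : ℕ) < j), D i
  have horth : ∀ j, ∀ i : Fin t, j ≤ (i : ℕ) → AreOrthogonalFor (polar Q) (S j) (D i) := by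
    intro j i hji u hu v hv
    induction hu using Submodule.iSup_induction' with
    | mem l w hw =>
      by_cases hl : (l : ℕ) < j
      · rw [iSup_pos hl] at hw
        exact hD.decomp.orthogonal l i (fun e => by subst e; omega) w hw v hv
      · rw [iSup_neg hl, Submodule.mem_bot] at hw
        rw [hw, QuadraticMap.polar_zero_left]
    | zero => exact QuadraticMap.polar_zero_left _ _
    | add y z _ _ hy hz => rw [QuadraticMap.polar_add_left, hy, hz, add_zero]
  have hsucc : ∀ (j : ℕ) (hj : j < t), S (j + 1) = S j ⊔ D ⟨j, hj⟩ := by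
    intro j hj
    apply le_antisymm
    · refine iSup₂_le fun i hi => ?_
      rcases Nat.lt_succ_iff_lt_or_eq.1 hi with h | h
      · exact le_sup_of_le_left (le_iSup₂_of_le i h le_rfl)
      · have : i = ⟨j, hj⟩ := Fin.ext h
        subst this
        exact le_sup_right
    · exact sup_le (iSup₂_le fun i hi => le_iSup₂_of_le i (by omega) le_rfl)
        (le_iSup₂_of_le ⟨j, hj⟩ (show j < j + 1 by omega) le_rfl)
  have hnd : ∀ j, j ≤ t → IsNondegenerateOn (polar Q) (S j) := by
    intro j
    induction j with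
    | zero => intro _ w hw hw0; simp [S] at hw; exact absurd hw hw0
    | succ j ih =>
      intro hj
      rw [hsucc j (by omega)]
      exact ndOn_sup (ih (by omega)) (hD.decomp.nondegenerate _) (horth j _ le_rfl)
  have hpair : ∀ j, 2 * j ≤ t → IsPlusTypeOn (⇑Q) (S (2 * j)) := by
    intro j
    induction j with
    | zero =>
      intro _
      have h0 : S 0 = ⊥ := by simp [S]
      rw [h0]
      exact ⟨⊥, le_rfl, fun w hw => by rw [(Submodule.mem_bot F).1 hw, QuadraticMap.map_zero], by simp⟩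
    | succ j ih =>
      intro hj
      rw [show 2 * (j + 1) = 2 * j + 1 + 1 by ring, hsucc (2 * j + 1) (by omega), hsucc (2 * j) (by omega), sup_assoc]
      refine plus_sup (hnd _ (by omega)) (fun u hu v hv => ?_) (ih (by omega))
        (plus_of_isometric (hD.decomp.nondegenerate _) (hD.decomp.decomp.finrank_eq _)
          (hD.decomp.orthogonal _ _ (fun e => by simpa using congrArg Fin.val e)) (hD.isometric _ _))
      obtain ⟨a, ha, c, hc, rfl⟩ := Submodule.mem_sup.1 hv
      have ea := horth (2 * j) ⟨2 * j, by omega⟩ le_rfl u hu a ha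
      have ec := horth (2 * j) ⟨2 * j + 1, by omega⟩ (Nat.le_succ (2 * j)) u hu c hc
      exact (QuadraticMap.polar_add_right (Q := Q) u a c).trans (by rw [ea, ec, add_zero])
  have hall : S t = ⊤ := by
    rw [← hD.decomp.decomp.iSup_eq_top]
    exact le_antisymm (iSup₂_le fun i _ => le_iSup D i) (iSup_le fun i => le_iSup₂_of_le i i.2 le_rfl)
  clear_value S
  rcases Nat.even_or_odd t with ⟨j, hj⟩ | ⟨j, hj⟩
  · have := hpair j (by omega)
    rw [show 2 * j = t by omega, hall] at this
    exact ⟨fun _ => Or.inl ⟨j, hj⟩, fun _ => this⟩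
  · have hne : ¬ Even t := by rw [Nat.not_even_iff_odd]; exact ⟨j, hj⟩
    have htop : S (2 * j) ⊔ D ⟨2 * j, by omega⟩ = ⊤ := by
      rw [← hsucc, show 2 * j + 1 = t by omega, hall]
    have hiso : IsPlusTypeOn (⇑Q) (D i₀) ↔ IsPlusTypeOn (⇑Q) (D ⟨2 * j, by omega⟩) :=
      ⟨CfsgLib.Geo.OrthPlane.plus_of_isometric (hD.isometric _ _),
        CfsgLib.Geo.OrthPlane.plus_of_isometric (hD.isometric _ _)⟩
    simp only [hne, false_or, hiso]
    have hlast : AreOrthogonalFor (polar Q) (S (2 * j)) (D ⟨2 * j, by omega⟩) :=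
      horth (2 * j) ⟨2 * j, by omega⟩ le_rfl
    have hS : IsNondegenerateOn (polar Q) (S (2 * j)) := hnd (2 * j) (by omega)
    have hP : IsPlusTypeOn (⇑Q) (S (2 * j)) := hpair j (by omega)
    have hDn : IsNondegenerateOn (polar Q) (D ⟨2 * j, by omega⟩) := hD.decomp.nondegenerate _
    refine ⟨fun h => ?_, fun h => ?_⟩
    · by_contra hD2
      rw [← htop] at h
      exact not_plus_sup hS hDn hlast hP hD2 h
    · rw [← htop]
      exact plus_sup hS hlast hP h

/-- A hyperbolic pair in a plane of plus type. -/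
theorem exists_hyperbolic {U : Submodule F (ι → F)} (hnd : IsNondegenerateOn (polar Q) U)
    (hd : Module.finrank F U = 2) (hplus : IsPlusTypeOn (⇑Q) U) :
    ∃ u w : ι → F, u ∈ U ∧ w ∈ U ∧ Q u = 0 ∧ Q w = 0 ∧ polar Q u w = 1 ∧
      ∀ x ∈ U, ∃ a b : F, x = a • u + b • w := by
  obtain ⟨L, hLU, hLs, hLd⟩ := hplus
  obtain ⟨⟨u, huL⟩, hu0, -⟩ := finrank_eq_one_iff'.1 (show Module.finrank F L = 1 by omega)
  have hu0' : u ≠ 0 := fun e => hu0 (Subtype.ext e)
  obtain ⟨-, x, hx, hux⟩ := hnd u (hLU huL) hu0'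
  obtain ⟨v, hvU, huv⟩ : ∃ v ∈ U, polar Q u v = 1 := ⟨(polar Q u x)⁻¹ • x, U.smul_mem _ hx, by
    rw [QuadraticMap.polar_smul_right, smul_eq_mul, inv_mul_cancel₀ hux]⟩
  set w := v + (-Q v) • u with hw
  have hqu : Q u = 0 := hLs u huL
  have huw : polar Q u w = 1 := by
    rw [hw, QuadraticMap.polar_add_right, QuadraticMap.polar_smul_right, huv, polar_self', hqu, mul_zero, smul_zero,
      add_zero]
  have hqw : Q w = 0 := by
    rw [hw, apply_add, apply_smul, hqu, QuadraticMap.polar_smul_right, QuadraticMap.polar_comm, huv, smul_eq_mul]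
    ring
  have hwU : w ∈ U := U.add_mem hvU (U.smul_mem _ (hLU huL))
  have hli : LinearIndependent F ![u, w] := by
    rw [linearIndependent_fin2]
    refine ⟨fun h => ?_, fun a h => ?_⟩
    · have hw0 : w = 0 := by simpa using h
      rw [hw0, QuadraticMap.polar_zero_right] at huw
      exact zero_ne_one huw
    · have hwu : a • w = u := by simpa using h
      rw [← hwu, QuadraticMap.polar_smul_left, polar_self', hqw, mul_zero, smul_zero] at huw
      exact zero_ne_one huw
  have hspan : Submodule.span F (Set.range ![u, w]) = U := by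
    refine Submodule.eq_of_le_of_finrank_eq (Submodule.span_le.2 ?_) (by rw [finrank_span_eq_card hli, hd]; rfl)
    rintro _ ⟨i, rfl⟩
    fin_cases i
    · exact hLU huL
    · exact hwU
  refine ⟨u, w, hLU huL, hwU, hqu, hqw, huw, fun z hz => ?_⟩
  rw [← hspan, Matrix.range_cons, Matrix.range_cons, Matrix.range_empty, Set.union_empty, Set.singleton_union,
    Submodule.mem_span_pair] at hz
  obtain ⟨a, b, h⟩ := hz
  exact ⟨a, b, h.symm⟩

end CfsgLib.Geo.Asch
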