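/-
The geometric subgroups do not contain the whole of Ω: arguments with Eichler transformations.
-/
import Cfsg.Agent.Lib.Geo.Asch.OrthTools
import Cfsg.Agent.Lib.Geo.Asch.LinearMax
import Cfsg.Agent.Lib.Geo.Asch.TwoFactors

set_option autoImplicit false
set_option linter.unusedSectionVars false

namespace CfsgLib.Geo.Asch

open Matrix Cfsg.Geo
open CfsgLib.Classical CfsgLib.Classical.Quad CfsgLib.Geo.OrthMax
open QuadraticMap (polar polarBilin)
open scoped Kronecker

variable {F : Type*} [Field F] [Finite F] {ι : Type} [Fintype ι] [DecidableEq ι] {Q : QuadraticForm F (ι → F)}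

/-- The transformation of an Eichler pair. -/
def rootFun (Q : QuadraticForm F (ι → F)) (w a z : ι → F) : ι → F :=
  (polar Q z a - Q a * polar Q z w) • w + (-polar Q z w) • a

theorem exists_root (hQ : (polarBilin Q).Nondegenerate) (hn : 5 ≤ Fintype.card ι) {w a : ι → F}
    (hw : Q w = 0) (ha : polar Q w a = 0) :
    ∃ g ∈ omegaGL (⇑Q), ∀ z, (g : Matrix ι ι F) *ᵥ z = z + rootFun Q w a z := by
  obtain ⟨g, hg, h⟩ := exists_omega_eich hQ hn hw ha
  exact ⟨g, hg, fun z => by rw [h, rootFun, add_assoc]⟩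

theorem exists_perp_off (hQ : (polarBilin Q).Nondegenerate) (P : Submodule F (ι → F)) {w : ι → F}
    (hP : Module.finrank F P + 1 < Fintype.card ι) :
    ∃ a, polar Q w a = 0 ∧ a ∉ P := by
  by_contra! hall
  have hle : perp Q (Submodule.span F {w}) ≤ P := fun a ha =>
    hall a (mem_perp.1 ha w (Submodule.mem_span_singleton_self w))
  have h1 := Submodule.finrank_mono hle
  rw [finrank_perp hQ, Module.finrank_pi] at h1
  have h2 : Module.finrank F (Submodule.span F {w}) ≤ 1 := by
    refine (finrank_span_le_card {w}).trans ?_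
    simp
  omega

theorem exists_pair_one (hQ : (polarBilin Q).Nondegenerate) {w a : ι → F} (hw0 : w ≠ 0)
    (ha : a ∉ Submodule.span F {w}) : ∃ z, polar Q z w = 0 ∧ polar Q z a = 1 := by
  obtain ⟨z, hza, hzw⟩ := exists_sep_polar hQ ha
  exact ⟨z, by rw [QuadraticMap.polar_comm]; exact hzw w (Submodule.mem_span_singleton_self w),
    by rw [QuadraticMap.polar_comm]; exact hza⟩

/-- A subspace stable under all Eichler transformations is trivial. -/
theorem eq_bot_or_top_of_roots (hQ : (polarBilin Q).Nondegenerate) (hn : 5 ≤ Fintype.card ι)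
    {W : Submodule F (ι → F)}
    (hW : ∀ w a, Q w = 0 → polar Q w a = 0 → ∀ z ∈ W, rootFun Q w a z ∈ W) : W = ⊥ ∨ W = ⊤ := by
  have hn' : 5 ≤ Module.finrank F (ι → F) := by rwa [Module.finrank_pi]
  by_cases hall : ∀ w, Q w = 0 → ∀ z ∈ W, polar Q z w = 0
  · left
    rw [Submodule.eq_bot_iff]
    intro z hz
    by_contra hz0
    have hker : Submodule.span F {w : ι → F | Q w = 0} ≤ LinearMap.ker (polarBilin Q z) :=
      Submodule.span_le.2 fun w hw => hall w hw z hz
    rw [singular_span_eq_top hQ hn', top_le_iff, LinearMap.ker_eq_top] at hker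
    exact hz0 (hQ.1 z fun y => LinearMap.congr_fun hker y)
  · right
    push Not at hall
    obtain ⟨w, hw, z, hz, hzw⟩ := hall
    have move : ∀ a, polar Q w a = 0 → (polar Q z a - Q a * polar Q z w) • w + (-polar Q z w) • a ∈ W :=
      fun a ha => hW w a hw ha z hz
    obtain ⟨a, b, ha, hb, hab⟩ : ∃ a b, polar Q w a = 0 ∧ polar Q w b = 0 ∧ polar Q a b ≠ 0 := by
      by_contra! hcon
      have hle : perp Q (Submodule.span F {w}) ≤ perp Q (perp Q (Submodule.span F {w})) := fun b hb =>
        mem_perp.2 fun a ha => hcon a b (mem_perp.1 ha w (Submodule.mem_span_singleton_self w))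
          (mem_perp.1 hb w (Submodule.mem_span_singleton_self w))
      rw [perp_perp hQ] at hle
      have h1 := Submodule.finrank_mono hle
      rw [finrank_perp hQ, Module.finrank_pi] at h1
      have h2 : Module.finrank F (Submodule.span F {w}) ≤ 1 := by
        refine (finrank_span_le_card {w}).trans ?_
        simp
      omega
    have h4 := W.sub_mem (W.add_mem (move a ha) (move b hb))
      (move (a + b) (by rw [polar_add_right', ha, hb, add_zero]))
    rw [apply_add, polar_add_right'] at h4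
    rw [show (polar Q z a - Q a * polar Q z w) • w + (-polar Q z w) • a +
      ((polar Q z b - Q b * polar Q z w) • w + (-polar Q z w) • b) -
      ((polar Q z a + polar Q z b - (Q a + Q b + polar Q a b) * polar Q z w) • w + (-polar Q z w) • (a + b)) =
      (polar Q a b * polar Q z w) • w by module] at h4
    have hwW : w ∈ W := (W.smul_mem_iff (mul_ne_zero hab hzw)).1 h4
    rw [eq_top_iff]
    intro x _
    set c := polar Q x w / polar Q z w
    have hperp : polar Q w (x - c • z) = 0 := by
      rw [sub_eq_add_neg, ← neg_smul, polar_add_right', polar_smul_right', QuadraticMap.polar_comm (⇑Q) w x,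
        QuadraticMap.polar_comm (⇑Q) w z, neg_mul, div_mul_cancel₀ _ hzw, add_neg_cancel]
    have h5 := move _ hperp
    have h6 : (-polar Q z w) • (x - c • z) ∈ W := (W.add_mem_iff_right (W.smul_mem _ hwW)).1 h5
    have h7 := (W.smul_mem_iff (neg_ne_zero.2 hzw)).1 h6
    simpa using W.add_mem h7 (W.smul_mem c hz)

/-- A matrix commuting with all Eichler transformations is scalar. -/
theorem scalar_of_commute_roots (hQ : (polarBilin Q).Nondegenerate) (hn : 5 ≤ Fintype.card ι) {X : Matrix ι ι F}
    (hX : ∀ w a, Q w = 0 → polar Q w a = 0 → ∀ z, X *ᵥ rootFun Q w a z = rootFun Q w a (X *ᵥ z)) :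
    ∃ c : F, X = c • (1 : Matrix ι ι F) := by
  classical
  have hn' : 5 ≤ Module.finrank F (ι → F) := by rwa [Module.finrank_pi]
  have hline : ∀ w, Q w = 0 → w ≠ 0 → ∃ c : F, X *ᵥ w = c • w := by
    intro w hw hw0
    obtain ⟨a, ha, haw⟩ := exists_perp_off hQ (Submodule.span F {w}) (w := w)
      (by rw [finrank_span_singleton hw0]; omega)
    have hwm : w ∈ Submodule.span F {w, a} := Submodule.subset_span (by simp)
    have hin : ∀ b, polar Q w b = 0 → b ∉ Submodule.span F {w} → X *ᵥ w ∈ Submodule.span F {w, b} := by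
      intro b hb hbw
      obtain ⟨z, hzw, hzb⟩ := exists_pair_one hQ hw0 hbw
      have h1 : rootFun Q w b z = w := by simp [rootFun, hzw, hzb]
      rw [← h1, hX w b hw hb z]
      exact Submodule.add_mem _ (Submodule.smul_mem _ _ (Submodule.subset_span (by simp [h1])))
        (Submodule.smul_mem _ _ (Submodule.subset_span (by simp)))
    obtain ⟨b, hb, hbP⟩ := exists_perp_off hQ (Submodule.span F {w, a}) (w := w) (by
      have h : Module.finrank F (Submodule.span F ({w, a} : Set (ι → F))) ≤ 2 := by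
        refine (finrank_span_le_card ({w, a} : Set (ι → F))).trans ?_
        rw [Set.toFinset_card]
        exact (Fintype.card_le_of_injective (α := ↥({w, a} : Set (ι → F))) (fun x => decide ((x : ι → F) = w)) (by
          rintro ⟨x, hx⟩ ⟨y, hy⟩ h
          simp only [decide_eq_decide] at h
          rcases hx with rfl | hx <;> rcases hy with rfl | hy
          · rfl
          · exact Subtype.ext (h.1 rfl).symm
          · exact Subtype.ext (h.2 rfl)
          · exact Subtype.ext (hx.trans hy.symm))).trans (by simp)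
      omega)
    obtain ⟨p, q, hpq⟩ := Submodule.mem_span_pair.1 (hin a ha haw)
    obtain ⟨r, s, hrs⟩ := Submodule.mem_span_pair.1
      (hin b hb fun h => hbP (Submodule.span_mono (by simp) h))
    refine ⟨p, ?_⟩
    have hs : s = 0 := by
      by_contra hs0
      refine hbP (Submodule.mem_span_pair.2 ⟨s⁻¹ * (p - r), s⁻¹ * q, ?_⟩)
      have e : s • b = (p - r) • w + q • a := by
        rw [sub_smul, ← add_sub_right_comm, hpq, ← hrs]
        abel
      rw [← inv_smul_smul₀ hs0 b, e, smul_add, smul_smul, smul_smul]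
    rw [hs, zero_smul, add_zero] at hrs
    by_cases hq : q = 0
    · rw [← hpq, hq, zero_smul, add_zero]
    · exfalso
      refine haw (Submodule.mem_span_singleton.2 ⟨q⁻¹ * (r - p), ?_⟩)
      rw [mul_smul, sub_smul, hrs, ← hpq, add_sub_cancel_left, inv_smul_smul₀ hq]
  choose! lam hlam using hline
  have hpair : ∀ u v, Q u = 0 → Q v = 0 → u ≠ 0 → v ≠ 0 → lam u = lam v := by
    intro u v hu hv hu0 hv0
    by_cases hdep : v ∈ Submodule.span F {u}
    · obtain ⟨c, rfl⟩ := Submodule.mem_span_singleton.1 hdep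
      have h1 := hlam _ hv hv0
      rw [Matrix.mulVec_smul, hlam u hu hu0, smul_smul, smul_smul] at h1
      have h2 := smul_left_injective F hu0 h1
      have hc : c ≠ 0 := fun e => hv0 (by rw [e, zero_smul])
      exact mul_left_cancel₀ hc (h2.trans (mul_comm _ _))
    have hli : ∀ p q : F, p • u + q • v = 0 → p = 0 ∧ q = 0 := by
      intro p q h
      have hq : q = 0 := by
        by_contra hq
        refine hdep (Submodule.mem_span_singleton.2 ⟨-(q⁻¹ * p), ?_⟩)
        have h' := congrArg (fun x => q⁻¹ • x) h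
        simp only [smul_add, smul_smul, inv_mul_cancel₀ hq, one_smul, smul_zero] at h'
        rw [neg_smul]
        exact neg_eq_of_add_eq_zero_right h'
      rw [hq, zero_smul, add_zero] at h
      exact ⟨(smul_eq_zero.1 h).resolve_right hu0, hq⟩
    by_cases huv : polar Q u v = 0
    · have hs0 : u + v ≠ 0 := fun h => one_ne_zero (hli 1 1 (by simpa using h)).1
      have hs : Q (u + v) = 0 := by rw [apply_add, hu, hv, huv, add_zero, add_zero]
      have h1 := hlam _ hs hs0
      rw [Matrix.mulVec_add, hlam u hu hu0, hlam v hv hv0] at h1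
      have h2 := hli (lam u - lam (u + v)) (lam v - lam (u + v)) (by
        rw [sub_smul, sub_smul, sub_add_sub_comm, h1, smul_add, sub_self])
      exact (sub_eq_zero.1 h2.1).trans (sub_eq_zero.1 h2.2).symm
    · obtain ⟨a, hua, hva, ha0⟩ : ∃ a, polar Q u a = 0 ∧ polar Q v a = 0 ∧ a ≠ 0 := by
        obtain ⟨x, hx0, -, hx, -⟩ := exists_singular_perp hQ (Submodule.span F {u}) (by
          rw [finrank_span_singleton hu0]; omega)
        obtain ⟨y, hy, hyx⟩ := exists_perp_off hQ (Submodule.span F {u}) (w := u)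
          (by rw [finrank_span_singleton hu0]; omega)
        set t := polar Q v y / polar Q v u
        refine ⟨y - t • u, ?_, ?_, fun h => hyx ?_⟩
        · rw [QuadraticMap.polar_sub_right, polar_smul_right', polar_self', hu, hy]
          ring
        · rw [QuadraticMap.polar_sub_right, polar_smul_right',
            div_mul_cancel₀ _ (by rwa [QuadraticMap.polar_comm]), sub_self]
        · rw [sub_eq_zero.1 h]
          exact Submodule.smul_mem _ _ (Submodule.mem_span_singleton_self u)
      -- two expressions for the image of `a`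
      have key : ∀ u v, Q u = 0 → Q v = 0 → u ≠ 0 → v ≠ 0 → polar Q v u ≠ 0 → polar Q u a = 0 → polar Q v a = 0 →
          X *ᵥ a = lam v • a + (Q a * (lam v - lam u)) • u := by
        intro u v hu hv hu0 hv0 hvu hua hva
        have h1 := hX u a hu hua v
        rw [hlam v hv hv0] at h1
        simp only [rootFun, hva, polar_smul_left', mul_zero, Matrix.mulVec_add, Matrix.mulVec_smul,
          hlam u hu hu0, zero_sub, smul_smul] at h1
        have e : (-polar Q v u) • (X *ᵥ a) = (-polar Q v u) • (lam v • a + (Q a * (lam v - lam u)) • u) := by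
          linear_combination (norm := module) h1
        exact smul_right_injective _ (neg_ne_zero.2 hvu) e
      have e1 := key u v hu hv hu0 hv0 (by rwa [QuadraticMap.polar_comm]) hua hva
      have e2 := key v u hv hu hv0 hu0 huv hva hua
      rw [e1] at e2
      have h3 : (lam v - lam u) • (a + Q a • (u + v)) = 0 := by linear_combination (norm := module) e2
      by_contra hne
      have h4 := (smul_eq_zero.1 h3).resolve_left (sub_ne_zero.2 (Ne.symm hne))
      have h5 := congrArg (polar Q u) h4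
      rw [polar_add_right', polar_smul_right', polar_add_right', polar_self', hu, hua,
        QuadraticMap.polar_zero_right, mul_zero, zero_add, zero_add] at h5
      rw [(mul_eq_zero.1 h5).resolve_right huv, zero_smul, add_zero] at h4
      exact ha0 h4
  obtain ⟨u₀, hu₀0, hu₀⟩ := exists_singular hQ (by omega)
  refine ⟨lam u₀, Matrix.toLin'.injective (LinearMap.ext_on (singular_span_eq_top hQ hn') fun w hw => ?_)⟩
  rw [Matrix.toLin'_apply, Matrix.toLin'_apply, Matrix.smul_mulVec, Matrix.one_mulVec]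
  by_cases hw0 : w = 0
  · rw [hw0, Matrix.mulVec_zero, smul_zero]
  · rw [hlam w hw hw0, hpair u₀ w hu₀ hw hu₀0 hw0]

theorem rootFun_eq_sub {g : GL ι F} {w a : ι → F}
    (h : ∀ z, (g : Matrix ι ι F) *ᵥ z = z + rootFun Q w a z) (z : ι → F) :
    rootFun Q w a z = (g : Matrix ι ι F) *ᵥ z - z := by rw [h, add_sub_cancel_left]

theorem actsIrreducibly_omega' (hQ : (polarBilin Q).Nondegenerate) (hn : 5 ≤ Fintype.card ι) :
    ActsIrreducibly (matrixSet (omegaGL (⇑Q))) := by
  rw [actsIrreducibly_iff]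
  intro W hW
  refine eq_bot_or_top_of_roots hQ hn fun w a hw ha z hz => ?_
  obtain ⟨g, hg, hgz⟩ := exists_root hQ hn hw ha
  rw [rootFun_eq_sub hgz]
  exact W.sub_mem (stable_matrixSet_iff.1 hW g hg z hz) hz

theorem absIrred_omega' (hQ : (polarBilin Q).Nondegenerate) (hn : 5 ≤ Fintype.card ι) :
    ActsAbsolutelyIrreducibly (matrixSet (omegaGL (⇑Q))) := by
  refine ⟨actsIrreducibly_omega' hQ hn, fun X hX => scalar_of_commute_roots hQ hn fun w a hw ha z => ?_⟩
  obtain ⟨g, hg, hgz⟩ := exists_root hQ hn hw ha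
  rw [rootFun_eq_sub hgz, rootFun_eq_sub hgz, Matrix.mulVec_sub, Matrix.mulVec_mulVec, hX _ (mem_matrixSet hg),
    Matrix.mulVec_mulVec]

theorem not_omega_le_subspaceStabilizer (hQ : (polarBilin Q).Nondegenerate) (hn : 5 ≤ Fintype.card ι)
    {W : Submodule F (ι → F)} (h0 : W ≠ ⊥) (h1 : W ≠ ⊤) : ¬ omegaGL (⇑Q) ≤ subspaceStabilizer W := by
  intro hle
  rcases actsIrreducibly_iff.1 (actsIrreducibly_omega' hQ hn) W (stable_matrixSet_iff.2 fun g hg v hv =>
    ((mem_subspaceStabilizer_iff W g).1 (hle hg) v).1 hv) with h | h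
  · exact h0 h
  · exact h1 h

/-- Four linear conditions leave a non-zero vector. -/
theorem exists_four_zero (hn : 5 ≤ Fintype.card ι) (φ : Fin 4 → (ι → F) →ₗ[F] F) :
    ∃ v, v ≠ 0 ∧ ∀ i, φ i v = 0 := by
  let L : (ι → F) →ₗ[F] (Fin 4 → F) := LinearMap.pi φ
  have hL : LinearMap.ker L ≠ ⊥ := fun e0 => by
    have h1 := LinearMap.finrank_le_finrank_of_injective (LinearMap.ker_eq_bot.1 e0)
    rw [Module.finrank_pi, Module.finrank_fin_fun] at h1
    omega
  obtain ⟨v, hv, hv0⟩ := Submodule.exists_mem_ne_zero_of_ne_bot hL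
  exact ⟨v, hv0, fun i => congrFun (LinearMap.mem_ker.1 hv) i⟩

theorem not_omega_le_subalgebraNormalizer (hQ : (polarBilin Q).Nondegenerate) (hn : 5 ≤ Fintype.card ι) {r : ℕ}
    {K : Subalgebra F (Matrix ι ι F)} (hK : IsFieldSubalgebra r K) (hr : 2 ≤ r) :
    ¬ omegaGL (⇑Q) ≤ subalgebraNormalizer K := by
  intro hle
  haveI : Nonempty ι := Fintype.card_pos_iff.1 (by omega)
  have hsc : ∀ k ∈ K, ∃ c : F, k = c • (1 : Matrix ι ι F) := by
    intro k hk
    refine scalar_of_commute_roots hQ hn fun w a hw ha z => ?_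
    obtain ⟨g, hg, hgz⟩ := exists_root hQ hn hw ha
    have hk' := (hle hg k).1 hk
    set X := (g : Matrix ι ι F) * k * ((g⁻¹ : GL ι F) : Matrix ι ι F) - k
    have hX : X = 0 := by
      by_contra hne
      obtain ⟨y, -, hy⟩ := hK.inv X (K.sub_mem hk' hk) hne
      obtain ⟨v, hv0, hv⟩ := exists_four_zero hn ![polarBilin Q w, polarBilin Q a,
        (polarBilin Q w).comp (Matrix.toLin' k), (polarBilin Q a).comp (Matrix.toLin' k)]
      have e1 : polar Q w v = 0 := hv 0
      have e2 : polar Q a v = 0 := hv 1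
      have e3 : polar Q w (Matrix.toLin' k v) = 0 := hv 2
      have e4 : polar Q a (Matrix.toLin' k v) = 0 := hv 3
      rw [Matrix.toLin'_apply] at e3 e4
      rw [QuadraticMap.polar_comm] at e1 e2 e3 e4
      have hfix : ∀ u, polar Q u w = 0 → polar Q u a = 0 → (g : Matrix ι ι F) *ᵥ u = u := fun u h1 h2 => by
        rw [hgz, rootFun, h1, h2]
        simp
      have hinv : ((g⁻¹ : GL ι F) : Matrix ι ι F) *ᵥ v = v := by
        conv_lhs => rw [← hfix v e1 e2]
        exact mulVec_inv_cancel g v
      have hXv : X *ᵥ v = 0 := by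
        rw [Matrix.sub_mulVec, ← Matrix.mulVec_mulVec, hinv, ← Matrix.mulVec_mulVec, hfix _ e3 e4, sub_self]
      obtain ⟨y', hy'⟩ : ∃ y', y' * X = 1 := ⟨y, mul_eq_one_comm.1 hy⟩
      exact hv0 (by rw [← Matrix.one_mulVec v, ← hy', ← Matrix.mulVec_mulVec, hXv, Matrix.mulVec_zero])
    have hgk : (g : Matrix ι ι F) * k = k * (g : Matrix ι ι F) := by
      have h := sub_eq_zero.1 hX
      conv_rhs => rw [← h]
      rw [mul_assoc _ ((g⁻¹ : GL ι F) : Matrix ι ι F), g.inv_mul, mul_one]
    rw [rootFun_eq_sub hgz, rootFun_eq_sub hgz, Matrix.mulVec_sub, Matrix.mulVec_mulVec, ← hgk,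
      Matrix.mulVec_mulVec]
  have h1 : Module.finrank F K ≤ 1 := by
    refine finrank_le_one (1 : K) fun x => ?_
    obtain ⟨c, hc⟩ := hsc x x.2
    exact ⟨c, Subtype.ext hc.symm⟩
  rw [hK.finrank_eq] at h1
  omega

theorem exists_root_ne (hQ : (polarBilin Q).Nondegenerate) (hn : 5 ≤ Fintype.card ι) :
    ∃ g ∈ omegaGL (⇑Q), ∃ w a, Q w = 0 ∧ polar Q w a = 0 ∧ Q a = 0 ∧ LinearIndependent F ![w, a] ∧
      ∀ z, (g : Matrix ι ι F) *ᵥ z = z + rootFun Q w a z := by
  obtain ⟨w, a, hw, ha, hwa, hli⟩ := exists_singular_pair hQ hn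
  obtain ⟨g, hg, hgz⟩ := exists_root hQ hn hw hwa
  exact ⟨g, hg, w, a, hw, hwa, ha, hli, hgz⟩

theorem rootFun_mem (w a z : ι → F) : rootFun Q w a z ∈ Submodule.span F {w, a} :=
  Submodule.add_mem _ (Submodule.smul_mem _ _ (Submodule.subset_span (by simp)))
    (Submodule.smul_mem _ _ (Submodule.subset_span (by simp)))

theorem finrank_pair_le (w a : ι → F) : Module.finrank F (Submodule.span F ({w, a} : Set (ι → F))) ≤ 2 := by
  classical
  refine (finrank_span_le_card ({w, a} : Set (ι → F))).trans ?_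
  rw [Set.toFinset_insert, Set.toFinset_singleton]
  exact (Finset.card_insert_le _ _).trans (by simp)

/-- An element moving a member maps it into a complementary one, so its displacement is injective there. -/
theorem moved_le_two {t m : ℕ} {D : Fin t → Submodule F (ι → F)} (hD : IsMDecomposition m D) {g : GL ι F}
    {w a : ι → F} (hgz : ∀ z, (g : Matrix ι ι F) *ᵥ z = z + rootFun Q w a z) {π : Equiv.Perm (Fin t)}
    (hπ : ∀ i, (D i).map (Matrix.toLin' (g : Matrix ι ι F)) = D (π i)) {i : Fin t} (hi : π i ≠ i) :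
    m ≤ 2 ∧ Submodule.span F {w, a} ≤ D i ⊔ D (π i) ∨ m < 2 := by
  let T : D i →ₗ[F] Submodule.span F ({w, a} : Set (ι → F)) :=
    ((Matrix.toLin' (g : Matrix ι ι F) - LinearMap.id).domRestrict (D i)).codRestrict _ fun x => by
      show (Matrix.toLin' (g : Matrix ι ι F)) x - (x : ι → F) ∈ _
      rw [Matrix.toLin'_apply, hgz, add_sub_cancel_left]
      exact rootFun_mem w a _
  have hT : ∀ x : D i, ((T x : Submodule.span F ({w, a} : Set (ι → F))) : ι → F) =
      (g : Matrix ι ι F) *ᵥ (x : ι → F) - (x : ι → F) := fun x => rfl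
  have hinj : Function.Injective T := by
    rw [← LinearMap.ker_eq_bot, LinearMap.ker_eq_bot']
    intro x hx
    have hx' : (g : Matrix ι ι F) *ᵥ (x : ι → F) = (x : ι → F) := by
      rw [← sub_eq_zero, ← hT, hx]; rfl
    have hxj : (x : ι → F) ∈ D (π i) := by
      rw [← hπ]
      exact ⟨x, x.2, (Matrix.toLin'_apply _ _).trans hx'⟩
    exact Subtype.ext (Submodule.disjoint_def.1 (hD.indep.pairwiseDisjoint hi.symm) _ x.2 hxj)
  have h1 := LinearMap.finrank_le_finrank_of_injective hinj
  rw [hD.finrank_eq] at h1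
  have h2 := finrank_pair_le w a
  by_cases hm : m < 2
  · exact Or.inr hm
  refine Or.inl ⟨by omega, fun x hx => ?_⟩
  have hsurj : LinearMap.range T = ⊤ := Submodule.eq_top_of_finrank_eq (by
    rw [LinearMap.finrank_range_of_inj hinj, hD.finrank_eq]; omega)
  obtain ⟨y, hy⟩ := LinearMap.range_eq_top.1 hsurj ⟨x, hx⟩
  have e : x = (g : Matrix ι ι F) *ᵥ (y : ι → F) - (y : ι → F) := by rw [← hT, hy]
  rw [e]
  exact Submodule.sub_mem _ (Submodule.mem_sup_right ((hπ i).le ⟨y, y.2, Matrix.toLin'_apply _ _⟩))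
    (Submodule.mem_sup_left y.2)

/-- Decompositions with members of dimension at least three. -/
theorem not_omega_le_decomposition_of_three (hQ : (polarBilin Q).Nondegenerate) (hn : 5 ≤ Fintype.card ι) {t m : ℕ}
    {D : Fin t → Submodule F (ι → F)} (hD : IsMDecomposition m D) (hm : 3 ≤ m) :
    ¬ omegaGL (⇑Q) ≤ decompositionStabilizer D := by
  intro hle
  have hnn : ∀ i, D i ≠ ⊥ := fun i h => by
    have := hD.finrank_eq i
    rw [h, finrank_bot] at this
    omega
  have h01 := hD.two_le
  let i : Fin t := ⟨0, by omega⟩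
  let j : Fin t := ⟨1, by omega⟩
  have hij : i ≠ j := fun e => zero_ne_one (congrArg Fin.val e)
  rcases eq_bot_or_top_of_roots hQ hn (W := D i) (fun w a hw ha z hz => by
      obtain ⟨g, hg, hgz⟩ := exists_root hQ hn hw ha
      obtain ⟨π, hπ⟩ := hle hg
      have hfix : π i = i := by
        by_contra hne
        rcases moved_le_two hD hgz hπ hne with ⟨h, -⟩ | h <;> omega
      rw [rootFun_eq_sub hgz]
      refine Submodule.sub_mem _ ?_ hz
      have : (g : Matrix ι ι F) *ᵥ z ∈ D (π i) := (hπ i).le ⟨z, hz, Matrix.toLin'_apply _ _⟩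
      rwa [hfix] at this) with h | h
  · exact hnn i h
  · exact hnn j (eq_bot_iff.2 fun v hv => by
      exact Submodule.disjoint_def.1 (hD.indep.pairwiseDisjoint hij) v (h ▸ Submodule.mem_top) hv)

theorem component_unique {t m : ℕ} {D : Fin t → Submodule F (ι → F)} (hD : IsMDecomposition m D)
    {c : Fin t → ι → F} (hc : ∀ k, c k ∈ D k) (h : ∑ k, c k = 0) (k : Fin t) : c k = 0 :=
  ((iSupIndep_iff_finsetSum_eq_zero_imp_eq_zero D).1 hD.indep) Finset.univ c (fun i _ => hc i) h k
    (Finset.mem_univ k)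

/-- Orthogonal decompositions into at least four planes. -/
theorem not_omega_le_decomposition_planes (hQ : (polarBilin Q).Nondegenerate) (hn : 5 ≤ Fintype.card ι) {t : ℕ}
    (ht : 4 ≤ t) {D : Fin t → Submodule F (ι → F)} (hD : IsNondegenerateMDecomposition (polar Q) 2 D) :
    ¬ omegaGL (⇑Q) ≤ decompositionStabilizer D := by
  classical
  intro hle
  -- vectors of all values in each plane
  have hval : ∀ (k : Fin t) (c : F), c ≠ 0 → ∃ v ∈ D k, Q v = c := by
    intro k c hc
    have hp : ∀ x y : D k, polar (Q.comp (D k).subtype) x y = polar Q (x : ι → F) y := fun x y => by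
      simp only [polar, QuadraticMap.comp_apply, Submodule.subtype_apply, Submodule.coe_add]
    obtain ⟨v, hv⟩ := exists_apply_eq (Q := Q.comp (D k).subtype) (by
      refine ⟨fun x hx => ?_, fun x hx => ?_⟩ <;>
      · by_contra hx0
        obtain ⟨⟨y, hy, hyx⟩, ⟨z, hz, hxz⟩⟩ := hD.nondegenerate k x x.2 fun e => hx0 (Subtype.ext e)
        first
          | exact hxz (by rw [← hp x ⟨z, hz⟩]; exact hx ⟨z, hz⟩)
          | exact hyx (by rw [← hp ⟨y, hy⟩ x]; exact hx ⟨y, hy⟩))
      (le_of_eq (hD.decomp.finrank_eq k).symm) hc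
    exact ⟨v, v.2, hv⟩
  let sgn : Fin t → F := fun k => if (k : ℕ) = 0 ∨ (k : ℕ) = 2 then 1 else -1
  have hsgn : ∀ k, sgn k ≠ 0 := fun k => by simp only [sgn]; split <;> simp
  choose v hv hqv using fun k => hval k (sgn k) (hsgn k)
  let I : Fin 4 → Fin t := fun l => ⟨l, by omega⟩
  have hI : Function.Injective I := fun k l e => Fin.ext (by simpa [I] using e)
  set w := v (I 0) + v (I 1) + v (I 2) + v (I 3) with hw
  have o : ∀ k l : Fin 4, k ≠ l → polar Q (v (I k)) (v (I l)) = 0 := fun k l h =>
    hD.orthogonal _ _ (hI.ne h) _ (hv _) _ (hv _)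
  have hqw : Q w = 0 := by
    simp only [hw, apply_add, polar_add_left', hqv, o 0 1 (by decide), o 0 2 (by decide), o 1 2 (by decide),
      o 0 3 (by decide), o 1 3 (by decide), o 2 3 (by decide)]
    simp [sgn, I]
  -- the components of `w`
  let c : Fin t → ι → F := fun k => if (k : ℕ) < 4 then v k else 0
  have hc : ∀ k, c k ∈ D k := fun k => by simp only [c]; split; exacts [hv k, Submodule.zero_mem _]
  have hcsum : ∑ k, c k = w := by
    rw [← Finset.sum_subset (Finset.subset_univ (Finset.univ.image I)) (fun x _ hx => ?_),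
      Finset.sum_image fun x _ y _ e => hI e]
    · simp [Fin.sum_univ_four, c, I, hw]
    · simp only [c]
      rw [if_neg]
      intro hlt
      exact hx (Finset.mem_image.2 ⟨⟨x, hlt⟩, Finset.mem_univ _, Fin.ext rfl⟩)
  have hcne : ∀ l : Fin 4, c (I l) ≠ 0 := fun l e => by
    have h1 : v (I l) = 0 := by simpa [c, I] using e
    exact hsgn (I l) (by rw [← hqv, h1, QuadraticMap.map_zero])
  have hw0 : w ≠ 0 := fun e => hcne 0 (component_unique hD.decomp hc (hcsum.trans e) (I 0))
  obtain ⟨a, ha, haw⟩ := exists_perp_off hQ (Submodule.span F {w}) (w := w)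
    (by rw [finrank_span_singleton hw0]; omega)
  obtain ⟨g, hg, hgz⟩ := exists_root hQ hn hqw ha
  obtain ⟨π, hπ⟩ := hle hg
  have hfix : ∀ i, π i = i := by
    intro i
    by_contra hne
    rcases moved_le_two hD.decomp hgz hπ hne with ⟨-, hP⟩ | h
    swap
    · omega
    obtain ⟨x, hx, y, hy, hxy⟩ := Submodule.mem_sup.1 (hP (Submodule.subset_span (by simp) : w ∈ _))
    let c' : Fin t → ι → F := fun k => c k - (if k = i then x else 0) - (if k = π i then y else 0)
    have hc' : ∀ k, c' k ∈ D k := fun k => by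
      refine Submodule.sub_mem _ (Submodule.sub_mem _ (hc k) ?_) ?_
      · split_ifs with h
        exacts [h ▸ hx, Submodule.zero_mem _]
      · split_ifs with h
        exacts [h ▸ hy, Submodule.zero_mem _]
    obtain ⟨l, hl1, hl2⟩ : ∃ l : Fin 4, I l ≠ i ∧ I l ≠ π i := by
      by_contra! hcon
      have hle' : (Finset.univ.image I).card ≤ ({i, π i} : Finset (Fin t)).card := Finset.card_le_card fun k hk => by
        obtain ⟨l, -, rfl⟩ := Finset.mem_image.1 hk
        by_cases h : I l = i
        · simp [h]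
        · simp [hcon l h]
      rw [Finset.card_image_of_injective _ hI, Finset.card_univ, Fintype.card_fin] at hle'
      have : ({i, π i} : Finset (Fin t)).card ≤ 2 := (Finset.card_insert_le _ _).trans (by simp)
      omega
    have h0 := component_unique hD.decomp hc' (by
      simp only [c', Finset.sum_sub_distrib, Finset.sum_ite_eq', Finset.mem_univ, if_true]
      rw [hcsum, ← hxy]
      abel) (I l)
    simp only [c', if_neg hl1, if_neg hl2, sub_zero] at h0
    exact hcne l h0
  -- each member contains the image of its displacement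
  obtain ⟨z, hzw, hza⟩ := exists_pair_one hQ hw0 haw
  have hzt : z ∈ ⨆ k, D k := hD.decomp.iSup_eq_top ▸ Submodule.mem_top
  obtain ⟨u, hu⟩ := (Submodule.mem_iSup_iff_exists_finsupp _ _).1 hzt
  have hdisp : ∀ k, rootFun Q w a (u k) ∈ D k := fun k => by
    rw [rootFun_eq_sub hgz]
    refine Submodule.sub_mem _ ?_ (hu.1 k)
    have : (g : Matrix ι ι F) *ᵥ u k ∈ D (π k) := (hπ k).le ⟨u k, hu.1 k, Matrix.toLin'_apply _ _⟩
    rwa [hfix k] at this
  -- the components of `w` lie in its displacement plane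
  have hzw' : rootFun Q w a z = w := by simp [rootFun, hzw, hza]
  have hlin : ∀ k, rootFun Q w a (u k) = c k := by
    intro k
    refine sub_eq_zero.1 (component_unique hD.decomp (c := fun k => rootFun Q w a (u k) - c k)
      (fun k => Submodule.sub_mem _ (hdisp k) (hc k)) ?_ k)
    have hz : z = ∑ k, u k := hu.2.symm.trans (Finsupp.sum_fintype u _ fun _ => rfl)
    rw [Finset.sum_sub_distrib, hcsum, sub_eq_zero]
    refine Eq.trans ?_ hzw'
    simp only [rootFun_eq_sub hgz, hz, Matrix.mulVec_sum, Finset.sum_sub_distrib]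
  have hli : LinearIndependent F ![c (I 0), c (I 1), c (I 2)] := by
    rw [Fintype.linearIndependent_iff]
    intro f hf
    let c' : Fin t → ι → F := fun k => if k = I 0 then f 0 • c k else if k = I 1 then f 1 • c k else
      if k = I 2 then f 2 • c k else 0
    have hc' : ∀ k, c' k ∈ D k := fun k => by
      simp only [c']
      split_ifs <;> first | exact Submodule.smul_mem _ _ (hc k) | exact Submodule.zero_mem _
    have h0 := component_unique hD.decomp hc' (by
      rw [← Finset.sum_subset (Finset.subset_univ ({I 0, I 1, I 2} : Finset (Fin t))) (fun x _ hx => by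
        simp only [Finset.mem_insert, Finset.mem_singleton, not_or] at hx
        simp [c', hx]), Finset.sum_insert (by simp [hI.eq_iff]), Finset.sum_insert (by simp [hI.eq_iff]),
        Finset.sum_singleton]
      rw [Fin.sum_univ_three] at hf
      simp only [Matrix.cons_val_zero, Matrix.cons_val_one, Matrix.cons_val] at hf
      simp only [c', hI.eq_iff, if_true, show ((1 : Fin 4) = 0) = False by decide,
        show ((2 : Fin 4) = 0) = False by decide, show ((2 : Fin 4) = 1) = False by decide, if_false]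
      rw [← add_assoc]
      exact hf)
    intro l
    fin_cases l
    · exact (smul_eq_zero.1 (by simpa [c'] using h0 (I 0))).resolve_right (hcne 0)
    · exact (smul_eq_zero.1 (by simpa [c', hI.eq_iff] using h0 (I 1))).resolve_right (hcne 1)
    · exact (smul_eq_zero.1 (by simpa [c', hI.eq_iff] using h0 (I 2))).resolve_right (hcne 2)
  have hspan : Submodule.span F (Set.range ![c (I 0), c (I 1), c (I 2)]) ≤ Submodule.span F {w, a} :=
    Submodule.span_le.2 (by
      rintro _ ⟨l, rfl⟩
      have h : ∀ k, c k ∈ Submodule.span F {w, a} := fun k => hlin k ▸ rootFun_mem w a _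
      fin_cases l
      exacts [h (I 0), h (I 1), h (I 2)])
  have h1 := Submodule.finrank_mono hspan
  rw [finrank_span_eq_card hli] at h1
  have h2 := finrank_pair_le w a
  simp only [Fintype.card_fin] at h1
  omega

/-- A product of non-scalar factors displaces many vectors. -/
theorem scalar_left_of_small {d k : ℕ} {A : Matrix (Fin d) (Fin d) F} {B : GL (Fin k) F}
    {P : Submodule F (Fin d × Fin k → F)} (hP : Module.finrank F P < k)
    (h : ∀ z, (A ⊗ₖ (B : Matrix (Fin k) (Fin k) F)) *ᵥ z - z ∈ P) : ∃ c : F, A = c • (1 : Matrix (Fin d) (Fin d) F) := by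
  classical
  have hk : ∀ (x : Fin d → F) (y : Fin k → F), (A ⊗ₖ (B : Matrix (Fin k) (Fin k) F)) *ᵥ (fun p => x p.1 * y p.2) =
      fun p => (A *ᵥ x) p.1 * ((B : Matrix (Fin k) (Fin k) F) *ᵥ y) p.2 := by
    intro x y
    funext p
    simp only [Matrix.mulVec, dotProduct, Fintype.sum_prod_type, Finset.sum_mul, Finset.mul_sum,
      Matrix.kroneckerMap_apply]
    rw [Finset.sum_comm]
    exact Finset.sum_congr rfl fun _ _ => Finset.sum_congr rfl fun _ _ => by ring
  suffices hdep : ∀ x : Fin d → F, ∃ c : F, A *ᵥ x = c • x by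
    rcases Nat.eq_zero_or_pos d with rfl | hd
    · exact ⟨0, Subsingleton.elim _ _⟩
    choose c hc using hdep
    have key : ∀ i : Fin d, c (Pi.single i 1) = c (Pi.single ⟨0, hd⟩ 1) := by
      intro i
      by_cases hi : i = ⟨0, hd⟩
      · rw [hi]
      have h1 := hc (Pi.single i 1 + Pi.single ⟨0, hd⟩ 1)
      rw [Matrix.mulVec_add, hc, hc] at h1
      have h2 := congrFun h1 i
      have h3 := congrFun h1 ⟨0, hd⟩
      simp [Pi.single_apply, hi, Ne.symm hi] at h2 h3
      rw [h2, h3]
    refine ⟨c (Pi.single ⟨0, hd⟩ 1), ?_⟩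
    ext i j
    have h1 := congrFun (hc (Pi.single j 1)) i
    rw [key j] at h1
    simpa [Matrix.one_apply, Pi.single_apply] using h1
  intro x
  by_contra! hx
  let L : (Fin k → F) →ₗ[F] (Fin d × Fin k → F) :=
    { toFun := fun y => (A ⊗ₖ (B : Matrix (Fin k) (Fin k) F)) *ᵥ (fun p => x p.1 * y p.2) - fun p => x p.1 * y p.2
      map_add' := fun y y' => by
        rw [hk, hk, hk]; funext p; simp [Matrix.mulVec_add, mul_add]; ring
      map_smul' := fun c y => by
        rw [hk, hk]; funext p; simp [Matrix.mulVec_smul, smul_eq_mul]; ring }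
  have hinj : Function.Injective L := by
    rw [← LinearMap.ker_eq_bot, LinearMap.ker_eq_bot']
    intro y hy
    by_contra hy0
    have hy' : (fun p : Fin d × Fin k => (A *ᵥ x) p.1 * ((B : Matrix (Fin k) (Fin k) F) *ᵥ y) p.2) =
        fun p => x p.1 * y p.2 := by
      rw [← hk]; exact sub_eq_zero.1 hy
    obtain ⟨j, hj⟩ := Function.ne_iff.1 (mulVec_ne_zero B hy0)
    have hj' : ((B : Matrix (Fin k) (Fin k) F) *ᵥ y) j ≠ 0 := hj
    refine hx (y j / ((B : Matrix (Fin k) (Fin k) F) *ᵥ y) j) (funext fun i => ?_)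
    have := congrFun hy' (i, j)
    rw [Pi.smul_apply, smul_eq_mul]
    field_simp
    linear_combination this
  have hle : LinearMap.range L ≤ P := by
    rintro _ ⟨y, rfl⟩
    exact h _
  have h1 := Submodule.finrank_mono hle
  rw [LinearMap.finrank_range_of_inj hinj, Module.finrank_fin_fun] at h1
  omega

/-- The coordinates of an Eichler transformation displace into a plane. -/
theorem exists_coord_plane {κ : Type} [Fintype κ] [DecidableEq κ] (e : ι ≃ κ) (P g : GL ι F) {w a : ι → F}
    (hgz : ∀ z, (g : Matrix ι ι F) *ᵥ z = z + rootFun Q w a z) :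
    ∃ R : Submodule F (κ → F), Module.finrank F R ≤ 2 ∧ ∀ z, coord e P (g : Matrix ι ι F) *ᵥ z - z ∈ R := by
  let L : (ι → F) →ₗ[F] (κ → F) :=
    { toFun := fun v => (((P⁻¹ : GL ι F) : Matrix ι ι F) *ᵥ v) ∘ e.symm
      map_add' := fun u v => by rw [Matrix.mulVec_add]; rfl
      map_smul' := fun c v => by rw [Matrix.mulVec_smul]; rfl }
  refine ⟨(Submodule.span F {w, a}).map L, (Submodule.finrank_map_le L _).trans (finrank_pair_le w a), fun z => ?_⟩
  refine ⟨rootFun Q w a ((P : Matrix ι ι F) *ᵥ (z ∘ e)), rootFun_mem w a _, ?_⟩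
  show (((P⁻¹ : GL ι F) : Matrix ι ι F) *ᵥ _) ∘ e.symm = _
  rw [rootFun_eq_sub hgz, Matrix.mulVec_sub, mulVec_inv_cancel, Matrix.mulVec_mulVec, Matrix.mulVec_mulVec, coord,
    Matrix.submatrix_mulVec_equiv, Equiv.symm_symm, mul_assoc]
  funext x
  simp [Matrix.mulVec_mulVec]

theorem not_omega_le_tensor_aux (hQ : (polarBilin Q).Nondegenerate) (hn : 5 ≤ Fintype.card ι) {d k : ℕ} (hd : 2 ≤ d)
    (hk : 3 ≤ k) (e : ι ≃ Fin d × Fin k) (P : GL ι F) : ¬ omegaGL (⇑Q) ≤ tensorProductSubgroup d k e P := by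
  classical
  intro hle
  let o : Fin d := ⟨0, by omega⟩
  let i : Fin d := ⟨1, by omega⟩
  obtain ⟨X, hX⟩ := coord_surjective e P (Matrix.single o i (1 : F) ⊗ₖ (1 : Matrix (Fin k) (Fin k) F))
  obtain ⟨c, hc⟩ := scalar_of_commute_roots hQ hn (X := X) fun w a hw ha z => by
    obtain ⟨g, hg, hgz⟩ := exists_root hQ hn hw ha
    obtain ⟨A, B, hAB⟩ := (mem_tensorProductSubgroup_iff e P g).1 (hle hg)
    obtain ⟨R, hR, hRmem⟩ := exists_coord_plane e P g hgz
    rw [hAB] at hRmem
    obtain ⟨c, hc⟩ := scalar_left_of_small (by omega) hRmem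
    have hcomm : X * (g : Matrix ι ι F) = (g : Matrix ι ι F) * X := by
      refine coord_injective e P ?_
      rw [coord_mul, coord_mul, hX, hAB, hc, ← Matrix.mul_kronecker_mul, ← Matrix.mul_kronecker_mul,
        Matrix.mul_smul, Matrix.smul_mul, mul_one, one_mul, one_mul, mul_one]
    rw [rootFun_eq_sub hgz, rootFun_eq_sub hgz, Matrix.mulVec_sub, Matrix.mulVec_mulVec, hcomm,
      Matrix.mulVec_mulVec]
  have h1 := congrArg (coord e P) hc
  rw [hX, coord_smul, coord_one] at h1
  have h2 := congrFun (congrFun h1 (o, ⟨0, by omega⟩)) (i, ⟨0, by omega⟩)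
  have hne : o ≠ i := fun e' => zero_ne_one (congrArg Fin.val e')
  simp [Matrix.single, Matrix.one_apply, hne] at h2

theorem not_omega_le_tensorProductSubgroup (hQ : (polarBilin Q).Nondegenerate) (hn : 5 ≤ Fintype.card ι) {d k : ℕ}
    (hd : 2 ≤ d) (hk : 2 ≤ k) (e : ι ≃ Fin d × Fin k) (P : GL ι F) :
    ¬ omegaGL (⇑Q) ≤ tensorProductSubgroup d k e P := by
  by_cases h3 : 3 ≤ k
  · exact not_omega_le_tensor_aux hQ hn hd h3 e P
  · intro hle
    have hc : Fintype.card ι = d * k := by simpa using Fintype.card_congr e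
    refine not_omega_le_tensor_aux hQ hn hk (by nlinarith) (e.trans (Equiv.prodComm _ _)) P
      (hle.trans (tensorProductSubgroup_swap e P))

/-- The factors of a tensor square cannot be exchanged in odd characteristic. -/
theorem not_omega_le_wreath_two (h2 : (2 : F) ≠ 0) (hQ : (polarBilin Q).Nondegenerate)
    (hn : 5 ≤ Fintype.card ι) {d : ℕ} (hd : 3 ≤ d) (e : ι ≃ (Fin 2 → Fin d)) (P : GL ι F) :
    ¬ omegaGL (⇑Q) ≤ tensorWreathSubgroup d 2 e P := by
  classical
  intro hle
  obtain ⟨g, hg, w, a, hw, hwa, hqa, hli, hgz⟩ := exists_root_ne hQ hn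
  -- the square of the half
  obtain ⟨h, hh, hhz⟩ := exists_root hQ hn (w := (2 : F)⁻¹ • w) (a := a)
    (by rw [apply_smul, hw, mul_zero]) (by rw [polar_smul_left', hwa, mul_zero])
  obtain ⟨π, gs, hC⟩ := exists_coord_of_mem_tensorWreath (hle hh)
  have hsq : (g : Matrix ι ι F) = (h : Matrix ι ι F) * (h : Matrix ι ι F) := by
    refine Matrix.toLin'.injective (LinearMap.ext fun z => ?_)
    have hh2 : (2 : F)⁻¹ * 2 = 1 := inv_mul_cancel₀ h2
    rw [Matrix.toLin'_apply, Matrix.toLin'_apply, ← Matrix.mulVec_mulVec, hhz z, hhz, hgz]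
    simp only [rootFun, polar_add_left', polar_smul_left', polar_smul_right', hqa, hwa, polar_self', hw,
      QuadraticMap.polar_comm (⇑Q) a w]
    match_scalars <;> field_simp <;> ring
  let e' : ι ≃ Fin d × Fin d := e.trans (finTwoArrowEquiv (Fin d))
  obtain ⟨A, B, hAB⟩ : ∃ A B : Matrix (Fin d) (Fin d) F, coord e' P (g : Matrix ι ι F) = A ⊗ₖ B := by
    have hid : π * π = 1 := (by decide : ∀ σ : Equiv.Perm (Fin 2), σ * σ = 1) π
    have hprod : coord e P (g : Matrix ι ι F) = pureT d 2 F (fun l => gs l * gs (π.symm l)) := by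
      rw [hsq, coord_mul, hC]
      ext x y
      rw [mul_assoc, Matrix.mul_apply]
      simp only [permT_mul, mul_permT, pureT_apply, ← mul_assoc]
      simp only [Matrix.mul_apply, Finset.prod_univ_sum, Fintype.piFinset_univ]
      refine Finset.sum_congr rfl fun z _ => ?_
      rw [Finset.prod_mul_distrib]
      congr 1
      rw [← Equiv.prod_comp π]
      refine Finset.prod_congr rfl fun l _ => ?_
      have e2 : π.symm = π := by
        refine Equiv.ext fun x => π.injective ?_
        rw [Equiv.apply_symm_apply]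
        exact (congrFun (congrArg (fun σ : Equiv.Perm (Fin 2) => (σ : Fin 2 → Fin 2)) hid) x).symm
      simp only [Function.comp_apply, e2]
      rw [show π (π l) = l from congrFun (congrArg (fun σ : Equiv.Perm (Fin 2) => (σ : Fin 2 → Fin 2)) hid) l]
    refine ⟨gs 0 * gs (π.symm 0), gs 1 * gs (π.symm 1), ?_⟩
    ext x y
    have h1 := congrFun (congrFun hprod ((finTwoArrowEquiv (Fin d)).symm x)) ((finTwoArrowEquiv (Fin d)).symm y)
    rw [pureT_apply, Fin.prod_univ_two] at h1
    simp only [coord, Matrix.submatrix_apply, e', Equiv.symm_trans_apply] at h1 ⊢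
    rw [h1]
    simp [finTwoArrowEquiv]
  obtain ⟨R, hR, hRmem⟩ := exists_coord_plane e' P g hgz
  have hdet : (A ⊗ₖ B).det ≠ 0 := hAB ▸ det_coord_ne_zero e' P g
  have hA : A.det ≠ 0 := fun h0 => hdet (by rw [Matrix.det_kronecker, h0, zero_pow (by simp; omega), zero_mul])
  have hB : B.det ≠ 0 := fun h0 => hdet (by rw [Matrix.det_kronecker, h0, zero_pow (by simp; omega), mul_zero])
  rw [hAB] at hRmem
  obtain ⟨c, hc⟩ := scalar_left_of_small (B := Matrix.GeneralLinearGroup.mkOfDetNeZero B hB) (by omega) hRmem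
  let σp := Equiv.prodComm (Fin d) (Fin d)
  obtain ⟨R', hR', hR'mem⟩ := exists_coord_plane (e'.trans σp) P g hgz
  have hBA : coord (e'.trans σp) P (g : Matrix ι ι F) = B ⊗ₖ A := by
    ext ⟨x1, x2⟩ ⟨y1, y2⟩
    have h1 := congrFun (congrFun hAB (x2, x1)) (y2, y1)
    simp only [coord, Matrix.submatrix_apply, Matrix.kronecker_apply] at h1 ⊢
    rw [mul_comm, ← h1]
    rfl
  rw [hBA] at hR'mem
  obtain ⟨c', hc'⟩ := scalar_left_of_small (B := Matrix.GeneralLinearGroup.mkOfDetNeZero A hA) (by omega) hR'mem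
  have hgs : ∀ z, (g : Matrix ι ι F) *ᵥ z = (c * c') • z := by
    have e1 : (g : Matrix ι ι F) = (c * c') • (1 : Matrix ι ι F) := by
      refine coord_injective e' P ?_
      rw [hAB, coord_smul, coord_one, hc, hc', Matrix.smul_kronecker, Matrix.kronecker_smul, Matrix.one_kronecker_one,
        smul_smul]
    intro z
    rw [e1, Matrix.smul_mulVec, Matrix.one_mulVec]
  have hw0 : w ≠ 0 := by simpa using hli.ne_zero 0
  have h1 : c * c' = 1 := by
    have h := hgs w
    rw [hgz] at h
    simp only [rootFun, hwa, polar_self', hw, mul_zero, sub_zero, neg_zero, zero_smul, add_zero] at h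
    exact smul_left_injective F hw0 (h.symm.trans (one_smul F w).symm)
  obtain ⟨z, hzw, hza⟩ := exists_pair_one hQ hw0 (a := a) fun h => by
    obtain ⟨t, ht⟩ := Submodule.mem_span_singleton.1 h
    exact one_ne_zero (neg_eq_zero.1 (LinearIndependent.pair_iff.1 hli t (-1) (by rw [ht]; simp)).2)
  have h := hgs z
  rw [hgz, h1, one_smul, add_eq_left] at h
  simp only [rootFun, hzw, hza, hqa, mul_zero, sub_zero, one_smul, neg_zero, zero_smul, add_zero] at h
  exact hw0 h

/-- Subfield groups do not contain Ω. -/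
theorem not_omega_le_subfieldSubgroup' (hQ : (polarBilin Q).Nondegenerate) (hn : 5 ≤ Fintype.card ι)
    {F₀ : Subfield F} (hF₀ : F₀ ≠ ⊤) (P : GL ι F) : ¬ omegaGL (⇑Q) ≤ subfieldSubgroup F₀ P := by
  classical
  intro hle
  haveI : Nonempty ι := Fintype.card_pos_iff.1 (by omega)
  obtain ⟨p, hp⟩ := CharP.exists F
  haveI : Fact p.Prime := ⟨CharP.char_is_prime F p⟩
  haveI : CharP F₀ p := F₀.subtype.charP F₀.subtype.injective _
  obtain ⟨w, a, hw, ha, hwa, hli⟩ := exists_singular_pair hQ hn
  obtain ⟨g, hg, hgz⟩ := exists_root hQ hn hw hwa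
  set M' := ((P⁻¹ : GL ι F) : Matrix ι ι F) * ((g : Matrix ι ι F) - 1) * (P : Matrix ι ι F) with hM'
  have hM : ∀ z, ((g : Matrix ι ι F) - 1) *ᵥ z = rootFun Q w a z := fun z => by
    rw [Matrix.sub_mulVec, Matrix.one_mulVec, hgz, add_sub_cancel_left]
  have hM2 : ((g : Matrix ι ι F) - 1) * ((g : Matrix ι ι F) - 1) = 0 := Matrix.toLin'.injective (LinearMap.ext fun z => by
    rw [Matrix.toLin'_apply, ← Matrix.mulVec_mulVec, hM, hM]
    simp only [rootFun, ha, polar_add_left', polar_smul_left', polar_self', hw, hwa, QuadraticMap.polar_comm (⇑Q) a w]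
    simp)
  have hM'2 : M' * M' = 0 := by
    rw [hM', show ((P⁻¹ : GL ι F) : Matrix ι ι F) * ((g : Matrix ι ι F) - 1) * (P : Matrix ι ι F) *
      (((P⁻¹ : GL ι F) : Matrix ι ι F) * ((g : Matrix ι ι F) - 1) * (P : Matrix ι ι F)) =
        ((P⁻¹ : GL ι F) : Matrix ι ι F) * (((g : Matrix ι ι F) - 1) *
        ((P : Matrix ι ι F) * ((P⁻¹ : GL ι F) : Matrix ι ι F)) * ((g : Matrix ι ι F) - 1)) * (P : Matrix ι ι F) by
        simp only [mul_assoc],
      ← Units.val_mul, mul_inv_cancel, Units.val_one, mul_one, hM2, mul_zero, zero_mul]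
  have hrat : ∀ (t : F) i j, t * M' i j ∈ F₀ := by
    intro t i j
    obtain ⟨g', hg', hgz'⟩ := exists_root hQ hn (w := t • w) (a := a) (by rw [apply_smul, hw, mul_zero])
      (by rw [polar_smul_left', hwa, mul_zero])
    have hg'M : (g' : Matrix ι ι F) = 1 + t • ((g : Matrix ι ι F) - 1) := Matrix.toLin'.injective
      (LinearMap.ext fun z => by
        rw [Matrix.toLin'_apply, Matrix.toLin'_apply, hgz', Matrix.add_mulVec, Matrix.one_mulVec,
          Matrix.smul_mulVec, hM]
        simp only [rootFun, ha, polar_smul_right', mul_zero, zero_mul, sub_zero]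
        module)
    obtain ⟨g₁, hg₁, e₁⟩ := hle hg'
    obtain ⟨A₀, ⟨A, rfl⟩, z, hz, hprod⟩ := Subgroup.mem_sup_of_normal_right.1 (show g₁ ∈ _ ⊔ scalars ι F from hg₁)
    obtain ⟨d, hd⟩ := (mem_scalars_iff z).1 hz
    have hval := congrArg (Units.val : GL ι F → Matrix ι ι F) hprod
    rw [Units.val_mul, hd, Matrix.mul_smul, mul_one, show g₁ = P⁻¹ * g' * P by rw [← e₁]; simp [mul_assoc],
      Units.val_mul, Units.val_mul, hg'M, mul_add, mul_one, add_mul, ← Units.val_mul, inv_mul_cancel, Units.val_one,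
      Matrix.mul_smul, Matrix.smul_mul, ← hM'] at hval
    have hA : (1 : Matrix ι ι F) + t • M' = (d : F) • ((A : Matrix ι ι F₀).map F₀.subtype) := hval.symm
    suffices hdm : (d : F) ∈ F₀ by
      have h := congrFun (congrFun hA i) j
      rw [Matrix.add_apply, Matrix.smul_apply, Matrix.smul_apply, smul_eq_mul, smul_eq_mul] at h
      rw [show t * M' i j = (d : F) * ((A : Matrix ι ι F₀).map F₀.subtype) i j - (1 : Matrix ι ι F) i j by
        linear_combination h]
      refine sub_mem (mul_mem hdm (SetLike.coe_mem _)) ?_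
      rw [Matrix.one_apply]; split
      · exact one_mem _
      · exact zero_mem _
    haveI : CharP (Matrix ι ι F) p := Matrix.charP _
    have hpow : ((1 : Matrix ι ι F) + t • M') ^ p = 1 := by
      rw [add_pow_char_of_commute _ (Commute.one_left _), one_pow,
        pow_eq_zero_of_le (m := 2) (Fact.out (p := p.Prime)).two_le
          (by rw [pow_two, Matrix.smul_mul, Matrix.mul_smul, hM'2, smul_zero, smul_zero]),
        add_zero]
    rw [hA, smul_pow] at hpow
    have hA'e : (A : Matrix ι ι F₀).map F₀.subtype ^ p = ((A : Matrix ι ι F₀) ^ p).map F₀.subtype := by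
      rw [← RingHom.mapMatrix_apply, ← map_pow]
      rfl
    obtain ⟨k⟩ := (inferInstance : Nonempty ι)
    have hk := congrFun (congrFun hpow k) k
    rw [Matrix.smul_apply, Matrix.one_apply_eq, smul_eq_mul, hA'e] at hk
    obtain ⟨v, hv⟩ := (Finite.injective_iff_surjective.1 (frobenius F₀ p).injective)
      (((A : Matrix ι ι F₀) ^ p) k k)⁻¹
    have hv' : (v : F) ^ p = (d : F) ^ p := by
      rw [eq_inv_of_mul_eq_one_left hk]
      exact congrArg Subtype.val hv
    rw [← frobenius_inj F _ (show frobenius F p (v : F) = frobenius F p (d : F) from hv')]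
    exact v.2
  obtain ⟨i, j, hij⟩ : ∃ i j, M' i j ≠ 0 := by
    by_contra! hall
    have hM0 : (g : Matrix ι ι F) - 1 = 0 := by
      have : (g : Matrix ι ι F) - 1 = (P : Matrix ι ι F) * M' * ((P⁻¹ : GL ι F) : Matrix ι ι F) := by
        simp [hM', mul_assoc, ← Units.val_mul, ← mul_assoc (P : Matrix ι ι F)]
      rw [this, show M' = 0 from Matrix.ext hall]
      simp
    have hw0 : w ≠ 0 := by simpa using hli.ne_zero 0
    obtain ⟨z, hzw, hza⟩ := exists_pair_one hQ hw0 (a := a) fun h => by
      obtain ⟨t, ht⟩ := Submodule.mem_span_singleton.1 h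
      exact one_ne_zero (neg_eq_zero.1 (LinearIndependent.pair_iff.1 hli t (-1) (by rw [ht]; simp)).2)
    have h := hM z
    rw [hM0, Matrix.zero_mulVec] at h
    simp only [rootFun, hzw, hza, ha, mul_zero, sub_zero, one_smul, neg_zero, zero_smul, add_zero] at h
    exact hw0 h.symm
  refine hF₀ (SetLike.ext fun x => iff_of_true ?_ (Subfield.mem_top x))
  have := hrat (x / M' i j) i j
  rwa [div_mul_cancel₀ _ hij] at this

end CfsgLib.Geo.Asch
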