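/-
Unitary groups and subfield groups: non-containment, rationality of the form, descent.
-/
import Cfsg.Agent.Lib.Geo.Asch.Descent
import Cfsg.Agent.Lib.Geo.Asch.SUTools

set_option autoImplicit false

namespace CfsgLib.Geo.Asch

open Matrix Cfsg.Geo

variable {F : Type*} [Field F] [Fintype F] {σ : F ≃+* F} {q n : ℕ}

theorem rational_isotropic (h : IsQPow σ q) {F₀ : Subfield F} {P : GL (Fin n) F}
    (hle : SUg n F q ≤ subfieldSubgroup F₀ P) {u : Fin n → F} (hu : Cfsg.hermForm n F q u u = 0) (hu0 : u ≠ 0) :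
    ∃ (s : F) (U : Fin n → F), s ≠ 0 ∧ (∀ i, U i ∈ F₀) ∧ U ≠ 0 ∧ u = s • ((P : Matrix (Fin n) (Fin n) F) *ᵥ U) := by
  obtain ⟨a, ha0, ha⟩ := h.exists_trace_zero
  obtain ⟨φ, hφ, hmem, hφx⟩ := exists_SU_transvection h hu ha
  obtain ⟨g, hg, e⟩ := hle hmem
  obtain ⟨A₀, ⟨A, rfl⟩, z, hz, hprod⟩ := Subgroup.mem_sup_of_normal_right.1 (show g ∈ _ ⊔ scalars (Fin n) F from hg)
  obtain ⟨d, hd⟩ := (mem_scalars_iff z).1 hz
  set U := ((P⁻¹ : GL (Fin n) F) : Matrix (Fin n) (Fin n) F) *ᵥ u with hU
  set ψ := φ ᵥ* (P : Matrix (Fin n) (Fin n) F) with hψ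
  set t := transvectionGL φ u hφ with ht
  have hg' : g = P⁻¹ * t * P := by rw [← e]; simp [mul_assoc]
  have hval : (g : Matrix (Fin n) (Fin n) F) = 1 + Matrix.vecMulVec U ψ := by
    rw [hg', Units.val_mul, Units.val_mul, show (t : Matrix (Fin n) (Fin n) F) = 1 + Matrix.vecMulVec u φ from rfl,
      mul_add, mul_one, add_mul, ← Units.val_mul, inv_mul_cancel, Units.val_one, Matrix.mul_vecMulVec,
      Matrix.vecMulVec_mul]
  have hA : 1 + Matrix.vecMulVec U ψ = (d : F) • (A : Matrix (Fin n) (Fin n) F₀).map F₀.subtype := by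
    rw [← hval, ← hprod, Units.val_mul, hd, Matrix.mul_smul, mul_one]
    rfl
  have h2 : ψ ⬝ᵥ U = 0 := by
    rw [hψ, hU, ← Matrix.dotProduct_mulVec, inv_mulVec_cancel, hφ]
  have hNN : Matrix.vecMulVec U ψ * Matrix.vecMulVec U ψ = 0 := by
    rw [Matrix.vecMulVec_mul_vecMulVec, h2, zero_smul, Matrix.vecMulVec_zero]
  have hd₀ : (d : F) ∈ F₀ := by
    obtain ⟨p, hp⟩ := CharP.exists F
    haveI : Fact p.Prime := ⟨CharP.char_is_prime F p⟩
    haveI : CharP F₀ p := F₀.subtype.charP F₀.subtype.injective p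
    obtain ⟨k, hk⟩ := Function.ne_iff.1 hu0
    haveI : Nonempty (Fin n) := ⟨k⟩
    haveI : CharP (Matrix (Fin n) (Fin n) F) p := Matrix.charP p
    have hpow : (1 + Matrix.vecMulVec U ψ) ^ p = 1 := by
      rw [add_pow_char_of_commute (p := p) (h := Commute.one_left _), one_pow,
        pow_eq_zero_of_le (Fact.out (p := p.Prime)).two_le (by rw [pow_two]; exact hNN), add_zero]
    rw [hA, smul_pow] at hpow
    have hkk := congrFun (congrFun hpow k) k
    rw [Matrix.smul_apply, ← RingHom.mapMatrix_apply, ← map_pow, RingHom.mapMatrix_apply, Matrix.map_apply,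
      Matrix.one_apply_eq, smul_eq_mul] at hkk
    obtain ⟨w, hw⟩ := (Finite.injective_iff_surjective.1 (frobenius F₀ p).injective)
      (((A : Matrix (Fin n) (Fin n) F₀) ^ p) k k)⁻¹
    have hw' : (w : F) ^ p = (d : F) ^ p := by
      rw [eq_inv_of_mul_eq_one_left hkk]
      exact congrArg Subtype.val hw
    rw [← frobenius_inj F p (show frobenius F p (w : F) = frobenius F p (d : F) from hw')]
    exact w.2
  have hM : ∀ i j, U i * ψ j ∈ F₀ := fun i j => by
    have h1 := congrFun (congrFun hA i) j
    rw [Matrix.add_apply, Matrix.vecMulVec_apply, Matrix.smul_apply, smul_eq_mul] at h1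
    rw [show U i * ψ j = (d : F) * ((A : Matrix (Fin n) (Fin n) F₀) i j : F) - (1 : Matrix (Fin n) (Fin n) F) i j by
      rw [eq_sub_iff_add_eq, add_comm]; exact h1]
    refine sub_mem (mul_mem hd₀ (SetLike.coe_mem _)) ?_
    rw [Matrix.one_apply]; split
    · exact one_mem _
    · exact zero_mem _
  obtain ⟨k, hk⟩ := Function.ne_iff.1 (mulVec_ne_zero P⁻¹ hu0)
  obtain ⟨l, hl⟩ : ∃ l, ψ l ≠ 0 := by
    by_contra! hall
    obtain ⟨x, hx⟩ := ((isUnitaryForm_hermForm h).nondegenerate u hu0).1
    apply mul_ne_zero ha0 hx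
    rw [← hφx, ← inv_mulVec_cancel P x, Matrix.dotProduct_mulVec, ← hψ, funext hall]
    exact zero_dotProduct _
  refine ⟨U k, fun i => U i * ψ l / (U k * ψ l), hk, fun i => div_mem (hM i l) (hM k l), fun h0 => ?_, ?_⟩
  · have := congrFun h0 k
    rw [Pi.zero_apply, div_self (mul_ne_zero hk hl)] at this
    exact one_ne_zero this
  · rw [← Matrix.mulVec_smul]
    conv_lhs => rw [← inv_mulVec_cancel P u, ← hU]
    congr 1
    funext i
    rw [Pi.smul_apply, smul_eq_mul]
    have hk' : U k ≠ 0 := hk
    field_simp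

theorem not_SU_le_subfieldSubgroup' (h : IsQPow σ q) (hF : Fintype.card F = q ^ 2) (hn4 : 4 ≤ n)
    {F₀ : Subfield F} (hF₀ : F₀ ≠ ⊤) (P : GL (Fin n) F) : ¬ SUg n F q ≤ subfieldSubgroup F₀ P := by
  intro hle
  obtain ⟨c, d, -, hc, -⟩ := exists_pair_norms h hF
  let I : Fin 4 → Fin n := fun k => ⟨k, by omega⟩
  have hI : Function.Injective I := fun k l e => Fin.ext (by simpa [I] using e)
  set u := pairVec (I 0) (I 1) c with hu'
  set w := pairVec (I 2) (I 3) c with hw'
  have hf := isUnitaryForm_hermForm (n := n) h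
  have hs := isSesqForm_of_unitary hf
  have huu : Cfsg.hermForm n F q u u = 0 := by rw [hu', herm_pairVec h (hI.ne (by decide)), hc, add_neg_cancel]
  have hww : Cfsg.hermForm n F q w w = 0 := by rw [hw', herm_pairVec h (hI.ne (by decide)), hc, add_neg_cancel]
  have huw : Cfsg.hermForm n F q u w = 0 := by
    rw [hermForm_eq h]
    refine Finset.sum_eq_zero fun i _ => ?_
    by_cases h0 : i = I 0
    · subst h0; simp [hw', pairVec, hI.ne]
    · by_cases h1 : i = I 1
      · subst h1; simp [hw', pairVec, hI.ne]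
      · simp [hu', pairVec, h0, h1]
  have hwu : Cfsg.hermForm n F q w u = 0 := by rw [hf.herm, huw, map_zero]
  have hu1 : u (I 0) = 1 := by simp [hu', pairVec, hI.ne]
  have hu2 : u (I 2) = 0 := by simp [hu', pairVec, hI.ne]
  have hw1 : w (I 0) = 0 := by simp [hw', pairVec, hI.ne]
  have hw2 : w (I 2) = 1 := by simp [hw', pairVec, hI.ne]
  have hu0 : u ≠ 0 := fun e => one_ne_zero (α := F) (by rw [← hu1, e]; rfl)
  have hw0 : w ≠ 0 := fun e => one_ne_zero (α := F) (by rw [← hw2, e]; rfl)
  obtain ⟨s, U, hs0, hU, hU0, eu⟩ := rational_isotropic h hle huu hu0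
  obtain ⟨t, W, ht0, hW, hW0, ew⟩ := rational_isotropic h hle hww hw0
  obtain ⟨i, j, hD⟩ : ∃ i j, U i * W j - U j * W i ≠ 0 := by
    by_contra! hall
    obtain ⟨i, hi⟩ := Function.ne_iff.1 hU0
    have hWU : W = (W i / U i) • U := funext fun j => by
      rw [Pi.smul_apply, smul_eq_mul, div_mul_eq_mul_div, eq_div_iff hi]
      linear_combination hall i j
    rw [hWU, Matrix.mulVec_smul, smul_smul] at ew
    have e : w = (t * (W i / U i) * s⁻¹) • u := by
      conv_rhs => rw [eu, smul_smul, mul_assoc, inv_mul_cancel₀ hs0, mul_one]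
      exact ew
    have := congrFun e (I 2)
    rw [Pi.smul_apply, hu2, hw2, smul_zero] at this
    exact one_ne_zero this
  apply hF₀
  refine SetLike.ext fun x => iff_of_true ?_ (Subfield.mem_top x)
  set lam := x * (s / t) with hlam
  have hiso : Cfsg.hermForm n F q (u + lam • w) (u + lam • w) = 0 := by
    simp [hs.add_left, hs.add_right, hs.smul_left, hs.smul_right, huu, hww, huw, hwu]
  have hne : u + lam • w ≠ 0 := fun e => by
    have := congrFun e (I 0)
    rw [Pi.add_apply, Pi.smul_apply, hu1, hw1, smul_zero, add_zero] at this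
    exact one_ne_zero this
  obtain ⟨k, R, hk0, hR, -, er⟩ := rational_isotropic h hle hiso hne
  rw [eu, ew, smul_smul, ← Matrix.mulVec_smul, ← Matrix.mulVec_smul, ← Matrix.mulVec_smul, ← Matrix.mulVec_add] at er
  have er' : s • U + (lam * t) • W = k • R := by
    have := congrArg (fun v => ((P⁻¹ : GL (Fin n) F) : Matrix (Fin n) (Fin n) F) *ᵥ v) er
    simpa [mulVec_inv_cancel] using this
  have hi := congrFun er' i
  have hj := congrFun er' j
  simp only [Pi.add_apply, Pi.smul_apply, smul_eq_mul] at hi hj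
  have hlt : lam * t = x * s := by rw [hlam]; field_simp
  rw [hlt] at hi hj
  have h1 : k * (R i * W j - R j * W i) = s * (U i * W j - U j * W i) := by
    linear_combination W i * hj - W j * hi
  have h2 : k * (U i * R j - U j * R i) = x * s * (U i * W j - U j * W i) := by
    linear_combination U j * hi - U i * hj
  have hA0 : R i * W j - R j * W i ≠ 0 := fun e => by
    rw [e, mul_zero] at h1
    exact mul_ne_zero hs0 hD h1.symm
  have hx : x = (U i * R j - U j * R i) / (R i * W j - R j * W i) := by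
    rw [eq_div_iff hA0]
    apply mul_left_cancel₀ hk0
    linear_combination x * h1 - h2
  rw [hx]
  exact div_mem (sub_mem (mul_mem (hU i) (hR j)) (mul_mem (hU j) (hR i)))
    (sub_mem (mul_mem (hR i) (hW j)) (mul_mem (hR j) (hW i)))

theorem not_SU_le_subfieldSubgroup (h : IsQPow σ q) (hF : Fintype.card F = q ^ 2) (_hn : n.Prime) (hn4 : 4 ≤ n)
    {F₀ : Subfield F} (hF₀ : F₀ ≠ ⊤) (P : GL (Fin n) F) : ¬ SUg n F q ≤ subfieldSubgroup F₀ P :=
  not_SU_le_subfieldSubgroup' h hF hn4 hF₀ P

theorem subfieldSubgroup_scale (F₀ : Subfield F) (P : GL (Fin n) F) {z : GL (Fin n) F}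
    (hz : z ∈ scalars (Fin n) F) : subfieldSubgroup F₀ (P * z) = subfieldSubgroup F₀ P := by
  unfold subfieldSubgroup
  congr 1
  refine MonoidHom.ext fun g => ?_
  show P * z * g * (P * z)⁻¹ = P * g * P⁻¹
  rw [_root_.mul_inv_rev, mul_assoc P z g, scalar_commute hz]
  group

/-- A group fixing a hermitian and a bilinear form is written over the fixed field. -/
theorem realisable_fixedSubfield (hq : IsQPow σ q) (_hF : Fintype.card F = q ^ 2) [Nonempty (Fin n)] (hn : Odd n)
    {N : Subgroup (GL (Fin n) F)} (hN : ActsAbsolutelyIrreducibly (matrixSet N)) (hle : N ≤ Cfsg.GU n F q)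
    {B : (Fin n → F) → (Fin n → F) → F} (hB : IsBilinearForm B) (hBnd : IsNondegenerateForm B)
    (hBfix : FixesForm (matrixSet N) B) : RealisableOver (fixedSubfield σ) (matrixSet N) :=
  realisable_fixed_of_forms (by rwa [Fintype.card_fin]) hN (isUnitaryForm_hermForm hq) (fixesForm_of_le_GU hle)
    hB hBnd hBfix

/-- The unitary form is rational, after scaling, in a basis over which the group is written. -/
theorem exists_rational_structure (hq : IsQPow σ q) (hF : Fintype.card F = q ^ 2) [Nonempty (Fin n)] (hn : Odd n)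
    (hn2 : 2 ≤ n) {N : Subgroup (GL (Fin n) F)} (hN : ActsAbsolutelyIrreducibly (matrixSet N))
    (hle : N ≤ Cfsg.GU n F q) {F₁ : Subfield F} {s : ℕ} (hs : s.Prime) (hcard : Fintype.card F = Nat.card F₁ ^ s)
    (P : GL (Fin n) F)
    (hP : ∀ g ∈ N, ∀ i j,
      (((P⁻¹ : GL (Fin n) F) : Matrix (Fin n) (Fin n) F) * (g : Matrix (Fin n) (Fin n) F) * (P : Matrix (Fin n) (Fin n) F)) i j ∈ F₁) :
    ∃ z ∈ scalars (Fin n) F, IsFormRationalStructure (Cfsg.hermForm n F q) F₁ 1 (P * z) ∧
      (Odd s ∨ (s = 2 ∧ Odd q)) := by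
  classical
  have hf := isUnitaryForm_hermForm (n := n) hq
  have hsf := isSesqForm_of_unitary hf
  have hσF₁ : ∀ a ∈ F₁, σ a ∈ F₁ := fun a ha => by rw [hq.eq_pow]; exact pow_mem ha q
  obtain ⟨z, hz0, hzG, i₀, j₀, hne⟩ := exists_rational_gram hN hsf hf.nondegenerate (fixesForm_of_le_GU hle) hσF₁ P hP
  set G := gramIn (Cfsg.hermForm n F q) (P : Matrix (Fin n) (Fin n) F) with hG
  have hherm : ∀ i j, σ (G i j) = G j i := fun i j => (hf.herm _ _).symm
  have hσz : σ z ≠ 0 := fun e => hz0 (by simpa using e)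
  set w := z / σ z with hw
  have hwF : w ∈ F₁ := by
    have h1 := hσF₁ _ (hzG i₀ j₀)
    rw [map_mul, hherm] at h1
    have hne' : G j₀ i₀ ≠ 0 := fun e => hne (by rw [← hherm j₀ i₀, e, map_zero])
    rw [show w = z * G j₀ i₀ / (σ z * G j₀ i₀) by rw [hw, mul_div_mul_right _ _ hne']]
    exact div_mem (hzG j₀ i₀) h1
  have hww : w * σ w = 1 := by
    rw [hw, map_div₀, hq.involutive, div_mul_div_cancel₀ hσz, div_self hz0]
  -- it suffices to find a fixed multiplier
  have finish : ∀ ζ : F, ζ ≠ 0 → σ ζ = ζ → (∀ i j, ζ * G i j ∈ F₁) →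
      ∃ z ∈ scalars (Fin n) F, IsFormRationalStructure (Cfsg.hermForm n F q) F₁ 1 (P * z) := by
    intro ζ hζ0 hζ hζG
    obtain ⟨l, hl⟩ := hq.exists_norm hF hζ
    have hl0 : l ≠ 0 := fun e => hζ0 (by rw [← hl, e, zero_mul])
    refine ⟨Units.map (Matrix.scalar (Fin n) : F →+* Matrix (Fin n) (Fin n) F).toMonoidHom (Units.mk0 l hl0),
      ⟨_, rfl⟩, fun u v hu hv => ?_⟩
    rw [one_mul, Units.val_mul]
    have e : ∀ x : Fin n → F, ((P : Matrix (Fin n) (Fin n) F) * Matrix.scalar (Fin n) l) *ᵥ x =
        l • ((P : Matrix (Fin n) (Fin n) F) *ᵥ x) := fun x => by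
      rw [← Matrix.mulVec_mulVec, ← Matrix.mulVec_smul]
      congr 1
      ext i
      simp [Matrix.mulVec_diagonal]
    show Cfsg.hermForm n F q (((P : Matrix (Fin n) (Fin n) F) * Matrix.scalar (Fin n) l) *ᵥ u)
      (((P : Matrix (Fin n) (Fin n) F) * Matrix.scalar (Fin n) l) *ᵥ v) ∈ F₁
    rw [e, e, hsf.smul_left, hsf.smul_right, ← mul_assoc, hl, form_eq_gram hsf, Finset.mul_sum]
    refine sum_mem fun i _ => ?_
    rw [Finset.mul_sum]
    refine sum_mem fun j _ => ?_
    rw [show ζ * (u i * (gramIn (Cfsg.hermForm n F q) (P : Matrix (Fin n) (Fin n) F) i j * σ (v j))) =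
      u i * ((ζ * G i j) * σ (v j)) by rw [hG]; ring]
    exact mul_mem (hu i) (mul_mem (hζG i j) (hσF₁ _ (hv j)))
  by_cases htriv : ∀ a ∈ F₁, σ a = a
  · -- σ is trivial on F₁, so the index is two
    have hs2 : s = 2 := by
      have hrk : Module.finrank F₁ F = s := by
        have h1 := Module.natCard_eq_pow_finrank (K := F₁) (V := F)
        rw [Nat.card_eq_fintype_card, hcard] at h1
        exact (Nat.pow_right_injective (Finite.one_lt_card (α := F₁)) h1).symm
      let σ' : F ≃ₐ[F₁] F := AlgEquiv.ofRingEquiv (f := σ) fun a => htriv _ a.2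
      have ho : orderOf σ' = 2 := by
        refine orderOf_eq_prime ?_ ?_
        · exact AlgEquiv.ext fun a => hq.involutive a
        · intro e
          obtain ⟨c, hc⟩ := hq.moved
          exact hc (AlgEquiv.congr_fun e c)
      have h2 : 2 ∣ s := by
        rw [← ho, ← hrk, ← IsGalois.card_aut_eq_finrank F₁ F]
        exact orderOf_dvd_natCard σ'
      exact ((Nat.prime_dvd_prime_iff_eq Nat.prime_two hs).1 h2).symm
    have hw2 : w * w = 1 := by
      have := hww
      rwa [htriv w hwF] at this
    -- the bilinear form with Gram matrix z • G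
    let B : (Fin n → F) → (Fin n → F) → F := formIn (RingEquiv.refl F) (fun i j => z * G i j) P
    have hBs : IsBilinearForm B :=
      ⟨(isSesqForm_formIn _ _ P).add_left, (isSesqForm_formIn _ _ P).smul_left, (isSesqForm_formIn _ _ P).add_right,
        (isSesqForm_formIn _ _ P).smul_right⟩
    have hBG : ∀ i j, B ((P : Matrix (Fin n) (Fin n) F) *ᵥ Pi.single i 1) ((P : Matrix (Fin n) (Fin n) F) *ᵥ Pi.single j 1) =
        z * G i j := fun i j => congrFun (congrFun (formIn_basis (RingEquiv.refl F) (fun i j => z * G i j) P) i) j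
    have hBval : ∀ u v : Fin n → F, B u v = z * Cfsg.hermForm n F q u ((P : Matrix (Fin n) (Fin n) F) *ᵥ
        fun k => σ ((((P⁻¹ : GL (Fin n) F) : Matrix (Fin n) (Fin n) F) *ᵥ v) k)) := by
      intro u v
      conv_rhs => rw [← inv_mulVec_cancel P u, form_eq_gram hsf, Finset.mul_sum]
      refine Finset.sum_congr rfl fun i _ => ?_
      rw [Finset.mul_sum]
      refine Finset.sum_congr rfl fun j _ => ?_
      simp only [RingEquiv.refl_apply, hq.involutive, hG]
      ring
    have hswap : ∀ u v, B v u = w⁻¹ * B u v := by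
      intro u v
      simp only [B, formIn, RingEquiv.refl_apply, Finset.mul_sum]
      rw [Finset.sum_comm]
      refine Finset.sum_congr rfl fun i _ => Finset.sum_congr rfl fun j _ => ?_
      have h1 : z * G j i = w⁻¹ * (z * G i j) := by
        have h2 := htriv _ (hzG i j)
        rw [map_mul, hherm] at h2
        rw [← h2, hw, inv_div]
        rw [hw, div_mul_div_comm, div_eq_one_iff_eq (mul_ne_zero hσz hσz)] at hw2
        field_simp
        linear_combination (G j i) * hw2
      rw [h1]; ring
    have hBnd : IsNondegenerateForm B := by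
      intro v hv
      have hv' : ((P : Matrix (Fin n) (Fin n) F) *ᵥ
          fun k => σ ((((P⁻¹ : GL (Fin n) F) : Matrix (Fin n) (Fin n) F) *ᵥ v) k)) ≠ 0 :=
        mulVec_ne_zero P fun e => mulVec_ne_zero P⁻¹ hv (funext fun k => σ.injective (by simpa using congrFun e k))
      obtain ⟨x, hx⟩ := (hf.nondegenerate _ hv').1
      have hB0 : B x v ≠ 0 := by rw [hBval]; exact mul_ne_zero hz0 hx
      refine ⟨⟨x, hB0⟩, ⟨x, ?_⟩⟩
      rw [hswap]
      exact mul_ne_zero (inv_ne_zero (fun e => by rw [e, zero_mul] at hw2; exact zero_ne_one hw2)) hB0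
    have hodd : Odd q := by
      rcases Nat.even_or_odd q with hev | ho
      swap
      · exact ho
      exfalso
      have h20 : (2 : F) = 0 := by
        by_contra h2
        have ho := FiniteField.odd_card_of_char_ne_two (F := F) fun h' => h2 (by
          have := CharP.cast_eq_zero F (ringChar F)
          rw [h'] at this
          exact_mod_cast this)
        rw [hF, ← Nat.odd_iff, Nat.odd_pow_iff two_ne_zero] at ho
        exact Nat.not_even_iff_odd.2 ho hev
      have hw1 : w = 1 := by
        rcases mul_self_eq_one_iff.1 hw2 with h | h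
        · exact h
        · rw [h]; linear_combination -h20
      have hsymm : ∀ u v, B v u = B u v := fun u v => by rw [hswap, hw1, inv_one, one_mul]
      let W : Submodule F (Fin n → F) :=
        { carrier := {v | B v v = 0}
          add_mem' := fun {a b} ha hb => by
            show B (a + b) (a + b) = 0
            rw [hBs.add_left, hBs.add_right, hBs.add_right, hsymm a b]
            rw [show B a a = 0 from ha, show B b b = 0 from hb]
            linear_combination B a b * h20
          zero_mem' := by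
            show B 0 0 = 0
            simpa using hBs.smul_left 0 0 0
          smul_mem' := fun c a ha => by
            show B (c • a) (c • a) = 0
            rw [hBs.smul_left, hBs.smul_right, show B a a = 0 from ha, mul_zero, mul_zero] }
      have hBfix : ∀ g ∈ N, ∀ u v, B ((g : Matrix (Fin n) (Fin n) F) *ᵥ u) ((g : Matrix (Fin n) (Fin n) F) *ᵥ v) = B u v := by
        intro g hg u v
        rw [hBval, hBval]
        congr 1
        rw [← fixesForm_of_le_GU hle _ (mem_matrixSet hg) u]
        congr 1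
        set Rg := ((P⁻¹ : GL (Fin n) F) : Matrix (Fin n) (Fin n) F) * (g : Matrix (Fin n) (Fin n) F) *
          (P : Matrix (Fin n) (Fin n) F) with hRg
        have e1 : ((P⁻¹ : GL (Fin n) F) : Matrix (Fin n) (Fin n) F) *ᵥ ((g : Matrix (Fin n) (Fin n) F) *ᵥ v) =
            Rg *ᵥ (((P⁻¹ : GL (Fin n) F) : Matrix (Fin n) (Fin n) F) *ᵥ v) := by
          rw [hRg, ← Matrix.mulVec_mulVec, inv_mulVec_cancel, Matrix.mulVec_mulVec]
        have e2 : ∀ x : Fin n → F, (fun k => σ ((Rg *ᵥ x) k)) = Rg *ᵥ fun k => σ (x k) := fun x => funext fun k => by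
          simp only [Matrix.mulVec, dotProduct, map_sum, map_mul]
          exact Finset.sum_congr rfl fun l _ => by rw [htriv _ (hP g hg k l)]
        rw [e1, e2, Matrix.mulVec_mulVec, Matrix.mulVec_mulVec, hRg, ← mul_assoc, ← mul_assoc, ← Units.val_mul,
          mul_inv_cancel, Units.val_one, one_mul]
      rcases actsIrreducibly_iff.1 hN.1 W (stable_matrixSet_iff.2 fun g hg v hv => by
          show B _ _ = 0
          rw [hBfix g hg]; exact hv) with hW | hW
      · -- an injective additive map F^n → F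
        have hinj : Function.Injective fun v => B v v := by
          intro a b hab
          have hmem : a - b ∈ W := by
            show B (a - b) (a - b) = 0
            simp only at hab
            rw [sub_eq_add_neg, ← neg_one_smul F b, hBs.add_left, hBs.add_right, hBs.add_right, hBs.smul_left,
              hBs.smul_left, hBs.smul_right, hBs.smul_right, hsymm a b]
            linear_combination hab + (B b b - B a b) * h20
          rw [hW, Submodule.mem_bot, sub_eq_zero] at hmem
          exact hmem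
        have := Fintype.card_le_of_injective _ hinj
        rw [Fintype.card_fun, Fintype.card_fin] at this
        have hq1 := Fintype.one_lt_card (α := F)
        have := lt_of_lt_of_le (Nat.pow_lt_pow_right hq1 (show 1 < n by omega)) this
        simp at this
      · exact not_alternating (by rwa [Fintype.card_fin]) hBs
          (fun v => (hW.symm ▸ Submodule.mem_top : v ∈ W)) hBnd
    have h2 : (2 : F) ≠ 0 := by
      intro h2
      have h3 := FiniteField.cast_card_eq_zero F
      obtain ⟨k, hk⟩ := hodd.pow (n := 2)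
      rw [hF, hk] at h3
      push_cast at h3
      exact one_ne_zero (α := F) (by linear_combination h3 - (k : F) * h2)
    have hzfix : σ z = z := by
      rcases mul_self_eq_one_iff.1 hw2 with h | h
      · rw [hw, div_eq_one_iff_eq hσz] at h
        exact h.symm
      · exfalso
        refine not_alternating (by rwa [Fintype.card_fin]) hBs (fun v => ?_) hBnd
        have h1 := hswap v v
        rw [h, inv_neg, inv_one, neg_one_mul] at h1
        exact (mul_eq_zero.1 (show (2 : F) * B v v = 0 by linear_combination h1)).resolve_left h2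
    obtain ⟨t, ht, hr⟩ := finish z hz0 hzfix hzG
    exact ⟨t, ht, hr, Or.inr ⟨hs2, hodd⟩⟩
  · push Not at htriv
    obtain ⟨a, ha, hane⟩ := htriv
    have hsodd : Odd s := by
      refine hs.odd_of_ne_two fun h2 => hane ?_
      have hc : Nat.card F₁ = q := by
        have h1 := hcard
        rw [hF, h2] at h1
        exact (Nat.pow_left_injective two_ne_zero h1).symm
      haveI : Fintype F₁ := Fintype.ofFinite _
      have := congrArg Subtype.val (FiniteField.pow_card (⟨a, ha⟩ : F₁))
      rw [← Nat.card_eq_fintype_card, hc] at this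
      rw [hq.eq_pow]
      exact this
    obtain ⟨c₀, hc₀, hh⟩ : ∃ c ∈ F₁, c + σ w * σ c ≠ 0 := by
      by_contra! hall
      have h1 := hall 1 (one_mem _)
      have h2 := hall a ha
      rw [map_one, mul_one] at h1
      exact hane (by linear_combination σ a * h1 - h2)
    set η := c₀ + σ w * σ c₀ with hη
    have hηF : η ∈ F₁ := add_mem hc₀ (mul_mem (hσF₁ _ hwF) (hσF₁ _ hc₀))
    have hfix : σ (z * η) = z * η := by
      have e2 : σ η = w * η := by
        simp only [hη, map_add, map_mul, hq.involutive]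
        linear_combination -(σ c₀) * hww
      have e3 : σ z * w = z := by rw [hw, mul_div_cancel₀ z hσz]
      rw [map_mul, e2, ← mul_assoc, e3]
    obtain ⟨t, ht, hr⟩ := finish (z * η) (mul_ne_zero hz0 hh) hfix fun i j => by
      rw [mul_comm z, mul_assoc]
      exact mul_mem hηF (hzG i j)
    exact ⟨t, ht, hr, Or.inl hsodd⟩

end CfsgLib.Geo.Asch
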