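/-
Hermitian forms in adapted coordinates: rational structures, orthonormal tensor coordinates, descent.
-/
import Cfsg.Agent.Lib.Geo.Asch.UnitAdjoint
import Cfsg.Agent.Lib.Geo.Asch.SUSubfield
import Cfsg.Agent.Lib.Geo.Asch.FactorExist
import Cfsg.Agent.Lib.Geo.Asch.TwoFactors
import Cfsg.Agent.Lib.Known.Descent

set_option autoImplicit false

namespace CfsgLib.Geo.Asch

open Matrix Cfsg.Geo
open scoped Kronecker

variable {F : Type*} [Field F] [Fintype F] {σ : F ≃+* F} {q n : ℕ}

theorem odd_iff_two_ne_zero_of_sq (hF : Fintype.card F = q ^ 2) : Odd q ↔ (2 : F) ≠ 0 := by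
  rw [← odd_card_iff_two_ne_zero, hF, Nat.odd_pow_iff two_ne_zero]

/-- The three kinds of rational structure of the hermitian form. -/
def IsHermRational (F : Type*) [Field F] [Fintype F] (n q : ℕ) (F₁ : Subfield F) (s : ℕ) (P : GL (Fin n) F) : Prop :=
  (Odd s ∧ IsFormRationalStructure (Cfsg.hermForm n F q) F₁ 1 P) ∨
  (s = 2 ∧ Odd q ∧ IsFormRationalStructure (Cfsg.hermForm n F q) F₁ 1 P) ∨
  (s = 2 ∧ Even n ∧ ∃ ζ : F, ζ ≠ 0 ∧ ζ + ζ ^ q = 0 ∧ IsFormRationalStructure (Cfsg.hermForm n F q) F₁ ζ P ∧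
    ∀ u : Fin n → F, (∀ i, u i ∈ F₁) → Cfsg.hermForm n F q ((P : Matrix (Fin n) (Fin n) F) *ᵥ u)
      ((P : Matrix (Fin n) (Fin n) F) *ᵥ u) = 0)

/-- The hermitian form is rational in a basis over which an absolutely irreducible group is written. -/
theorem exists_rational_structure' (hq : IsQPow σ q) (hF : Fintype.card F = q ^ 2) [Nonempty (Fin n)]
    (hn2 : 2 ≤ n) {N : Subgroup (GL (Fin n) F)} (hN : ActsAbsolutelyIrreducibly (matrixSet N))
    (hle : N ≤ Cfsg.GU n F q) {F₁ : Subfield F} {s : ℕ} (hs : s.Prime) (hcard : Fintype.card F = Nat.card F₁ ^ s)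
    (P : GL (Fin n) F)
    (hP : ∀ g ∈ N, ∀ i j,
      (((P⁻¹ : GL (Fin n) F) : Matrix (Fin n) (Fin n) F) * (g : Matrix (Fin n) (Fin n) F) * (P : Matrix (Fin n) (Fin n) F)) i j ∈ F₁) :
    ∃ z ∈ scalars (Fin n) F, IsHermRational F n q F₁ s (P * z) := by
  classical
  have hf := isUnitaryForm_hermForm (n := n) hq
  have hsf := isSesqForm_of_unitary hf
  have hσF₁ : ∀ a ∈ F₁, σ a ∈ F₁ := fun a ha => by rw [hq.eq_pow]; exact pow_mem ha q
  obtain ⟨z, hz0, hzG, i₀, j₀, hne⟩ := exists_rational_gram hN hsf hf.nondegenerate (fixesForm_of_le_GU hle) hσF₁ P hP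
  set G := gramIn (Cfsg.hermForm n F q) (P : Matrix (Fin n) (Fin n) F) with hG
  have hherm : ∀ i j, σ (G i j) = G j i := fun i j => (hf.herm _ _).symm
  have hσz : σ z ≠ 0 := fun e => hz0 (by simpa using e)
  set w := z / σ z with hw
  have hwF : w ∈ F₁ := by
    have h1 := hσF₁ _ (hzG i₀ j₀)
    rw [map_mul, hherm] at h1
    have hne' : G j₀ i₀ ≠ 0 := fun e => hne (by rw [← hherm j₀ i₀, e, map_zero])
    rw [show w = z * G j₀ i₀ / (σ z * G j₀ i₀) by rw [hw, mul_div_mul_right _ _ hne']]
    exact div_mem (hzG j₀ i₀) h1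
  have hww : w * σ w = 1 := by
    rw [hw, map_div₀, hq.involutive, div_mul_div_cancel₀ hσz, div_self hz0]
  have finish : ∀ ζ : F, ζ ≠ 0 → σ ζ = ζ → (∀ i j, ζ * G i j ∈ F₁) →
      ∃ z ∈ scalars (Fin n) F, IsFormRationalStructure (Cfsg.hermForm n F q) F₁ 1 (P * z) := by
    intro ζ hζ0 hζ hζG
    obtain ⟨l, hl⟩ := hq.exists_norm hF hζ
    have hl0 : l ≠ 0 := fun e => hζ0 (by rw [← hl, e, zero_mul])
    refine ⟨Units.map (Matrix.scalar (Fin n) : F →+* Matrix (Fin n) (Fin n) F).toMonoidHom (Units.mk0 l hl0),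
      ⟨_, rfl⟩, fun u v hu hv => ?_⟩
    rw [one_mul, Units.val_mul]
    have e : ∀ x : Fin n → F, ((P : Matrix (Fin n) (Fin n) F) * Matrix.scalar (Fin n) l) *ᵥ x =
        l • ((P : Matrix (Fin n) (Fin n) F) *ᵥ x) := fun x => by
      rw [← Matrix.mulVec_mulVec, ← Matrix.mulVec_smul]
      congr 1
      ext i
      simp [Matrix.mulVec_diagonal]
    show Cfsg.hermForm n F q (((P : Matrix (Fin n) (Fin n) F) * Matrix.scalar (Fin n) l) *ᵥ u)
      (((P : Matrix (Fin n) (Fin n) F) * Matrix.scalar (Fin n) l) *ᵥ v) ∈ F₁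
    rw [e, e, hsf.smul_left, hsf.smul_right, ← mul_assoc, hl, form_eq_gram hsf, Finset.mul_sum]
    refine sum_mem fun i _ => ?_
    rw [Finset.mul_sum]
    refine sum_mem fun j _ => ?_
    rw [show ζ * (u i * (gramIn (Cfsg.hermForm n F q) (P : Matrix (Fin n) (Fin n) F) i j * σ (v j))) =
      u i * ((ζ * G i j) * σ (v j)) by rw [hG]; ring]
    exact mul_mem (hu i) (mul_mem (hζG i j) (hσF₁ _ (hv j)))
  by_cases htriv : ∀ a ∈ F₁, σ a = a
  · have hs2 : s = 2 := by
      have hrk : Module.finrank F₁ F = s := by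
        have h1 := Module.natCard_eq_pow_finrank (K := F₁) (V := F)
        rw [Nat.card_eq_fintype_card, hcard] at h1
        exact (Nat.pow_right_injective (Finite.one_lt_card (α := F₁)) h1).symm
      let σ' : F ≃ₐ[F₁] F := AlgEquiv.ofRingEquiv (f := σ) fun a => htriv _ a.2
      have ho : orderOf σ' = 2 := by
        refine orderOf_eq_prime ?_ ?_
        · exact AlgEquiv.ext fun a => hq.involutive a
        · intro e
          obtain ⟨c, hc⟩ := hq.moved
          exact hc (AlgEquiv.congr_fun e c)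
      have h2 : 2 ∣ s := by
        rw [← ho, ← hrk, ← IsGalois.card_aut_eq_finrank F₁ F]
        exact orderOf_dvd_natCard σ'
      exact ((Nat.prime_dvd_prime_iff_eq Nat.prime_two hs).1 h2).symm
    have hw2 : w * w = 1 := by
      have := hww
      rwa [htriv w hwF] at this
    have hzw : σ z * w = z := by rw [hw, mul_div_cancel₀ z hσz]
    by_cases hsym : w = 1 ∧ (2 : F) ≠ 0
    · have hzfix : σ z = z := by rw [hsym.1, mul_one] at hzw; exact hzw
      obtain ⟨t, ht, hr⟩ := finish z hz0 hzfix hzG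
      exact ⟨t, ht, Or.inr (Or.inl ⟨hs2, (odd_iff_two_ne_zero_of_sq hF).2 hsym.2, hr⟩)⟩
    have hwm : w = -1 := by
      rcases mul_self_eq_one_iff.1 hw2 with h | h
      · have h2 : (2 : F) = 0 := by_contra fun h2 => hsym ⟨h, h2⟩
        rw [h]
        linear_combination h2
      · exact h
    have hzanti : σ z = -z := by rw [hwm] at hzw; linear_combination -hzw
    let B : (Fin n → F) → (Fin n → F) → F := formIn (RingEquiv.refl F) (fun i j => z * G i j) P
    have hBs : IsBilinearForm B :=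
      ⟨(isSesqForm_formIn _ _ P).add_left, (isSesqForm_formIn _ _ P).smul_left, (isSesqForm_formIn _ _ P).add_right,
        (isSesqForm_formIn _ _ P).smul_right⟩
    have hBval : ∀ u v : Fin n → F, B u v = z * Cfsg.hermForm n F q u ((P : Matrix (Fin n) (Fin n) F) *ᵥ
        fun k => σ ((((P⁻¹ : GL (Fin n) F) : Matrix (Fin n) (Fin n) F) *ᵥ v) k)) := by
      intro u v
      conv_rhs => rw [← inv_mulVec_cancel P u, form_eq_gram hsf, Finset.mul_sum]
      refine Finset.sum_congr rfl fun i _ => ?_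
      rw [Finset.mul_sum]
      refine Finset.sum_congr rfl fun j _ => ?_
      simp only [RingEquiv.refl_apply, hq.involutive, hG]
      ring
    have hswap : ∀ u v, B v u = - B u v := by
      intro u v
      simp only [B, formIn, RingEquiv.refl_apply, ← Finset.sum_neg_distrib]
      rw [Finset.sum_comm]
      refine Finset.sum_congr rfl fun i _ => Finset.sum_congr rfl fun j _ => ?_
      have h1 : z * G j i = -(z * G i j) := by
        have h2 := htriv _ (hzG i j)
        rw [map_mul, hherm, hzanti] at h2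
        linear_combination -h2
      rw [h1]; ring
    have hBnd : IsNondegenerateForm B := by
      intro v hv
      have hv' : ((P : Matrix (Fin n) (Fin n) F) *ᵥ
          fun k => σ ((((P⁻¹ : GL (Fin n) F) : Matrix (Fin n) (Fin n) F) *ᵥ v) k)) ≠ 0 :=
        mulVec_ne_zero P fun e => mulVec_ne_zero P⁻¹ hv (funext fun k => σ.injective (by simpa using congrFun e k))
      obtain ⟨x, hx⟩ := (hf.nondegenerate _ hv').1
      have hB0 : B x v ≠ 0 := by rw [hBval]; exact mul_ne_zero hz0 hx
      exact ⟨⟨x, hB0⟩, ⟨x, by rw [hswap]; exact neg_ne_zero.2 hB0⟩⟩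
    have hBdiag : ∀ v, B v v = 0 := by
      by_cases h2 : (2 : F) = 0
      swap
      · exact fun v => (mul_eq_zero.1 (show (2 : F) * B v v = 0 by linear_combination hswap v v)).resolve_left h2
      have hsymm : ∀ u v, B v u = B u v := fun u v => by rw [hswap u v]; linear_combination -(B u v) * h2
      let W : Submodule F (Fin n → F) :=
        { carrier := {v | B v v = 0}
          add_mem' := fun {a b} ha hb => by
            show B (a + b) (a + b) = 0
            rw [hBs.add_left, hBs.add_right, hBs.add_right, hsymm a b]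
            rw [show B a a = 0 from ha, show B b b = 0 from hb]
            linear_combination B a b * h2
          zero_mem' := by
            show B 0 0 = 0
            simpa using hBs.smul_left 0 0 0
          smul_mem' := fun c a ha => by
            show B (c • a) (c • a) = 0
            rw [hBs.smul_left, hBs.smul_right, show B a a = 0 from ha, mul_zero, mul_zero] }
      have hBfix : ∀ g ∈ N, ∀ u v, B ((g : Matrix (Fin n) (Fin n) F) *ᵥ u) ((g : Matrix (Fin n) (Fin n) F) *ᵥ v) = B u v := by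
        intro g hg u v
        rw [hBval, hBval]
        congr 1
        rw [← fixesForm_of_le_GU hle _ (mem_matrixSet hg) u]
        congr 1
        set Rg := ((P⁻¹ : GL (Fin n) F) : Matrix (Fin n) (Fin n) F) * (g : Matrix (Fin n) (Fin n) F) *
          (P : Matrix (Fin n) (Fin n) F) with hRg
        have e1 : ((P⁻¹ : GL (Fin n) F) : Matrix (Fin n) (Fin n) F) *ᵥ ((g : Matrix (Fin n) (Fin n) F) *ᵥ v) =
            Rg *ᵥ (((P⁻¹ : GL (Fin n) F) : Matrix (Fin n) (Fin n) F) *ᵥ v) := by
          rw [hRg, ← Matrix.mulVec_mulVec, inv_mulVec_cancel, Matrix.mulVec_mulVec]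
        have e2 : ∀ x : Fin n → F, (fun k => σ ((Rg *ᵥ x) k)) = Rg *ᵥ fun k => σ (x k) := fun x => funext fun k => by
          simp only [Matrix.mulVec, dotProduct, map_sum, map_mul]
          exact Finset.sum_congr rfl fun l _ => by rw [htriv _ (hP g hg k l)]
        rw [e1, e2, Matrix.mulVec_mulVec, Matrix.mulVec_mulVec, hRg, ← mul_assoc, ← mul_assoc, ← Units.val_mul,
          mul_inv_cancel, Units.val_one, one_mul]
      rcases actsIrreducibly_iff.1 hN.1 W (stable_matrixSet_iff.2 fun g hg v hv => by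
          show B _ _ = 0
          rw [hBfix g hg]; exact hv) with hW | hW
      · exfalso
        have hinj : Function.Injective fun v => B v v := by
          intro a b hab
          have hmem : a - b ∈ W := by
            show B (a - b) (a - b) = 0
            simp only at hab
            rw [sub_eq_add_neg, ← neg_one_smul F b, hBs.add_left, hBs.add_right, hBs.add_right, hBs.smul_left,
              hBs.smul_left, hBs.smul_right, hBs.smul_right, hsymm a b]
            linear_combination hab + (B b b - B a b) * h2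
          rw [hW, Submodule.mem_bot, sub_eq_zero] at hmem
          exact hmem
        have := Fintype.card_le_of_injective _ hinj
        rw [Fintype.card_fun, Fintype.card_fin] at this
        have hq1 := Fintype.one_lt_card (α := F)
        have := lt_of_lt_of_le (Nat.pow_lt_pow_right hq1 (show 1 < n by omega)) this
        simp at this
      · exact fun v => (hW.symm ▸ Submodule.mem_top : v ∈ W)
    refine ⟨1, one_mem _, Or.inr (Or.inr ⟨hs2, ?_, z, hz0, by rw [← hq.eq_pow, hzanti, add_neg_cancel], ?_, ?_⟩)⟩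
    · by_contra hev
      exact not_alternating (by rw [Fintype.card_fin]; exact Nat.not_even_iff_odd.1 hev) hBs hBdiag hBnd
    · intro u v hu hv
      rw [mul_one, form_eq_gram hsf, Finset.mul_sum]
      refine sum_mem fun i _ => ?_
      rw [Finset.mul_sum]
      refine sum_mem fun j _ => ?_
      rw [show z * (u i * (gramIn (Cfsg.hermForm n F q) (P : Matrix (Fin n) (Fin n) F) i j * σ (v j))) =
        u i * ((z * G i j) * σ (v j)) by rw [hG]; ring]
      exact mul_mem (hu i) (mul_mem (hzG i j) (hσF₁ _ (hv j)))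
    · intro u hu
      rw [mul_one]
      have h := hBdiag ((P : Matrix (Fin n) (Fin n) F) *ᵥ u)
      rw [hBval, mulVec_inv_cancel, show (fun k => σ (u k)) = u from funext fun k => htriv _ (hu k), mul_eq_zero] at h
      exact h.resolve_left hz0
  · push Not at htriv
    obtain ⟨a, ha, hane⟩ := htriv
    have hsodd : Odd s := by
      refine hs.odd_of_ne_two fun h2 => hane ?_
      have hc : Nat.card F₁ = q := by
        have h1 := hcard
        rw [hF, h2] at h1
        exact (Nat.pow_left_injective two_ne_zero h1).symm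
      haveI : Fintype F₁ := Fintype.ofFinite _
      have := congrArg Subtype.val (FiniteField.pow_card (⟨a, ha⟩ : F₁))
      rw [← Nat.card_eq_fintype_card, hc] at this
      rw [hq.eq_pow]
      exact this
    obtain ⟨c₀, hc₀, hh⟩ : ∃ c ∈ F₁, c + σ w * σ c ≠ 0 := by
      by_contra! hall
      have h1 := hall 1 (one_mem _)
      have h2 := hall a ha
      rw [map_one, mul_one] at h1
      exact hane (by linear_combination σ a * h1 - h2)
    set η := c₀ + σ w * σ c₀ with hη
    have hηF : η ∈ F₁ := add_mem hc₀ (mul_mem (hσF₁ _ hwF) (hσF₁ _ hc₀))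
    have hfix : σ (z * η) = z * η := by
      have e2 : σ η = w * η := by
        simp only [hη, map_add, map_mul, hq.involutive]
        linear_combination -(σ c₀) * hww
      have e3 : σ z * w = z := by rw [hw, mul_div_cancel₀ z hσz]
      rw [map_mul, e2, ← mul_assoc, e3]
    obtain ⟨t, ht, hr⟩ := finish (z * η) (mul_ne_zero hz0 hh) hfix fun i j => by
      rw [mul_comm z, mul_assoc]
      exact mul_mem hηF (hzG i j)
    exact ⟨t, ht, Or.inl ⟨hsodd, hr⟩⟩

/-- A unitary group fixing a bilinear form is written over the fixed field. -/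
theorem realisable_of_bilinear (hq : IsQPow σ q) (hF : Fintype.card F = q ^ 2) [Nonempty (Fin n)]
    {N : Subgroup (GL (Fin n) F)} (hN : ActsAbsolutelyIrreducibly (matrixSet N)) (hle : N ≤ Cfsg.GU n F q)
    {B : (Fin n → F) → (Fin n → F) → F} (hB : IsBilinearForm B) (hBnd : IsNondegenerateForm B)
    (hBfix : FixesForm (matrixSet N) B) : RealisableOver (fixedSubfield σ) (matrixSet N) :=
  realisable_fixed_of_forms' (Or.inr fun _ hc => hq.exists_norm hF hc) hN (isUnitaryForm_hermForm hq)
    (fixesForm_of_le_GU hle) hB hBnd hBfix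

theorem fixedSubfield_ne_top (hq : IsQPow σ q) : fixedSubfield σ ≠ ⊤ := fun h => by
  obtain ⟨c, hc⟩ := hq.moved
  exact hc (mem_fixedSubfield.1 (h ▸ Subfield.mem_top c))

/-- A conjugate-symmetric invertible matrix is a multiple of a norm. -/
theorem exists_factor_of_conjSymm (hq : IsQPow σ q) {d : ℕ} {X : Matrix (Fin d) (Fin d) F} (hXu : IsUnit X)
    {l : F} (hX : adj σ X = l • X) : ∃ (k : GL (Fin d) F) (c : F), c ≠ 0 ∧
      X = c • ((k : Matrix (Fin d) (Fin d) F)ᵀ * (k : Matrix (Fin d) (Fin d) F).map σ) := by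
  rcases Nat.eq_zero_or_pos d with rfl | hd
  · exact ⟨1, 1, one_ne_zero, Subsingleton.elim _ _⟩
  haveI : Nonempty (Fin d) := ⟨⟨0, hd⟩⟩
  have hX0 : X ≠ 0 := hXu.ne_zero
  have hl : l * σ l = 1 := by
    have h1 := congrArg (adj σ) hX
    rw [adj_adj hq, adj_smul, hX, smul_smul] at h1
    refine (smul_left_injective F hX0 (show (1 : F) • X = (l * σ l) • X from ?_)).symm
    rw [one_smul, mul_comm]
    exact h1
  obtain ⟨a, ha⟩ : ∃ a, a + l * σ a ≠ 0 := by
    by_contra! hall
    obtain ⟨c, hc⟩ := hq.moved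
    have h1 := hall 1
    have h2 := hall c
    rw [map_one, mul_one] at h1
    exact hc (by linear_combination (σ c) * h1 - h2)
  set b := a + l * σ a with hb
  have hsymm : adj σ (b • X) = b • X := by
    rw [adj_smul, hX, smul_smul]
    congr 1
    rw [hb, map_add, map_mul, hq.involutive]
    linear_combination a * hl
  have hu : IsUnit (b • X) := by
    rw [Matrix.isUnit_iff_isUnit_det, Matrix.det_smul]
    exact (isUnit_iff_ne_zero.2 (pow_ne_zero _ ha)).mul ((Matrix.isUnit_iff_isUnit_det X).1 hXu)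
  have hσne : σ ≠ RingEquiv.refl F := fun h => by
    obtain ⟨c, hc⟩ := hq.moved
    exact hc (by rw [h]; rfl)
  obtain ⟨h, hh⟩ := CfsgLib.Known.Descent.exists_hermitian_factor σ hσne hq.involutive hu.unit hsymm
  rw [IsUnit.unit_spec] at hh
  refine ⟨Matrix.GeneralLinearGroup.mkOfDetNeZero (h : Matrix (Fin d) (Fin d) F)ᵀ (by
    rw [Matrix.det_transpose]; exact (h.isUnit.map Matrix.detMonoidHom).ne_zero), b⁻¹, inv_ne_zero ha, ?_⟩
  show X = b⁻¹ • ((h : Matrix (Fin d) (Fin d) F)ᵀᵀ * (h : Matrix (Fin d) (Fin d) F)ᵀ.map σ)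
  rw [Matrix.transpose_transpose, Matrix.transpose_map, ← hh, inv_smul_smul₀ ha]

/-- A form fixed by an absolutely irreducible set is invertible and unique up to scalars. -/
theorem gram_unique (hq : IsQPow σ q) {d : ℕ} {s : Set (Matrix (Fin d) (Fin d) F)} (hs : ActsAbsolutelyIrreducibly s)
    (hdet : ∀ A ∈ s, A.det ≠ 0) {X : Matrix (Fin d) (Fin d) F} (hX : X ≠ 0)
    (hfix : ∀ A ∈ s, Aᵀ * X * A.map σ = X) :
    IsUnit X ∧ ∀ Y : Matrix (Fin d) (Fin d) F, (∀ A ∈ s, Aᵀ * Y * A.map σ = Y) → ∃ c : F, Y = c • X := by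
  have hunit : IsUnit X := by
    rw [Matrix.isUnit_iff_isUnit_det, isUnit_iff_ne_zero]
    intro h0
    obtain ⟨x, hx0, hx⟩ := Matrix.exists_mulVec_eq_zero_iff.2 h0
    let W : Submodule F (Fin d → F) :=
      { carrier := {v | X *ᵥ (fun i => σ (v i)) = 0}
        add_mem' := fun {a b} ha hb => by
          show X *ᵥ (fun i => σ (a i + b i)) = 0
          rw [show (fun i => σ (a i + b i)) = (fun i => σ (a i)) + fun i => σ (b i) from funext fun i => map_add σ _ _,
            Matrix.mulVec_add, show X *ᵥ (fun i => σ (a i)) = 0 from ha, show X *ᵥ (fun i => σ (b i)) = 0 from hb,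
            add_zero]
        zero_mem' := by
          show X *ᵥ (fun i => σ 0) = 0
          simp [show (fun _ : Fin d => (0 : F)) = 0 from rfl]
        smul_mem' := fun c a ha => by
          show X *ᵥ (fun i => σ (c * a i)) = 0
          rw [show (fun i => σ (c * a i)) = σ c • fun i => σ (a i) from funext fun i => map_mul σ _ _,
            Matrix.mulVec_smul, show X *ᵥ (fun i => σ (a i)) = 0 from ha, smul_zero] }
    rcases actsIrreducibly_iff.1 hs.1 W (fun A hA v hv => by
        show X *ᵥ (fun i => σ ((A *ᵥ v) i)) = 0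
        have e : (fun i => σ ((A *ᵥ v) i)) = A.map σ *ᵥ fun i => σ (v i) := funext fun i => by
          simp [Matrix.mulVec, dotProduct]
        have hAu : IsUnit Aᵀ := by
          rw [Matrix.isUnit_iff_isUnit_det, Matrix.det_transpose]; exact isUnit_iff_ne_zero.2 (hdet A hA)
        refine (Matrix.mulVec_injective_iff_isUnit.2 hAu) ?_
        rw [e, Matrix.mulVec_mulVec, Matrix.mulVec_mulVec, hfix A hA, Matrix.mulVec_zero]
        exact hv) with h | h
    · have hmem : (fun i => σ.symm (x i)) ∈ W := by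
        show X *ᵥ (fun i => σ (σ.symm (x i))) = 0
        simpa using hx
      rw [h, Submodule.mem_bot] at hmem
      exact hx0 (funext fun i => by simpa using congrFun hmem i)
    · refine hX (Matrix.toLin'.injective ((Pi.basisFun F (Fin d)).ext fun i => ?_))
      have := (h.symm ▸ Submodule.mem_top : (Pi.single i 1 : Fin d → F) ∈ W)
      rw [Pi.basisFun_apply, Matrix.toLin'_apply, map_zero, LinearMap.zero_apply]
      have e : (fun j => σ ((Pi.single i 1 : Fin d → F) j)) = Pi.single i 1 := funext fun j => by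
        by_cases hji : j = i <;> simp [hji]
      have hW' : X *ᵥ (fun j => σ ((Pi.single i 1 : Fin d → F) j)) = 0 := this
      rwa [e] at hW'
  refine ⟨hunit, fun Y hY => ?_⟩
  set Z := ((hunit.unit⁻¹ : GL (Fin d) F) : Matrix (Fin d) (Fin d) F) * Y with hZ
  have hcomm : ∀ A ∈ s, (Z.map σ) * A = A * (Z.map σ) := by
    intro A hA
    have hAu : IsUnit Aᵀ := by
      rw [Matrix.isUnit_iff_isUnit_det, Matrix.det_transpose]; exact isUnit_iff_ne_zero.2 (hdet A hA)
    have h1 : Z * A.map σ = A.map σ * Z := by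
      refine (IsUnit.mul_right_inj (hAu.mul hunit)).1 ?_
      have hXZ : X * Z = Y := by rw [hZ, ← mul_assoc, hunit.mul_val_inv, one_mul]
      rw [← mul_assoc, mul_assoc Aᵀ X Z, hXZ, hY A hA, ← mul_assoc, hfix A hA, hXZ]
    have h2 := congrArg (fun M : Matrix (Fin d) (Fin d) F => M.map σ) h1
    have hAA : (A.map σ).map σ = A := by ext i j; exact hq.involutive _
    simp only [Matrix.map_mul, hAA] at h2
    exact h2
  obtain ⟨c, hc⟩ := hs.2 _ hcomm
  refine ⟨σ c, ?_⟩
  have : Z = σ c • (1 : Matrix (Fin d) (Fin d) F) := by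
    have h2 := congrArg (fun M : Matrix (Fin d) (Fin d) F => M.map σ) hc
    ext i j
    have h3 := congrFun (congrFun h2 i) j
    simp only [Matrix.map_apply, hq.involutive] at h3
    rw [h3]
    by_cases hij : i = j <;> simp [hij]
  rw [← one_mul Y, ← hunit.mul_val_inv, mul_assoc, ← hZ, this, Matrix.mul_smul, mul_one]

variable {κ : Type} [Fintype κ] [DecidableEq κ]

/-- The Gram matrix of the standard form in coordinates. -/
def hermGram (σ : F ≃+* F) (e : Fin n ≃ κ) (P : GL (Fin n) F) : Matrix κ κ F :=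
  ((P : Matrix (Fin n) (Fin n) F)ᵀ * (P : Matrix (Fin n) (Fin n) F).map σ).submatrix e.symm e.symm

theorem hermGram_fix (hq : IsQPow σ q) (e : Fin n ≃ κ) (P : GL (Fin n) F) {g : GL (Fin n) F}
    (hg : g ∈ Cfsg.GU n F q) :
    (coord e P (g : Matrix (Fin n) (Fin n) F))ᵀ * hermGram σ e P * (coord e P (g : Matrix (Fin n) (Fin n) F)).map σ =
      hermGram σ e P := by
  have h1 : (g : Matrix (Fin n) (Fin n) F)ᵀ * (g : Matrix (Fin n) (Fin n) F).map σ = 1 := by
    have h := congrArg (fun M : Matrix (Fin n) (Fin n) F => Mᵀ) (show adj σ (g : Matrix (Fin n) (Fin n) F) * g = 1 by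
      rw [adj_gu hq hg, Units.inv_mul])
    simpa [adj] using h
  set p := (P : Matrix (Fin n) (Fin n) F)
  set p' := ((P⁻¹ : GL (Fin n) F) : Matrix (Fin n) (Fin n) F)
  set G := (g : Matrix (Fin n) (Fin n) F)
  have hpp : p * p' = 1 := P.mul_inv
  rw [coord, hermGram]
  simp only [Matrix.transpose_submatrix, ← Matrix.submatrix_map, Matrix.submatrix_mul_equiv]
  congr 1
  simp only [Matrix.map_mul, Matrix.transpose_mul, mul_assoc]
  have hppσ : ∀ M, p.map σ * (p'.map σ * M) = M := fun M => by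
    rw [← mul_assoc, ← Matrix.map_mul, hpp, Matrix.map_one _ (map_zero σ) (map_one σ), one_mul]
  have hppt : ∀ M, p'ᵀ * (pᵀ * M) = M := fun M => by
    rw [← mul_assoc, ← Matrix.transpose_mul, hpp, Matrix.transpose_one, one_mul]
  rw [hppt, hppσ, ← mul_assoc Gᵀ, h1, one_mul]

theorem hermGram_isUnit (e : Fin n ≃ κ) (P : GL (Fin n) F) : IsUnit (hermGram σ e P) := by
  rw [hermGram, Matrix.isUnit_iff_isUnit_det, Matrix.det_submatrix_equiv_self, Matrix.det_mul, Matrix.det_transpose]
  exact (P.isUnit.map Matrix.detMonoidHom).mul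
    ((P.isUnit.map (σ.toRingHom.mapMatrix)).map Matrix.detMonoidHom)

theorem hermGram_conj (hq : IsQPow σ q) (e : Fin n ≃ κ) (P : GL (Fin n) F) :
    ((hermGram σ e P).map σ)ᵀ = hermGram σ e P := by
  ext a b
  simp [hermGram, Matrix.mul_apply, map_sum, hq.involutive, mul_comm]

theorem hermGram_mul_reindex (e : Fin n ≃ κ) (P : GL (Fin n) F) (K : GL κ F) :
    hermGram σ e (P * glReindex (F := F) e.symm K) =
      (K : Matrix κ κ F)ᵀ * hermGram σ e P * (K : Matrix κ κ F).map σ := by
  have hK : ((glReindex (F := F) e.symm K : GL (Fin n) F) : Matrix (Fin n) (Fin n) F) =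
      (K : Matrix κ κ F).submatrix e e := by
    ext i j
    simp [glReindex]
  rw [hermGram, hermGram, Units.val_mul, hK, Matrix.map_mul, Matrix.transpose_mul]
  have hKL : (K : Matrix κ κ F) = ((K : Matrix κ κ F).submatrix e e).submatrix e.symm e.symm := by simp
  generalize (K : Matrix κ κ F).submatrix e e = L at hKL ⊢
  rw [hKL]
  simp only [Matrix.transpose_submatrix, ← Matrix.submatrix_map, Matrix.submatrix_mul_equiv, mul_assoc]

/-- Orthonormal coordinates after absorbing a factor `K`. -/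
theorem hermGram_normalise (e : Fin n ≃ κ) (P : GL (Fin n) F) (K : GL κ F) {c : F}
    (h : hermGram σ e P = c • ((K : Matrix κ κ F)ᵀ * (K : Matrix κ κ F).map σ)) :
    hermGram σ e (P * glReindex (F := F) e.symm K⁻¹) = c • 1 := by
  rw [hermGram_mul_reindex, h, Matrix.mul_smul, Matrix.smul_mul]
  congr 1
  have hK : (K : Matrix κ κ F) * ((K⁻¹ : GL κ F) : Matrix κ κ F) = 1 := K.mul_inv
  rw [← mul_assoc, ← Matrix.transpose_mul, hK, Matrix.transpose_one, one_mul, ← Matrix.map_mul, hK,
    Matrix.map_one _ (map_zero σ) (map_one σ)]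

theorem map_conj_eq_of_mem {G : Type*} [Group G] {S : Subgroup G} {P R : G} (hR : R ∈ S) :
    S.map (MulAut.conj (P * R)).toMonoidHom = S.map (MulAut.conj P).toMonoidHom := by
  apply le_antisymm
  · rintro _ ⟨x, hx, rfl⟩
    exact ⟨R * x * R⁻¹, S.mul_mem (S.mul_mem hR hx) (S.inv_mem hR), by simp [mul_assoc]⟩
  · rintro _ ⟨x, hx, rfl⟩
    exact ⟨R⁻¹ * x * R, S.mul_mem (S.mul_mem (S.inv_mem hR) hx) hR, by simp [mul_assoc]⟩

/-- Orthonormal coordinates are tensor structures for standard factors. -/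
theorem isTensorFormStructure_of_gram (hq : IsQPow σ q) {d k : ℕ} (e : Fin n ≃ Fin d × Fin k) (P : GL (Fin n) F)
    {c : F} (hc : c ≠ 0) (h : hermGram σ e P = c • 1) :
    IsTensorFormStructure (fun x : F => x ^ q) (Cfsg.hermForm n F q) (Cfsg.hermForm d F q) (Cfsg.hermForm k F q) e P := by
  refine ⟨c, hc, fun x y => ?_⟩
  have hg : ∀ m : ℕ, gramMatrix (Cfsg.hermForm m F q) = 1 := fun m => by
    ext a b
    rw [gramMatrix, hermForm_eq hq, Finset.sum_eq_single a]
    · by_cases hab : a = b <;> simp [Pi.single_apply, hab, Matrix.one_apply]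
    · intro i _ hi; simp [Pi.single_eq_of_ne hi]
    · simp
  have h2 : gramIn (Cfsg.hermForm n F q) (P : Matrix (Fin n) (Fin n) F) = c • 1 := by
    ext i j
    have h3 := congrFun (congrFun h (e i)) (e j)
    simp only [hermGram, Matrix.submatrix_apply, Equiv.symm_apply_apply] at h3
    rw [gramIn, hermForm_eq hq]
    simp only [Matrix.mulVec_single_one, Matrix.col_apply]
    rw [Matrix.mul_apply] at h3
    simp only [Matrix.transpose_apply, Matrix.map_apply] at h3
    rw [h3]
    simp [Matrix.one_apply]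
  rw [form_eq_gram (isSesqForm_of_unitary (isUnitaryForm_hermForm hq)), h2, formOfGram, hg, hg, Matrix.one_kronecker_one]
  rw [← Equiv.sum_comp e, Finset.mul_sum]
  refine Finset.sum_congr rfl fun i _ => ?_
  rw [← Equiv.sum_comp e, Finset.mul_sum]
  refine Finset.sum_congr rfl fun j _ => ?_
  simp only [Function.comp_apply, hq.eq_pow, Matrix.smul_apply, smul_eq_mul, Matrix.one_apply, e.injective.eq_iff]
  ring

theorem isTensorPowerFormStructure_of_gram (hq : IsQPow σ q) {d t : ℕ} (e : Fin n ≃ (Fin t → Fin d)) (P : GL (Fin n) F)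
    {c : F} (hc : c ≠ 0) (h : hermGram σ e P = c • 1) :
    IsTensorPowerFormStructure (fun x : F => x ^ q) (Cfsg.hermForm n F q) (Cfsg.hermForm d F q) e P := by
  refine ⟨c, hc, fun x y => ?_⟩
  have hg : ∀ a b : Fin t → Fin d, ∏ i, gramMatrix (Cfsg.hermForm d F q) (a i) (b i) =
      (1 : Matrix (Fin t → Fin d) (Fin t → Fin d) F) a b := fun a b => by
    have h1 : gramMatrix (Cfsg.hermForm d F q) = 1 := by
      ext a b
      rw [gramMatrix, hermForm_eq hq, Finset.sum_eq_single a]
      · by_cases hab : a = b <;> simp [Pi.single_apply, hab, Matrix.one_apply]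
      · intro i _ hi; simp [Pi.single_eq_of_ne hi]
      · simp
    rw [h1]
    exact congrFun (congrFun (map_one (pureT d t F)) a) b
  have h2 : gramIn (Cfsg.hermForm n F q) (P : Matrix (Fin n) (Fin n) F) = c • 1 := by
    ext i j
    have h3 := congrFun (congrFun h (e i)) (e j)
    simp only [hermGram, Matrix.submatrix_apply, Equiv.symm_apply_apply] at h3
    rw [gramIn, hermForm_eq hq]
    simp only [Matrix.mulVec_single_one, Matrix.col_apply]
    rw [Matrix.mul_apply] at h3
    simp only [Matrix.transpose_apply, Matrix.map_apply] at h3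
    rw [h3]
    simp [Matrix.one_apply]
  rw [form_eq_gram (isSesqForm_of_unitary (isUnitaryForm_hermForm hq)), h2]
  rw [← Equiv.sum_comp e, Finset.mul_sum]
  refine Finset.sum_congr rfl fun i _ => ?_
  rw [← Equiv.sum_comp e, Finset.mul_sum]
  refine Finset.sum_congr rfl fun j _ => ?_
  simp only [Function.comp_apply, hg, hq.eq_pow, Matrix.smul_apply, smul_eq_mul, Matrix.one_apply, e.injective.eq_iff]
  ring

/-- A homogeneous tensor splitting of a unitary group is orthonormal in suitable coordinates. -/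
theorem exists_orth_tensor (hq : IsQPow σ q) {d k : ℕ} {H N : Subgroup (GL (Fin n) F)} (hHU : H ≤ Cfsg.GU n F q)
    (hNH : N ≤ H) {e : Fin n ≃ Fin d × Fin k} {P : GL (Fin n) F} {A : GL (Fin n) F → Matrix (Fin d) (Fin d) F}
    (hc : TensorCoords N d k e P A) (hle : H ≤ tensorProductSubgroup d k e P) :
    ∃ (P' : GL (Fin n) F) (c : F), c ≠ 0 ∧ hermGram σ e P' = c • 1 ∧ H ≤ tensorProductSubgroup d k e P' := by
  classical
  set G := hermGram σ e P with hG
  have hdet : ∀ X ∈ A '' (N : Set (GL (Fin n) F)), X.det ≠ 0 := by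
    rintro _ ⟨g, hg, rfl⟩ h0
    have := det_coord_ne_zero e P g
    rw [hc.coord_eq g hg, Matrix.det_kronecker, h0, zero_pow (by rw [Fintype.card_fin]; exact hc.pos_right.ne'),
      zero_mul] at this
    exact this rfl
  have hblk : ∀ a b, ∀ X ∈ A '' (N : Set (GL (Fin n) F)), Xᵀ * blk G a b * X.map σ = blk G a b := by
    rintro a b _ ⟨g, hg, rfl⟩
    have h := hermGram_fix hq e P (hHU (hNH hg))
    have e1 : (A g ⊗ₖ (1 : Matrix (Fin k) (Fin k) F))ᵀ = (A g)ᵀ ⊗ₖ (1 : Matrix (Fin k) (Fin k) F) := by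
      rw [← Matrix.kroneckerMap_transpose, Matrix.transpose_one]
    have e2 : (A g ⊗ₖ (1 : Matrix (Fin k) (Fin k) F)).map σ = (A g).map σ ⊗ₖ (1 : Matrix (Fin k) (Fin k) F) := by
      ext ⟨i, u⟩ ⟨j, v⟩
      simp [Matrix.one_apply, apply_ite σ]
    rw [hc.coord_eq g hg, e1, e2] at h
    have := congrArg (fun M => blk M a b) h
    simpa [blk_mul_kron, blk_kron_mul] using this
  obtain ⟨a₀, b₀, hne⟩ : ∃ a b, blk G a b ≠ 0 := by
    by_contra! hall
    have hz : G = 0 := by
      ext ⟨i, a⟩ ⟨j, b⟩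
      exact congrFun (congrFun (hall a b) i) j
    haveI : Nonempty (Fin d × Fin k) := ⟨(⟨0, hc.pos_left⟩, ⟨0, hc.pos_right⟩)⟩
    exact (hermGram_isUnit (σ := σ) e P).ne_zero hz
  obtain ⟨hXu, hXuniq⟩ := gram_unique hq hc.absIrred hdet hne (hblk a₀ b₀)
  set X := blk G a₀ b₀ with hX
  choose B hB using fun a b => hXuniq _ (hblk a b)
  have hadjblk : adj σ X = blk G b₀ a₀ := by
    ext i j
    exact congrFun (congrFun (hermGram_conj hq e P) (i, b₀)) (j, a₀)
  obtain ⟨k₁, c₁, hc₁, hX₁⟩ := exists_factor_of_conjSymm hq hXu (hadjblk.trans (hB b₀ a₀))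
  set Bm : Matrix (Fin k) (Fin k) F := Matrix.of B with hBm
  have hGB : G = X ⊗ₖ Bm := by
    ext ⟨i, a⟩ ⟨j, b⟩
    rw [Matrix.kronecker_apply, hBm, Matrix.of_apply]
    exact (congrFun (congrFun (hB a b) i) j).trans (mul_comm _ _)
  haveI : Nonempty (Fin k) := ⟨⟨0, hc.pos_right⟩⟩
  have hBu : IsUnit Bm := by
    have h := (Matrix.isUnit_iff_isUnit_det _).1 (hermGram_isUnit (σ := σ) e P)
    rw [← hG, hGB, Matrix.det_kronecker] at h
    rw [Matrix.isUnit_iff_isUnit_det]
    exact (isUnit_pow_iff (by rw [Fintype.card_fin]; exact hc.pos_left.ne')).1 (isUnit_of_mul_isUnit_right h)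
  obtain ⟨l, hl⟩ : ∃ l, adj σ Bm = l • Bm := by
    obtain ⟨i₁, j₁, hne1⟩ : ∃ i j, X i j ≠ 0 := by
      by_contra! h0; exact hne (Matrix.ext h0)
    have hne1' : σ (X i₁ j₁) ≠ 0 := fun e => hne1 (by simpa using e)
    refine ⟨X j₁ i₁ / σ (X i₁ j₁), ?_⟩
    ext a b
    have h : σ (G (i₁, b) (j₁, a)) = G (j₁, a) (i₁, b) := congrFun (congrFun (hermGram_conj hq e P) (j₁, a)) (i₁, b)
    rw [hGB, Matrix.kronecker_apply, Matrix.kronecker_apply, map_mul] at h
    show σ (Bm b a) = X j₁ i₁ / σ (X i₁ j₁) * Bm a b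
    rw [div_mul_eq_mul_div, ← h, mul_div_cancel_left₀ _ hne1']
  obtain ⟨k₂, c₂, hc₂, hX₂⟩ := exists_factor_of_conjSymm hq hBu hl
  have hKdet : ((k₁ : Matrix (Fin d) (Fin d) F) ⊗ₖ (k₂ : Matrix (Fin k) (Fin k) F)).det ≠ 0 := by
    rw [Matrix.det_kronecker]
    exact mul_ne_zero (pow_ne_zero _ (k₁.isUnit.map Matrix.detMonoidHom).ne_zero)
      (pow_ne_zero _ (k₂.isUnit.map Matrix.detMonoidHom).ne_zero)
  set K := Matrix.GeneralLinearGroup.mkOfDetNeZero _ hKdet with hK
  have hGK : G = (c₁ * c₂) • ((K : Matrix (Fin d × Fin k) (Fin d × Fin k) F)ᵀ *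
      (K : Matrix (Fin d × Fin k) (Fin d × Fin k) F).map σ) := by
    show G = (c₁ * c₂) • (((k₁ : Matrix (Fin d) (Fin d) F) ⊗ₖ (k₂ : Matrix (Fin k) (Fin k) F))ᵀ *
      ((k₁ : Matrix (Fin d) (Fin d) F) ⊗ₖ (k₂ : Matrix (Fin k) (Fin k) F)).map σ)
    rw [hGB, hX₁, hX₂, Matrix.smul_kronecker, Matrix.kronecker_smul, smul_smul, ← Matrix.kroneckerMap_transpose]
    congr 1
    rw [show ((k₁ : Matrix (Fin d) (Fin d) F) ⊗ₖ (k₂ : Matrix (Fin k) (Fin k) F)).map σ =
      (k₁ : Matrix (Fin d) (Fin d) F).map σ ⊗ₖ (k₂ : Matrix (Fin k) (Fin k) F).map σ by ext ⟨i, u⟩ ⟨j, v⟩; simp,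
      ← Matrix.mul_kronecker_mul]
  refine ⟨_, c₁ * c₂, mul_ne_zero hc₁ hc₂, hermGram_normalise e P K hGK, hle.trans (le_of_eq ?_)⟩
  exact (map_conj_eq_of_mem (Subgroup.mem_map_of_mem (glReindex (F := F) e.symm).toMonoidHom
    ((kroneckerSubgroup d k F).inv_mem (show K ∈ kroneckerSubgroup d k F from ⟨k₁, k₂, rfl⟩)))).symm

/-- A tensor power structure of a unitary group is orthonormal in suitable coordinates. -/
theorem exists_orth_power (hq : IsQPow σ q) {d t : ℕ} (hd : 0 < d) {H : Subgroup (GL (Fin n) F)} {M : Fin t → Subgroup (GL (Fin n) F)}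
    (hMU : ∀ i, M i ≤ Cfsg.GU n F q) {e : Fin n ≃ (Fin t → Fin d)} {P : GL (Fin n) F}
    {A : Fin t → GL (Fin n) F → Matrix (Fin d) (Fin d) F} (hc : FactorCoords d M e P A)
    (habs : ∀ i, ActsAbsolutelyIrreducibly (A i '' (M i : Set (GL (Fin n) F))))
    (hle : H ≤ tensorWreathSubgroup d t e P) :
    ∃ (P' : GL (Fin n) F) (c : F), c ≠ 0 ∧ hermGram σ e P' = c • 1 ∧ H ≤ tensorWreathSubgroup d t e P' := by
  classical
  haveI : Nonempty (Fin t → Fin d) := ⟨fun _ => ⟨0, hd⟩⟩
  set G := hermGram σ e P with hG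
  have hfac : ∀ i, ∀ g ∈ M i, (factor i (A i g))ᵀ * G * (factor i (A i g)).map σ = G := by
    intro i g hg
    rw [← hc.coord_eq i g hg]
    exact hermGram_fix hq e P (hMU i hg)
  have hmapσ : ∀ i (X : Matrix (Fin d) (Fin d) F), (factor i X : Matrix (Fin t → Fin d) (Fin t → Fin d) F).map σ =
      factor i (X.map σ) := by
    intro i X
    ext x y
    rw [Matrix.map_apply, factor_apply, factor_apply, apply_ite σ, map_zero]
    rfl
  have htr : ∀ i (X : Matrix (Fin d) (Fin d) F), (factor i X : Matrix (Fin t → Fin d) (Fin t → Fin d) F)ᵀ =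
      factor i Xᵀ := by
    intro i X
    ext a b
    rw [Matrix.transpose_apply, factor_apply, factor_apply]
    simp [eq_comm]
  obtain ⟨x₀, y₀, hne⟩ : ∃ x y, G x y ≠ 0 := by
    by_contra! h0
    exact (hermGram_isUnit (σ := σ) e P).ne_zero (Matrix.ext h0)
  let S : Fin t → Matrix (Fin d) (Fin d) F := fun i =>
    Matrix.of fun p q => G (Function.update x₀ i p) (Function.update y₀ i q)
  have hdet : ∀ i, ∀ X ∈ A i '' (M i : Set (GL (Fin n) F)), X.det ≠ 0 := by
    rintro i _ ⟨g, hg, rfl⟩ h0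
    obtain ⟨v, hv0, hv⟩ := Matrix.exists_mulVec_eq_zero_iff.2 h0
    have := det_coord_ne_zero e P g
    rw [hc.coord_eq i g hg] at this
    have hz : factor i (A i g) * factor i (Matrix.of fun a _ => v a) = (0 : Matrix (Fin t → Fin d) (Fin t → Fin d) F) := by
      rw [factor, factor, ← map_mul, ← Pi.mulSingle_mul]
      ext x y
      rw [pureT_apply, Matrix.zero_apply]
      refine Finset.prod_eq_zero (Finset.mem_univ i) ?_
      rw [Pi.mulSingle_eq_same]
      exact congrFun hv (x i)
    have hz2 : factor i (Matrix.of fun a (_ : Fin d) => v a) = (0 : Matrix (Fin t → Fin d) (Fin t → Fin d) F) :=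
      (IsUnit.mul_right_eq_zero ((Matrix.isUnit_iff_isUnit_det _).2 (isUnit_iff_ne_zero.2 this))).1 hz
    obtain ⟨a, ha⟩ := Function.ne_iff.1 hv0
    have := congrFun (congrFun hz2 (Function.update x₀ i a)) (Function.update x₀ i a)
    rw [factor_apply, if_pos fun j _ => rfl] at this
    simp at this
    exact ha this
  have hSfix : ∀ i, ∀ X ∈ A i '' (M i : Set (GL (Fin n) F)), Xᵀ * S i * X.map σ = S i := by
    rintro i _ ⟨g, hg, rfl⟩
    have h := hfac i g hg
    rw [htr, hmapσ] at h
    ext p r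
    have h1 := congrFun (congrFun h (Function.update x₀ i p)) (Function.update y₀ i r)
    rw [mul_factor_apply] at h1
    simp only [factor_mul_apply, Function.update_self, Function.update_idem] at h1
    rw [Matrix.mul_apply]
    simp only [Matrix.mul_apply, S, Matrix.of_apply]
    rw [← h1]
  have hS0 : ∀ i, S i ≠ 0 := fun i h0 => hne (by
    simpa [S] using congrFun (congrFun h0 (x₀ i)) (y₀ i))
  have hSu : ∀ i, IsUnit (S i) := fun i => (gram_unique hq (habs i) (hdet i) (hS0 i) (hSfix i)).1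
  have hSl : ∀ i, ∃ l, adj σ (S i) = l • S i := fun i =>
    (gram_unique hq (habs i) (hdet i) (hS0 i) (hSfix i)).2 _ fun X hX => by
      have h := congrArg (adj σ) (hSfix i X hX)
      rw [adj_mul, adj_mul, ← mul_assoc] at h
      have e1 : adj σ (X.map σ) = Xᵀ := by
        ext a b
        simp [adj, hq.involutive]
      have e2 : adj σ Xᵀ = X.map σ := by
        ext a b
        simp [adj]
      rwa [e1, e2] at h
  choose l hl using hSl
  choose k c hc0 hk using fun i => exists_factor_of_conjSymm hq (hSu i) (hl i)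
  let T := pureT d t F S
  have hTu : IsUnit T := by
    have : IsUnit S := by
      rw [Pi.isUnit_iff]; exact hSu
    exact this.map (pureT d t F)
  have hTfix : ∀ i, ∀ g ∈ M i, (factor i (A i g))ᵀ * T * (factor i (A i g)).map σ = T := by
    intro i g hg
    rw [htr, hmapσ, factor, factor, ← map_mul, ← map_mul]
    congr 1
    funext j
    by_cases hj : j = i
    · subst hj
      simp only [Pi.mul_apply, Pi.mulSingle_eq_same]
      exact hSfix j _ ⟨g, hg, rfl⟩
    · simp [Pi.mulSingle_eq_of_ne hj]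
  set Z := ((hTu.unit⁻¹ : GL (Fin t → Fin d) F) : Matrix (Fin t → Fin d) (Fin t → Fin d) F) * G with hZ
  have hTZ : T * Z = G := by rw [hZ, ← mul_assoc, hTu.mul_val_inv, one_mul]
  obtain ⟨Y, hY⟩ := coord_surjective e P (Z.map σ)
  have hYcomm : ∀ i, ∀ g ∈ M i, Y * (g : Matrix (Fin n) (Fin n) F) = (g : Matrix (Fin n) (Fin n) F) * Y := by
    intro i g hg
    refine coord_injective e P ?_
    rw [coord_mul, coord_mul, hY]
    have hcu : IsUnit (coord e P (g : Matrix (Fin n) (Fin n) F))ᵀ := by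
      rw [Matrix.isUnit_iff_isUnit_det, Matrix.det_transpose]
      exact isUnit_iff_ne_zero.2 (det_coord_ne_zero e P g)
    have h1 : Z * (coord e P (g : Matrix (Fin n) (Fin n) F)).map σ =
        (coord e P (g : Matrix (Fin n) (Fin n) F)).map σ * Z := by
      refine (IsUnit.mul_right_inj (hcu.mul hTu)).1 ?_
      have h2 := hTfix i g hg
      rw [← hc.coord_eq i g hg] at h2
      rw [← mul_assoc, mul_assoc _ T Z, hTZ, hG, hermGram_fix hq e P (hMU i hg), ← hG, ← mul_assoc, h2, hTZ]
    have h3 := congrArg (fun X : Matrix (Fin t → Fin d) (Fin t → Fin d) F => X.map σ) h1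
    have hAA : ((coord e P (g : Matrix (Fin n) (Fin n) F)).map σ).map σ = coord e P (g : Matrix (Fin n) (Fin n) F) := by
      ext a b; exact hq.involutive _
    simp only [Matrix.map_mul, hAA] at h3
    exact h3
  obtain ⟨γ, hγ⟩ := hc.absIrred.2 Y (by
    rintro _ ⟨g, hg, rfl⟩
    show Y * (g : Matrix (Fin n) (Fin n) F) = (g : Matrix (Fin n) (Fin n) F) * Y
    induction hg using Subgroup.iSup_induction' with
    | hp i g hg => exact hYcomm i g hg
    | h1 => simp
    | hmul a b _ _ h1 h2 => rw [Units.val_mul, ← mul_assoc, h1, mul_assoc, h2, mul_assoc])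
  have hGT : G = σ γ • T := by
    have h1 : Z.map σ = γ • 1 := by rw [← hY, hγ, coord_smul, coord_one]
    have h2 : Z = σ γ • 1 := by
      ext a b
      have h3 := congrArg σ (congrFun (congrFun h1 a) b)
      rw [Matrix.map_apply, hq.involutive] at h3
      rw [h3]
      by_cases hab : a = b <;> simp [hab]
    rw [← hTZ, h2, Matrix.mul_smul, mul_one]
  let K : GL (Fin t → Fin d) F := Units.map (pureT d t F) (MulEquiv.piUnits.symm k)
  have hKv : (K : Matrix (Fin t → Fin d) (Fin t → Fin d) F) = pureT d t F fun i => (k i : Matrix (Fin d) (Fin d) F) := rfl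
  have hGK : G = (σ γ * ∏ i, c i) • ((K : Matrix (Fin t → Fin d) (Fin t → Fin d) F)ᵀ *
      (K : Matrix (Fin t → Fin d) (Fin t → Fin d) F).map σ) := by
    have hmap : (pureT d t F fun i => (k i : Matrix (Fin d) (Fin d) F)).map σ =
        pureT d t F fun i => (k i : Matrix (Fin d) (Fin d) F).map σ := by
      ext x y
      simp [pureT_apply, map_prod]
    rw [hGT, hKv, pureT_transpose, hmap, ← map_mul, mul_smul, ← pureT_smul]
    congr 1
    exact congrArg (pureT d t F) (funext hk)
  have hne' : σ γ * ∏ i, c i ≠ 0 := by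
    intro h0
    rw [h0, zero_smul] at hGK
    exact (hermGram_isUnit (σ := σ) e P).ne_zero hGK
  refine ⟨_, σ γ * ∏ i, c i, hne', hermGram_normalise e P K hGK, hle.trans (le_of_eq ?_)⟩
  exact (map_conj_eq_of_mem (Subgroup.mem_map_of_mem (glReindex (F := F) e.symm).toMonoidHom
    ((tensorWreathStandard d t F).inv_mem (show K ∈ tensorWreathStandard d t F from
      Subgroup.subset_closure (Or.inl ⟨k, fun x y => rfl⟩))))).symm

end CfsgLib.Geo.Asch
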