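/-
Tensor decompositions of a quadratic space with two factors.
-/
import Cfsg.Agent.Lib.Geo.Asch.OrthGram
import Cfsg.Agent.Lib.Geo.Asch.OrthField
import Cfsg.Agent.Lib.Geo.Asch.UnitForms

set_option autoImplicit false
set_option linter.unusedSectionVars false

namespace CfsgLib.Geo.Asch

open Matrix Cfsg.Geo
open scoped Kronecker
open CfsgLib.Classical CfsgLib.Classical.Quad CfsgLib.Geo.OrthMax
open QuadraticMap (polar polarBilin)

variable {F : Type*} [Field F] [Finite F] {ι : Type} [Fintype ι] [DecidableEq ι] {Q : QuadraticForm F (ι → F)}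

/-- The Gram matrix in adapted coordinates is a Kronecker product of two symmetric or two alternating matrices. -/
theorem orth_tensor_split (hQ : (polarBilin Q).Nondegenerate) {d k : ℕ} {N : Subgroup (GL ι F)}
    (hN : ∀ g ∈ N, ∀ v, Q ((g : Matrix ι ι F) *ᵥ v) = Q v) {e : ι ≃ Fin d × Fin k} {P : GL ι F}
    {A : GL ι F → Matrix (Fin d) (Fin d) F} (hc : TensorCoords N d k e P A) :
    ∃ (X : Matrix (Fin d) (Fin d) F) (Y : Matrix (Fin k) (Fin k) F) (l : F), orGram Q e P = X ⊗ₖ Y ∧ IsUnit X ∧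
      IsUnit Y ∧ l * l = 1 ∧ Xᵀ = l • X ∧ Yᵀ = l • Y ∧
      ∀ S ∈ A '' (N : Set (GL ι F)), Sᵀ * X * S = X := by
  classical
  set G := orGram Q e P with hG
  have hdet : ∀ S ∈ A '' (N : Set (GL ι F)), S.det ≠ 0 := by
    rintro _ ⟨g, hg, rfl⟩ h0
    have := det_coord_ne_zero e P g
    rw [hc.coord_eq g hg, Matrix.det_kronecker, h0, zero_pow (by rw [Fintype.card_fin]; exact hc.pos_right.ne'),
      zero_mul] at this
    exact this rfl
  have hblk : ∀ a b, ∀ S ∈ A '' (N : Set (GL ι F)), Sᵀ * blk G a b * S = blk G a b := by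
    rintro a b _ ⟨g, hg, rfl⟩
    have h := orGram_fix e P (hN g hg)
    have e1 : (A g ⊗ₖ (1 : Matrix (Fin k) (Fin k) F))ᵀ = (A g)ᵀ ⊗ₖ (1 : Matrix (Fin k) (Fin k) F) := by
      rw [← Matrix.kroneckerMap_transpose, Matrix.transpose_one]
    rw [hc.coord_eq g hg, e1] at h
    have := congrArg (fun M => blk M a b) h
    simpa [blk_mul_kron, blk_kron_mul] using this
  have hGu := orGram_isUnit hQ e P
  haveI : Nonempty (Fin d × Fin k) := ⟨(⟨0, hc.pos_left⟩, ⟨0, hc.pos_right⟩)⟩
  obtain ⟨a₀, b₀, hne⟩ : ∃ a b, blk G a b ≠ 0 := by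
    by_contra! hall
    exact hGu.ne_zero (show G = 0 from Matrix.ext fun ⟨i, a⟩ ⟨j, b⟩ => congrFun (congrFun (hall a b) i) j)
  obtain ⟨hXu, hXuniq⟩ := bilin_gram_unique hc.absIrred hdet hne (hblk a₀ b₀)
  set X := blk G a₀ b₀ with hX
  choose B hB using fun a b => hXuniq _ (hblk a b)
  set Y : Matrix (Fin k) (Fin k) F := Matrix.of B with hY
  have hGB : G = X ⊗ₖ Y := by
    ext ⟨i, a⟩ ⟨j, b⟩
    rw [Matrix.kronecker_apply, hY, Matrix.of_apply]
    exact (congrFun (congrFun (hB a b) i) j).trans (mul_comm _ _)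
  have hYu : IsUnit Y := by
    have h := (Matrix.isUnit_iff_isUnit_det _).1 hGu
    rw [← hG, hGB, Matrix.det_kronecker] at h
    rw [Matrix.isUnit_iff_isUnit_det]
    exact (isUnit_pow_iff (by rw [Fintype.card_fin]; exact hc.pos_left.ne')).1 (isUnit_of_mul_isUnit_right h)
  obtain ⟨l, hl⟩ := hXuniq Xᵀ fun S hS => by
    have h := congrArg Matrix.transpose (hblk a₀ b₀ S hS)
    rwa [Matrix.transpose_mul, Matrix.transpose_mul, Matrix.transpose_transpose, ← mul_assoc] at h
  obtain ⟨i₀, j₀, hij⟩ : ∃ i j, X i j ≠ 0 := by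
    by_contra! h0; exact hne (Matrix.ext h0)
  have hl2 : l * l = 1 := by
    have h := congrArg Matrix.transpose hl
    rw [Matrix.transpose_transpose, Matrix.transpose_smul, hl, smul_smul] at h
    have h1 := congrFun (congrFun h i₀) j₀
    rw [Matrix.smul_apply, smul_eq_mul] at h1
    exact mul_right_cancel₀ hij (by rw [one_mul]; exact h1.symm)
  refine ⟨X, Y, l, hGB, hXu, hYu, hl2, hl, ?_, hblk a₀ b₀⟩
  ext a b
  have h := congrFun (congrFun (orGram_transpose (Q := Q) e P) (i₀, a)) (j₀, b)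
  rw [← hG, hGB, Matrix.transpose_apply, Matrix.kronecker_apply, Matrix.kronecker_apply] at h
  have h1 : X j₀ i₀ = l * X i₀ j₀ := congrFun (congrFun hl i₀) j₀
  rw [h1] at h
  rw [Matrix.transpose_apply, Matrix.smul_apply, smul_eq_mul]
  refine mul_left_cancel₀ hij ?_
  linear_combination l * h - Y b a * X i₀ j₀ * hl2

/-- An element of the tensor stabiliser fixing the form scales the second factor. -/
theorem exists_scale {d k : ℕ} (hd : 0 < d) {e : ι ≃ Fin d × Fin k} {P : GL ι F}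
    {X : Matrix (Fin d) (Fin d) F} {Y : Matrix (Fin k) (Fin k) F} (hG : orGram Q e P = X ⊗ₖ Y) (hXu : IsUnit X)
    {g : GL ι F} (hgQ : ∀ v, Q ((g : Matrix ι ι F) *ᵥ v) = Q v) {a : GL (Fin d) F} {b : GL (Fin k) F}
    (hab : coord e P (g : Matrix ι ι F) = (a : Matrix (Fin d) (Fin d) F) ⊗ₖ (b : Matrix (Fin k) (Fin k) F)) :
    ∃ μ : F, (b : Matrix (Fin k) (Fin k) F)ᵀ * Y * (b : Matrix (Fin k) (Fin k) F) = μ • Y := by
  classical
  haveI : Nonempty (Fin d) := ⟨⟨0, hd⟩⟩
  have hfix := orGram_fix (Q := Q) e P hgQ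
  rw [hab, hG, ← Matrix.kroneckerMap_transpose, ← Matrix.mul_kronecker_mul, ← Matrix.mul_kronecker_mul] at hfix
  obtain ⟨i₀, j₀, hij⟩ : ∃ i j, ((a : Matrix (Fin d) (Fin d) F)ᵀ * X * (a : Matrix (Fin d) (Fin d) F)) i j ≠ 0 := by
    by_contra! h0
    refine (IsUnit.ne_zero ?_) (Matrix.ext h0)
    refine (IsUnit.mul ?_ hXu).mul a.isUnit
    rw [Matrix.isUnit_iff_isUnit_det, Matrix.det_transpose]
    exact a.isUnit.map Matrix.detMonoidHom
  refine ⟨X i₀ j₀ / ((a : Matrix (Fin d) (Fin d) F)ᵀ * X * (a : Matrix (Fin d) (Fin d) F)) i₀ j₀, ?_⟩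
  ext r s
  have h := congrFun (congrFun hfix (i₀, r)) (j₀, s)
  rw [Matrix.kronecker_apply, Matrix.kronecker_apply] at h
  rw [Matrix.smul_apply, smul_eq_mul, div_mul_eq_mul_div, eq_div_iff hij]
  linear_combination h

/-- In characteristic two the second factor of an irreducible tensor decomposition is alternating. -/
theorem orth_kron_alternating (h2 : (2 : F) = 0) {d k : ℕ} (hd : 0 < d) (hk : 2 ≤ k) {H : Subgroup (GL ι F)}
    (hH : ∀ g ∈ H, ∀ v, Q ((g : Matrix ι ι F) *ᵥ v) = Q v) (hirr : ActsIrreducibly (matrixSet H))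
    {e : ι ≃ Fin d × Fin k} {P : GL ι F} (hle : H ≤ tensorProductSubgroup d k e P) {X : Matrix (Fin d) (Fin d) F}
    {Y : Matrix (Fin k) (Fin k) F} (hG : orGram Q e P = X ⊗ₖ Y) (hXu : IsUnit X) (hY : Yᵀ = Y) (w : Fin k → F) :
    w ⬝ᵥ Y *ᵥ w = 0 := by
  classical
  haveI := Fintype.ofFinite F
  have hb := isBilinearForm_formOfGram Y
  have hsym : ∀ u w, formOfGram id Y u w = formOfGram id Y w u := fun u w => by
    rw [formOfGram_swap (l := 1) (by rw [hY, one_smul]) w u, one_mul]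
  let W : Submodule F (Fin k → F) :=
    { carrier := {w | formOfGram id Y w w = 0}
      add_mem' := fun {u w} hu hw => by
        show formOfGram id Y (u + w) (u + w) = 0
        rw [hb.add_left, hb.add_right, hb.add_right, show formOfGram id Y u u = 0 from hu,
          show formOfGram id Y w w = 0 from hw, hsym w u]
        linear_combination formOfGram id Y u w * h2
      zero_mem' := by show formOfGram id Y 0 0 = 0; simp [formOfGram_id_eq]
      smul_mem' := fun c w hw => by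
        show formOfGram id Y (c • w) (c • w) = 0
        rw [hb.smul_left, hb.smul_right, show formOfGram id Y w w = 0 from hw, mul_zero, mul_zero] }
  -- vectors all of whose rows lie in the kernel
  let T : (Fin d × Fin k → F) →ₗ[F] (Fin d → Fin k → F) :=
    { toFun := fun x i j => x (i, j)
      map_add' := fun u v => rfl
      map_smul' := fun c v => rfl }
  let U : Submodule F (ι → F) := ((Submodule.pi Set.univ fun _ => W).comap T).map (vecIn e P)
  have hmemU : ∀ x, vecIn e P x ∈ U ↔ ∀ i, T x i ∈ W := fun x => by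
    constructor
    · rintro ⟨y, hy, hyx⟩
      obtain rfl := vecIn_injective e P hyx
      simpa [Submodule.mem_pi] using hy
    · exact fun h => ⟨x, by simpa [Submodule.mem_pi] using h, rfl⟩
  have hst : Stable (matrixSet H) U := by
    rintro _ ⟨g, hg, rfl⟩ v hv
    obtain ⟨x, rfl⟩ := vecIn_surjective e P v
    rw [hmemU] at hv
    obtain ⟨a, b, hab⟩ := (mem_tensorProductSubgroup_iff e P g).1 (hle hg)
    obtain ⟨μ, hμ⟩ := exists_scale hd hG hXu (hH g hg) hab
    rw [mulVec_vecIn, hmemU, hab]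
    intro i
    have hrow : T (((a : Matrix (Fin d) (Fin d) F) ⊗ₖ (b : Matrix (Fin k) (Fin k) F)) *ᵥ x) i =
        (b : Matrix (Fin k) (Fin k) F) *ᵥ ∑ i', (a : Matrix (Fin d) (Fin d) F) i i' • T x i' := by
      ext j
      simp [T, Matrix.mulVec, dotProduct, Fintype.sum_prod_type, Matrix.kronecker_apply, Finset.mul_sum]
      rw [Finset.sum_comm]
      exact Finset.sum_congr rfl fun _ _ => Finset.sum_congr rfl fun _ _ => by ring
    rw [hrow]
    have hmem : (∑ i', (a : Matrix (Fin d) (Fin d) F) i i' • T x i') ∈ W :=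
      W.sum_mem fun i' _ => W.smul_mem _ (hv i')
    show formOfGram id Y _ _ = 0
    rw [formOfGram_id_eq, Matrix.mulVec_mulVec, Matrix.dotProduct_mulVec, Matrix.vecMul_mulVec,
      ← Matrix.dotProduct_mulVec, ← Matrix.mul_assoc, hμ, Matrix.smul_mulVec, dotProduct_smul, ← formOfGram_id_eq,
      show formOfGram id Y _ _ = 0 from hmem, smul_zero]
  rw [← formOfGram_id_eq]
  rcases actsIrreducibly_iff.1 hirr U hst with h | h
  · exfalso
    have hW : W = ⊥ := (Submodule.eq_bot_iff _).2 fun w hw => by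
      have h1 : vecIn e P (fun p => w p.2) ∈ U := (hmemU _).2 fun i => hw
      rw [h, Submodule.mem_bot] at h1
      have h3 := vecIn_injective e P (h1.trans (map_zero _).symm)
      exact funext fun j => congrFun h3 (⟨0, hd⟩, j)
    have hinj : Function.Injective fun w => formOfGram id Y w w := by
      intro u v huv
      have hmem : u + v ∈ W := by
        show formOfGram id Y (u + v) (u + v) = 0
        simp only [hb.add_left, hb.add_right, hsym v u]
        linear_combination huv + (formOfGram id Y v v + formOfGram id Y u v) * h2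
      rw [hW, Submodule.mem_bot] at hmem
      have h4 : (-1 : F) = 1 := by linear_combination -h2
      rw [eq_neg_of_add_eq_zero_left hmem, ← neg_one_smul F v, h4, one_smul]
    have := Fintype.card_le_of_injective _ hinj
    rw [Fintype.card_fun, Fintype.card_fin] at this
    have := lt_of_lt_of_le (Nat.pow_lt_pow_right (Fintype.one_lt_card (α := F)) (show 1 < k by omega)) this
    simp at this
  · have hw : vecIn e P (fun p => w p.2) ∈ U := h.symm ▸ Submodule.mem_top
    exact (hmemU _).1 hw ⟨0, hd⟩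

/-- The value of a Kronecker product on pure tensors. -/
theorem pure_dot {d k : ℕ} (X : Matrix (Fin d) (Fin d) F) (Y : Matrix (Fin k) (Fin k) F) (u u' : Fin d → F)
    (w w' : Fin k → F) :
    (fun a : Fin d × Fin k => u a.1 * w a.2) ⬝ᵥ (X ⊗ₖ Y) *ᵥ (fun a => u' a.1 * w' a.2) =
      (u ⬝ᵥ X *ᵥ u') * (w ⬝ᵥ Y *ᵥ w') := by
  have h : (X ⊗ₖ Y) *ᵥ (fun a => u' a.1 * w' a.2) = fun a => (X *ᵥ u') a.1 * (Y *ᵥ w') a.2 := by
    ext ⟨i, j⟩
    simp only [Matrix.mulVec, dotProduct, Fintype.sum_prod_type, Matrix.kronecker_apply, Finset.sum_mul_sum]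
    exact Finset.sum_congr rfl fun _ _ => Finset.sum_congr rfl fun _ _ => by ring
  rw [h]
  simp only [dotProduct, Fintype.sum_prod_type, Finset.sum_mul_sum]
  exact Finset.sum_congr rfl fun _ _ => Finset.sum_congr rfl fun _ _ => by ring

/-- A quadratic form whose polar is a product of alternating forms vanishes on pure tensors. -/
theorem orth_pure_zero {d k : ℕ} (hd : 2 ≤ d) {N : Subgroup (GL ι F)}
    (hN : ∀ g ∈ N, ∀ v, Q ((g : Matrix ι ι F) *ᵥ v) = Q v) {e : ι ≃ Fin d × Fin k} {P : GL ι F}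
    {A : GL ι F → Matrix (Fin d) (Fin d) F} (hc : TensorCoords N d k e P A) {X : Matrix (Fin d) (Fin d) F}
    {Y : Matrix (Fin k) (Fin k) F} (hG : orGram Q e P = X ⊗ₖ Y) (hY : ∀ w : Fin k → F, w ⬝ᵥ Y *ᵥ w = 0)
    (u : Fin d → F) (w : Fin k → F) : Q (vecIn e P fun a => u a.1 * w a.2) = 0 := by
  by_cases h2 : (2 : F) = 0
  swap
  · rw [apply_vecIn_of_two h2, hG, pure_dot, hY, mul_zero, zero_div]
  refine semilinear_eq_zero h2 (by simpa using hd) hc.absIrred.1
    (φ := fun u => Q (vecIn e P fun a => u a.1 * w a.2)) (fun u v => ?_) (fun c u => ?_) ?_ u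
  · rw [show (fun a : Fin d × Fin k => (u + v) a.1 * w a.2) = (fun a => u a.1 * w a.2) + fun a => v a.1 * w a.2 from
      funext fun a => add_mul _ _ _, map_add, apply_add, polar_vecIn, hG, pure_dot, hY, mul_zero, add_zero]
  · rw [show (fun a : Fin d × Fin k => (c • u) a.1 * w a.2) = c • fun a => u a.1 * w a.2 from
      funext fun a => mul_assoc _ _ _, map_smul, apply_smul, pow_two]
  · rintro _ ⟨g, hg, rfl⟩ v
    have h1 : (A g ⊗ₖ (1 : Matrix (Fin k) (Fin k) F)) *ᵥ (fun a => v a.1 * w a.2) =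
        fun a => (A g *ᵥ v) a.1 * w a.2 := by
      ext ⟨i, j⟩
      simp [Matrix.mulVec, dotProduct, Fintype.sum_prod_type, Matrix.kronecker_apply, Matrix.one_apply,
        Finset.sum_mul]
      exact Finset.sum_congr rfl fun _ _ => by ring
    rw [← h1, ← hc.coord_eq g hg, ← mulVec_vecIn, hN g hg]

/-- A tensor factor of dimension two with vanishing pure tensors gives plus type. -/
theorem plus_of_pure {k : ℕ} {e : ι ≃ Fin 2 × Fin k} {P : GL ι F}
    (hpure : ∀ (u : Fin 2 → F) (w : Fin k → F), Q (vecIn e P fun a => u a.1 * w a.2) = 0) :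
    IsPlusTypeOn (⇑Q) ⊤ := by
  let L : (Fin k → F) →ₗ[F] (Fin 2 × Fin k → F) :=
    { toFun := fun w a => (![1, 0] : Fin 2 → F) a.1 * w a.2
      map_add' := fun u v => funext fun a => mul_add _ _ _
      map_smul' := fun c v => funext fun a => mul_left_comm _ _ _ }
  have hinj : Function.Injective ((vecIn e P).comp L) := (vecIn_injective e P).comp fun u v h => funext fun j => by
    simpa [L] using congrFun h (0, j)
  refine ⟨LinearMap.range ((vecIn e P).comp L), le_top, ?_, ?_⟩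
  · rintro _ ⟨w, rfl⟩
    exact hpure _ w
  · rw [LinearMap.finrank_range_of_inj hinj, finrank_top, Module.finrank_fin_fun, Module.finrank_pi]
    simpa using (Fintype.card_congr e).symm

/-- Swapping the two factors. -/
theorem orGram_swap {d k : ℕ} {e : ι ≃ Fin d × Fin k} {P : GL ι F} {X : Matrix (Fin d) (Fin d) F}
    {Y : Matrix (Fin k) (Fin k) F} (hG : orGram Q e P = X ⊗ₖ Y) :
    orGram Q (e.trans (Equiv.prodComm _ _)) P = Y ⊗ₖ X := by
  rw [orGram_reindex, hG]
  ext a b
  simp [Matrix.kronecker_apply, mul_comm]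

theorem pure_zero_swap {d k : ℕ} {e : ι ≃ Fin d × Fin k} {P : GL ι F}
    (hpure : ∀ (u : Fin d → F) (w : Fin k → F), Q (vecIn e P fun a => u a.1 * w a.2) = 0) (u : Fin k → F)
    (w : Fin d → F) : Q (vecIn (e.trans (Equiv.prodComm _ _)) P fun a => u a.1 * w a.2) = 0 := by
  rw [← hpure w u]
  congr 1
  rw [vecIn_apply, vecIn_apply]
  congr 1
  funext i
  simp [mul_comm]

/-- A two-dimensional symmetric factor gives a totally singular pair or a quadratic field of similitudes. -/
theorem orth_tensor_two (h2 : (2 : F) ≠ 0) (hQ : (polarBilin Q).Nondegenerate) {m n₁ : ℕ} (hn₁ : 0 < n₁)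
    (hm : Fintype.card ι = 2 * m) {H : Subgroup (GL ι F)} (hH : ∀ g ∈ H, ∀ v, Q ((g : Matrix ι ι F) *ᵥ v) = Q v)
    {e : ι ≃ Fin n₁ × Fin 2} {P : GL ι F} (hle : H ≤ tensorProductSubgroup n₁ 2 e P)
    {X : Matrix (Fin n₁) (Fin n₁) F} {Y : Matrix (Fin 2) (Fin 2) F} (hG : orGram Q e P = X ⊗ₖ Y) (hXu : IsUnit X)
    (hYu : IsUnit Y) (hY : Yᵀ = Y) :
    (∃ D : Fin 2 → Submodule F (ι → F), IsMDecomposition m D ∧ (∀ i, IsTotallySingularQuad (⇑Q) (D i)) ∧
      H ≤ decompositionStabilizer D) ∨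
    (∃ K : Subalgebra F (Matrix ι ι F), IsFieldSubalgebra 2 K ∧ IsAdjointClosedFor (polar Q) K ∧
      ¬ IsSelfAdjointFor (polar Q) K ∧ (∀ k ∈ K, ∃ c : F, ∀ v, Q (k *ᵥ v) = c * Q v) ∧
      H ≤ subalgebraNormalizer K) := by
  classical
  haveI : Nonempty (Fin n₁) := ⟨⟨0, hn₁⟩⟩
  have hmpos : 0 < m := by
    have h := Fintype.card_congr e
    rw [hm, Fintype.card_prod, Fintype.card_fin, Fintype.card_fin] at h
    omega
  haveI : Nonempty ι := Fintype.card_pos_iff.1 (by omega)
  have h10 : Y 1 0 = Y 0 1 := congrFun (congrFun hY 0) 1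
  set Z : Matrix (Fin 2) (Fin 2) F := !![Y 0 1, Y 1 1; -(Y 0 0), -(Y 0 1)] with hZdef
  set s := Y 0 1 * Y 0 1 - Y 0 0 * Y 1 1 with hsdef
  have hs0 : s ≠ 0 := by
    have h := ((Matrix.isUnit_iff_isUnit_det Y).1 hYu).ne_zero
    rw [Matrix.det_fin_two, h10] at h
    exact fun e0 => h (by rw [hsdef] at e0; linear_combination -e0)
  have hZZ : Z * Z = s • 1 := by
    ext i j
    fin_cases i <;> fin_cases j <;> simp [hZdef, hsdef, Matrix.mul_apply, Fin.sum_univ_two] <;> ring
  have hYZ : Y * Z = -(s • symJ F) := by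
    ext i j
    fin_cases i <;> fin_cases j <;> simp [hZdef, hsdef, h10, symJ, Matrix.mul_apply, Fin.sum_univ_two] <;> ring
  have hZY : Zᵀ * Y = -(Y * Z) := by
    ext i j
    fin_cases i <;> fin_cases j <;> simp [hZdef, h10, Matrix.mul_apply, Fin.sum_univ_two] <;> ring
  obtain ⟨Z', hZ'⟩ := coord_surjective e P ((1 : Matrix (Fin n₁) (Fin n₁) F) ⊗ₖ Z)
  have hZ'Z' : Z' * Z' = s • 1 := coord_injective e P (by
    rw [coord_mul, hZ', ← Matrix.mul_kronecker_mul, one_mul, hZZ, Matrix.kronecker_smul, Matrix.one_kronecker_one,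
      coord_smul, coord_one])
  have hadj : adjQ Q Z' = -Z' := by
    refine (adjQ_unique hQ fun u v => ?_).symm
    obtain ⟨x, rfl⟩ := vecIn_surjective e P u
    obtain ⟨y, rfl⟩ := vecIn_surjective e P v
    rw [Matrix.neg_mulVec, mulVec_vecIn, mulVec_vecIn, ← map_neg, polar_vecIn, polar_vecIn, hZ', hG,
      Matrix.mulVec_neg, dotProduct_neg, Matrix.mulVec_mulVec, ← Matrix.mul_kronecker_mul, mul_one,
      Matrix.dotProduct_mulVec, Matrix.vecMul_mulVec, ← Matrix.dotProduct_mulVec, ← Matrix.kroneckerMap_transpose,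
      ← Matrix.mul_kronecker_mul, Matrix.transpose_one, one_mul, hZY, ← dotProduct_neg, ← Matrix.neg_mulVec]
    congr 2
    ext p q
    simp [Matrix.kronecker_apply]
  -- every element of H scales Z'
  have hscale : ∀ g ∈ H, ∃ c : F, (g : Matrix ι ι F) * Z' = c • (Z' * (g : Matrix ι ι F)) ∧ c * c = 1 := by
    intro g hg
    obtain ⟨a, b, hab⟩ := (mem_tensorProductSubgroup_iff e P g).1 (hle hg)
    obtain ⟨μ, hbsim⟩ := exists_scale hn₁ hG hXu (hH g hg) hab
    set B := (b : Matrix (Fin 2) (Fin 2) F) with hB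
    have hdet0 : B.det ≠ 0 := (b.isUnit.map Matrix.detMonoidHom).ne_zero
    have hBY : IsUnit (Bᵀ * Y) := by
      refine IsUnit.mul ?_ hYu
      rw [Matrix.isUnit_iff_isUnit_det, Matrix.det_transpose]
      exact isUnit_iff_ne_zero.2 hdet0
    have hBZ : μ • (Z * B) = B.det • (B * Z) := by
      refine (IsUnit.mul_right_inj hBY).1 ?_
      have e1 : Bᵀ * Y * (Z * B) = B.det • (Y * Z) := by
        rw [← mul_assoc, mul_assoc Bᵀ Y Z, hYZ, mul_neg, Matrix.neg_mul, Matrix.mul_smul, Matrix.smul_mul,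
          transpose_mul_symJ, smul_comm, smul_neg]
      rw [Matrix.mul_smul, Matrix.mul_smul, e1, ← mul_assoc (Bᵀ * Y) B Z, hbsim, Matrix.smul_mul, smul_comm]
    have hc : (g : Matrix ι ι F) * Z' = (μ / B.det) • (Z' * (g : Matrix ι ι F)) := by
      refine coord_injective e P ?_
      rw [coord_smul, coord_mul, coord_mul, hZ', hab, ← Matrix.mul_kronecker_mul, ← Matrix.mul_kronecker_mul,
        mul_one, one_mul, ← Matrix.kronecker_smul, div_eq_inv_mul, mul_smul, hBZ, smul_smul,
        inv_mul_cancel₀ hdet0, one_smul]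
    refine ⟨_, hc, ?_⟩
    set G := (g : Matrix ι ι F)
    have h1 : G * (Z' * Z') = ((μ / B.det) * (μ / B.det)) • (Z' * Z' * G) := by
      rw [← mul_assoc, hc, Matrix.smul_mul, mul_assoc, hc, Matrix.mul_smul, smul_smul, ← mul_assoc]
    rw [hZ'Z', Matrix.mul_smul, mul_one, Matrix.smul_mul, one_mul, smul_smul, mul_comm _ s, ← smul_smul] at h1
    have h3 := smul_right_injective (Matrix ι ι F) hs0 h1
    exact smul_left_injective F g.isUnit.ne_zero (h3.symm.trans (one_smul F G).symm)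
  have hfr0 : Module.finrank F (ι → F) = 2 * m := by rw [Module.finrank_pi, hm]
  by_cases hsq : ∃ z, z * z = s
  · obtain ⟨z, hz⟩ := hsq
    have hz0 : z ≠ 0 := fun e0 => hs0 (by rw [← hz, e0, mul_zero])
    left
    let E : F → Submodule F (ι → F) := fun c => LinearMap.ker (Matrix.toLin' Z' - c • LinearMap.id)
    have hmemE : ∀ c v, v ∈ E c ↔ Z' *ᵥ v = c • v := fun c v => by simp [E, sub_eq_zero]
    let D : Fin 2 → Submodule F (ι → F) := ![E z, E (-z)]
    have hz2 : (2 : F) * z ≠ 0 := mul_ne_zero h2 hz0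
    have hts : ∀ c, c * c = s → IsTotallySingularQuad (⇑Q) (E c) := by
      intro c hc u hu
      rw [hmemE] at hu
      have h := polar_adjQ hQ Z' u u
      rw [hadj, Matrix.neg_mulVec, hu, polar_smul_left', QuadraticMap.polar_neg_right, polar_smul_right',
        polar_self'] at h
      have hc0 : c ≠ 0 := fun e0 => hs0 (by rw [← hc, e0, mul_zero])
      exact (mul_eq_zero.1 (show (2 : F) * 2 * c * Q u = 0 by linear_combination h)).resolve_left
        (mul_ne_zero (mul_ne_zero h2 h2) hc0)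
    have hdis : Disjoint (E z) (E (-z)) := by
      rw [Submodule.disjoint_def]
      intro v hv hv'
      rw [hmemE] at hv hv'
      rw [hv] at hv'
      have h := sub_eq_zero.2 hv'
      rw [← sub_smul, smul_eq_zero] at h
      exact h.resolve_left fun e0 => hz2 (by linear_combination e0)
    have hZvv : ∀ v, Z' *ᵥ (Z' *ᵥ v) = (z * z) • v := fun v => by
      rw [Matrix.mulVec_mulVec, hZ'Z', Matrix.smul_mulVec, Matrix.one_mulVec, hz]
    have htop : E z ⊔ E (-z) = ⊤ := by
      rw [eq_top_iff]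
      intro v _
      rw [Submodule.mem_sup]
      refine ⟨(2 * z)⁻¹ • (z • v + Z' *ᵥ v), ?_, (2 * z)⁻¹ • (z • v - Z' *ᵥ v), ?_, ?_⟩
      · rw [hmemE, Matrix.mulVec_smul, Matrix.mulVec_add, Matrix.mulVec_smul, hZvv]; module
      · rw [hmemE, Matrix.mulVec_smul, Matrix.mulVec_sub, Matrix.mulVec_smul, hZvv]; module
      · rw [← smul_add, show z • v + Z' *ᵥ v + (z • v - Z' *ᵥ v) = (2 * z) • v by module, smul_smul,
          inv_mul_cancel₀ hz2, one_smul]
    have hfr : Module.finrank F (E z) = m ∧ Module.finrank F (E (-z)) = m := by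
      have h1 := two_mul_finrank_le hQ (hts z hz)
      have h1' := two_mul_finrank_le hQ (hts (-z) (by rw [neg_mul_neg, hz]))
      have h3 := Submodule.finrank_sup_add_finrank_inf_eq (E z) (E (-z))
      rw [htop, hdis.eq_bot, finrank_top, finrank_bot, hfr0] at h3
      rw [hfr0] at h1 h1'
      omega
    refine ⟨D, ⟨le_rfl, hmpos, fun i => ?_, ?_, ?_⟩, fun i => ?_, fun g hg => ?_⟩
    · fin_cases i
      exacts [hfr.1, hfr.2]
    · exact (iSupIndep_pair (show (0 : Fin 2) ≠ 1 by decide) (fun i => by fin_cases i <;> simp)).2 hdis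
    · rw [← htop]
      exact le_antisymm (iSup_le fun i => by fin_cases i; exacts [le_sup_left, le_sup_right])
        (sup_le (le_iSup D 0) (le_iSup D 1))
    · fin_cases i
      exacts [hts z hz, hts (-z) (by rw [neg_mul_neg, hz])]
    obtain ⟨c, hgc, hc2⟩ := hscale g hg
    have hmove : ∀ (g : GL ι F) (c : F), c * c = 1 → (g : Matrix ι ι F) * Z' =
        c • (Z' * (g : Matrix ι ι F)) → ∀ z, ∀ v ∈ E z, (g : Matrix ι ι F) *ᵥ v ∈ E (c * z) := by
      intro g c hc h z v hv
      rw [hmemE] at hv ⊢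
      have h' := congrArg (fun M : Matrix ι ι F => M *ᵥ v) h
      simp only [← Matrix.mulVec_mulVec, Matrix.smul_mulVec, hv, Matrix.mulVec_smul] at h'
      rw [mul_smul, h', smul_smul, hc, one_smul]
    have hmap : ∀ z, (E z).map (Matrix.toLin' (g : Matrix ι ι F)) = E (c * z) := by
      intro z
      refine le_antisymm ?_ fun v hv => ⟨((g⁻¹ : GL ι F) : Matrix ι ι F) *ᵥ v, ?_, ?_⟩
      · rintro _ ⟨v, hv, rfl⟩
        exact hmove g c hc2 hgc z v hv
      · have hginv : ((g⁻¹ : GL ι F) : Matrix ι ι F) * Z' = c • (Z' * ((g⁻¹ : GL ι F) : Matrix ι ι F)) := by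
          have h := congrArg (fun M => ((g⁻¹ : GL ι F) : Matrix ι ι F) * M * ((g⁻¹ : GL ι F) : Matrix ι ι F)) hgc
          simp only [Matrix.mul_smul, Matrix.smul_mul, ← mul_assoc, Units.inv_mul, one_mul] at h
          simp only [mul_assoc, Units.mul_inv, mul_one] at h
          rw [h, smul_smul, hc2, one_smul]
        have := hmove g⁻¹ c hc2 hginv (c * z) v hv
        rwa [← mul_assoc, hc2, one_mul] at this
      · rw [Matrix.toLin'_apply, inv_mulVec_cancel]
    rcases mul_self_eq_one_iff.1 hc2 with rfl | rfl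
    · exact ⟨1, fun i => by fin_cases i <;> simp [D, hmap]⟩
    · exact ⟨Equiv.swap 0 1, fun i => by fin_cases i <;> simp [D, hmap]⟩
  · right
    have hnsc : ∀ c : F, Z' ≠ c • 1 := fun c hc => hsq ⟨c, by
      have h := hZ'Z'
      rw [hc, Matrix.smul_mul, one_mul, smul_smul] at h
      exact smul_left_injective F (one_ne_zero (α := Matrix ι ι F)) h⟩
    have hmul : ∀ a b c d : F, (a • (1 : Matrix ι ι F) + b • Z') * (c • 1 + d • Z') =
        (a * c + b * d * s) • 1 + (a * d + b * c) • Z' := by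
      intro a b c d
      rw [add_mul, mul_add, mul_add, Matrix.smul_mul, Matrix.smul_mul, Matrix.smul_mul, Matrix.smul_mul,
        Matrix.mul_smul, Matrix.mul_smul, Matrix.mul_smul, Matrix.mul_smul, one_mul, one_mul, mul_one, hZ'Z']
      module
    let K : Subalgebra F (Matrix ι ι F) :=
      { carrier := {x | ∃ a b : F, x = a • 1 + b • Z'}
        mul_mem' := by
          rintro _ _ ⟨a, b, rfl⟩ ⟨c, d, rfl⟩
          exact ⟨_, _, hmul a b c d⟩
        one_mem' := ⟨1, 0, by simp⟩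
        add_mem' := by
          rintro _ _ ⟨a, b, rfl⟩ ⟨c, d, rfl⟩
          exact ⟨a + c, b + d, by module⟩
        zero_mem' := ⟨0, 0, by simp⟩
        algebraMap_mem' := fun c => ⟨c, 0, by rw [Algebra.algebraMap_eq_smul_one, zero_smul, add_zero]⟩ }
    have huniq : ∀ a b : F, a • (1 : Matrix ι ι F) + b • Z' = 0 → a = 0 ∧ b = 0 := by
      intro a b h
      by_cases hb : b = 0
      · subst hb
        rw [zero_smul, add_zero, smul_eq_zero] at h
        exact ⟨h.resolve_right one_ne_zero, rfl⟩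
      · refine absurd ?_ (hnsc (-(a / b)))
        rw [← smul_right_inj hb, smul_smul, mul_neg, mul_div_cancel₀ a hb, neg_smul]
        exact eq_neg_of_add_eq_zero_right h
    have hK : IsFieldSubalgebra 2 K := by
      refine ⟨?_, ?_, ?_⟩
      · rintro _ ⟨a, b, rfl⟩ _ ⟨c, d, rfl⟩
        rw [hmul, hmul]
        congr 2 <;> ring
      · rintro _ ⟨a, b, rfl⟩ hne
        have hN : a * a - b * b * s ≠ 0 := by
          intro h0
          by_cases hb : b = 0
          · subst hb
            rw [zero_mul, zero_mul, sub_zero, mul_self_eq_zero] at h0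
            exact hne (by rw [h0, zero_smul, zero_smul, add_zero])
          · exact hsq ⟨a / b, by rw [div_mul_div_comm, div_eq_iff (mul_ne_zero hb hb)]; linear_combination h0⟩
        refine ⟨(a / (a * a - b * b * s)) • 1 + (-b / (a * a - b * b * s)) • Z', ⟨_, _, rfl⟩, ?_⟩
        rw [hmul, show a * (a / (a * a - b * b * s)) + b * (-b / (a * a - b * b * s)) * s =
          (a * a - b * b * s) / (a * a - b * b * s) by ring, div_self hN,
          show a * (-b / (a * a - b * b * s)) + b * (a / (a * a - b * b * s)) = 0 by ring, zero_smul, add_zero, one_smul]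
      · let L : F × F →ₗ[F] K :=
          { toFun := fun p => ⟨p.1 • 1 + p.2 • Z', p.1, p.2, rfl⟩
            map_add' := fun p q => Subtype.ext (by
              show (p.1 + q.1) • (1 : Matrix ι ι F) + (p.2 + q.2) • Z' = _ + _
              module)
            map_smul' := fun c p => Subtype.ext (by
              show (c * p.1) • (1 : Matrix ι ι F) + (c * p.2) • Z' = c • _
              module) }
        have hL : Function.Bijective L := by
          refine ⟨fun p q h => ?_, fun ⟨x, a, b, hx⟩ => ⟨(a, b), Subtype.ext hx.symm⟩⟩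
          have h' : p.1 • (1 : Matrix ι ι F) + p.2 • Z' = q.1 • 1 + q.2 • Z' := congrArg Subtype.val h
          obtain ⟨h1, h2'⟩ := huniq (p.1 - q.1) (p.2 - q.2) (by rw [← sub_eq_zero.2 h']; module)
          exact Prod.ext (sub_eq_zero.1 h1) (sub_eq_zero.1 h2')
        rw [← (LinearEquiv.ofBijective L hL).finrank_eq, Module.finrank_prod, Module.finrank_self]
    have hfwd : ∀ g ∈ H, ∀ k ∈ K, (g : Matrix ι ι F) * k * ((g⁻¹ : GL ι F) : Matrix ι ι F) ∈ K := by
      rintro g hg _ ⟨a, b, rfl⟩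
      obtain ⟨c, hgc, -⟩ := hscale g hg
      refine ⟨a, b * c, ?_⟩
      rw [mul_add, Matrix.mul_smul, Matrix.mul_smul, hgc, mul_one, add_mul, Matrix.smul_mul, Matrix.smul_mul,
        Matrix.smul_mul, mul_assoc, Units.mul_inv, mul_one, smul_smul]
    have hadjK : ∀ a b : F, adjQ Q (a • 1 + b • Z') = a • 1 + (-b) • Z' := fun a b => by
      rw [adjQ_add, adjQ_smul, adjQ_smul, adjQ_one hQ, hadj, smul_neg, neg_smul]
    refine ⟨K, hK, adjointClosed_of_adjQ hQ (fun k hk => ?_), fun hsa => ?_, fun k hk => ?_,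
      fun g hg k => ⟨hfwd g hg k, fun hk => ?_⟩⟩
    · obtain ⟨a, b, rfl⟩ := hk
      exact ⟨a, -b, hadjK a b⟩
    · have h := (selfAdjoint_iff hQ).1 hsa Z' ⟨0, 1, by simp⟩
      rw [hadj, neg_eq_iff_add_eq_zero, ← two_smul F Z', smul_eq_zero] at h
      exact hnsc 0 (by rw [zero_smul]; exact h.resolve_left h2)
    · obtain ⟨a, b, rfl⟩ := hk
      refine ⟨a * a - b * b * s, fun v => ?_⟩
      have h1 : adjQ Q (a • (1 : Matrix ι ι F) + b • Z') * (a • 1 + b • Z') = (a * a - b * b * s) • 1 := by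
        rw [hadjK, hmul, show a * b + -b * a = 0 by ring, zero_smul, add_zero]
        congr 1
        ring
      rw [apply_eq_half_polar h2, apply_eq_half_polar h2, polar_adjQ hQ, Matrix.mulVec_mulVec, h1, Matrix.smul_mulVec,
        Matrix.one_mulVec, polar_smul_right', mul_div_assoc]
    · have := hfwd g⁻¹ (H.inv_mem hg) _ hk
      rwa [inv_inv, ← mul_assoc, ← mul_assoc, Units.inv_mul, one_mul, mul_assoc, Units.inv_mul, mul_one] at this

/-- Over two elements a tensor factor of dimension two gives a field with four elements. -/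
theorem field_two_of_tensor {k : ℕ} (hk : 0 < k) (hF : ∀ a : F, a = 0 ∨ a = 1) {H : Subgroup (GL ι F)}
    {e : ι ≃ Fin 2 × Fin k} {P : GL ι F} (hle : H ≤ tensorProductSubgroup 2 k e P) :
    ∃ K : Subalgebra F (Matrix ι ι F), IsFieldSubalgebra 2 K ∧ H ≤ subalgebraNormalizer K := by
  classical
  let C : Matrix (Fin 2) (Fin 2) F := !![1, 1; 1, 0]
  have h2 : (2 : F) = 0 := by
    rcases hF 2 with h | h
    · exact h
    · exact absurd (show (1 : F) = 0 by linear_combination h) one_ne_zero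
  have hC : C * C = C + 1 := by
    ext i j
    fin_cases i <;> fin_cases j <;> simp [C, Matrix.mul_apply, Fin.sum_univ_two]
  obtain ⟨C', hC'⟩ := coord_surjective e P (C ⊗ₖ (1 : Matrix (Fin k) (Fin k) F))
  haveI : Nonempty ι := ⟨e.symm (0, ⟨0, hk⟩)⟩
  have hadd : ∀ A B : Matrix ι ι F, coord e P (A + B) = coord e P A + coord e P B := fun A B => by
    ext a b
    simp [coord, mul_add, add_mul]
  have hC'C' : C' * C' = C' + 1 := coord_injective e P (by
    rw [coord_mul, hC', ← Matrix.mul_kronecker_mul, hC, one_mul, hadd, hC', coord_one, Matrix.add_kronecker,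
      Matrix.one_kronecker_one])
  have hmul : ∀ a b c d : F, (a • (1 : Matrix ι ι F) + b • C') * (c • 1 + d • C') =
      (a * c + b * d) • 1 + (a * d + b * c + b * d) • C' := by
    intro a b c d
    rw [add_mul, mul_add, mul_add, Matrix.smul_mul, Matrix.smul_mul, Matrix.smul_mul, Matrix.smul_mul,
      Matrix.mul_smul, Matrix.mul_smul, Matrix.mul_smul, Matrix.mul_smul, one_mul, one_mul, mul_one, hC'C']
    module
  let K : Subalgebra F (Matrix ι ι F) :=
    { carrier := {x | ∃ a b : F, x = a • 1 + b • C'}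
      mul_mem' := by
        rintro _ _ ⟨a, b, rfl⟩ ⟨c, d, rfl⟩
        exact ⟨_, _, hmul a b c d⟩
      one_mem' := ⟨1, 0, by simp⟩
      add_mem' := by
        rintro _ _ ⟨a, b, rfl⟩ ⟨c, d, rfl⟩
        exact ⟨a + c, b + d, by module⟩
      zero_mem' := ⟨0, 0, by simp⟩
      algebraMap_mem' := fun c => ⟨c, 0, by rw [Algebra.algebraMap_eq_smul_one, zero_smul, add_zero]⟩ }
  have huniq : ∀ a b : F, a • (1 : Matrix ι ι F) + b • C' = 0 → a = 0 ∧ b = 0 := by
    intro a b h
    have h1 := congrFun (congrFun (congrArg (coord e P) h) (0, ⟨0, hk⟩)) (1, ⟨0, hk⟩)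
    have h3 := congrFun (congrFun (congrArg (coord e P) h) (1, ⟨0, hk⟩)) (1, ⟨0, hk⟩)
    rw [hadd, coord_smul, coord_smul, coord_one, hC'] at h1 h3
    simp [coord, C, Matrix.one_apply] at h1 h3
    exact ⟨h3, h1⟩
  have hK : IsFieldSubalgebra 2 K := by
    refine ⟨?_, ?_, ?_⟩
    · rintro _ ⟨a, b, rfl⟩ _ ⟨c, d, rfl⟩
      rw [hmul, hmul]
      congr 2 <;> ring
    · rintro _ ⟨a, b, rfl⟩ hne
      refine ⟨(a + b) • 1 + b • C', ⟨_, _, rfl⟩, ?_⟩
      have hab : a * a + a * b + b * b = 1 := by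
        rcases hF a with rfl | rfl <;> rcases hF b with rfl | rfl
        · exact absurd (by simp) hne
        · ring
        · ring
        · linear_combination h2
      rw [hmul, show a * (a + b) + b * b = 1 by linear_combination hab,
        show a * b + b * (a + b) + b * b = 0 by linear_combination (a * b + b * b) * h2, one_smul, zero_smul,
        add_zero]
    · let L : F × F →ₗ[F] K :=
        { toFun := fun p => ⟨p.1 • 1 + p.2 • C', p.1, p.2, rfl⟩
          map_add' := fun p q => Subtype.ext (by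
            show (p.1 + q.1) • (1 : Matrix ι ι F) + (p.2 + q.2) • C' = _ + _
            module)
          map_smul' := fun c p => Subtype.ext (by
            show (c * p.1) • (1 : Matrix ι ι F) + (c * p.2) • C' = c • _
            module) }
      have hL : Function.Bijective L := by
        refine ⟨fun p q h => ?_, fun ⟨x, a, b, hx⟩ => ⟨(a, b), Subtype.ext hx.symm⟩⟩
        have h' : p.1 • (1 : Matrix ι ι F) + p.2 • C' = q.1 • 1 + q.2 • C' := congrArg Subtype.val h
        obtain ⟨h1, h3⟩ := huniq (p.1 - q.1) (p.2 - q.2) (by rw [← sub_eq_zero.2 h']; module)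
        exact Prod.ext (sub_eq_zero.1 h1) (sub_eq_zero.1 h3)
      rw [← (LinearEquiv.ofBijective L hL).finrank_eq, Module.finrank_prod, Module.finrank_self]
  have hsub : ∀ (a : GL (Fin 2) F), ∃ x y : F,
      (a : Matrix (Fin 2) (Fin 2) F) * C = (x • 1 + y • C) * (a : Matrix (Fin 2) (Fin 2) F) := by
    intro a
    set D := (a : Matrix (Fin 2) (Fin 2) F) * C * ((a⁻¹ : GL (Fin 2) F) : Matrix (Fin 2) (Fin 2) F) with hD
    have htr : D 0 0 + D 1 1 = 1 := by
      have h : D.trace = C.trace := by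
        rw [hD, Matrix.trace_mul_cycle, Units.inv_mul, one_mul]
      rw [Matrix.trace_fin_two, Matrix.trace_fin_two] at h
      simpa [C] using h
    have hdt : D 0 0 * D 1 1 - D 0 1 * D 1 0 = -1 := by
      have h : D.det = C.det := by
        rw [hD, Matrix.det_mul, Matrix.det_mul, mul_right_comm, ← Matrix.det_mul, Units.mul_inv, Matrix.det_one,
          one_mul]
      rw [Matrix.det_fin_two, Matrix.det_fin_two] at h
      simpa [C] using h
    have hprod : D 0 0 * D 1 1 = 0 := by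
      rcases hF (D 0 0) with h | h
      · rw [h, zero_mul]
      · rw [h] at htr ⊢
        linear_combination htr
    have hoff : D 0 1 = 1 ∧ D 1 0 = 1 := by
      rcases hF (D 0 1) with h | h <;> rcases hF (D 1 0) with h' | h' <;> rw [h, h', hprod] at hdt <;>
        simp [h, h'] at hdt ⊢
    refine ⟨D 1 1, 1, ?_⟩
    have hDx : D 1 1 • (1 : Matrix (Fin 2) (Fin 2) F) + (1 : F) • C = D := by
      ext i j
      fin_cases i <;> fin_cases j <;> simp [C, hoff]
      linear_combination -htr + D 1 1 * h2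
    rw [hDx, hD, mul_assoc _ ((a⁻¹ : GL (Fin 2) F) : Matrix (Fin 2) (Fin 2) F), Units.inv_mul, mul_one]
  have hfwd : ∀ g ∈ H, ∀ z ∈ K, (g : Matrix ι ι F) * z * ((g⁻¹ : GL ι F) : Matrix ι ι F) ∈ K := by
    rintro g hg _ ⟨a', b', rfl⟩
    obtain ⟨a, b, hab⟩ := (mem_tensorProductSubgroup_iff e P g).1 (hle hg)
    obtain ⟨x, y, hxy⟩ := hsub a
    have hgC : (g : Matrix ι ι F) * C' = (x • 1 + y • C') * (g : Matrix ι ι F) := coord_injective e P (by
      rw [coord_mul, coord_mul, hadd, coord_smul, coord_smul, coord_one, hC', hab, ← Matrix.mul_kronecker_mul, hxy,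
        mul_one, ← Matrix.smul_kronecker, ← Matrix.one_kronecker_one (m := Fin 2) (n := Fin k) (α := F),
        ← Matrix.smul_kronecker, ← Matrix.add_kronecker, ← Matrix.mul_kronecker_mul, one_mul])
    refine ⟨a' + b' * x, b' * y, ?_⟩
    rw [mul_add, Matrix.mul_smul, Matrix.mul_smul, hgC, mul_one, add_mul, Matrix.smul_mul, Matrix.smul_mul,
      mul_assoc (x • (1 : Matrix ι ι F) + y • C'), Units.mul_inv, mul_one]
    module
  refine ⟨K, hK, fun g hg z => ⟨hfwd g hg z, fun hz => ?_⟩⟩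
  have := hfwd g⁻¹ (H.inv_mem hg) _ hz
  rwa [inv_inv, ← mul_assoc, ← mul_assoc, Units.inv_mul, one_mul, mul_assoc, Units.inv_mul, mul_one] at this

/-- A factor of dimension four with the tensor square of the alternating plane splits off a plane. -/
theorem tensor_three_four (h2 : (2 : F) ≠ 0) {H : Subgroup (GL ι F)}
    (hH : ∀ g ∈ H, ∀ v, Q ((g : Matrix ι ι F) *ᵥ v) = Q v) (hdet1 : ∀ g ∈ H, (g : Matrix ι ι F).det = 1)
    {e : ι ≃ Fin 3 × Fin 4} {P : GL ι F} (hle : H ≤ tensorProductSubgroup 3 4 e P)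
    {X : Matrix (Fin 3) (Fin 3) F} {Y : Matrix (Fin 4) (Fin 4) F} (hG : orGram Q e P = X ⊗ₖ Y) (hXu : IsUnit X)
    (hYu : IsUnit Y) (hX : Xᵀ = X) (hY : Yᵀ = Y) (hsq : IsSquare Y.det) :
    ∃ (e' : ι ≃ Fin 2 × Fin 6) (P' : GL ι F) (Z : Matrix (Fin 6) (Fin 6) F), IsUnit Z ∧ Zᵀ = -Z ∧
      orGram Q e' P' = symJ F ⊗ₖ Z ∧ H ≤ tensorProductSubgroup 2 6 e' P' := by
  classical
  let φ : Fin 4 ≃ Fin 2 × Fin 2 := (finProdFinEquiv (m := 2) (n := 2)).symm
  let J : Matrix (Fin 4) (Fin 4) F := (symJ F ⊗ₖ symJ F).submatrix φ φ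
  have hJdet : (symJ F).det = 1 := by simp [symJ, Matrix.det_fin_two]
  have hJu' : IsUnit (symJ F) := (Matrix.isUnit_iff_isUnit_det _).2 (by rw [hJdet]; exact isUnit_one)
  have hJdet' : J.det = 1 := by
    show ((symJ F ⊗ₖ symJ F).submatrix φ φ).det = 1
    rw [Matrix.det_submatrix_equiv_self, Matrix.det_kronecker, hJdet, one_pow, one_mul]
  have hJu : IsUnit J := (Matrix.isUnit_iff_isUnit_det _).2 (by rw [hJdet']; exact isUnit_one)
  have hJt : (symJ F)ᵀ = -symJ F := by
    ext i j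
    fin_cases i <;> fin_cases j <;> simp [symJ]
  have hJs : Jᵀ = J := by
    show ((symJ F ⊗ₖ symJ F).submatrix φ φ)ᵀ = (symJ F ⊗ₖ symJ F).submatrix φ φ
    rw [Matrix.transpose_submatrix, ← Matrix.kroneckerMap_transpose, hJt]
    congr 1
    ext ⟨a, b⟩ ⟨c, d⟩
    simp [Matrix.kronecker_apply]
  obtain ⟨M, hM⟩ := exists_congr_of_det h2 (by norm_num) hJu hYu hJs hY (by rw [hJdet', one_mul]; exact hsq)
  let K : GL (Fin 3 × Fin 4) F := Matrix.GeneralLinearGroup.mkOfDetNeZero
    ((1 : Matrix (Fin 3) (Fin 3) F) ⊗ₖ ((M⁻¹ : GL (Fin 4) F) : Matrix (Fin 4) (Fin 4) F)) (by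
      rw [Matrix.det_kronecker, Matrix.det_one, one_pow, one_mul]
      exact pow_ne_zero _ ((M⁻¹).isUnit.map Matrix.detMonoidHom).ne_zero)
  set P₁ := P * glReindex (F := F) e.symm K with hP₁
  have hK : (K : Matrix (Fin 3 × Fin 4) (Fin 3 × Fin 4) F) =
      (1 : Matrix (Fin 3) (Fin 3) F) ⊗ₖ ((M⁻¹ : GL (Fin 4) F) : Matrix (Fin 4) (Fin 4) F) := rfl
  have hG₁ : orGram Q e P₁ = X ⊗ₖ J := by
    rw [hP₁, orGram_mul_reindex, hG, hK, ← Matrix.kroneckerMap_transpose, ← Matrix.mul_kronecker_mul,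
      ← Matrix.mul_kronecker_mul, Matrix.transpose_one, one_mul, mul_one, hM, ← mul_assoc, ← mul_assoc,
      ← Matrix.transpose_mul, Units.mul_inv, Matrix.transpose_one, one_mul, mul_assoc, Units.mul_inv, mul_one]
  have hle₁ : H ≤ tensorProductSubgroup 3 4 e P₁ := by
    refine hle.trans (le_of_eq (map_conj_eq_of_mem (Subgroup.mem_map_of_mem (glReindex (F := F) e.symm).toMonoidHom
      (show K ∈ kroneckerSubgroup 3 4 F from ⟨1, M⁻¹, by rw [hK, Units.val_one]⟩))).symm)
  -- regrouping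
  let f : Fin 3 × Fin 4 ≃ Fin 2 × Fin 6 :=
    ((Equiv.refl (Fin 3)).prodCongr φ).trans
      (((Equiv.prodAssoc (Fin 3) (Fin 2) (Fin 2)).symm.trans (Equiv.prodComm _ _)).trans
        ((Equiv.refl (Fin 2)).prodCongr (finProdFinEquiv (m := 3) (n := 2))))
  have hf : ∀ p z, f.symm (p, finProdFinEquiv z) = (z.1, φ.symm (z.2, p)) := by
    intro p z
    rw [Equiv.symm_apply_eq]
    simp [f]
  let Z : Matrix (Fin 6) (Fin 6) F := (X ⊗ₖ symJ F).submatrix (finProdFinEquiv (m := 3) (n := 2)).symm (finProdFinEquiv (m := 3) (n := 2)).symm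
  have hZs : Zᵀ = -Z := by
    ext a b
    have h1 : ∀ i j, X j i = X i j := fun i j => congrFun (congrFun hX i) j
    have h3 : ∀ i j, symJ F j i = -symJ F i j := fun i j => congrFun (congrFun hJt i) j
    obtain ⟨⟨i, r⟩, rfl⟩ := (finProdFinEquiv (m := 3) (n := 2)).surjective a
    obtain ⟨⟨i', r'⟩, rfl⟩ := (finProdFinEquiv (m := 3) (n := 2)).surjective b
    show (X ⊗ₖ symJ F) _ _ = -(X ⊗ₖ symJ F) _ _
    simp only [Equiv.symm_apply_apply]
    show X i' i * symJ F r' r = -(X i i' * symJ F r r')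
    rw [h1 i i', h3 r r']
    ring
  have hZu : IsUnit Z := by
    rw [Matrix.isUnit_iff_isUnit_det]
    show IsUnit ((X ⊗ₖ symJ F).submatrix _ _).det
    rw [Matrix.det_submatrix_equiv_self, Matrix.det_kronecker, hJdet, one_pow, mul_one]
    exact ((Matrix.isUnit_iff_isUnit_det _).1 hXu).pow _
  refine ⟨e.trans f, P₁, Z, hZu, hZs, ?_, fun g hg => ?_⟩
  · rw [orGram_reindex, hG₁]
    ext ⟨p, z⟩ ⟨p', z'⟩
    obtain ⟨⟨i, r⟩, rfl⟩ := (finProdFinEquiv (m := 3) (n := 2)).surjective z
    obtain ⟨⟨i', r'⟩, rfl⟩ := (finProdFinEquiv (m := 3) (n := 2)).surjective z'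
    simp only [Matrix.submatrix_apply, hf, Matrix.kronecker_apply, Z, J, Equiv.symm_apply_apply,
      Equiv.apply_symm_apply]
    ring
  obtain ⟨a, b, hab⟩ := (mem_tensorProductSubgroup_iff e P₁ g).1 (hle₁ hg)
  have hfix := orGram_fix (Q := Q) e P₁ (hH g hg)
  rw [hab, hG₁, ← Matrix.kroneckerMap_transpose, ← Matrix.mul_kronecker_mul, ← Matrix.mul_kronecker_mul] at hfix
  obtain ⟨μ, hμ⟩ := exists_scale (by norm_num) hG₁ hXu (hH g hg) hab
  set A := (a : Matrix (Fin 3) (Fin 3) F) with hA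
  set B := (b : Matrix (Fin 4) (Fin 4) F) with hB
  rw [hμ, Matrix.kronecker_smul, ← Matrix.smul_kronecker] at hfix
  have hAX : μ • (Aᵀ * X * A) = X := by
    obtain ⟨r, s, hrs⟩ : ∃ r s, J r s ≠ 0 := by
      by_contra! h0
      exact hJu.ne_zero (Matrix.ext h0)
    ext i j
    exact mul_right_cancel₀ hrs (congrFun (congrFun hfix (i, r)) (j, s))
  have hX0 : X.det ≠ 0 := ((Matrix.isUnit_iff_isUnit_det _).1 hXu).ne_zero
  have hA0 : A.det ≠ 0 := (a.isUnit.map Matrix.detMonoidHom).ne_zero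
  have hμ3 : μ ^ 3 * (A.det * A.det) = 1 := by
    have h := congrArg Matrix.det hAX
    rw [Matrix.det_smul, Matrix.det_mul, Matrix.det_mul, Matrix.det_transpose, Fintype.card_fin] at h
    exact mul_right_cancel₀ hX0 (by linear_combination h)
  set ν := (μ * A.det)⁻¹ with hν
  have hμ0 : μ ≠ 0 := fun e0 => by rw [e0] at hμ3; norm_num at hμ3
  have hν0 : ν ≠ 0 := inv_ne_zero (mul_ne_zero hμ0 hA0)
  have hνμ : ν * ν = μ := by
    rw [hν, ← mul_inv, inv_eq_of_mul_eq_one_left]
    linear_combination hμ3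
  set B' := ν⁻¹ • B with hB'
  have hB'J : B'ᵀ * J * B' = J := by
    rw [hB', Matrix.transpose_smul, Matrix.smul_mul, Matrix.smul_mul, Matrix.mul_smul, smul_smul, hμ, smul_smul,
      ← mul_inv, hνμ, inv_mul_cancel₀ hμ0, one_smul]
  have hA' : (ν • A).det * (ν • A).det = 1 := by
    rw [Matrix.det_smul, Fintype.card_fin]
    calc _ = (ν * ν) ^ 3 * (A.det * A.det) := by ring
      _ = 1 := by rw [hνμ, hμ3]
  have hB'd : B'.det = 1 := by
    have hd := hdet1 g hg
    have hc : (coord e P₁ (g : Matrix ι ι F)).det = 1 := by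
      rw [coord, Matrix.det_submatrix_equiv_self, Matrix.det_mul, Matrix.det_mul, hd, mul_one, ← Matrix.det_mul,
        Units.inv_mul, Matrix.det_one]
    have hAB : A ⊗ₖ B = (ν • A) ⊗ₖ B' := by
      rw [hB', Matrix.smul_kronecker, Matrix.kronecker_smul, smul_smul, mul_inv_cancel₀ hν0, one_smul]
    rw [hab, hAB, Matrix.det_kronecker, Fintype.card_fin, Fintype.card_fin] at hc
    have hsqB : B'.det * B'.det = 1 := by
      have h := congrArg Matrix.det hB'J
      rw [Matrix.det_mul, Matrix.det_mul, Matrix.det_transpose, hJdet', mul_one] at h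
      exact h
    linear_combination hc - B'.det ^ 3 * ((ν • A).det ^ 2 + 1) * hA' - B'.det * hsqB
  set b₀ : Matrix (Fin 2 × Fin 2) (Fin 2 × Fin 2) F := B'.submatrix φ.symm φ.symm with hb₀
  have hJ0 : symJ F ⊗ₖ symJ F = J.submatrix φ.symm φ.symm := by
    simp [J, Matrix.submatrix_submatrix]
  obtain ⟨c, d, hcd⟩ := exists_kron_of_isometry h2 (b := b₀)
    (by rw [hJ0, hb₀, Matrix.transpose_submatrix, Matrix.submatrix_mul_equiv, Matrix.submatrix_mul_equiv, hB'J])
    (by rw [hb₀, Matrix.det_submatrix_equiv_self, hB'd])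
  have hdets : c.det ≠ 0 ∧ d.det ≠ 0 := by
    have h := congrArg Matrix.det hcd
    rw [hb₀, Matrix.det_submatrix_equiv_self, hB'd, Matrix.det_kronecker, Fintype.card_fin] at h
    exact ⟨fun e0 => by rw [e0] at h; norm_num at h, fun e0 => by rw [e0] at h; norm_num at h⟩
  let W : Matrix (Fin 6) (Fin 6) F := ((ν • A) ⊗ₖ c).submatrix (finProdFinEquiv (m := 3) (n := 2)).symm (finProdFinEquiv (m := 3) (n := 2)).symm
  have hW : W.det ≠ 0 := by
    show (((ν • A) ⊗ₖ c).submatrix _ _).det ≠ 0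
    rw [Matrix.det_submatrix_equiv_self, Matrix.det_kronecker]
    exact mul_ne_zero (pow_ne_zero _ fun e0 => by rw [e0] at hA'; norm_num at hA') (pow_ne_zero _ hdets.1)
  refine (mem_tensorProductSubgroup_iff (e.trans f) P₁ g).2
    ⟨Matrix.GeneralLinearGroup.mkOfDetNeZero d hdets.2, Matrix.GeneralLinearGroup.mkOfDetNeZero W hW, ?_⟩
  rw [show coord (e.trans f) P₁ (g : Matrix ι ι F) = (coord e P₁ (g : Matrix ι ι F)).submatrix f.symm f.symm from rfl,
    hab]
  ext ⟨p, z⟩ ⟨p', z'⟩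
  obtain ⟨⟨i, r⟩, rfl⟩ := (finProdFinEquiv (m := 3) (n := 2)).surjective z
  obtain ⟨⟨i', r'⟩, rfl⟩ := (finProdFinEquiv (m := 3) (n := 2)).surjective z'
  have hbe : B' (φ.symm (r, p)) (φ.symm (r', p')) = c r r' * d p p' := congrFun (congrFun hcd (r, p)) (r', p')
  simp only [Matrix.submatrix_apply, hf, Matrix.kronecker_apply]
  show A i i' * B (φ.symm (r, p)) (φ.symm (r', p')) =
    d p p' * W (finProdFinEquiv (i, r)) (finProdFinEquiv (i', r'))
  simp only [W, Matrix.submatrix_apply, Equiv.symm_apply_apply, Matrix.kronecker_apply, Matrix.smul_apply, smul_eq_mul]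
  rw [hB', Matrix.smul_apply, smul_eq_mul, inv_mul_eq_iff_eq_mul₀ hν0] at hbe
  rw [hbe]
  ring

end CfsgLib.Geo.Asch
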