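/-
Decompositions of quadratic spaces over fields with two to five elements.
-/
import Cfsg.Agent.Lib.Geo.Asch.OrthFrames
import Cfsg.Agent.Lib.Geo.Asch.OrthTensor
import Cfsg.Agent.Lib.Geo.Asch.OrthNotLe

set_option autoImplicit false
set_option linter.unusedSectionVars false
set_option maxHeartbeats 800000

namespace CfsgLib.Geo.Asch

open Matrix Cfsg.Geo
open scoped Kronecker
open CfsgLib.Classical CfsgLib.Classical.Quad CfsgLib.Geo.OrthMax
open QuadraticMap (polar polarBilin)

variable {F : Type*} [Field F] [Fintype F] {ι : Type} [Fintype ι] [DecidableEq ι] {Q : QuadraticForm F (ι → F)}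

theorem eq_zero_or_one_of_card_two (hF : Fintype.card F = 2) (a : F) : a = 0 ∨ a = 1 := by
  by_cases ha : a = 0
  · exact Or.inl ha
  · have h := FiniteField.pow_card_sub_one_eq_one a ha
    rw [hF] at h
    exact Or.inr (by simpa using h)

theorem sq_eq_one_of_card_three (hF : Fintype.card F = 3) {a : F} (ha : a ≠ 0) : a = 1 ∨ a = -1 := by
  have h := FiniteField.pow_card_sub_one_eq_one a ha
  rw [hF] at h
  exact sq_eq_one_iff.1 (by simpa using h)

theorem three_eq_zero_of_card_three (hF : Fintype.card F = 3) : (3 : F) = 0 := by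
  have h := FiniteField.cast_card_eq_zero F
  rw [hF] at h
  simpa using h

/-- The member of a decomposition containing the image of a vector. -/
theorem exists_part {H : Subgroup (GL ι F)} (hH : ∀ g ∈ H, ∀ v, Q ((g : Matrix ι ι F) *ᵥ v) = Q v) {t : ℕ}
    {D : Fin t → Submodule F (ι → F)} (hle : H ≤ decompositionStabilizer D) {g : GL ι F} (hg : g ∈ H) :
    ∃ σ : Equiv.Perm (Fin t), ∀ k, ∀ x ∈ D k, (g : Matrix ι ι F) *ᵥ x ∈ D (σ k) ∧
      Q ((g : Matrix ι ι F) *ᵥ x) = Q x := by
  obtain ⟨σ, hσ⟩ := hle hg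
  exact ⟨σ, fun k x hx => ⟨(hσ k).le ⟨x, hx, Matrix.toLin'_apply _ _⟩, hH g hg x⟩⟩

/-- A frame inside one member gives a decomposition into lines. -/
theorem lines_of_part (h2 : (2 : F) ≠ 0) {H : Subgroup (GL ι F)}
    (hH : ∀ g ∈ H, ∀ v, Q ((g : Matrix ι ι F) *ᵥ v) = Q v) {t m : ℕ} {D : Fin t → Submodule F (ι → F)}
    (hD : IsOrthogonalMDecomposition (⇑Q) m D) (hle : H ≤ decompositionStabilizer D) (i₀ : Fin t) {c : F} (hc : c ≠ 0)
    (b : Fin m → ι → F) (hb : ∀ a, b a ∈ D i₀) (hQb : ∀ a, Q (b a) = c)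
    (horth : ∀ a a', a ≠ a' → polar Q (b a) (b a') = 0)
    (hall : ∀ x ∈ D i₀, Q x = c → ∃ a, x = b a ∨ x = -b a) :
    ∃ E : Fin (t * m) → Submodule F (ι → F), IsOrthogonalMDecomposition (⇑Q) 1 E ∧ H ≤ decompositionStabilizer E := by
  classical
  choose f hf using fun k => hD.isometric i₀ k
  let B : Fin (t * m) → ι → F := fun p =>
    ((f (finProdFinEquiv.symm p).1 ⟨b (finProdFinEquiv.symm p).2, hb _⟩ : D (finProdFinEquiv.symm p).1) : ι → F)
  have hcard := card_eq_of_mDecomposition hD.decomp.decomp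
  have htm : 2 ≤ t * m := by
    have := hD.decomp.decomp.two_le
    have := hD.decomp.decomp.pos
    calc 2 ≤ t * 1 := by omega
      _ ≤ t * m := Nat.mul_le_mul_left t this
  refine lines_of_set h2 htm hcard.symm B hc (fun p => (hf _ _).trans (hQb _)) ?_ ?_
  · intro p q hpq
    obtain ⟨⟨i, a⟩, rfl⟩ := finProdFinEquiv.surjective p
    obtain ⟨⟨j, a'⟩, rfl⟩ := finProdFinEquiv.surjective q
    have e1 : B (finProdFinEquiv (i, a)) = ((f i ⟨b a, hb a⟩ : D i) : ι → F) := by simp only [B]; rw [Equiv.symm_apply_apply]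
    have e2 : B (finProdFinEquiv (j, a')) = ((f j ⟨b a', hb a'⟩ : D j) : ι → F) := by
      simp only [B]; rw [Equiv.symm_apply_apply]
    rw [e1, e2]
    by_cases hij : i = j
    · subst hij
      have hne : a ≠ a' := fun e => hpq (by rw [e])
      rw [← horth a a' hne]
      simp only [QuadraticMap.polar, ← Submodule.coe_add, ← map_add, hf]
      rfl
    · exact hD.decomp.orthogonal i j hij _ (f i _).2 _ (f j _).2
  · intro g hg p
    obtain ⟨σ, hσ⟩ := exists_part hH hle hg
    obtain ⟨hmem, hval⟩ := hσ _ (B p) (f (finProdFinEquiv.symm p).1 _).2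
    set j := σ (finProdFinEquiv.symm p).1
    let y : D j := ⟨_, hmem⟩
    have hy : Q ((f j).symm y : ι → F) = c := by
      have h1 := hf j ((f j).symm y)
      rw [LinearEquiv.apply_symm_apply] at h1
      rw [← h1]
      exact hval.trans ((hf _ _).trans (hQb _))
    obtain ⟨a, ha⟩ := hall _ ((f j).symm y).2 hy
    refine ⟨finProdFinEquiv (j, a), ?_⟩
    have e1 : B (finProdFinEquiv (j, a)) = ((f j ⟨b a, hb a⟩ : D j) : ι → F) := by simp only [B]; rw [Equiv.symm_apply_apply]
    rw [e1]
    rcases ha with ha | ha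
    · have : (f j).symm y = ⟨b a, hb a⟩ := Subtype.ext ha
      rw [← this, LinearEquiv.apply_symm_apply]
      exact Or.inl rfl
    · have : (f j).symm y = -⟨b a, hb a⟩ := Subtype.ext ha
      have h2' : y = -(f j ⟨b a, hb a⟩) := by rw [← map_neg, ← this, LinearEquiv.apply_symm_apply]
      exact Or.inr (congrArg Subtype.val h2')

/-- A vector of given norm, unique up to sign in each member. -/
theorem exists_unique_norm {H : Subgroup (GL ι F)} (hH : ∀ g ∈ H, ∀ v, Q ((g : Matrix ι ι F) *ᵥ v) = Q v)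
    {t m : ℕ} {D : Fin t → Submodule F (ι → F)} (hD : IsOrthogonalMDecomposition (⇑Q) m D)
    (hle : H ≤ decompositionStabilizer D) (i₀ : Fin t) {c : F} (v : ι → F) (hv : v ∈ D i₀) (hQv : Q v = c)
    (hall : ∀ x ∈ D i₀, Q x = c → x = v ∨ x = -v) :
    ∃ b : Fin t → ι → F, (∀ k, b k ∈ D k ∧ Q (b k) = c) ∧
      ∀ g ∈ H, ∃ σ : Equiv.Perm (Fin t), ∀ k, (g : Matrix ι ι F) *ᵥ b k = b (σ k) ∨
        (g : Matrix ι ι F) *ᵥ b k = -b (σ k) := by
  choose f hf using fun k => hD.isometric i₀ k
  refine ⟨fun k => ((f k ⟨v, hv⟩ : D k) : ι → F), fun k => ⟨(f k _).2, (hf k _).trans hQv⟩, fun g hg => ?_⟩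
  obtain ⟨σ, hσ⟩ := exists_part hH hle hg
  refine ⟨σ, fun k => ?_⟩
  obtain ⟨hmem, hval⟩ := hσ k _ (f k ⟨v, hv⟩).2
  let y : D (σ k) := ⟨_, hmem⟩
  have hy : Q ((f (σ k)).symm y : ι → F) = c := by
    have h1 := hf (σ k) ((f (σ k)).symm y)
    rw [LinearEquiv.apply_symm_apply] at h1
    rw [← h1]
    exact hval.trans ((hf _ _).trans hQv)
  rcases hall _ ((f (σ k)).symm y).2 hy with ha | ha
  · have : (f (σ k)).symm y = ⟨v, hv⟩ := Subtype.ext ha
    left
    show ((y : D (σ k)) : ι → F) = ((f (σ k) ⟨v, hv⟩ : D (σ k)) : ι → F)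
    rw [← this, LinearEquiv.apply_symm_apply]
  · have : (f (σ k)).symm y = -⟨v, hv⟩ := Subtype.ext ha
    have h' : y = -(f (σ k) ⟨v, hv⟩) := by rw [← map_neg, ← this, LinearEquiv.apply_symm_apply]
    exact Or.inr (congrArg Subtype.val h')

/-- The vectors of norm one in a plus plane are the scaled sums of a hyperbolic pair. -/
theorem norm_one_in_plane {u w x : ι → F} (hu : Q u = 0) (hw : Q w = 0) (huw : polar Q u w = 1) {a b : F}
    (hx : x = a • u + b • w) (h1 : Q x = 1) : a * b = 1 := by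
  rw [hx, apply_add, apply_smul, apply_smul, hu, hw, QuadraticMap.polar_smul_left, QuadraticMap.polar_smul_right,
    huw] at h1
  simpa using h1

theorem apply_comb {u w : ι → F} (hu : Q u = 0) (hw : Q w = 0) (huw : polar Q u w = 1) (a b : F) :
    Q (a • u + b • w) = a * b := by
  rw [apply_add, apply_smul, apply_smul, hu, hw, QuadraticMap.polar_smul_left, QuadraticMap.polar_smul_right, huw]
  simp

theorem polar_comb {u w : ι → F} (hu : Q u = 0) (hw : Q w = 0) (huw : polar Q u w = 1) (a b c d : F) :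
    polar Q (a • u + b • w) (c • u + d • w) = a * d + b * c := by
  rw [QuadraticMap.polar_add_left, QuadraticMap.polar_add_right, QuadraticMap.polar_add_right,
    QuadraticMap.polar_smul_left, QuadraticMap.polar_smul_left, QuadraticMap.polar_smul_left,
    QuadraticMap.polar_smul_left, QuadraticMap.polar_smul_right, QuadraticMap.polar_smul_right,
    QuadraticMap.polar_smul_right, QuadraticMap.polar_smul_right, QuadraticMap.polar_comm (⇑Q) w u, huw,
    polar_self', polar_self', hu, hw]
  simp only [smul_eq_mul]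
  ring

/-- Three-dimensional members over three elements split into lines. -/
theorem lines_of_solid (hF : Fintype.card F = 3) (h2 : (2 : F) ≠ 0) (hQ : (polarBilin Q).Nondegenerate)
    {H : Subgroup (GL ι F)} (hH : ∀ g ∈ H, ∀ v, Q ((g : Matrix ι ι F) *ᵥ v) = Q v) {t : ℕ}
    {D : Fin t → Submodule F (ι → F)} (hD : IsOrthogonalMDecomposition (⇑Q) 3 D) (hle : H ≤ decompositionStabilizer D) :
    ∃ E : Fin (t * 3) → Submodule F (ι → F), IsOrthogonalMDecomposition (⇑Q) 1 E ∧ H ≤ decompositionStabilizer E := by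
  classical
  have ht := hD.decomp.decomp.two_le
  let i₀ : Fin t := ⟨0, by omega⟩
  let b₀ := Module.finBasisOfFinrankEq F (D i₀) (hD.decomp.decomp.finrank_eq i₀)
  let Y : Matrix (Fin 3) (Fin 3) F := Matrix.of fun a c => polar Q (b₀ a : ι → F) (b₀ c : ι → F)
  have hYs : Yᵀ = Y := by ext a c; exact QuadraticMap.polar_comm _ _ _
  have hYu : IsUnit Y := by
    have h := (LinearMap.BilinForm.nondegenerate_iff_det_ne_zero b₀).1 (restrict_nondeg (hD.decomp.nondegenerate i₀))
    rw [Matrix.isUnit_iff_isUnit_det, isUnit_iff_ne_zero]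
    convert h using 3
    ext a c
    simp only [Y, Matrix.of_apply, LinearMap.BilinForm.toMatrix_apply]
    exact (polar_comp_subtype (D i₀) (b₀ a) (b₀ c)).symm
  obtain ⟨μ, M, hμ, hM⟩ := exists_congr_odd h2 (by decide) hYu isUnit_one hYs Matrix.transpose_one
  let p : Fin 3 → D i₀ := fun a => ∑ c, (M : Matrix (Fin 3) (Fin 3) F) c a • b₀ c
  have hp : ∀ a a', polar Q (p a : ι → F) (p a' : ι → F) =
      ((M : Matrix (Fin 3) (Fin 3) F)ᵀ * Y * (M : Matrix (Fin 3) (Fin 3) F)) a a' := by
    intro a a'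
    show polarBilin Q _ _ = _
    simp only [p, Submodule.coe_sum, Submodule.coe_smul, map_sum, map_smul, LinearMap.coe_sum, Finset.sum_apply,
      LinearMap.smul_apply, smul_eq_mul, Matrix.mul_apply, Matrix.transpose_apply, Finset.sum_mul]
    refine Finset.sum_congr rfl fun x _ => ?_
    rw [Finset.mul_sum]
    refine Finset.sum_congr rfl fun y _ => ?_
    show _ * (_ * polar Q _ _) = _
    simp [Y, QuadraticMap.polar_comm]
    ring
  have hMM : ∀ a a', μ * polar Q (p a : ι → F) (p a' : ι → F) = if a = a' then 1 else 0 := by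
    intro a a'
    rw [hp]
    exact (congrFun (congrFun hM a) a').symm.trans (Matrix.one_apply ..)
  have hdiag : ∀ a, polar Q (p a : ι → F) (p a : ι → F) = μ⁻¹ := fun a => by
    have := hMM a a
    rw [if_pos rfl] at this
    exact eq_inv_of_mul_eq_one_right this
  have hoff : ∀ a a', a ≠ a' → polar Q (p a : ι → F) (p a' : ι → F) = 0 := fun a a' h => by
    have := hMM a a'
    rw [if_neg h] at this
    exact (mul_eq_zero.1 this).resolve_left hμ
  have hli : LinearIndependent F p := by
    refine Fintype.linearIndependent_iff.2 fun s hs a => ?_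
    have h := congrArg (fun v : D i₀ => polarBilin Q (p a : ι → F) (v : ι → F)) hs
    simp only [Submodule.coe_sum, Submodule.coe_smul, map_sum, map_smul, ZeroMemClass.coe_zero, map_zero] at h
    rw [Finset.sum_eq_single a (fun j _ hj => by
      show s j • polar Q _ _ = 0
      rw [hoff a j (Ne.symm hj), smul_zero]) (by simp)] at h
    refine (mul_eq_zero.1 h).resolve_right ?_
    show polar Q _ _ ≠ 0
    rw [hdiag]
    exact inv_ne_zero hμ
  let B := basisOfLinearIndependentOfCardEqFinrank hli (by rw [Fintype.card_fin, hD.decomp.decomp.finrank_eq])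
  have h3 := three_eq_zero_of_card_three hF
  refine lines_of_part h2 hH hD hle i₀ (c := μ⁻¹ / 2) (div_ne_zero (inv_ne_zero hμ) h2) (fun a => (p a : ι → F))
    (fun a => (p a).2) (fun a => by rw [apply_eq_half_polar h2, hdiag]) hoff fun x hx hQx => ?_
  obtain ⟨s, hs⟩ : ∃ s : Fin 3 → F, x = s 0 • (p 0 : ι → F) + s 1 • (p 1 : ι → F) + s 2 • (p 2 : ι → F) := by
    refine ⟨B.repr ⟨x, hx⟩, ?_⟩
    have h := congrArg (D i₀).subtype (B.sum_repr ⟨x, hx⟩)
    simp only [map_sum, map_smul, Submodule.subtype_apply, Fin.sum_univ_three, B,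
      coe_basisOfLinearIndependentOfCardEqFinrank] at h
    exact h.symm
  have hval : Q x = μ⁻¹ / 2 * (s 0 * s 0 + s 1 * s 1 + s 2 * s 2) := by
    have hq : ∀ a, Q (p a : ι → F) = μ⁻¹ / 2 := fun a => by rw [apply_eq_half_polar h2, hdiag]
    rw [hs, apply_add, apply_add, apply_smul, apply_smul, apply_smul, hq, hq, hq, QuadraticMap.polar_add_left,
      QuadraticMap.polar_smul_left, QuadraticMap.polar_smul_left, QuadraticMap.polar_smul_left,
      QuadraticMap.polar_smul_right, QuadraticMap.polar_smul_right, QuadraticMap.polar_smul_right,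
      hoff 0 1 (by decide), hoff 0 2 (by decide), hoff 1 2 (by decide)]
    simp only [smul_eq_mul]
    ring
  rw [hQx] at hval
  have hsum : s 0 * s 0 + s 1 * s 1 + s 2 * s 2 = 1 :=
    mul_left_cancel₀ (div_ne_zero (inv_ne_zero hμ) h2) (by rw [← hval, mul_one])
  have hcase : ∀ a, s a = 0 ∨ s a * s a = 1 := fun a => by
    by_cases h : s a = 0
    · exact Or.inl h
    · rcases sq_eq_one_of_card_three hF h with e | e <;> rw [e] <;> simp
  have hsgn : ∀ a, s a * s a = 1 → s a = 1 ∨ s a = -1 := fun a h => mul_self_eq_one_iff.1 h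
  rcases hcase 0 with e0 | e0 <;> rcases hcase 1 with e1 | e1 <;> rcases hcase 2 with e2 | e2
  · rw [e0, e1, e2] at hsum; norm_num at hsum
  · refine ⟨2, ?_⟩
    rcases hsgn 2 e2 with e | e <;> simp [hs, e0, e1, e]
  · refine ⟨1, ?_⟩
    rcases hsgn 1 e1 with e | e <;> simp [hs, e0, e2, e]
  · rw [e0, e1, e2] at hsum; exact absurd (show (1 : F) = 0 by linear_combination hsum) one_ne_zero
  · refine ⟨0, ?_⟩
    rcases hsgn 0 e0 with e | e <;> simp [hs, e1, e2, e]
  · rw [e0, e1, e2] at hsum; exact absurd (show (1 : F) = 0 by linear_combination hsum) one_ne_zero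
  · rw [e0, e1, e2] at hsum; exact absurd (show (1 : F) = 0 by linear_combination hsum) one_ne_zero
  · rw [e0, e1, e2] at hsum; exact absurd (show (1 : F) = 0 by linear_combination h3 - hsum) one_ne_zero

/-- Minus planes over three elements split into lines. -/
theorem lines_of_minus_planes (hF : Fintype.card F = 3) (h2 : (2 : F) ≠ 0) {H : Subgroup (GL ι F)}
    (hH : ∀ g ∈ H, ∀ v, Q ((g : Matrix ι ι F) *ᵥ v) = Q v) {t : ℕ} {D : Fin t → Submodule F (ι → F)}
    (hD : IsOrthogonalMDecomposition (⇑Q) 2 D) (hle : H ≤ decompositionStabilizer D) (i₀ : Fin t)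
    (hminus : ¬ IsPlusTypeOn (⇑Q) (D i₀)) :
    ∃ E : Fin (t * 2) → Submodule F (ι → F), IsOrthogonalMDecomposition (⇑Q) 1 E ∧ H ≤ decompositionStabilizer E := by
  classical
  have hd := hD.decomp.decomp.finrank_eq i₀
  have hani : ∀ z ∈ D i₀, Q z = 0 → z = 0 := by
    intro z hz hQz
    by_contra hz0
    refine hminus ⟨Submodule.span F {z}, (Submodule.span_singleton_le_iff_mem _ _).2 hz, fun v hv => ?_, ?_⟩
    · obtain ⟨a, rfl⟩ := Submodule.mem_span_singleton.1 hv
      rw [apply_smul, hQz, mul_zero]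
    · rw [finrank_span_singleton hz0, hd]
  obtain ⟨x, hx, hx0⟩ := Submodule.exists_mem_ne_zero_of_ne_bot (show D i₀ ≠ ⊥ from fun e => by
    rw [e, finrank_bot] at hd; exact absurd hd (by norm_num))
  have hQx : Q x ≠ 0 := fun e => hx0 (hani x hx e)
  obtain ⟨z, hz, hzx⟩ : ∃ z ∈ D i₀, z ∉ Submodule.span F {x} := by
    by_contra! h
    have := Submodule.finrank_mono (show D i₀ ≤ Submodule.span F {x} from h)
    rw [finrank_span_singleton hx0, hd] at this
    omega
  set y := z - (polar Q x z / polar Q x x) • x with hy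
  have hxx : polar Q x x ≠ 0 := by rw [polar_self']; exact mul_ne_zero h2 hQx
  have hxy : polar Q x y = 0 := by
    rw [hy, sub_eq_add_neg, ← neg_smul, QuadraticMap.polar_add_right, QuadraticMap.polar_smul_right, smul_eq_mul,
      neg_mul, div_mul_cancel₀ _ hxx]
    ring
  have hyD : y ∈ D i₀ := (D i₀).sub_mem hz ((D i₀).smul_mem _ hx)
  have hy0 : y ≠ 0 := fun e => hzx (by
    rw [sub_eq_zero.1 (show z - (polar Q x z / polar Q x x) • x = 0 from e)]
    exact Submodule.mem_span_singleton.2 ⟨_, rfl⟩)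
  have hQy : Q y = Q x := by
    have hQy0 : Q y ≠ 0 := fun e => hy0 (hani y hyD e)
    have hsq : ∀ a : F, a ≠ 0 → a * a = 1 := fun a ha => by
      rcases sq_eq_one_of_card_three hF ha with e | e <;> rw [e] <;> simp
    by_contra hne
    have hneg : Q y = -Q x := by
      rcases sq_eq_one_of_card_three hF (div_ne_zero hQy0 hQx) with e | e
      · exact absurd ((div_eq_one_iff_eq hQx).1 e) hne
      · rw [div_eq_iff hQx] at e; rw [e]; ring
    have h0 : Q (x + y) = 0 := by rw [apply_add, hxy, hneg]; ring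
    have h' := hani _ ((D i₀).add_mem hx hyD) h0
    rw [eq_neg_of_add_eq_zero_right h', QuadraticMap.polar_neg_right] at hxy
    exact hxx (neg_eq_zero.1 hxy)
  refine lines_of_part h2 hH hD hle i₀ hQx ![x, y] ?_ ?_ ?_ fun v hv hQv => ?_
  · intro a; fin_cases a
    · exact hx
    · exact hyD
  · intro a; fin_cases a
    · rfl
    · exact hQy
  · intro a a' hne
    fin_cases a <;> fin_cases a' <;> first | exact absurd rfl hne | exact hxy | exact (QuadraticMap.polar_comm _ _ _).trans hxy
  have hspan : Submodule.span F {x, y} = D i₀ := by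
    refine Submodule.eq_of_le_of_finrank_le (Submodule.span_le.2 (by
      rintro w (rfl | rfl)
      exacts [hx, hyD])) ?_
    rw [hd]
    by_contra! hlt
    have hle1 : Submodule.span F {x} = Submodule.span F {x, y} :=
      Submodule.eq_of_le_of_finrank_le (Submodule.span_mono (by simp))
        (by rw [finrank_span_singleton hx0]; omega)
    have hyx : y ∈ Submodule.span F {x} := hle1 ▸ Submodule.subset_span (by simp)
    obtain ⟨a, ha⟩ := Submodule.mem_span_singleton.1 hyx
    rw [← ha, QuadraticMap.polar_smul_right, smul_eq_mul] at hxy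
    exact hy0 (by rw [← ha, (mul_eq_zero.1 hxy).resolve_right hxx, zero_smul])
  rw [← hspan] at hv
  obtain ⟨a, b, rfl⟩ := Submodule.mem_span_pair.1 hv
  rw [apply_add, apply_smul, apply_smul, hQy, QuadraticMap.polar_smul_left, QuadraticMap.polar_smul_right, hxy] at hQv
  simp only [smul_eq_mul, mul_zero, add_zero] at hQv
  have hab : a * a + b * b = 1 := mul_right_cancel₀ hQx (by linear_combination hQv)
  by_cases ha : a = 0
  · rw [ha, zero_mul, zero_add] at hab
    refine ⟨1, ?_⟩
    rcases mul_self_eq_one_iff.1 hab with e | e <;> simp [ha, e]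
  · have ha1 : a * a = 1 := by rcases sq_eq_one_of_card_three hF ha with e | e <;> rw [e] <;> simp
    have hb : b = 0 := mul_self_eq_zero.1 (by linear_combination hab - ha1)
    refine ⟨0, ?_⟩
    rcases mul_self_eq_one_iff.1 ha1 with e | e <;> simp [hb, e]

/-- Plus planes over five elements split into lines. -/
theorem lines_of_plus_planes (hF : Fintype.card F = 5) (h2 : (2 : F) ≠ 0) {H : Subgroup (GL ι F)}
    (hH : ∀ g ∈ H, ∀ v, Q ((g : Matrix ι ι F) *ᵥ v) = Q v) {t : ℕ} {D : Fin t → Submodule F (ι → F)}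
    (hD : IsOrthogonalMDecomposition (⇑Q) 2 D) (hle : H ≤ decompositionStabilizer D) (i₀ : Fin t)
    (hplus : IsPlusTypeOn (⇑Q) (D i₀)) :
    ∃ E : Fin (t * 2) → Submodule F (ι → F), IsOrthogonalMDecomposition (⇑Q) 1 E ∧ H ≤ decompositionStabilizer E := by
  obtain ⟨u, w, hu, hw, hqu, hqw, huw, hspan⟩ :=
    exists_hyperbolic (hD.decomp.nondegenerate i₀) (hD.decomp.decomp.finrank_eq i₀) hplus
  have h5 : (5 : F) = 0 := by
    have h := FiniteField.cast_card_eq_zero F
    rw [hF] at h
    simpa using h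
  refine lines_of_part h2 hH hD hle i₀ (one_ne_zero) ![(1 : F) • u + (1 : F) • w, (2 : F) • u + (3 : F) • w] ?_ ?_ ?_
    fun x hx hQx => ?_
  · intro a; fin_cases a <;> exact (D i₀).add_mem ((D i₀).smul_mem _ hu) ((D i₀).smul_mem _ hw)
  · intro a; fin_cases a
    · show Q ((1 : F) • u + (1 : F) • w) = 1
      rw [apply_comb hqu hqw huw, one_mul]
    · show Q ((2 : F) • u + (3 : F) • w) = 1
      rw [apply_comb hqu hqw huw]
      linear_combination h5
  · intro a a' hne
    fin_cases a <;> fin_cases a' <;> first | exact absurd rfl hne | skip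
    · show polar Q ((1 : F) • u + (1 : F) • w) ((2 : F) • u + (3 : F) • w) = 0
      rw [polar_comb hqu hqw huw]
      linear_combination h5
    · show polar Q ((2 : F) • u + (3 : F) • w) ((1 : F) • u + (1 : F) • w) = 0
      rw [polar_comb hqu hqw huw]
      linear_combination h5
  obtain ⟨a, b, hab⟩ := hspan x hx
  have h1 := norm_one_in_plane hqu hqw huw hab hQx
  have ha4 : a ^ 4 = 1 := by
    have h := FiniteField.pow_card_sub_one_eq_one a (left_ne_zero_of_mul_eq_one h1)
    rwa [hF] at h
  have hb : b = a ^ 3 := by linear_combination a ^ 3 * h1 - b * ha4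
  have hfac : (a - 1) * (a + 1) * ((a - 2) * (a + 2)) = 0 := by linear_combination ha4 - (a ^ 2 - 1) * h5
  rcases mul_eq_zero.1 hfac with h | h <;> rcases mul_eq_zero.1 h with h | h
  · refine ⟨0, Or.inl ?_⟩
    rw [sub_eq_zero] at h
    rw [hab, hb, h, one_pow]
    rfl
  · refine ⟨0, Or.inr ?_⟩
    rw [eq_neg_of_add_eq_zero_left h] at hb hab
    show x = -((1 : F) • u + (1 : F) • w)
    rw [hab, hb]
    module
  · refine ⟨1, Or.inl ?_⟩
    rw [sub_eq_zero] at h
    rw [h] at hb hab
    show x = (2 : F) • u + (3 : F) • w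
    rw [hab, hb, show (2 : F) ^ 3 = 3 by linear_combination h5]
  · refine ⟨1, Or.inr ?_⟩
    rw [eq_neg_of_add_eq_zero_left h] at hb hab
    show x = -((2 : F) • u + (3 : F) • w)
    rw [hab, hb, show (-2 : F) ^ 3 = -3 by linear_combination -h5]
    module

/-- Plus planes over three elements: the norm-one vectors span a stable non-degenerate subspace. -/
theorem stable_of_plus_planes (hF : Fintype.card F = 3) (h2 : (2 : F) ≠ 0) {H : Subgroup (GL ι F)}
    (hH : ∀ g ∈ H, ∀ v, Q ((g : Matrix ι ι F) *ᵥ v) = Q v) {t : ℕ} {D : Fin t → Submodule F (ι → F)}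
    (hD : IsOrthogonalMDecomposition (⇑Q) 2 D) (hle : H ≤ decompositionStabilizer D) (i₀ : Fin t)
    (hplus : IsPlusTypeOn (⇑Q) (D i₀)) :
    ∃ W : Submodule F (ι → F), Module.finrank F W = t ∧ IsNondegenerateOn (polar Q) W ∧
      H ≤ subspaceStabilizer W := by
  classical
  obtain ⟨u, w, hu, hw, hqu, hqw, huw, hspan⟩ :=
    exists_hyperbolic (hD.decomp.nondegenerate i₀) (hD.decomp.decomp.finrank_eq i₀) hplus
  have hQv : Q (u + w) = 1 := by rw [apply_add, hqu, hqw, huw]; ring
  obtain ⟨b, hb, hperm⟩ := exists_unique_norm hH hD hle i₀ (u + w) ((D i₀).add_mem hu hw) hQv fun x hx hQx => by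
    obtain ⟨a, c, hac⟩ := hspan x hx
    have h1 := norm_one_in_plane hqu hqw huw hac hQx
    rcases sq_eq_one_of_card_three hF (left_ne_zero_of_mul_eq_one h1) with e | e
    · left
      rw [e, one_mul] at h1
      rw [hac, e, h1, one_smul, one_smul]
    · right
      have hc : c = -1 := by rw [e] at h1; linear_combination -h1
      rw [hac, e, hc]
      module
  have horth : ∀ i j, i ≠ j → polar Q (b i) (b j) = 0 := fun i j hij =>
    hD.decomp.orthogonal i j hij _ (hb i).1 _ (hb j).1
  have hp : ∀ i, polar Q (b i) (b i) ≠ 0 := fun i => by rw [polar_self', (hb i).2, mul_one]; exact h2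
  have hcoef : ∀ (s : Fin t → F) i, polar Q (b i) (∑ j, s j • b j) = s i * polar Q (b i) (b i) := by
    intro s i
    show polarBilin Q (b i) _ = _
    simp only [map_sum, map_smul]
    rw [Finset.sum_eq_single i (fun j _ hj => by
      show s j • polar Q _ _ = 0
      rw [horth i j (Ne.symm hj), smul_zero]) (by simp)]
    rfl
  have hli : LinearIndependent F b := Fintype.linearIndependent_iff.2 fun s hs i => by
    have h := hcoef s i
    rw [hs, QuadraticMap.polar_zero_right] at h
    exact (mul_eq_zero.1 h.symm).resolve_right (hp i)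
  refine ⟨Submodule.span F (Set.range b), by rw [finrank_span_eq_card hli, Fintype.card_fin], ?_, ?_⟩
  · intro x hx hx0
    obtain ⟨s, rfl⟩ := (Submodule.mem_span_range_iff_exists_fun F).1 hx
    obtain ⟨i, hi⟩ : ∃ i, s i ≠ 0 := by
      by_contra! h; exact hx0 (by simp [h])
    have hne : polar Q (b i) (∑ j, s j • b j) ≠ 0 := by rw [hcoef]; exact mul_ne_zero hi (hp i)
    exact ⟨⟨b i, Submodule.subset_span ⟨i, rfl⟩, hne⟩,
      ⟨b i, Submodule.subset_span ⟨i, rfl⟩, by rwa [QuadraticMap.polar_comm]⟩⟩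
  · refine le_stabilizer_of_stable ?_
    rintro _ ⟨g, hg, rfl⟩ v hv
    obtain ⟨s, rfl⟩ := (Submodule.mem_span_range_iff_exists_fun F).1 hv
    obtain ⟨σ, hσ⟩ := hperm g hg
    rw [Matrix.mulVec_sum]
    refine Submodule.sum_mem _ fun k _ => ?_
    rw [Matrix.mulVec_smul]
    refine Submodule.smul_mem _ _ ?_
    rcases hσ k with h | h <;> rw [h]
    · exact Submodule.subset_span ⟨_, rfl⟩
    · exact Submodule.neg_mem _ (Submodule.subset_span ⟨_, rfl⟩)

/-- Plus planes over two elements: the sum of the non-singular vectors is fixed. -/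
theorem fixed_of_plus_planes (hF : Fintype.card F = 2) {H : Subgroup (GL ι F)}
    (hH : ∀ g ∈ H, ∀ v, Q ((g : Matrix ι ι F) *ᵥ v) = Q v) {t : ℕ} {D : Fin t → Submodule F (ι → F)}
    (hD : IsOrthogonalMDecomposition (⇑Q) 2 D) (hle : H ≤ decompositionStabilizer D) (i₀ : Fin t)
    (hplus : IsPlusTypeOn (⇑Q) (D i₀)) :
    ∃ v : ι → F, v ≠ 0 ∧ Q v = (t : F) ∧ H ≤ subspaceStabilizer (Submodule.span F {v}) := by
  classical
  obtain ⟨u, w, hu, hw, hqu, hqw, huw, hspan⟩ :=
    exists_hyperbolic (hD.decomp.nondegenerate i₀) (hD.decomp.decomp.finrank_eq i₀) hplus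
  have h1' : (-1 : F) = 1 := by
    rcases eq_zero_or_one_of_card_two hF (-1) with h | h
    · simp at h
    · exact h
  have hneg : ∀ v : ι → F, -v = v := fun v => by rw [← neg_one_smul F v, h1', one_smul]
  have hQv : Q (u + w) = 1 := by rw [apply_add, hqu, hqw, huw]; ring
  obtain ⟨b, hb, hperm⟩ := exists_unique_norm hH hD hle i₀ (u + w) ((D i₀).add_mem hu hw) hQv fun x hx hQx => by
    obtain ⟨a, c, hac⟩ := hspan x hx
    have h1 := norm_one_in_plane hqu hqw huw hac hQx
    rcases eq_zero_or_one_of_card_two hF a with e | e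
    · rw [e, zero_mul] at h1; exact absurd h1 zero_ne_one
    · left
      rw [e, one_mul] at h1
      rw [hac, e, h1, one_smul, one_smul]
  have hQs : ∀ S : Finset (Fin t), Q (∑ k ∈ S, b k) = (S.card : F) ∧
      ∀ j ∉ S, polar Q (b j) (∑ k ∈ S, b k) = 0 := by
    intro S
    induction S using Finset.induction with
    | empty => simp
    | @insert a S ha ih =>
      refine ⟨?_, fun j hj => ?_⟩
      · rw [Finset.sum_insert ha, apply_add, (hb a).2, ih.1, ih.2 a ha, Finset.card_insert_of_notMem ha]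
        push_cast
        ring
      · rw [Finset.sum_insert ha, QuadraticMap.polar_add_right, ih.2 j (fun h => hj (Finset.mem_insert_of_mem h)),
          hD.decomp.orthogonal j a (fun e => hj (e ▸ Finset.mem_insert_self _ _)) _ (hb j).1 _ (hb a).1, add_zero]
  refine ⟨∑ k, b k, fun h => ?_, by simpa using (hQs Finset.univ).1, le_stabilizer_of_stable ?_⟩
  · have h0 := component_unique hD.decomp.decomp (fun k => (hb k).1) h i₀
    have := (hb i₀).2
    rw [h0, QuadraticMap.map_zero] at this
    exact zero_ne_one this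
  · rintro _ ⟨g, hg, rfl⟩ v hv
    obtain ⟨a, rfl⟩ := Submodule.mem_span_singleton.1 hv
    obtain ⟨σ, hσ⟩ := hperm g hg
    have hfix : (g : Matrix ι ι F) *ᵥ ∑ k, b k = ∑ k, b k := by
      rw [Matrix.mulVec_sum]
      exact (Finset.sum_congr rfl fun k _ => (hσ k).elim id fun h => h.trans (hneg _)).trans
        (Fintype.sum_equiv σ _ _ fun k => rfl)
    rw [Matrix.mulVec_smul, hfix]
    exact Submodule.smul_mem _ _ (Submodule.mem_span_singleton_self _)

/-- Plus planes over four elements are written over two elements. -/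
theorem subfield_of_plus_planes (hF : Fintype.card F = 4) {H : Subgroup (GL ι F)}
    (hH : ∀ g ∈ H, ∀ v, Q ((g : Matrix ι ι F) *ᵥ v) = Q v) {t : ℕ} {D : Fin t → Submodule F (ι → F)}
    (hD : IsOrthogonalMDecomposition (⇑Q) 2 D) (hle : H ≤ decompositionStabilizer D) (i₀ : Fin t)
    (hplus : IsPlusTypeOn (⇑Q) (D i₀)) :
    ∃ (F₀ : Subfield F) (P : GL ι F), Fintype.card F = Nat.card F₀ ^ 2 ∧
      IsQuadFormRationalStructure (⇑Q) F₀ P ∧ H ≤ subfieldSubgroup F₀ P := by
  classical
  obtain ⟨u, w, hu, hw, hqu, hqw, huw, hspan⟩ :=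
    exists_hyperbolic (hD.decomp.nondegenerate i₀) (hD.decomp.decomp.finrank_eq i₀) hplus
  haveI : CharP F 2 := by
    refine (CharP.charP_iff_prime_eq_zero Nat.prime_two).2 ?_
    have h := FiniteField.cast_card_eq_zero F
    rw [hF] at h
    have h' : (2 : F) * 2 = 0 := by rw [← h]; norm_num
    exact_mod_cast mul_self_eq_zero.1 h'
  have h2 : (2 : F) = 0 := by exact_mod_cast CharP.cast_eq_zero F 2
  obtain ⟨ω, hω0, hω1⟩ : ∃ ω : F, ω ≠ 0 ∧ ω ≠ 1 := by
    by_contra! h
    have hsub : (Finset.univ : Finset F) ⊆ {0, 1} := fun x _ => by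
      by_cases hx : x = 0 <;> simp [hx, h]
    have := (Finset.card_le_card hsub).trans Finset.card_le_two
    rw [Finset.card_univ, hF] at this
    omega
  have hpow : ∀ a : F, a ≠ 0 → a ^ 3 = 1 := fun a ha => by
    have h := FiniteField.pow_card_sub_one_eq_one a ha
    rwa [hF] at h
  have hω : ω * ω + ω + 1 = 0 := by
    have h := hpow ω hω0
    exact (mul_eq_zero.1 (show (ω - 1) * (ω * ω + ω + 1) = 0 by linear_combination h)).resolve_left
      (sub_ne_zero.2 hω1)
  choose f hf using fun k => hD.isometric i₀ k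
  let v : Fin 2 → D i₀ := ![⟨ω • u + (ω * ω) • w, (D i₀).add_mem ((D i₀).smul_mem _ hu) ((D i₀).smul_mem _ hw)⟩,
    ⟨(ω * ω) • u + ω • w, (D i₀).add_mem ((D i₀).smul_mem _ hu) ((D i₀).smul_mem _ hw)⟩]
  have hQv : ∀ a, Q (v a : ι → F) = 1 := by
    intro a
    fin_cases a
    · show Q (ω • u + (ω * ω) • w) = 1
      rw [apply_comb hqu hqw huw]
      linear_combination hpow ω hω0
    · show Q ((ω * ω) • u + ω • w) = 1
      rw [apply_comb hqu hqw huw]
      linear_combination hpow ω hω0
  have hall : ∀ x ∈ D i₀, Q x = 1 → x = (v 0 : ι → F) ∨ x = (v 1 : ι → F) ∨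
      x = (v 0 : ι → F) + (v 1 : ι → F) := by
    intro x hx hQx
    obtain ⟨a, b, hab⟩ := hspan x hx
    have h1 := norm_one_in_plane hqu hqw huw hab hQx
    have ha0 := left_ne_zero_of_mul_eq_one h1
    have ha := hpow a ha0
    have hb : b = a * a := by linear_combination a * a * h1 - b * ha
    have hfac : (a - 1) * ((a - ω) * (a - ω * ω)) = 0 := by
      linear_combination ha - a * (a - 1) * hω + (a - 1) * (hpow ω hω0)
    show x = ω • u + (ω * ω) • w ∨ x = (ω * ω) • u + ω • w ∨
      x = (ω • u + (ω * ω) • w) + ((ω * ω) • u + ω • w)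
    rcases mul_eq_zero.1 hfac with h | h
    · right; right
      rw [sub_eq_zero] at h
      rw [hab, hb, h, one_mul]
      have e1 : (1 : F) = ω + ω * ω := by linear_combination hω - (ω * ω + ω) * h2
      conv_lhs => rw [e1]
      module
    rcases mul_eq_zero.1 h with h | h
    · left
      rw [sub_eq_zero] at h
      rw [hab, hb, h]
    · right; left
      rw [sub_eq_zero] at h
      rw [hab, hb, h, show ω * ω * (ω * ω) = ω by linear_combination ω * hpow ω hω0]
  have hli : LinearIndependent F v := by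
    rw [linearIndependent_fin2]
    have hp : polar Q (v 0 : ι → F) (v 1 : ι → F) = 1 := by
      show polar Q (ω • u + (ω * ω) • w) ((ω * ω) • u + ω • w) = 1
      rw [polar_comb hqu hqw huw]
      linear_combination (ω * ω * (1 : F) - ω) * hω + hω - (1 : F) * h2
    refine ⟨fun h => ?_, fun a h => ?_⟩
    · have := hQv 1
      rw [show (v 1 : D i₀) = 0 from h, ZeroMemClass.coe_zero, QuadraticMap.map_zero] at this
      exact zero_ne_one this
    · have h' : a • (v 1 : ι → F) = (v 0 : ι → F) := congrArg Subtype.val h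
      rw [← h', QuadraticMap.polar_smul_left, polar_self', h2, zero_mul, smul_zero] at hp
      exact zero_ne_one hp
  let B := basisOfLinearIndependentOfCardEqFinrank hli (by rw [Fintype.card_fin, hD.decomp.decomp.finrank_eq])
  obtain ⟨e, P, hP⟩ := exists_coord_parts hD.decomp.decomp fun k => B.map (f k)
  have hP' : ∀ k a, vecIn e P (Pi.single (k, a) 1) = ((f k (v a) : D k) : ι → F) := fun k a => by
    rw [hP, Module.Basis.map_apply, coe_basisOfLinearIndependentOfCardEqFinrank]
  refine ⟨⊥, P, ?_, fun x hx => ?_, le_subfieldSubgroup_of_cols P fun g hg i j => ?_⟩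
  · rw [Subfield.card_bot F 2, hF]; norm_num
  · -- the form takes values in the prime field
    have hxv : (P : Matrix ι ι F) *ᵥ x = ∑ p : Fin t × Fin 2, x (e.symm p) • ((f p.1 (v p.2) : D p.1) : ι → F) := by
      rw [show (P : Matrix ι ι F) *ᵥ x = vecIn e P (x ∘ e.symm) from by
        rw [vecIn_apply, Function.comp_assoc, Equiv.symm_comp_self, Function.comp_id]]
      conv_lhs => rw [pi_eq_sum_univ' (x ∘ e.symm)]
      rw [map_sum]
      exact Finset.sum_congr rfl fun p _ => by rw [map_smul, hP' p.1 p.2]; rfl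
    rw [hxv]
    suffices h : ∀ S : Finset (Fin t × Fin 2), Q (∑ p ∈ S, x (e.symm p) • ((f p.1 (v p.2) : D p.1) : ι → F)) ∈
        (⊥ : Subfield F) ∧ ∀ q : Fin t × Fin 2, polar Q ((f q.1 (v q.2) : D q.1) : ι → F)
          (∑ p ∈ S, x (e.symm p) • ((f p.1 (v p.2) : D p.1) : ι → F)) ∈ (⊥ : Subfield F) from (h _).1
    have hpol : ∀ p q : Fin t × Fin 2,
        polar Q ((f q.1 (v q.2) : D q.1) : ι → F) ((f p.1 (v p.2) : D p.1) : ι → F) ∈ (⊥ : Subfield F) := by
      rintro ⟨k, a⟩ ⟨l, c⟩
      by_cases hkl : l = k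
      · subst hkl
        have : polar Q ((f l (v c) : D l) : ι → F) ((f l (v a) : D l) : ι → F) = polar Q (v c : ι → F) (v a : ι → F) := by
          simp only [QuadraticMap.polar, ← Submodule.coe_add, ← map_add, hf]
        rw [this, QuadraticMap.polar]
        have h01 : ∀ y ∈ D i₀, Q y = 0 ∨ Q y = 1 → Q y ∈ (⊥ : Subfield F) := fun y _ h => by
          rcases h with h | h <;> rw [h]
          exacts [zero_mem _, one_mem _]
        refine sub_mem (sub_mem ?_ (h01 _ (v c).2 (Or.inr (hQv c)))) (h01 _ (v a).2 (Or.inr (hQv a)))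
        fin_cases c <;> fin_cases a
        · show Q ((ω • u + (ω * ω) • w) + (ω • u + (ω * ω) • w)) ∈ (⊥ : Subfield F)
          rw [← two_smul F, h2, zero_smul, QuadraticMap.map_zero]; exact zero_mem _
        · show Q ((ω • u + (ω * ω) • w) + ((ω * ω) • u + ω • w)) ∈ (⊥ : Subfield F)
          rw [show (ω • u + (ω * ω) • w) + ((ω * ω) • u + ω • w) = (ω + ω * ω) • u + (ω + ω * ω) • w by module,
            apply_comb hqu hqw huw, show (ω + ω * ω) * (ω + ω * ω) = 1 by
              linear_combination (ω + ω * ω - 1) * hω]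
          exact one_mem _
        · show Q (((ω * ω) • u + ω • w) + (ω • u + (ω * ω) • w)) ∈ (⊥ : Subfield F)
          rw [show ((ω * ω) • u + ω • w) + (ω • u + (ω * ω) • w) = (ω + ω * ω) • u + (ω + ω * ω) • w by module,
            apply_comb hqu hqw huw, show (ω + ω * ω) * (ω + ω * ω) = 1 by
              linear_combination (ω + ω * ω - 1) * hω]
          exact one_mem _
        · show Q (((ω * ω) • u + ω • w) + ((ω * ω) • u + ω • w)) ∈ (⊥ : Subfield F)
          rw [← two_smul F, h2, zero_smul, QuadraticMap.map_zero]; exact zero_mem _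
      · rw [hD.decomp.orthogonal l k hkl _ (f l _).2 _ (f k _).2]
        exact zero_mem _
    intro S
    induction S using Finset.induction with
    | empty => simp
    | @insert p S hp ih =>
      refine ⟨?_, fun q => ?_⟩
      · rw [Finset.sum_insert hp, apply_add, apply_smul, hf, hQv, QuadraticMap.polar_smul_left, smul_eq_mul]
        exact add_mem (add_mem (mul_mem (mul_mem (hx _) (hx _)) (one_mem _)) ih.1) (mul_mem (hx _) (ih.2 p))
      · rw [Finset.sum_insert hp, QuadraticMap.polar_add_right, QuadraticMap.polar_smul_right, smul_eq_mul]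
        exact add_mem (mul_mem (hx _) (hpol p q)) (ih.2 q)
  · obtain ⟨σ, hσ⟩ := exists_part hH hle hg
    obtain ⟨hmem, hval⟩ := hσ (e j).1 _ (f (e j).1 (v (e j).2)).2
    let y : D (σ (e j).1) := ⟨_, hmem⟩
    have hy : Q ((f (σ (e j).1)).symm y : ι → F) = 1 := by
      have h1 := hf (σ (e j).1) ((f (σ (e j).1)).symm y)
      rw [LinearEquiv.apply_symm_apply] at h1
      rw [← h1]
      exact hval.trans ((hf _ _).trans (hQv _))
    obtain ⟨c, hc, hc01⟩ : ∃ c : Fin 2 → F, (f (σ (e j).1)).symm y = c 0 • v 0 + c 1 • v 1 ∧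
        ∀ a, c a ∈ (⊥ : Subfield F) := by
      rcases hall _ ((f (σ (e j).1)).symm y).2 hy with h | h | h
      · exact ⟨![1, 0], Subtype.ext (by simpa using h), fun a => by fin_cases a <;> simp⟩
      · exact ⟨![0, 1], Subtype.ext (by simpa using h), fun a => by fin_cases a <;> simp⟩
      · exact ⟨![1, 1], Subtype.ext (by simpa using h), fun a => by fin_cases a <;> simp⟩
    let z : Fin t × Fin 2 → F := Pi.single (σ (e j).1, 0) (c 0) + Pi.single (σ (e j).1, 1) (c 1)
    have hz : (g : Matrix ι ι F) *ᵥ ((P : Matrix ι ι F) *ᵥ Pi.single j 1) = (P : Matrix ι ι F) *ᵥ (z ∘ e) := by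
      have hj : (P : Matrix ι ι F) *ᵥ Pi.single j 1 = vecIn e P (Pi.single (e j) 1) := by
        rw [vecIn_apply]
        congr 1
        funext x
        simp [Pi.single_apply]
      have hz' : vecIn e P z = c 0 • vecIn e P (Pi.single (σ (e j).1, 0) 1) + c 1 • vecIn e P (Pi.single (σ (e j).1, 1) 1) := by
        rw [← map_smul, ← map_smul, ← map_add]
        congr 1
        ext p
        simp [z, Pi.single_apply]
      rw [hj, hP', ← vecIn_apply, hz', hP', hP']
      show (y : ι → F) = _
      have := congrArg (fun s => ((f (σ (e j).1) s : D _) : ι → F)) hc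
      simpa using this
    have hcol : (((P⁻¹ : GL ι F) : Matrix ι ι F) * (g : Matrix ι ι F) * (P : Matrix ι ι F)) *ᵥ Pi.single j 1 = z ∘ e := by
      rw [← Matrix.mulVec_mulVec, ← Matrix.mulVec_mulVec, hz, mulVec_inv_cancel]
    have hij : (((P⁻¹ : GL ι F) : Matrix ι ι F) * (g : Matrix ι ι F) * (P : Matrix ι ι F)) i j = z (e i) := by
      have := congrFun hcol i
      simpa [Matrix.mulVec_single_one] using this
    rw [hij]
    simp only [z, Pi.add_apply, Pi.single_apply]
    refine add_mem ?_ ?_ <;> split_ifs <;> first | exact hc01 _ | exact zero_mem _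

end CfsgLib.Geo.Asch
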