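/-
Binary four-spaces split into planes, and ternary tensor products into blocks.
-/
import Cfsg.Agent.Lib.Geo.Asch.OrthSmall

set_option autoImplicit false
set_option linter.unusedSectionVars false
set_option maxHeartbeats 800000

namespace CfsgLib.Geo.Asch

open Matrix Cfsg.Geo
open scoped Kronecker
open CfsgLib.Classical CfsgLib.Classical.Quad CfsgLib.Geo.OrthMax
open QuadraticMap (polar polarBilin)

variable {F : Type*} [Field F] [Fintype F] {ι : Type} [Fintype ι] [DecidableEq ι] {Q : QuadraticForm F (ι → F)}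

/-- Pairwise orthogonal non-degenerate subspaces are independent. -/
theorem indep_of_orth {κ : Type} {E : κ → Submodule F (ι → F)} (hnd : ∀ p, IsNondegenerateOn (polar Q) (E p))
    (horth : ∀ p q, p ≠ q → AreOrthogonalFor (polar Q) (E p) (E q)) : iSupIndep E := by
  intro p
  rw [Submodule.disjoint_def]
  intro v hv hv'
  by_contra hv0
  obtain ⟨⟨x, hx, hxv⟩, -⟩ := hnd p v hv hv0
  refine hxv ?_
  clear hv hv0 hxv
  induction hv' using Submodule.iSup_induction' with
  | mem q w hw =>
    by_cases hq : q = p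
    · simp only [hq, ne_eq, not_true, iSup_false, Submodule.mem_bot] at hw
      rw [hw, QuadraticMap.polar_zero_right]
    · simp only [ne_eq, hq, not_false_iff, iSup_pos] at hw
      exact horth p q (Ne.symm hq) x hx w hw
  | zero => exact QuadraticMap.polar_zero_right _ _
  | add y z _ _ hy hz => rw [QuadraticMap.polar_add_right, hy, hz, add_zero]

/-- Four-dimensional members of plus type over two elements split into minus planes. -/
theorem planes_of_plus_fours (hF : Fintype.card F = 2) {H : Subgroup (GL ι F)}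
    (hH : ∀ g ∈ H, ∀ v, Q ((g : Matrix ι ι F) *ᵥ v) = Q v) {t : ℕ} {D : Fin t → Submodule F (ι → F)}
    (hD : IsOrthogonalMDecomposition (⇑Q) 4 D) (hle : H ≤ decompositionStabilizer D) (i₀ : Fin t)
    (hplus : IsPlusTypeOn (⇑Q) (D i₀)) :
    ∃ E : Fin (t * 2) → Submodule F (ι → F), IsOrthogonalMDecomposition (⇑Q) 2 E ∧
      (∀ p, ¬ IsPlusTypeOn (⇑Q) (E p)) ∧ H ≤ decompositionStabilizer E := by
  classical
  have h01 := eq_zero_or_one_of_card_two hF
  have h2 : (2 : F) = 0 := by
    rcases h01 2 with h | h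
    · exact h
    · exact absurd (show (1 : F) = 0 by linear_combination h) one_ne_zero
  have hval : ∀ a : F, a ≠ 0 → a = 1 := fun a ha => (h01 a).resolve_left ha
  have split : ∀ k, ∃ A B : Submodule F (ι → F), A ≤ D k ∧ B ≤ D k ∧ A ⊔ B = D k ∧
      AreOrthogonalFor (polar Q) A B ∧ IsNondegenerateOn (polar Q) A ∧ IsNondegenerateOn (polar Q) B ∧
      Module.finrank F A = 2 ∧ Module.finrank F B = 2 ∧ ¬ IsPlusTypeOn (⇑Q) A ∧ ¬ IsPlusTypeOn (⇑Q) B := by
    intro k
    have hk4 := hD.decomp.decomp.finrank_eq k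
    have hplusk : IsPlusTypeOn (⇑Q) (D k) := CfsgLib.Geo.OrthPlane.plus_of_isometric (hD.isometric i₀ k) hplus
    have hnd := hD.decomp.nondegenerate k
    have nonsing : ∀ {W : Submodule F (ι → F)}, IsNondegenerateOn (polar Q) W → ∀ v ∈ W, v ≠ 0 →
        ∃ x ∈ W, Q x = 1 := by
      intro W hW v hv hv0
      obtain ⟨-, x, hx, hvx⟩ := hW v hv hv0
      by_contra! h
      apply hvx
      have hs : ∀ z ∈ W, Q z = 0 := fun z hz => (h01 (Q z)).resolve_right (h z hz)
      exact polar_zero_of_singular hs hv hx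
    obtain ⟨v, hv, hv0⟩ := Submodule.exists_mem_ne_zero_of_ne_bot (show D k ≠ ⊥ from fun e => by
      rw [e, finrank_bot] at hk4; omega)
    obtain ⟨x, hx, hQx⟩ := nonsing hnd v hv hv0
    have hx0 : x ≠ 0 := fun e => zero_ne_one (by rw [e, QuadraticMap.map_zero] at hQx; exact hQx)
    obtain ⟨-, y, hy, hxy⟩ := hnd x hx hx0
    have hxy1 : polar Q x y = 1 := hval _ hxy
    have hxx : polar Q x x = 0 := by rw [polar_self', h2, zero_mul]
    let L : (ι → F) →ₗ[F] (ι → F) := LinearMap.id - (polarBilin Q y).smulRight x - (polarBilin Q x).smulRight y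
    have hL : ∀ z, L z = z - polar Q y z • x - polar Q x z • y := fun z => rfl
    have hLx : ∀ z, polar Q x (L z) = 0 := fun z => by
      rw [hL, sub_eq_add_neg, sub_eq_add_neg, ← neg_smul, ← neg_smul, QuadraticMap.polar_add_right,
        QuadraticMap.polar_add_right, QuadraticMap.polar_smul_right, QuadraticMap.polar_smul_right, hxx, hxy1]
      simp
    have hLy : ∀ z, polar Q y (L z) = 0 := fun z => by
      rw [hL, sub_eq_add_neg, sub_eq_add_neg, ← neg_smul, ← neg_smul, QuadraticMap.polar_add_right,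
        QuadraticMap.polar_add_right, QuadraticMap.polar_smul_right, QuadraticMap.polar_smul_right,
        QuadraticMap.polar_comm (⇑Q) y x, hxy1, polar_self', h2]
      simp
    let B := (D k).map L
    have hBD : B ≤ D k := by
      rintro _ ⟨z, hz, rfl⟩
      rw [hL]
      exact (D k).sub_mem ((D k).sub_mem hz ((D k).smul_mem _ hx)) ((D k).smul_mem _ hy)
    have pair : ∀ y' ∈ D k, polar Q x y' = 1 → Q y' = 1 →
        ∃ A : Submodule F (ι → F), A = Submodule.span F {x, y'} ∧ IsNondegenerateOn (polar Q) A ∧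
          Module.finrank F A = 2 ∧ ¬ IsPlusTypeOn (⇑Q) A := by
      intro y' hy' hp hQy'
      have hval2 : ∀ w ∈ Submodule.span F {x, y'}, w ≠ 0 → Q w = 1 := by
        intro w hw hw0
        obtain ⟨a, b, rfl⟩ := Submodule.mem_span_pair.1 hw
        rw [apply_add, apply_smul, apply_smul, QuadraticMap.polar_smul_left, QuadraticMap.polar_smul_right, hp, hQx,
          hQy', smul_eq_mul, smul_eq_mul]
        rcases h01 a with rfl | rfl <;> rcases h01 b with rfl | rfl
        · simp at hw0
        · simp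
        · simp
        · linear_combination h2
      have hdim : Module.finrank F (Submodule.span F {x, y'}) = 2 := by
        have hli : LinearIndependent F ![x, y'] := by
          rw [linearIndependent_fin2]
          refine ⟨fun h => ?_, fun a h => ?_⟩
          · rw [show y' = 0 from h, QuadraticMap.polar_zero_right] at hp
            exact zero_ne_one hp
          · have h' : a • y' = x := h
            rw [← h', QuadraticMap.polar_smul_left, polar_self', h2, zero_mul, smul_zero] at hp
            exact zero_ne_one hp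
        have := finrank_span_eq_card hli
        rwa [Fintype.card_fin, Matrix.range_cons, Matrix.range_cons, Matrix.range_empty, Set.union_empty,
          Set.singleton_union] at this
      refine ⟨_, rfl, fun w hw hw0 => ?_, hdim, fun ⟨U, hUA, hU, hUd⟩ => ?_⟩
      · obtain ⟨a, b, rfl⟩ := Submodule.mem_span_pair.1 hw
        have e1 : polar Q (a • x + b • y') x = b := by
          rw [QuadraticMap.polar_add_left, QuadraticMap.polar_smul_left, QuadraticMap.polar_smul_left, hxx,
            QuadraticMap.polar_comm (⇑Q) y' x, hp]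
          simp
        have e2 : polar Q (a • x + b • y') y' = a := by
          rw [QuadraticMap.polar_add_left, QuadraticMap.polar_smul_left, QuadraticMap.polar_smul_left, hp,
            polar_self', h2]
          simp
        by_cases hb : b = 0
        · have ha : a ≠ 0 := fun e => hw0 (by rw [e, hb, zero_smul, zero_smul, add_zero])
          exact ⟨⟨y', Submodule.subset_span (by simp), by rw [QuadraticMap.polar_comm, e2]; exact ha⟩,
            ⟨y', Submodule.subset_span (by simp), by rw [e2]; exact ha⟩⟩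
        · exact ⟨⟨x, Submodule.subset_span (by simp), by rw [QuadraticMap.polar_comm, e1]; exact hb⟩,
            ⟨x, Submodule.subset_span (by simp), by rw [e1]; exact hb⟩⟩
      · obtain ⟨u, hu, hu0⟩ := Submodule.exists_mem_ne_zero_of_ne_bot (show U ≠ ⊥ from fun e => by
          rw [e, finrank_bot, hdim] at hUd; omega)
        exact one_ne_zero ((hval2 u (hUA hu) hu0).symm.trans (hU u hu))
    obtain ⟨y', hy', hp, hQy'⟩ : ∃ y' ∈ D k, polar Q x y' = 1 ∧ Q y' = 1 := by
      rcases h01 (Q y) with h | h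
      swap
      · exact ⟨y, hy, hxy1, h⟩
      have hLv : ∃ b ∈ B, b ≠ 0 := by
        by_contra! h'
        have hsub : D k ≤ Submodule.span F {x, y} := fun z hz => by
          have := h' (L z) ⟨z, hz, rfl⟩
          rw [hL, sub_sub, sub_eq_zero] at this
          rw [this]
          exact Submodule.mem_span_pair.2 ⟨_, _, rfl⟩
        have := (Submodule.finrank_mono hsub).trans
          ((finrank_span_le_card _).trans (le_of_eq rfl))
        have hc : ({x, y} : Set (ι → F)).toFinset.card ≤ 2 := by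
          rw [Set.toFinset_insert, Set.toFinset_singleton]
          exact Finset.card_le_two
        omega
      obtain ⟨b, hb, hb0⟩ := hLv
      have hBnd : IsNondegenerateOn (polar Q) B := by
        rintro _ ⟨z, hz, rfl⟩ hne
        obtain ⟨-, u, hu, hzu⟩ := hnd _ (hBD ⟨z, hz, rfl⟩) hne
        have e : polar Q (L z) (L u) = polar Q (L z) u := by
          rw [hL u, sub_eq_add_neg, sub_eq_add_neg, ← neg_smul, ← neg_smul, QuadraticMap.polar_add_right,
            QuadraticMap.polar_add_right, QuadraticMap.polar_smul_right, QuadraticMap.polar_smul_right,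
            QuadraticMap.polar_comm (⇑Q) (L z) x, hLx, QuadraticMap.polar_comm (⇑Q) (L z) y, hLy]
          simp
        exact ⟨⟨L u, ⟨u, hu, rfl⟩, by rw [QuadraticMap.polar_comm, e]; exact hzu⟩,
          ⟨L u, ⟨u, hu, rfl⟩, by rw [e]; exact hzu⟩⟩
      obtain ⟨z, hz, hQz⟩ := nonsing hBnd b hb hb0
      obtain ⟨z', hz', rfl⟩ := hz
      refine ⟨y + L z', (D k).add_mem hy (hBD ⟨z', hz', rfl⟩), ?_, ?_⟩
      · rw [QuadraticMap.polar_add_right, hxy1, hLx, add_zero]
      · rw [apply_add, h, hQz, hLy]; ring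
    obtain ⟨A, hA, hAnd, hAd, hAm⟩ := pair y' hy' hp hQy'
    have hAD : A ≤ D k := by
      rw [hA, Submodule.span_le]
      rintro w (rfl | rfl)
      exacts [hx, hy']
    let L' : (ι → F) →ₗ[F] (ι → F) := LinearMap.id - (polarBilin Q y').smulRight x - (polarBilin Q x).smulRight y'
    have hL' : ∀ z, L' z = z - polar Q y' z • x - polar Q x z • y' := fun z => rfl
    let C := (D k).map L'
    have hCD : C ≤ D k := by
      rintro _ ⟨z, hz, rfl⟩
      rw [hL']
      exact (D k).sub_mem ((D k).sub_mem hz ((D k).smul_mem _ hx)) ((D k).smul_mem _ hy')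
    have horth : AreOrthogonalFor (polar Q) A C := by
      rintro u hu _ ⟨z, hz, rfl⟩
      rw [hA] at hu
      obtain ⟨a, b, rfl⟩ := Submodule.mem_span_pair.1 hu
      rw [QuadraticMap.polar_add_left, QuadraticMap.polar_smul_left, QuadraticMap.polar_smul_left, hL',
        sub_eq_add_neg, sub_eq_add_neg, ← neg_smul, ← neg_smul, QuadraticMap.polar_add_right,
        QuadraticMap.polar_add_right, QuadraticMap.polar_smul_right, QuadraticMap.polar_smul_right,
        QuadraticMap.polar_add_right, QuadraticMap.polar_add_right, QuadraticMap.polar_smul_right,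
        QuadraticMap.polar_smul_right, hxx, hp, QuadraticMap.polar_comm (⇑Q) y' x, hp, polar_self', h2]
      simp
    have hsup : A ⊔ C = D k := by
      refine le_antisymm (sup_le hAD hCD) fun z hz => ?_
      have e : z = (polar Q y' z • x + polar Q x z • y') + L' z := by rw [hL']; abel
      rw [e]
      exact Submodule.add_mem_sup (hA ▸ Submodule.mem_span_pair.2 ⟨_, _, rfl⟩) ⟨z, hz, rfl⟩
    have hCnd : IsNondegenerateOn (polar Q) C := by
      intro c hc hc0
      obtain ⟨-, u, hu, hcu⟩ := hnd c (hCD hc) hc0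
      rw [← hsup] at hu
      obtain ⟨a, ha, w, hw, rfl⟩ := Submodule.mem_sup.1 hu
      rw [QuadraticMap.polar_add_right, QuadraticMap.polar_comm (⇑Q) c a, horth a ha c hc, zero_add] at hcu
      exact ⟨⟨w, hw, by rwa [QuadraticMap.polar_comm]⟩, ⟨w, hw, hcu⟩⟩
    have hCd : Module.finrank F C = 2 := by
      have := finrank_sup_of_orth hAnd horth
      rw [hsup, hAd, hk4] at this
      omega
    refine ⟨A, C, hAD, hCD, hsup, horth, hAnd, hCnd, hAd, hCd, hAm, fun hC => ?_⟩
    refine not_plus_sup hCnd hAnd (fun u hu v hv => by rw [QuadraticMap.polar_comm]; exact horth v hv u hu) hC hAm ?_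
    rwa [sup_comm, hsup]
  choose A B hAD hBD hsup horth hAn hBn hAd hBd hAm hBm using split
  let E : Fin (t * 2) → Submodule F (ι → F) := fun p => ![A (finProdFinEquiv.symm p).1, B (finProdFinEquiv.symm p).1]
    (finProdFinEquiv.symm p).2
  have hE : ∀ k a, E (finProdFinEquiv (k, a)) = ![A k, B k] a := fun k a => by simp only [E, Equiv.symm_apply_apply]
  have hEle : ∀ k a, E (finProdFinEquiv (k, a)) ≤ D k := fun k a => by
    rw [hE]; fin_cases a
    exacts [hAD k, hBD k]
  have hEnd : ∀ p, IsNondegenerateOn (polar Q) (E p) := fun p => by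
    obtain ⟨⟨k, a⟩, rfl⟩ := finProdFinEquiv.surjective p
    rw [hE]; fin_cases a
    exacts [hAn k, hBn k]
  have hEd : ∀ p, Module.finrank F (E p) = 2 := fun p => by
    obtain ⟨⟨k, a⟩, rfl⟩ := finProdFinEquiv.surjective p
    rw [hE]; fin_cases a
    exacts [hAd k, hBd k]
  have hEm : ∀ p, ¬ IsPlusTypeOn (⇑Q) (E p) := fun p => by
    obtain ⟨⟨k, a⟩, rfl⟩ := finProdFinEquiv.surjective p
    rw [hE]; fin_cases a
    exacts [hAm k, hBm k]
  have hEo : ∀ p q, p ≠ q → AreOrthogonalFor (polar Q) (E p) (E q) := by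
    intro p q hpq u hu v hv
    obtain ⟨⟨k, a⟩, rfl⟩ := finProdFinEquiv.surjective p
    obtain ⟨⟨l, c⟩, rfl⟩ := finProdFinEquiv.surjective q
    by_cases hkl : k = l
    swap
    · exact hD.decomp.orthogonal k l hkl u (hEle k a hu) v (hEle l c hv)
    subst hkl
    rw [hE] at hu hv
    fin_cases a <;> fin_cases c <;> first | exact absurd rfl hpq | exact horth k u hu v hv |
      exact (QuadraticMap.polar_comm _ _ _).trans (horth k v hv u hu)
  have hD' : IsOrthogonalMDecomposition (⇑Q) 2 E := by
    refine ⟨⟨⟨by have := hD.decomp.decomp.two_le; omega, two_pos, hEd, indep_of_orth hEnd hEo, ?_⟩, hEnd, hEo⟩,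
      fun p q => isometric_of_not_plus (hEnd p) (hEnd q) (m := 1) (hEd p) (hEd q) (hEm p) (hEm q)⟩
    rw [eq_top_iff, ← hD.decomp.decomp.iSup_eq_top]
    refine iSup_le fun k => ?_
    rw [← hsup k]
    refine sup_le ?_ ?_
    · have := le_iSup E (finProdFinEquiv (k, 0)); rwa [hE] at this
    · have := le_iSup E (finProdFinEquiv (k, 1)); rwa [hE] at this
  refine ⟨E, hD', hEm, fun g hg => ?_⟩
  obtain ⟨σ, hσ⟩ := exists_part hH hle hg
  have hmap : ∀ p, ∃ q, (E p).map (Matrix.toLin' (g : Matrix ι ι F)) = E q := by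
    intro p
    obtain ⟨⟨k, a⟩, rfl⟩ := finProdFinEquiv.surjective p
    have hns : ∀ z ∈ E (finProdFinEquiv (k, a)), z ≠ 0 → Q z = 1 := fun z hz hz0 => hval _ fun h0 => hEm _ ⟨
      Submodule.span F {z}, (Submodule.span_singleton_le_iff_mem _ _).2 hz, fun w hw => by
        obtain ⟨c, rfl⟩ := Submodule.mem_span_singleton.1 hw
        rw [apply_smul, h0, mul_zero], by rw [finrank_span_singleton hz0, hEd]⟩
    have hclass : ∀ z ∈ D (σ k), Q z = 1 → z ∈ A (σ k) ∨ z ∈ B (σ k) := by
      intro z hz hQz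
      rw [← hsup] at hz
      obtain ⟨u, hu, v, hv, rfl⟩ := Submodule.mem_sup.1 hz
      by_cases hu0 : u = 0
      · right; rwa [hu0, zero_add]
      by_cases hv0 : v = 0
      · left; rwa [hv0, add_zero]
      exfalso
      rw [apply_add, horth _ u hu v hv, add_zero] at hQz
      have h1 : ∀ {W : Submodule F (ι → F)}, ¬ IsPlusTypeOn (⇑Q) W → Module.finrank F W = 2 → ∀ w ∈ W, w ≠ 0 → Q w = 1 :=
        fun {W} hm hd w hw hw0 => hval _ fun h0 => hm ⟨Submodule.span F {w},
          (Submodule.span_singleton_le_iff_mem _ _).2 hw, fun x hx => by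
            obtain ⟨c, rfl⟩ := Submodule.mem_span_singleton.1 hx
            rw [apply_smul, h0, mul_zero], by rw [finrank_span_singleton hw0, hd]⟩
      rw [h1 (hAm _) (hAd _) u hu hu0, h1 (hBm _) (hBd _) v hv hv0] at hQz
      exact zero_ne_one (show (0 : F) = 1 by linear_combination hQz - h2)
    obtain ⟨x, hx, hx0⟩ := Submodule.exists_mem_ne_zero_of_ne_bot (show E (finProdFinEquiv (k, a)) ≠ ⊥ from fun e => by
      have := hEd (finProdFinEquiv (k, a)); rw [e, finrank_bot] at this; omega)
    obtain ⟨hgx, hQgx⟩ := hσ k x (hEle k a hx)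
    rw [hns x hx hx0] at hQgx
    suffices key : ∀ W W' : Submodule F (ι → F), (∀ z ∈ D (σ k), Q z = 1 → z ∈ W ∨ z ∈ W') →
        AreOrthogonalFor (polar Q) W W' → (g : Matrix ι ι F) *ᵥ x ∈ W → Module.finrank F W = 2 →
        (E (finProdFinEquiv (k, a))).map (Matrix.toLin' (g : Matrix ι ι F)) = W by
      rcases hclass _ hgx hQgx with h | h
      · exact ⟨finProdFinEquiv (σ k, 0), (key _ _ hclass (horth _) h (hAd _)).trans (hE (σ k) 0).symm⟩
      · exact ⟨finProdFinEquiv (σ k, 1), (key _ _ (fun z hz hQ => (hclass z hz hQ).symm)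
          (fun u hu v hv => (QuadraticMap.polar_comm _ _ _).trans (horth _ v hv u hu)) h (hBd _)).trans (hE (σ k) 1).symm⟩
    intro W W' hWW ho hgW hWd
    have hinj : Function.Injective (Matrix.toLin' (g : Matrix ι ι F)) := fun u v huv =>
      (Matrix.mulVec_injective_iff_isUnit.2 g.isUnit) huv
    refine Submodule.eq_of_le_of_finrank_eq ?_ ?_
    · rintro _ ⟨z, hz, rfl⟩
      rw [Matrix.toLin'_apply]
      by_cases hz0 : z = 0
      · rw [hz0, Matrix.mulVec_zero]; exact W.zero_mem
      by_cases hzx : z = x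
      · rw [hzx]; exact hgW
      obtain ⟨hgz, hQgz⟩ := hσ k z (hEle k a hz)
      rw [hns z hz hz0] at hQgz
      refine (hWW _ hgz hQgz).resolve_right fun hW' => ?_
      have h0 := ho _ hgW _ hW'
      rw [fixes_polar_of_isometry (hH g hg)] at h0
      have hsum : x + z ≠ 0 := fun e => hzx (by
        rw [eq_neg_of_add_eq_zero_right e, ← neg_one_smul F x, show (-1 : F) = 1 by linear_combination -h2, one_smul])
      have := hns _ ((E _).add_mem hx hz) hsum
      rw [apply_add, hns x hx hx0, hns z hz hz0, h0, add_zero] at this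
      exact zero_ne_one (show (0 : F) = 1 by linear_combination this - h2)
    · rw [(Submodule.equivMapOfInjective _ hinj _).finrank_eq.symm, hEd, hWd]
  choose f hf using hmap
  have hinjf : Function.Injective f := by
    intro p q hpq
    by_contra hne
    have h1 : E p = E q := Submodule.map_injective_of_injective (f := Matrix.toLin' (g : Matrix ι ι F))
      (fun u v huv => (Matrix.mulVec_injective_iff_isUnit.2 g.isUnit) huv) (by rw [hf, hf, hpq])
    have hdis := hD'.decomp.decomp.indep.pairwiseDisjoint hne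
    rw [Function.onFun, h1, disjoint_self] at hdis
    have := hEd q
    rw [hdis, finrank_bot] at this
    exact absurd this (by norm_num)
  exact ⟨Equiv.ofBijective f (Finite.injective_iff_bijective.1 hinjf), hf⟩

/-- Orthogonal similitudes in three dimensions over three elements are monomial. -/
theorem monomial_of_three (hF : Fintype.card F = 3) {a : Matrix (Fin 3) (Fin 3) F} {s : F} (ha : a.det ≠ 0)
    (h : aᵀ * a = s • 1) (i : Fin 3) : ∃ j, (∀ l, l ≠ j → a l i = 0) := by
  have hs : s = 1 := by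
    have hd := congrArg Matrix.det h
    rw [Matrix.det_mul, Matrix.det_transpose, Matrix.det_smul, Matrix.det_one, mul_one, Fintype.card_fin] at hd
    have h1 : a.det * a.det = 1 := by rcases sq_eq_one_of_card_three hF ha with e | e <;> rw [e] <;> simp
    rcases sq_eq_one_of_card_three hF (fun e : s = 0 => by rw [e, h1] at hd; norm_num at hd) with e | e
    · exact e
    · rw [e, h1] at hd
      exact absurd (show (2 : F) = 0 by linear_combination hd) (fun e2 => by
        have h3 := three_eq_zero_of_card_three hF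
        exact one_ne_zero (show (1 : F) = 0 by linear_combination h3 - e2))
  have hcol := congrFun (congrFun h i) i
  rw [Matrix.mul_apply, Fin.sum_univ_three, Matrix.smul_apply, Matrix.one_apply_eq, hs] at hcol
  simp only [Matrix.transpose_apply, smul_eq_mul, mul_one] at hcol
  have h3 := three_eq_zero_of_card_three hF
  have hcase : ∀ l, a l i = 0 ∨ a l i * a l i = 1 := fun l => by
    by_cases hl : a l i = 0
    · exact Or.inl hl
    · rcases sq_eq_one_of_card_three hF hl with e | e <;> rw [e] <;> simp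
  rcases hcase 0 with e0 | e0 <;> rcases hcase 1 with e1 | e1 <;> rcases hcase 2 with e2 | e2
  · rw [e0, e1, e2] at hcol; norm_num at hcol
  · exact ⟨2, fun l hl => by fin_cases l; exacts [e0, e1, absurd rfl hl]⟩
  · exact ⟨1, fun l hl => by fin_cases l; exacts [e0, absurd rfl hl, e2]⟩
  · rw [e0, e1, e2] at hcol; exact absurd (show (1 : F) = 0 by linear_combination hcol) one_ne_zero
  · exact ⟨0, fun l hl => by fin_cases l; exacts [absurd rfl hl, e1, e2]⟩
  · rw [e0, e1, e2] at hcol; exact absurd (show (1 : F) = 0 by linear_combination hcol) one_ne_zero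
  · rw [e0, e1, e2] at hcol; exact absurd (show (1 : F) = 0 by linear_combination hcol) one_ne_zero
  · rw [e0, e1, e2] at hcol; exact absurd (show (1 : F) = 0 by linear_combination h3 - hcol) one_ne_zero

/-- A ternary three-dimensional tensor factor gives three orthogonal blocks. -/
theorem blocks_of_three (hF : Fintype.card F = 3) (h2 : (2 : F) ≠ 0) {k : ℕ} (hk : 0 < k) {H : Subgroup (GL ι F)}
    (hH : ∀ g ∈ H, ∀ v, Q ((g : Matrix ι ι F) *ᵥ v) = Q v) {e : ι ≃ Fin 3 × Fin k} {P : GL ι F}
    (hle : H ≤ tensorProductSubgroup 3 k e P) {X : Matrix (Fin 3) (Fin 3) F} {Y : Matrix (Fin k) (Fin k) F}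
    (hG : orGram Q e P = X ⊗ₖ Y) (hXu : IsUnit X) (hYu : IsUnit Y) (hX : Xᵀ = X) :
    ∃ D : Fin 3 → Submodule F (ι → F), IsNondegenerateMDecomposition (polar Q) k D ∧ H ≤ decompositionStabilizer D := by
  classical
  obtain ⟨μ, M, hμ, hM⟩ := exists_congr_odd h2 (by decide) hXu isUnit_one hX Matrix.transpose_one
  let K : GL (Fin 3 × Fin k) F := Matrix.GeneralLinearGroup.mkOfDetNeZero
    ((M : Matrix (Fin 3) (Fin 3) F) ⊗ₖ (1 : Matrix (Fin k) (Fin k) F)) (by
      rw [Matrix.det_kronecker, Matrix.det_one, one_pow, mul_one]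
      exact pow_ne_zero _ (M.isUnit.map Matrix.detMonoidHom).ne_zero)
  set P₁ := P * glReindex (F := F) e.symm K with hP₁
  have hK : (K : Matrix (Fin 3 × Fin k) (Fin 3 × Fin k) F) =
      (M : Matrix (Fin 3) (Fin 3) F) ⊗ₖ (1 : Matrix (Fin k) (Fin k) F) := rfl
  have hG₁ : orGram Q e P₁ = (1 : Matrix (Fin 3) (Fin 3) F) ⊗ₖ (μ⁻¹ • Y) := by
    rw [hP₁, orGram_mul_reindex, hG, hK, ← Matrix.kroneckerMap_transpose, ← Matrix.mul_kronecker_mul,
      ← Matrix.mul_kronecker_mul, Matrix.transpose_one, one_mul, mul_one,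
      show (M : Matrix (Fin 3) (Fin 3) F)ᵀ * X * (M : Matrix (Fin 3) (Fin 3) F) = μ⁻¹ • 1 by
        rw [hM, smul_smul, inv_mul_cancel₀ hμ, one_smul],
      Matrix.smul_kronecker, Matrix.kronecker_smul]
  have hle₁ : H ≤ tensorProductSubgroup 3 k e P₁ :=
    hle.trans (le_of_eq (map_conj_eq_of_mem (Subgroup.mem_map_of_mem (glReindex (F := F) e.symm).toMonoidHom
      (show K ∈ kroneckerSubgroup 3 k F from ⟨M, 1, by rw [hK, Units.val_one]⟩))).symm)
  let T : Fin 3 → (Fin k → F) →ₗ[F] (Fin 3 × Fin k → F) := fun i =>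
    { toFun := fun w a => (Pi.single i 1 : Fin 3 → F) a.1 * w a.2
      map_add' := fun u v => funext fun a => mul_add _ _ _
      map_smul' := fun c v => funext fun a => by
        simp only [Pi.smul_apply, smul_eq_mul, RingHom.id_apply]
        ring }
  let L : Fin 3 → (Fin k → F) →ₗ[F] (ι → F) := fun i => (vecIn e P₁).comp (T i)
  have hL : ∀ i w, L i w = vecIn e P₁ fun a => (Pi.single i 1 : Fin 3 → F) a.1 * w a.2 := fun i w => rfl
  let D : Fin 3 → Submodule F (ι → F) := fun i => LinearMap.range (L i)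
  have hpol : ∀ i j w w', polar Q (L i w) (L j w') = (if i = j then 1 else 0) * (w ⬝ᵥ (μ⁻¹ • Y) *ᵥ w') := by
    intro i j w w'
    rw [hL, hL, polar_vecIn, hG₁, pure_dot, Matrix.one_mulVec, single_one_dotProduct, Pi.single_apply]
  have hnz : ∀ i w, w ≠ 0 → ∃ w', polar Q (L i w) (L i w') ≠ 0 := by
    intro i w hw
    by_contra! h
    refine hw (Matrix.eq_zero_of_vecMul_eq_zero (M := μ⁻¹ • Y) ?_ (dotProduct_eq_zero _ fun w' => ?_))
    · rw [Matrix.det_smul]
      exact mul_ne_zero (pow_ne_zero _ (inv_ne_zero hμ)) ((Matrix.isUnit_iff_isUnit_det _).1 hYu).ne_zero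
    · have := h w'
      rwa [hpol, if_pos rfl, one_mul, Matrix.dotProduct_mulVec] at this
  have hinj : ∀ i, Function.Injective (L i) := fun i => (injective_iff_map_eq_zero _).2 fun w hw => by
    by_contra h0
    obtain ⟨w', hw'⟩ := hnz i w h0
    exact hw' (by rw [hw, QuadraticMap.polar_zero_left])
  have hnd : ∀ i, IsNondegenerateOn (polar Q) (D i) := by
    rintro i _ ⟨w, rfl⟩ hw0
    obtain ⟨w', hw'⟩ := hnz i w fun e => hw0 (by rw [e, map_zero])
    exact ⟨⟨L i w', ⟨w', rfl⟩, by rwa [QuadraticMap.polar_comm]⟩, ⟨L i w', ⟨w', rfl⟩, hw'⟩⟩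
  have horth : ∀ i j, i ≠ j → AreOrthogonalFor (polar Q) (D i) (D j) := by
    rintro i j hij _ ⟨w, rfl⟩ _ ⟨w', rfl⟩
    rw [hpol, if_neg hij, zero_mul]
  have htop : iSup D = ⊤ := by
    rw [eq_top_iff]
    intro v _
    obtain ⟨x, rfl⟩ := vecIn_surjective e P₁ v
    have : x = ∑ i, fun a : Fin 3 × Fin k => (Pi.single i 1 : Fin 3 → F) a.1 * x (i, a.2) := by
      ext ⟨r, c⟩
      rw [Finset.sum_apply, Finset.sum_eq_single r]
      · simp
      · intro b _ hb; simp [Pi.single_apply, Ne.symm hb]
      · simp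
    rw [this, map_sum]
    exact Submodule.sum_mem _ fun i _ => le_iSup D i ⟨fun c => x (i, c), rfl⟩
  have hfr : ∀ i, Module.finrank F (D i) = k := fun i => by
    rw [LinearMap.finrank_range_of_inj (hinj i), Module.finrank_fin_fun]
  refine ⟨D, ⟨⟨by norm_num, hk, hfr, indep_of_orth hnd horth, htop⟩, hnd, horth⟩, fun g hg => ?_⟩
  obtain ⟨a, b, hab⟩ := (mem_tensorProductSubgroup_iff e P₁ g).1 (hle₁ hg)
  have hfix := orGram_fix (Q := Q) e P₁ (hH g hg)
  rw [hab, hG₁, ← Matrix.kroneckerMap_transpose, ← Matrix.mul_kronecker_mul, ← Matrix.mul_kronecker_mul] at hfix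
  obtain ⟨s, hs⟩ : ∃ s : F, (a : Matrix (Fin 3) (Fin 3) F)ᵀ * (a : Matrix (Fin 3) (Fin 3) F) = s • 1 := by
    obtain ⟨r, c, hrc⟩ : ∃ r c, ((b : Matrix (Fin k) (Fin k) F)ᵀ * (μ⁻¹ • Y) * (b : Matrix (Fin k) (Fin k) F)) r c ≠ 0 := by
      by_contra! h0
      have hu : IsUnit ((b : Matrix (Fin k) (Fin k) F)ᵀ * (μ⁻¹ • Y) * (b : Matrix (Fin k) (Fin k) F)) := by
        rw [Matrix.isUnit_iff_isUnit_det, isUnit_iff_ne_zero, Matrix.det_mul, Matrix.det_mul, Matrix.det_transpose,
          Matrix.det_smul]
        have hb : (b : Matrix (Fin k) (Fin k) F).det ≠ 0 := (b.isUnit.map Matrix.detMonoidHom).ne_zero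
        exact mul_ne_zero (mul_ne_zero hb (mul_ne_zero (pow_ne_zero _ (inv_ne_zero hμ))
          ((Matrix.isUnit_iff_isUnit_det _).1 hYu).ne_zero)) hb
      haveI : Nonempty (Fin k) := ⟨⟨0, hk⟩⟩
      exact hu.ne_zero (Matrix.ext h0)
    refine ⟨(μ⁻¹ • Y) r c / ((b : Matrix (Fin k) (Fin k) F)ᵀ * (μ⁻¹ • Y) * (b : Matrix (Fin k) (Fin k) F)) r c, ?_⟩
    ext i j
    have h := congrFun (congrFun hfix (i, r)) (j, c)
    rw [Matrix.kronecker_apply, Matrix.kronecker_apply, mul_one] at h
    rw [Matrix.smul_apply, smul_eq_mul, div_mul_eq_mul_div, eq_div_iff hrc, h]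
    ring
  choose f hf using monomial_of_three hF (a.isUnit.map Matrix.detMonoidHom).ne_zero hs
  have hmap : ∀ i, (D i).map (Matrix.toLin' (g : Matrix ι ι F)) = D (f i) := by
    intro i
    refine Submodule.eq_of_le_of_finrank_eq ?_ ?_
    · rintro _ ⟨_, ⟨w, rfl⟩, rfl⟩
      refine ⟨(a : Matrix (Fin 3) (Fin 3) F) (f i) i • ((b : Matrix (Fin k) (Fin k) F) *ᵥ w), ?_⟩
      rw [Matrix.toLin'_apply, hL, hL, mulVec_vecIn, hab]
      congr 1
      ext ⟨r, c⟩
      simp only [Matrix.mulVec, dotProduct, Fintype.sum_prod_type, Matrix.kronecker_apply, Pi.smul_apply, smul_eq_mul]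
      rw [Finset.sum_eq_single i (fun x _ hx => by simp [Pi.single_apply, hx]) (by simp)]
      by_cases hr : r = f i
      · subst hr
        simp [Finset.mul_sum, mul_assoc, mul_left_comm]
      · simp [Pi.single_apply, hr, hf i r hr]
    · have hinjg : Function.Injective (Matrix.toLin' (g : Matrix ι ι F)) := fun u v huv =>
        (Matrix.mulVec_injective_iff_isUnit.2 g.isUnit) huv
      rw [(Submodule.equivMapOfInjective _ hinjg _).finrank_eq.symm, hfr, hfr]
  have hinjf : Function.Injective f := by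
    intro i j hij
    by_contra hne
    have h1 : D i = D j := Submodule.map_injective_of_injective (f := Matrix.toLin' (g : Matrix ι ι F))
      (fun u v huv => (Matrix.mulVec_injective_iff_isUnit.2 g.isUnit) huv) (by rw [hmap, hmap, hij])
    have hdis := (indep_of_orth hnd horth).pairwiseDisjoint hne
    rw [Function.onFun, h1, disjoint_self] at hdis
    have := hfr j
    rw [hdis, finrank_bot] at this
    omega
  exact ⟨Equiv.ofBijective f (Finite.injective_iff_bijective.1 hinjf), hmap⟩

end CfsgLib.Geo.Asch
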