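/-
Maximal subgroups of SU_n for a prime n ≥ 5: Aschbacher's dichotomy.
-/
import Cfsg.Agent.Lib.Geo.Asch.Linear
import Cfsg.Agent.Lib.Geo.Asch.SUSubfield

set_option autoImplicit false

namespace CfsgLib.Geo.Asch

open Matrix Cfsg.Geo

variable {F : Type*} [Field F] {σ : F ≃+* F} {q n : ℕ}

/-- The orthogonal complement for a form linear in the first argument. -/
def orthLeft {ι : Type} {f : (ι → F) → (ι → F) → F} (hadd : ∀ x y v, f (x + y) v = f x v + f y v)
    (hsmul : ∀ (c : F) (x v : ι → F), f (c • x) v = c * f x v) (W : Submodule F (ι → F)) : Submodule F (ι → F) where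
  carrier := {x | ∀ w ∈ W, f x w = 0}
  add_mem' {a b} ha hb w hw := by rw [hadd, ha w hw, hb w hw, add_zero]
  zero_mem' w _ := by simpa using hsmul 0 0 w
  smul_mem' c x hx w hw := by rw [hsmul, hx w hw, mul_zero]

theorem finrank_le_orthLeft {ι : Type} [Fintype ι] [DecidableEq ι] {f : (ι → F) → (ι → F) → F} {τ : F ≃+* F}
    (hf : IsSesqForm τ f) (W : Submodule F (ι → F)) :
    Fintype.card ι ≤ Module.finrank F W + Module.finrank F (orthLeft hf.add_left hf.smul_left W) := by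
  let b := Module.finBasis F W
  let L : (ι → F) →ₗ[F] (Fin (Module.finrank F W) → F) :=
    { toFun := fun x i => f x (b i : ι → F)
      map_add' := fun x y => funext fun i => hf.add_left _ _ _
      map_smul' := fun c x => funext fun i => hf.smul_left _ _ _ }
  have hker : LinearMap.ker L ≤ orthLeft hf.add_left hf.smul_left W := by
    intro x hx w hw
    have hspan : (⟨w, hw⟩ : W) ∈ Submodule.span F (Set.range b) := by rw [b.span_eq]; trivial
    refine Submodule.span_induction (p := fun (z : W) _ => f x (z : ι → F) = 0) ?_ ?_ ?_ ?_ hspan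
    · rintro _ ⟨i, rfl⟩
      exact congrFun (LinearMap.mem_ker.1 hx) i
    · exact hf.map_zero_right x
    · intro y z _ _ hy hz
      rw [Submodule.coe_add, hf.add_right, hy, hz, add_zero]
    · intro c z _ hz
      rw [Submodule.coe_smul, hf.smul_right, hz, mul_zero]
  have h1 := LinearMap.finrank_range_add_finrank_ker L
  have h2 := Submodule.finrank_le (LinearMap.range L)
  have h3 := Submodule.finrank_mono hker
  rw [Module.finrank_pi] at h1 h2
  rw [Fintype.card_fin] at h2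
  omega

theorem isAdjointClosed_centralizer (hq : IsQPow σ q) {N : Subgroup (GL (Fin n) F)} (hN : N ≤ Cfsg.GU n F q) :
    IsAdjointClosedFor (Cfsg.hermForm n F q) (Subalgebra.centralizer F (matrixSet N)) := by
  have hf := isUnitaryForm_hermForm (n := n) hq
  intro k hk
  have hadj : ∀ u v : Fin n → F, Cfsg.hermForm n F q (k *ᵥ u) v = Cfsg.hermForm n F q u ((k.map σ)ᵀ *ᵥ v) := by
    intro u v
    simp only [hermForm_eq hq, Matrix.mulVec, dotProduct, Matrix.transpose_apply, Matrix.map_apply, map_sum, map_mul,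
      hq.involutive, Finset.mul_sum, Finset.sum_mul]
    rw [Finset.sum_comm]
    exact Finset.sum_congr rfl fun a _ => Finset.sum_congr rfl fun b _ => by ring
  refine ⟨(k.map σ)ᵀ, ?_, hadj⟩
  rw [Subalgebra.mem_centralizer_iff] at hk ⊢
  rintro _ ⟨g, hg, rfl⟩
  refine Matrix.toLin'.injective (LinearMap.ext fun v => ?_)
  rw [Matrix.toLin'_apply, Matrix.toLin'_apply, ← Matrix.mulVec_mulVec, ← Matrix.mulVec_mulVec]
  by_contra hne
  obtain ⟨x, hx⟩ := (hf.nondegenerate _ (sub_ne_zero.2 hne)).1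
  refine hx ?_
  have hfix : ∀ a b, Cfsg.hermForm n F q ((g : Matrix (Fin n) (Fin n) F) *ᵥ a) ((g : Matrix (Fin n) (Fin n) F) *ᵥ b) =
      Cfsg.hermForm n F q a b := fun a b => hN hg a b
  have hcomm := hk _ (mem_matrixSet hg)
  have e1 : Cfsg.hermForm n F q x ((g : Matrix (Fin n) (Fin n) F) *ᵥ ((k.map σ)ᵀ *ᵥ v)) =
      Cfsg.hermForm n F q (((g⁻¹ : GL (Fin n) F) : Matrix (Fin n) (Fin n) F) *ᵥ x) ((k.map σ)ᵀ *ᵥ v) := by
    conv_lhs => rw [← inv_mulVec_cancel g x]
    rw [hfix]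
  have e2 : Cfsg.hermForm n F q x ((k.map σ)ᵀ *ᵥ ((g : Matrix (Fin n) (Fin n) F) *ᵥ v)) =
      Cfsg.hermForm n F q (((g⁻¹ : GL (Fin n) F) : Matrix (Fin n) (Fin n) F) *ᵥ x) ((k.map σ)ᵀ *ᵥ v) := by
    rw [← hadj, ← hadj]
    conv_lhs => rw [← inv_mulVec_cancel g x, Matrix.mulVec_mulVec, ← hcomm, ← Matrix.mulVec_mulVec]
    rw [hfix]
  rw [sub_eq_add_neg, ← neg_one_smul F ((k.map σ)ᵀ *ᵥ _), (isSesqForm_of_unitary hf).add_right,
    (isSesqForm_of_unitary hf).smul_right, e1, e2]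
  simp

/-- The lines of a diagonalisable normal subgroup of a unitary group are orthogonal and non-degenerate. -/
theorem nondegenerate_lines [Fintype F] (hq : IsQPow σ q) {r : ℕ} (hr : r.Prime) (hodd : Odd r)
    {H N : Subgroup (GL (Fin r) F)} (hH : ActsIrreducibly (matrixSet H)) (hHU : H ≤ Cfsg.GU r F q) (hNH : N ≤ H)
    {D : Fin r → Submodule F (Fin r → F)} {ψ : Fin r → N → F} (hD : IsMDecomposition 1 D)
    (hHD : H ≤ decompositionStabilizer D) (hψ : Function.Injective ψ) (hDψ : ∀ i, D i = eig N (ψ i)) :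
    IsNondegenerateMDecomposition (Cfsg.hermForm r F q) 1 D := by
  classical
  have hf := isUnitaryForm_hermForm (n := r) hq
  have hs := isSesqForm_of_unitary hf
  set f := Cfsg.hermForm r F q
  have hline : ∀ i, ∃ b, b ∈ D i ∧ b ≠ 0 ∧ ∀ w ∈ D i, ∃ c : F, w = c • b := by
    intro i
    obtain ⟨⟨b, hb⟩, hb0, hspan⟩ := finrank_eq_one_iff'.1 (hD.finrank_eq i)
    refine ⟨b, hb, fun e => hb0 (Subtype.ext e), fun w hw => ?_⟩
    obtain ⟨c, hc⟩ := hspan ⟨w, hw⟩
    exact ⟨c, (congrArg Subtype.val hc).symm⟩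
  choose b hb hb0 hbs using hline
  have hchar : ∀ i j, f (b i) (b j) ≠ 0 → ∀ m : N, ψ i m * σ (ψ j m) = 1 := by
    intro i j hne m
    have h1 : f (((m : GL (Fin r) F) : Matrix (Fin r) (Fin r) F) *ᵥ b i)
        (((m : GL (Fin r) F) : Matrix (Fin r) (Fin r) F) *ᵥ b j) = f (b i) (b j) := hHU (hNH m.2) (b i) (b j)
    have hi := mem_eig.1 (hDψ i ▸ hb i) m
    have hj := mem_eig.1 (hDψ j ▸ hb j) m
    rw [hi, hj, hs.smul_left, hs.smul_right, ← mul_assoc] at h1
    exact mul_right_cancel₀ hne (h1.trans (one_mul _).symm)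
  have hex : ∀ i, ∃ j, f (b i) (b j) ≠ 0 := by
    intro i
    by_contra! hall
    obtain ⟨x, hx⟩ := (hf.nondegenerate (b i) (hb0 i)).2
    apply hx
    clear hx
    have hx' : x ∈ iSup D := hD.iSup_eq_top.symm ▸ Submodule.mem_top
    induction hx' using Submodule.iSup_induction' with
    | mem j w hw =>
      obtain ⟨c, rfl⟩ := hbs j w hw
      rw [hs.smul_right, hall, mul_zero]
    | zero => exact hs.map_zero_right _
    | add y z _ _ hy hz => rw [hs.add_right, hy, hz, add_zero]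
  choose τ hτ using hex
  have huniq : ∀ i j, f (b i) (b j) ≠ 0 → j = τ i := by
    intro i j hne
    refine hψ (funext fun m => ?_)
    have h1 := hchar i j hne m
    have h2 := hchar i (τ i) (hτ i) m
    have h0 : ψ i m ≠ 0 := fun e => by rw [e, zero_mul] at h1; exact zero_ne_one h1
    exact σ.injective (mul_left_cancel₀ h0 (h1.trans h2.symm))
  have hττ : ∀ i, τ (τ i) = i := fun i => (huniq (τ i) i (fun e => hτ i (by
    show f (b i) (b (τ i)) = 0
    rw [hf.herm, e, map_zero]))).symm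
  obtain ⟨i₀, hi₀⟩ : ∃ i, τ i = i := by
    by_contra! hfix
    let π : Equiv.Perm (Fin r) := ⟨τ, τ, hττ, hττ⟩
    have hsupp : π.support = Finset.univ := Finset.eq_univ_of_forall fun i => Equiv.Perm.mem_support.2 (hfix i)
    have h2 : π ^ 2 = 1 := Equiv.ext fun i => hττ i
    have := Equiv.Perm.two_dvd_card_support h2
    rw [hsupp, Finset.card_univ, Fintype.card_fin] at this
    exact (Nat.not_even_iff_odd.2 hodd) (even_iff_two_dvd.2 this)
  have hall : ∀ i, τ i = i := by
    set X := ⨆ i : {i // τ i = i}, D i with hX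
    have hXtop : X = ⊤ := by
      rcases actsIrreducibly_iff.1 hH X (stable_matrixSet_iff.2 fun g hg v hv => by
          obtain ⟨π, hπ⟩ := hHD hg
          have hπτ : ∀ i, τ i = i → τ (π i) = π i := by
            intro i hi
            have hmem : ∀ k, (g : Matrix (Fin r) (Fin r) F) *ᵥ b k ∈ D (π k) := fun k => by
              rw [← hπ k]
              exact ⟨b k, hb k, Matrix.toLin'_apply _ _⟩
            obtain ⟨c, hc⟩ := hbs _ _ (hmem i)
            refine (huniq (π i) (π i) fun e => ?_).symm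
            have h1 : f ((g : Matrix (Fin r) (Fin r) F) *ᵥ b i) ((g : Matrix (Fin r) (Fin r) F) *ᵥ b i) =
                f (b i) (b i) := hHU hg (b i) (b i)
            rw [hc, hs.smul_left, hs.smul_right, e, mul_zero, mul_zero] at h1
            have := hτ i
            rw [hi] at this
            exact this h1.symm
          have hle : X.map (Matrix.toLin' (g : Matrix (Fin r) (Fin r) F)) ≤ X := by
            rw [hX, Submodule.map_iSup]
            exact iSup_le fun i => le_iSup_of_le ⟨π i, hπτ _ i.2⟩ (hπ i).le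
          exact hle ⟨v, hv, Matrix.toLin'_apply _ _⟩) with h | h
      · exfalso
        have : b i₀ ∈ X := Submodule.mem_iSup_of_mem ⟨i₀, hi₀⟩ (hb i₀)
        rw [h, Submodule.mem_bot] at this
        exact hb0 _ this
      · exact h
    intro i
    by_contra hi
    have hle : X ≤ ⨆ j, ⨆ (_ : j ≠ i), D j := iSup_le fun j => le_iSup₂_of_le (j : Fin r) (fun e => hi (e ▸ j.2)) le_rfl
    exact hb0 i (Submodule.disjoint_def.1 (hD.indep i) _ (hb i) (hle (hXtop ▸ Submodule.mem_top)))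
  refine ⟨hD, fun i w hw hw0 => ?_, fun i j hij u hu v hv => ?_⟩
  · obtain ⟨c, rfl⟩ := hbs i w hw
    have hc0 : c ≠ 0 := fun e => hw0 (by rw [e, zero_smul])
    have hne : f (b i) (b i) ≠ 0 := by simpa [hall i] using hτ i
    exact ⟨⟨b i, hb i, by rw [hs.smul_right]; exact mul_ne_zero (by simpa using hc0) hne⟩,
      ⟨b i, hb i, by rw [hs.smul_left]; exact mul_ne_zero hc0 hne⟩⟩
  · obtain ⟨c, rfl⟩ := hbs i u hu
    obtain ⟨d, rfl⟩ := hbs j v hv
    have h0 : f (b i) (b j) = 0 := by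
      by_contra hne
      exact hij (((huniq i j hne).trans (hall i)).symm)
    rw [hs.smul_left, hs.smul_right, h0, mul_zero, mul_zero]

/-- Aschbacher's dichotomy for SU in prime dimension at least five. -/
theorem unitary_cases [Fintype F] {r : ℕ} (hr : r.Prime) (hr5 : 5 ≤ r) (hF : Fintype.card F = q ^ 2)
    {H : Subgroup (GL (Fin r) F)} (hH : IsMaximalIn (Cfsg.GU r F q ⊓ specialLinear (Fin r) F) H) :
    (∃ W : Submodule F (Fin r → F), W ≠ ⊥ ∧ IsTotallySingularFor (Cfsg.hermForm r F q) W ∧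
      H = subspaceStabilizer W ⊓ (Cfsg.GU r F q ⊓ specialLinear (Fin r) F)) ∨
    (∃ W : Submodule F (Fin r → F), W ≠ ⊥ ∧ IsNondegenerateOn (Cfsg.hermForm r F q) W ∧
      2 * Module.finrank F W < r ∧ H = subspaceStabilizer W ⊓ (Cfsg.GU r F q ⊓ specialLinear (Fin r) F)) ∨
    (∃ D : Fin r → Submodule F (Fin r → F), IsNondegenerateMDecomposition (Cfsg.hermForm r F q) 1 D ∧
      H = decompositionStabilizer D ⊓ (Cfsg.GU r F q ⊓ specialLinear (Fin r) F)) ∨
    (∃ K : Subalgebra F (Matrix (Fin r) (Fin r) F), IsFieldSubalgebra r K ∧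
      IsAdjointClosedFor (Cfsg.hermForm r F q) K ∧
      H = subalgebraNormalizer K ⊓ (Cfsg.GU r F q ⊓ specialLinear (Fin r) F)) ∨
    (∃ (F₀ : Subfield F) (s : ℕ) (P : GL (Fin r) F), s.Prime ∧ Odd s ∧ Fintype.card F = Nat.card F₀ ^ s ∧
      IsFormRationalStructure (Cfsg.hermForm r F q) F₀ 1 P ∧
      H = subfieldSubgroup F₀ P ⊓ (Cfsg.GU r F q ⊓ specialLinear (Fin r) F)) ∨
    (Odd q ∧ ∃ (F₀ : Subfield F) (P : GL (Fin r) F), Fintype.card F = Nat.card F₀ ^ 2 ∧
      IsFormRationalStructure (Cfsg.hermForm r F q) F₀ 1 P ∧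
      H = subfieldSubgroup F₀ P ⊓ (Cfsg.GU r F q ⊓ specialLinear (Fin r) F)) ∨
    (∃ (p a : ℕ) (R : Subgroup (GL (Fin r) F)), p.Prime ∧ CharP F p ∧ q = p ^ a ∧ r ∣ q + 1 ∧
      IsMinimalFieldFor r p (2 * a) F ∧ IsSymplecticTypeGroup r R ∧ ActsAbsolutelyIrreducibly (matrixSet R) ∧
      R ≤ Cfsg.GU r F q ∧ Nat.card R = r ^ 3 ∧ Nat.card (Subgroup.center R) = r ∧
      H = subgroupNormalizer R ⊓ (Cfsg.GU r F q ⊓ specialLinear (Fin r) F)) ∨
    InUnitaryResidualClass H := by
  classical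
  obtain ⟨σ, hq⟩ := exists_isQPow hF
  haveI : NeZero r := ⟨hr.ne_zero⟩
  haveI : Nonempty (Fin r) := ⟨⟨0, hr.pos⟩⟩
  have hodd : Odd r := hr.odd_of_ne_two (by omega)
  have hr' : (Fintype.card (Fin r)).Prime := by rwa [Fintype.card_fin]
  obtain ⟨⟨hle, hnle⟩, hmax⟩ := hH
  have eqn : ∀ M : Subgroup (GL (Fin r) F), H ≤ M → ¬ SUg r F q ≤ M → H = M ⊓ SUg r F q := by
    intro M hHM hSM
    rcases hmax (M ⊓ SUg r F q) (le_inf hHM hle) inf_le_right with h | h
    · exact h.symm
    · exact absurd (h.ge.trans inf_le_left) hSM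
  have hHU : H ≤ Cfsg.GU r F q := hle.trans inf_le_left
  have hf := isUnitaryForm_hermForm (n := r) hq
  have hs := isSesqForm_of_unitary hf
  by_cases hirr : ActsIrreducibly (matrixSet H)
  swap
  · rw [actsIrreducibly_iff] at hirr
    push Not at hirr
    obtain ⟨W, hW, hW0, hW1⟩ := hirr
    have stab : ∀ U : Submodule F (Fin r → F), Stable (matrixSet H) U → H ≤ subspaceStabilizer U := by
      intro U hU g hg
      refine (mem_subspaceStabilizer_iff U g).2 fun v => ⟨fun hv => stable_matrixSet_iff.1 hU g hg v hv, fun hv => ?_⟩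
      simpa [mulVec_inv_cancel] using stable_matrixSet_iff.1 hU g⁻¹ (H.inv_mem hg) _ hv
    have notle : ∀ U : Submodule F (Fin r → F), U ≠ ⊥ → U ≠ ⊤ → ¬ SUg r F q ≤ subspaceStabilizer U := by
      intro U h0 h1 hle'
      rcases actsIrreducibly_iff.1 (actsIrreducibly_SU (n := r) hq hF hr.two_le) U (stable_matrixSet_iff.2 fun g hg v hv =>
        ((mem_subspaceStabilizer_iff U g).1 (hle' hg) v).1 hv) with h | h
      · exact h0 h
      · exact h1 h
    set W' := orthLeft hs.add_left hs.smul_left W with hW'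
    have hW's : Stable (matrixSet H) W' := stable_matrixSet_iff.2 fun g hg v hv w hw => by
      rw [← inv_mulVec_cancel g w]
      exact (hHU hg v _).trans (hv _ (stable_matrixSet_iff.1 hW g⁻¹ (H.inv_mem hg) w hw))
    by_cases hrad : W ⊓ W' = ⊥
    · have hdim : Fintype.card (Fin r) ≤ Module.finrank F W + Module.finrank F W' := finrank_le_orthLeft hs W
      rw [Fintype.card_fin] at hdim
      have hsum := Submodule.finrank_sup_add_finrank_inf_eq W W'
      rw [hrad, finrank_bot, add_zero] at hsum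
      have hle' := Submodule.finrank_le (W ⊔ W')
      rw [Module.finrank_pi, Fintype.card_fin] at hle'
      have hsup : W ⊔ W' = ⊤ := Submodule.eq_top_of_finrank_eq (by rw [Module.finrank_pi, Fintype.card_fin]; omega)
      have nd : ∀ U U' : Submodule F (Fin r → F), U ⊔ U' = ⊤ → (∀ u ∈ U, ∀ u' ∈ U', Cfsg.hermForm r F q u u' = 0) →
          IsNondegenerateOn (Cfsg.hermForm r F q) U := by
        intro U U' hUU horth w hw hw0
        obtain ⟨x, hx⟩ := (hf.nondegenerate w hw0).2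
        obtain ⟨a, ha, b, hb, rfl⟩ := Submodule.mem_sup.1 (hUU.symm ▸ Submodule.mem_top : x ∈ U ⊔ U')
        rw [hs.add_right, horth w hw b hb, add_zero] at hx
        exact ⟨⟨a, ha, fun e => hx (by rw [hf.herm, e, map_zero])⟩, ⟨a, ha, hx⟩⟩
      have horth : ∀ u ∈ W, ∀ u' ∈ W', Cfsg.hermForm r F q u u' = 0 := fun u hu u' hu' => by
        rw [hf.herm, hu' u hu, map_zero]
      have hpos : 0 < Module.finrank F W := Nat.pos_of_ne_zero fun e => hW0 (Submodule.finrank_eq_zero.1 e)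
      have hlt : Module.finrank F W < r := by
        have := Submodule.finrank_lt hW1
        rwa [Module.finrank_pi, Fintype.card_fin] at this
      rcases Nat.lt_or_ge (2 * Module.finrank F W) r with h2 | h2
      · exact Or.inr (Or.inl ⟨W, hW0, nd W W' hsup horth, h2, eqn _ (stab W hW) (notle W hW0 hW1)⟩)
      · have hne : 2 * Module.finrank F W ≠ r := fun e => (Nat.not_even_iff_odd.2 hodd) ⟨Module.finrank F W, by omega⟩
        have hW'0 : W' ≠ ⊥ := fun e => by rw [e, finrank_bot] at hdim; omega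
        have hW'1 : W' ≠ ⊤ := fun e => by
          rw [hsup, e, finrank_top, Module.finrank_pi, Fintype.card_fin] at hsum
          omega
        refine Or.inr (Or.inl ⟨W', hW'0, nd W' W (by rw [sup_comm]; exact hsup) (fun u hu u' hu' => hu u' hu'),
          by omega, eqn _ (stab W' hW's) (notle W' hW'0 hW'1)⟩)
    · refine Or.inl ⟨W ⊓ W', hrad, fun u hu v hv => hu.2 v hv.1, eqn _ (stab _ fun s hs' v hv =>
        ⟨hW s hs' v hv.1, hW's s hs' v hv.2⟩) (notle _ hrad fun e => hW1 (top_le_iff.1 (e ▸ inf_le_left)))⟩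
  have hr3' : 3 ≤ Fintype.card (Fin r) := by rw [Fintype.card_fin]; omega
  rcases commutant_cases hr' hirr with habs | ⟨hK, -⟩
  swap
  · rw [Fintype.card_fin] at hK
    exact Or.inr (Or.inr (Or.inr (Or.inl ⟨_, hK, isAdjointClosed_centralizer hq hHU,
      eqn _ (fun h hh => mem_subalgebraNormalizer_centralizer
        (fun x hx => H.mul_mem (H.mul_mem hh hx) (H.inv_mem hh))
        (fun x hx => H.mul_mem (H.mul_mem (H.inv_mem hh) hx) hh))
        (not_SU_le_subalgebraNormalizer hq hF (by omega) hK hr.one_lt)⟩)))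
  haveI : Finite (GL (Fin r) F) := Finite.of_injective (fun g : GL (Fin r) F => (g : Matrix (Fin r) (Fin r) F)) Units.val_injective
  haveI : Finite (Subgroup (GL (Fin r) F)) :=
    Finite.of_injective (fun K => (K : Set (GL (Fin r) F))) SetLike.coe_injective
  haveI : Nontrivial (Fin r) := Fin.nontrivial_iff_two_le.2 hr.two_le
  let 𝒩 := {L : Subgroup (GL (Fin r) F) | L ≤ H ∧ (∀ h ∈ H, ∀ x ∈ L, h * x * h⁻¹ ∈ L) ∧ ¬ L ≤ scalars (Fin r) F}
  have hHn : H ∈ 𝒩 := ⟨le_rfl, fun h hh x hx => H.mul_mem (H.mul_mem hh hx) (H.inv_mem hh), fun hs' => by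
    obtain ⟨x, hx, y, hy, hxy⟩ := not_abelian_of_absIrred habs
    exact hxy (scalar_commute (hs' hx) y)⟩
  obtain ⟨N, ⟨hNH, hnH, hNs⟩, hmin'⟩ := wellFounded_lt.has_min 𝒩 ⟨H, hHn⟩
  have hmin : ∀ L : Subgroup (GL (Fin r) F), L ≤ N → (∀ h ∈ H, ∀ x ∈ L, h * x * h⁻¹ ∈ L) →
      ¬ L ≤ scalars (Fin r) F → L = N := fun L hL hLn hLs => by
    by_contra hne
    exact hmin' L ⟨hL.trans hNH, hLn, hLs⟩ (lt_of_le_of_ne hL hne)
  have hNU : N ≤ Cfsg.GU r F q := hNH.trans hHU
  rcases eigen_or_irred hr' hirr hnH with ⟨⟨v, hv0, hv⟩, -⟩ | hNirr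
  · obtain ⟨D, ψ, hD, hHD, hψ, hDψ⟩ := exists_lines_eig hr (Fintype.card_fin r) hirr hnH hNs hv0 hv
    have hnd := nondegenerate_lines hq hr hodd hirr hHU hNH hD hHD hψ hDψ
    exact Or.inr (Or.inr (Or.inl ⟨D, hnd, eqn _ hHD (not_SU_le_decompositionStabilizer hq hF (by omega) hnd)⟩))
  rcases commutant_cases hr' hNirr with hN | ⟨hK, -⟩
  swap
  · rw [Fintype.card_fin] at hK
    exact Or.inr (Or.inr (Or.inr (Or.inl ⟨_, hK, isAdjointClosed_centralizer hq hNU,
      eqn _ (fun h hh => mem_subalgebraNormalizer_centralizer (hnH h hh)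
        (fun x hx => by simpa using hnH h⁻¹ (H.inv_mem hh) x hx))
        (not_SU_le_subalgebraNormalizer hq hF (by omega) hK hr.one_lt)⟩)))
  by_cases hreal : ∃ F₀ : Subfield F, F₀ ≠ ⊤ ∧ RealisableOver F₀ (matrixSet N)
  · obtain ⟨F₀, hne, B, hB⟩ := hreal
    obtain ⟨F₁, s, hle₁, hs₁, hcard⟩ := exists_prime_index hne
    have hP : ∀ g ∈ N, ∀ i j, ((((B⁻¹)⁻¹ : GL (Fin r) F) : Matrix (Fin r) (Fin r) F) * (g : Matrix (Fin r) (Fin r) F) *
        ((B⁻¹ : GL (Fin r) F) : Matrix (Fin r) (Fin r) F)) i j ∈ F₁ := fun g hg i j => by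
      rw [inv_inv]
      exact hle₁ (hB _ (mem_matrixSet hg) i j)
    obtain ⟨z, hz, hrat, hcase⟩ := exists_rational_structure hq hF hodd hr.two_le hN hNU hs₁ hcard B⁻¹ hP
    have hsub : H ≤ subfieldSubgroup F₁ (B⁻¹ * z) := by
      rw [subfieldSubgroup_scale F₁ _ hz]
      exact le_subfieldSubgroup_of_realised hnH hN hle₁ B hB
    have hne1 : F₁ ≠ ⊤ := by
      intro htop
      have e : Nat.card F₁ = Fintype.card F := by
        rw [htop, ← Nat.card_eq_fintype_card]
        exact Nat.card_congr Subfield.topEquiv.toEquiv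
      rw [e] at hcard
      have h1 := Nat.pow_lt_pow_right (Fintype.one_lt_card (α := F)) hs₁.one_lt
      rw [pow_one, ← hcard] at h1
      exact lt_irrefl _ h1
    have heq := eqn _ hsub (not_SU_le_subfieldSubgroup hq hF hr (by omega) hne1 _)
    rcases hcase with hso | ⟨rfl, hqo⟩
    · exact Or.inr (Or.inr (Or.inr (Or.inr (Or.inl ⟨F₁, s, _, hs₁, hso, hcard, hrat, heq⟩))))
    · exact Or.inr (Or.inr (Or.inr (Or.inr (Or.inr (Or.inl ⟨hqo, F₁, _, hcard, hrat, heq⟩)))))
  push Not at hreal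
  by_cases hcomm : ⁅N, N⁆ ≤ scalars (Fin r) F
  · have hSC : ScalarComm r N := ⟨hr, hodd, hN, hNH.trans (hle.trans inf_le_right),
      fun x hx y hy => hcomm (Subgroup.commutator_mem_commutator hx hy)⟩
    rcases scalarComm_field hSC with ⟨F₀, hne, hre⟩ | ⟨p, e, hp, hch, hc, hpr, hmf⟩
    · exact absurd hre (hreal F₀ hne)
    obtain ⟨a, -, ha⟩ := (Nat.dvd_prime_pow hp).1 (show q ∣ p ^ e by rw [← hc, hF]; exact dvd_pow_self q two_ne_zero)
    have he : e = 2 * a := Nat.pow_right_injective hp.two_le (by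
      show p ^ e = p ^ (2 * a)
      rw [← hc, hF, ha, ← pow_mul, mul_comm a 2])
    obtain ⟨μ, x, y, P⟩ := exists_framePair hSC
    have hdvd : r ∣ q + 1 := by
      have h1 := hNU P.frameZ_mem (Pi.single 0 1) (Pi.single 0 1)
      simp only [Units.coeHom_apply, P.coe_frameZ, Matrix.smul_mulVec, Matrix.one_mulVec] at h1
      rw [hs.smul_left, hs.smul_right] at h1
      have hd : Cfsg.hermForm r F q (Pi.single 0 1) (Pi.single 0 1) = 1 := by
        rw [hermForm_eq hq, Finset.sum_eq_single 0]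
        · simp
        · intro j _ hj; simp [Pi.single_eq_of_ne hj]
        · simp
      rw [hd, mul_one, hq.eq_pow, ← pow_succ'] at h1
      exact (P.root.pow_eq_one_iff_dvd _).1 h1
    exact Or.inr (Or.inr (Or.inr (Or.inr (Or.inr (Or.inr (Or.inl ⟨p, a, N, hp, hch, ha, hdvd, he ▸ hmf,
      isSymplecticTypeGroup hSC P, hN, hNU, P.card_eq hSC, P.card_center hSC,
      eqn _ (fun h hh => Subgroup.mem_normalizer_iff.2 fun x => ⟨hnH h hh x, fun hx => by
          simpa [mul_assoc] using hnH h⁻¹ (H.inv_mem hh) _ hx⟩)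
        (not_SU_le_subgroupNormalizer hq hF (by omega) hSC)⟩))))))
  have hperf : ⁅N, N⁆ = N := by
    refine hmin _ ?_ (conj_mem_commutator hnH) hcomm
    rw [Subgroup.commutator_le]
    exact fun x hx y hy => N.mul_mem (N.mul_mem (N.mul_mem hx hy) (N.inv_mem hx)) (N.inv_mem hy)
  have nobil : ∀ B : (Fin r → F) → (Fin r → F) → F, IsBilinearForm B → IsNondegenerateForm B →
      ¬ FixesForm (matrixSet N) B := fun B hB hBnd hfix => hreal (fixedSubfield σ) (fun e => by
        obtain ⟨c, hc⟩ := hq.moved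
        exact hc (mem_fixedSubfield.1 (e ▸ Subfield.mem_top c)))
      (realisable_fixedSubfield hq hF hodd hN hNU hB hBnd hfix)
  exact Or.inr (Or.inr (Or.inr (Or.inr (Or.inr (Or.inr (Or.inr ⟨N, isResidualCore_of_minimal hr' hNH hnH hmin hN hperf hreal,
    fun ⟨Q, hQ, hfix⟩ => nobil _ hQ.polar_bilinear hQ.nondegenerate
      (fun s hs' u v => by simp only [QuadraticMap.polar, ← Matrix.mulVec_add, hfix s hs']),
    fun ⟨f, hf', hfix⟩ => nobil f hf'.bilinear hf'.nondegenerate hfix⟩))))))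

end CfsgLib.Geo.Asch
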