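/-
Field subalgebras and decompositions for subgroups of the symplectic groups.
-/
import Cfsg.Agent.Lib.Geo.Asch.SpForms
import Cfsg.Agent.Lib.Geo.Asch.UnitAdjoint
import Cfsg.Agent.Lib.Geo.Asch.Unitary
import Cfsg.Agent.Lib.Classical.Symplectic.Matrix

set_option autoImplicit false

namespace CfsgLib.Geo.Asch

open Matrix Cfsg.Geo
open CfsgLib.Geo.Roots (isSymplecticForm_sympForm mem_spGL_iff)
open CfsgLib.Classical.Symp (sympBil sympBil_apply sympBil_isAlt sympBil_nondegenerate)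

variable {F : Type*} [Field F] {m : ℕ}

theorem adjS_mem_comm {N : Subgroup (GL (Fin m ⊕ Fin m) F)} (hN : N ≤ Cfsg.spGL m F)
    {X : Matrix (Fin m ⊕ Fin m) (Fin m ⊕ Fin m) F} (hX : X ∈ comm N) : adjS X ∈ comm N := by
  rw [Subalgebra.mem_centralizer_iff] at hX ⊢
  rintro _ ⟨g, hg, rfl⟩
  have h := congrArg adjS (hX _ (mem_matrixSet (N.inv_mem hg)))
  rw [adjS_mul, adjS_mul, adjS_of_mem (hN (N.inv_mem hg)), inv_inv] at h
  exact h.symm

theorem adjS_mem_centreComm {N : Subgroup (GL (Fin m ⊕ Fin m) F)} (hN : N ≤ Cfsg.spGL m F)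
    {X : Matrix (Fin m ⊕ Fin m) (Fin m ⊕ Fin m) F} (hX : X ∈ centreComm N) : adjS X ∈ centreComm N := by
  refine ⟨adjS_mem_comm hN hX.1, (Subalgebra.mem_centralizer_iff F).2 fun c hc => ?_⟩
  have h := congrArg adjS ((Subalgebra.mem_centralizer_iff F).1 hX.2 (adjS c) (adjS_mem_comm hN hc))
  rw [adjS_mul, adjS_mul, adjS_adjS] at h
  exact h.symm

theorem adjS_mem_centralizer {H : Subgroup (GL (Fin m ⊕ Fin m) F)} (hH : H ≤ Cfsg.spGL m F)
    {X : Matrix (Fin m ⊕ Fin m) (Fin m ⊕ Fin m) F} (hX : X ∈ Subalgebra.centralizer F (matrixSet H)) :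
    adjS X ∈ Subalgebra.centralizer F (matrixSet H) :=
  adjS_mem_comm hH hX

theorem isAdjointClosedFor_of_adjS {K : Subalgebra F (Matrix (Fin m ⊕ Fin m) (Fin m ⊕ Fin m) F)}
    (h : ∀ k ∈ K, adjS k ∈ K) : IsAdjointClosedFor (Cfsg.sympForm m F) K :=
  fun k hk => ⟨adjS k, h k hk, sympForm_adjS k⟩

theorem isSelfAdjointFor_iff {K : Subalgebra F (Matrix (Fin m ⊕ Fin m) (Fin m ⊕ Fin m) F)} :
    IsSelfAdjointFor (Cfsg.sympForm m F) K ↔ ∀ k ∈ K, adjS k = k :=
  ⟨fun h k hk => adjS_unique (h k hk), fun h k hk u v => by rw [sympForm_adjS, h k hk]⟩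

/-- A self-adjoint field with `f (k v) v = 0` has degree dividing `m`. -/
theorem dvd_of_selfAdjoint [Fintype F] {r : ℕ} {K : Subalgebra F (Matrix (Fin m ⊕ Fin m) (Fin m ⊕ Fin m) F)}
    (hK : IsFieldSubalgebra r K) (hs : IsSelfAdjointFor (Cfsg.sympForm m F) K)
    (hz : ∀ k ∈ K, ∀ v, Cfsg.sympForm m F (k *ᵥ v) v = 0) : r ∣ m := by
  have hf := isSymplecticForm_sympForm (m := m) (F := F)
  set f := Cfsg.sympForm m F
  let P : Submodule F (Fin m ⊕ Fin m → F) → Prop := fun W =>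
    (∀ k ∈ K, ∀ w ∈ W, k *ᵥ w ∈ W) ∧ (∀ u ∈ W, ∀ w ∈ W, f u w = 0) ∧ r ∣ Module.finrank F W
  have hP : {W | P W}.Nonempty := ⟨⊥, fun k _ w hw => by
      rw [Submodule.mem_bot] at hw ⊢; rw [hw, Matrix.mulVec_zero],
    fun u hu w _ => by
      rw [Submodule.mem_bot] at hu; rw [hu, ← zero_smul F (0 : Fin m ⊕ Fin m → F), hf.bilinear.smul_left, zero_mul],
    by simp⟩
  obtain ⟨W, ⟨hWK, hWts, hWr⟩, hmax⟩ := wellFounded_gt.has_min {W | P W} hP
  have hperp : (sympBil m F).orthogonal W ≤ W := by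
    intro u hu
    by_contra huW
    have hu0 : u ≠ 0 := fun e => huW (e ▸ W.zero_mem)
    let L : K →ₗ[F] (Fin m ⊕ Fin m → F) :=
      { toFun := fun k => (k : Matrix (Fin m ⊕ Fin m) (Fin m ⊕ Fin m) F) *ᵥ u
        map_add' := fun a b => by simp [Matrix.add_mulVec]
        map_smul' := fun c a => by simp [Matrix.smul_mulVec] }
    have hL : Function.Injective L := by
      rw [← LinearMap.ker_eq_bot, LinearMap.ker_eq_bot']
      intro k hk
      by_contra hk0
      obtain ⟨y, hy, hky⟩ := hK.inv k.1 k.2 fun e => hk0 (Subtype.ext e)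
      apply hu0
      have e1 : (k : Matrix (Fin m ⊕ Fin m) (Fin m ⊕ Fin m) F) *ᵥ u = 0 := hk
      rw [← Matrix.one_mulVec u, ← hky, hK.comm _ k.2 _ hy, ← Matrix.mulVec_mulVec, e1, Matrix.mulVec_zero]
    have hperpK : ∀ k ∈ K, ∀ w ∈ W, f w (k *ᵥ u) = 0 := fun k hk w hw => by
      rw [← hs k hk w u]
      exact (sympBil_apply m F (k *ᵥ w) u).symm.trans (hu _ (hWK k hk w hw))
    have hinf : W ⊓ LinearMap.range L = ⊥ := by
      rw [eq_bot_iff]
      rintro x ⟨hx, k, rfl⟩
      rw [Submodule.mem_bot]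
      by_contra hx0
      obtain ⟨y, hy, hky⟩ := hK.inv k.1 k.2 fun e => hx0 (by
        show (k : Matrix (Fin m ⊕ Fin m) (Fin m ⊕ Fin m) F) *ᵥ u = 0
        rw [e, Matrix.zero_mulVec])
      refine huW ?_
      have h1 := hWK y hy _ hx
      change y *ᵥ ((k : Matrix (Fin m ⊕ Fin m) (Fin m ⊕ Fin m) F) *ᵥ u) ∈ W at h1
      rwa [Matrix.mulVec_mulVec, hK.comm _ hy _ k.2, hky, Matrix.one_mulVec] at h1
    refine hmax (W ⊔ LinearMap.range L) ⟨?_, ?_, ?_⟩ (lt_of_le_of_ne le_sup_left fun e => huW ?_)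
    · intro k hk x hx
      obtain ⟨a, ha, _, ⟨b, rfl⟩, rfl⟩ := Submodule.mem_sup.1 hx
      rw [Matrix.mulVec_add]
      refine Submodule.add_mem _ (Submodule.mem_sup_left (hWK k hk a ha))
        (Submodule.mem_sup_right ⟨⟨k * b.1, K.mul_mem hk b.2⟩, ?_⟩)
      show (k * b.1) *ᵥ u = k *ᵥ (b.1 *ᵥ u)
      rw [Matrix.mulVec_mulVec]
    · intro x hx y hy
      obtain ⟨a, ha, _, ⟨b, rfl⟩, rfl⟩ := Submodule.mem_sup.1 hx
      obtain ⟨c, hc, _, ⟨d, rfl⟩, rfl⟩ := Submodule.mem_sup.1 hy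
      have e1 : f (L b) c = 0 := by rw [hf.skew]; exact neg_eq_zero.2 (hperpK _ b.2 c hc)
      have e2 : f (L b) (L d) = 0 := by
        show f (b.1 *ᵥ u) (d.1 *ᵥ u) = 0
        rw [← hs d.1 d.2, Matrix.mulVec_mulVec]
        exact hz _ (K.mul_mem d.2 b.2) u
      have e3 : f a (L d) = 0 := hperpK _ d.2 a ha
      rw [hf.bilinear.add_left, hf.bilinear.add_right, hf.bilinear.add_right, hWts a ha c hc, e1, e2, e3]
      simp
    · have h1 := Submodule.finrank_sup_add_finrank_inf_eq W (LinearMap.range L)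
      rw [hinf, finrank_bot, add_zero, LinearMap.finrank_range_of_inj hL, hK.finrank_eq] at h1
      rw [h1]
      exact dvd_add hWr (dvd_refl r)
    · exact e ▸ Submodule.mem_sup_right ⟨⟨1, K.one_mem⟩, Matrix.one_mulVec u⟩
  have hle : W ≤ (sympBil m F).orthogonal W := fun u hu w hw => by
    exact (sympBil_apply m F w u).trans (hWts w hw u hu)
  have h1 := LinearMap.BilinForm.finrank_orthogonal (sympBil_nondegenerate m F) W
  rw [le_antisymm hperp hle, Module.finrank_pi, Fintype.card_sum, Fintype.card_fin] at h1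
  have h3 := Submodule.finrank_le W
  rw [Module.finrank_pi, Fintype.card_sum, Fintype.card_fin] at h3
  rwa [show Module.finrank F W = m by omega] at hWr

/-- An adjoint-closed field contains one of prime degree: self-adjoint, or quadratic. -/
theorem sp_field_cases [Fintype F] (hm : 1 ≤ m) {e : ℕ}
    {K : Subalgebra F (Matrix (Fin m ⊕ Fin m) (Fin m ⊕ Fin m) F)} (hK : IsFieldSubalgebra e K)
    (hadj : ∀ k ∈ K, adjS k ∈ K) (he : e ≠ 1) :
    (∃ (r : ℕ) (L : Subalgebra F (Matrix (Fin m ⊕ Fin m) (Fin m ⊕ Fin m) F)), r.Prime ∧ r ∣ m ∧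
      IsFieldSubalgebra r L ∧ IsSelfAdjointFor (Cfsg.sympForm m F) L ∧
      (∀ k ∈ L, ∀ v, Cfsg.sympForm m F (k *ᵥ v) v = 0) ∧ subalgebraNormalizer K ≤ subalgebraNormalizer L) ∨
    (∃ L : Subalgebra F (Matrix (Fin m ⊕ Fin m) (Fin m ⊕ Fin m) F), IsFieldSubalgebra 2 L ∧
      (∀ k ∈ L, adjS k ∈ L) ∧ ¬ IsSelfAdjointFor (Cfsg.sympForm m F) L ∧
      subalgebraNormalizer K ≤ subalgebraNormalizer L) := by
  classical
  haveI : Nonempty (Fin m ⊕ Fin m) := ⟨Sum.inl ⟨0, by omega⟩⟩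
  obtain ⟨r, L, hr, -, -, hL, hnorm, hmem⟩ := exists_prime_subalgebra' hK he
  have hLadj : ∀ k ∈ L, adjS k ∈ L := fun k hk => by
    obtain ⟨hkK, hkQ⟩ := (hmem k).1 hk
    exact (hmem _).2 ⟨hadj k hkK, by rw [← adjS_pow, hkQ]⟩
  by_cases hsa : IsSelfAdjointFor (Cfsg.sympForm m F) L
  · have hz : ∀ k ∈ L, ∀ v, Cfsg.sympForm m F (k *ᵥ v) v = 0 := by
      intro k hk v
      by_cases h2 : (2 : F) = 0
      · obtain ⟨c, hc⟩ : 2 ∣ Fintype.card F := by
          rcases Nat.even_or_odd (Fintype.card F) with h | h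
          · exact h.two_dvd
          · exact absurd h2 (odd_card_iff_two_ne_zero.1 h)
        obtain ⟨-, hkQ⟩ := (hmem k).1 hk
        obtain ⟨b, hb⟩ : ∃ b, Fintype.card F ^ r = 2 * b := by
          obtain ⟨r', rfl⟩ := Nat.exists_eq_succ_of_ne_zero hr.ne_zero
          exact ⟨c * Fintype.card F ^ r', by rw [pow_succ', ← mul_assoc, ← hc]⟩
        rw [← hkQ, hb, two_mul, pow_add, ← Matrix.mulVec_mulVec, hsa _ (L.pow_mem hk b)]
        exact (isSymplecticForm_sympForm (m := m) (F := F)).alternating _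
      · have h1 := (isSymplecticForm_sympForm (m := m) (F := F)).skew (k *ᵥ v) v
        rw [← hsa k hk v v] at h1
        exact (mul_eq_zero.1 (show (2 : F) * Cfsg.sympForm m F (k *ᵥ v) v = 0 by linear_combination h1)).resolve_left h2
    exact Or.inl ⟨r, L, hr, dvd_of_selfAdjoint hL hsa hz, hL, hsa, hz, hnorm⟩
  · refine Or.inr ⟨L, ?_, hLadj, hsa, hnorm⟩
    suffices hr2 : r = 2 by rwa [hr2] at hL
    have hLf : IsField L :=
      { exists_pair_ne := ⟨0, 1, fun h => zero_ne_one (congrArg Subtype.val h)⟩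
        mul_comm := fun a b => Subtype.ext (hL.comm _ a.2 _ b.2)
        mul_inv_cancel := fun {a} ha => by
          obtain ⟨y, hy, hy'⟩ := hL.inv a a.2 fun h => ha (Subtype.ext h)
          exact ⟨⟨y, hy⟩, Subtype.ext hy'⟩ }
    letI : Field L := hLf.toField
    haveI : Finite L := inferInstance
    let ψ : L →ₐ[F] L :=
      { toFun := fun x => ⟨adjS x.1, hLadj _ x.2⟩
        map_one' := Subtype.ext adjS_one
        map_mul' := fun x y => Subtype.ext (by
          show adjS (x.1 * y.1) = adjS x.1 * adjS y.1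
          rw [adjS_mul, hL.comm _ (hLadj _ y.2) _ (hLadj _ x.2)])
        map_zero' := Subtype.ext (by
          show adjS (0 : Matrix (Fin m ⊕ Fin m) (Fin m ⊕ Fin m) F) = 0
          simp [adjS])
        map_add' := fun x y => Subtype.ext (adjS_add _ _)
        commutes' := fun c => Subtype.ext (by
          show adjS (algebraMap F (Matrix (Fin m ⊕ Fin m) (Fin m ⊕ Fin m) F) c) = _
          rw [Algebra.algebraMap_eq_smul_one, adjS_smul, adjS_one]
          exact (Algebra.algebraMap_eq_smul_one c).symm) }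
    have hinv : ∀ x, ψ (ψ x) = x := fun x => Subtype.ext (adjS_adjS _)
    let φ : L ≃ₐ[F] L := AlgEquiv.ofBijective ψ
      ⟨fun a b h => by rw [← hinv a, ← hinv b, h], fun b => ⟨ψ b, hinv b⟩⟩
    have ho : orderOf φ = 2 := by
      refine orderOf_eq_prime ?_ ?_
      · exact AlgEquiv.ext fun x => by rw [pow_two, AlgEquiv.mul_apply]; exact hinv x
      · intro h1
        refine hsa (isSelfAdjointFor_iff.2 fun k hk => ?_)
        exact congrArg Subtype.val (AlgEquiv.congr_fun h1 ⟨k, hk⟩)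
    have h2 : 2 ∣ r := by
      rw [← ho, ← hL.finrank_eq]
      refine (orderOf_dvd_natCard φ).trans ?_
      rw [IsGalois.card_aut_eq_finrank]
    exact ((Nat.prime_dvd_prime_iff_eq Nat.prime_two hr).1 h2).symm

/-- In characteristic two the normaliser of a quadratic adjoint-closed field fixes a quadratic form. -/
theorem quad_of_quadratic_field [Fintype F] (h2 : (2 : F) = 0)
    {L : Subalgebra F (Matrix (Fin m ⊕ Fin m) (Fin m ⊕ Fin m) F)} (hL : IsFieldSubalgebra 2 L)
    (hadj : ∀ k ∈ L, adjS k ∈ L) (hns : ¬ IsSelfAdjointFor (Cfsg.sympForm m F) L)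
    {H : Subgroup (GL (Fin m ⊕ Fin m) F)} (hH : H ≤ Cfsg.spGL m F) (hle : H ≤ subalgebraNormalizer L) :
    ∃ Q : (Fin m ⊕ Fin m → F) → F, IsNondegenerateQuadraticForm Q ∧
      (∀ u v, QuadraticMap.polar Q u v = Cfsg.sympForm m F u v) ∧ H ≤ quadSimilarityGroup Q := by
  have hf := isSymplecticForm_sympForm (m := m) (F := F)
  have hneg : ∀ a : F, -a = a := fun a => by linear_combination -a * h2
  rw [isSelfAdjointFor_iff] at hns
  push Not at hns
  obtain ⟨k₀, hk₀, hne⟩ := hns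
  have hfixed : ∀ x ∈ L, adjS x = x → ∃ c : F, x = c • (1 : Matrix (Fin m ⊕ Fin m) (Fin m ⊕ Fin m) F) := by
    intro x hx hfx
    by_contra hall
    push Not at hall
    have hli : LinearIndependent F ![(⟨1, L.one_mem⟩ : L), ⟨x, hx⟩] := by
      rw [LinearIndependent.pair_iff]
      intro s t hst
      have h1 : s • (1 : Matrix (Fin m ⊕ Fin m) (Fin m ⊕ Fin m) F) + t • x = 0 := congrArg Subtype.val hst
      by_cases ht : t = 0
      · subst ht
        refine ⟨?_, rfl⟩
        rw [zero_smul, add_zero] at h1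
        by_contra hs
        refine hall 0 ?_
        have h3 : (1 : Matrix (Fin m ⊕ Fin m) (Fin m ⊕ Fin m) F) = 0 := (smul_eq_zero.1 h1).resolve_left hs
        rw [← one_mul x, h3, zero_mul, smul_zero]
      · refine absurd ?_ (hall (-(s / t)))
        rw [← smul_right_inj ht, smul_smul, mul_neg, mul_div_cancel₀ s ht, neg_smul]
        exact eq_neg_of_add_eq_zero_right h1
    have htop := hli.span_eq_top_of_card_eq_finrank' (by simp [hL.finrank_eq])
    obtain ⟨a, b, hab⟩ : ∃ a b : F, a • (⟨1, L.one_mem⟩ : L) + b • ⟨x, hx⟩ = ⟨k₀, hk₀⟩ := by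
      rw [← Submodule.mem_span_pair, ← Matrix.range_cons_cons_empty _ _ ![], htop]
      exact Submodule.mem_top
    have e : a • (1 : Matrix (Fin m ⊕ Fin m) (Fin m ⊕ Fin m) F) + b • x = k₀ := congrArg Subtype.val hab
    exact hne (by rw [← e, adjS_add, adjS_smul, adjS_smul, adjS_one, hfx])
  obtain ⟨c, hc⟩ := hfixed _ (L.add_mem hk₀ (hadj _ hk₀)) (by rw [adjS_add, adjS_adjS, add_comm])
  have hc0 : c ≠ 0 := fun h0 => hne (by
    rw [h0, zero_smul] at hc
    rw [eq_neg_of_add_eq_zero_right hc, ← neg_one_smul F k₀, hneg 1, one_smul])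
  set ω := c⁻¹ • k₀ with hω
  have hωmem : ω ∈ L := L.smul_mem hk₀ _
  have hω1 : ω + adjS ω = 1 := by rw [hω, adjS_smul, ← smul_add, hc, smul_smul, inv_mul_cancel₀ hc0, one_smul]
  have hb := hf.bilinear
  set Q : (Fin m ⊕ Fin m → F) → F := fun v => Cfsg.sympForm m F (ω *ᵥ v) v with hQdef
  have hpol : ∀ u v, QuadraticMap.polar Q u v = Cfsg.sympForm m F u v := by
    intro u v
    have h1 : Cfsg.sympForm m F (ω *ᵥ v) u = Cfsg.sympForm m F (adjS ω *ᵥ u) v := by
      rw [sympForm_adjS, hf.skew, hneg]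
    simp only [QuadraticMap.polar, hQdef, Matrix.mulVec_add, hb.add_left, hb.add_right, h1]
    rw [show Cfsg.sympForm m F u v = Cfsg.sympForm m F ((ω + adjS ω) *ᵥ u) v by rw [hω1, Matrix.one_mulVec],
      Matrix.add_mulVec, hb.add_left]
    ring
  have hpol' : QuadraticMap.polar Q = Cfsg.sympForm m F := funext fun u => funext fun v => hpol u v
  refine ⟨Q, ⟨fun a v => by simp only [hQdef, Matrix.mulVec_smul, hb.smul_left, hb.smul_right]; ring,
    hpol' ▸ hb, hpol' ▸ hf.nondegenerate⟩, hpol, fun g hg => ⟨1, fun v => ?_⟩⟩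
  rw [Units.val_one, one_mul]
  set G := (g : Matrix (Fin m ⊕ Fin m) (Fin m ⊕ Fin m) F)
  set G' := ((g⁻¹ : GL (Fin m ⊕ Fin m) F) : Matrix (Fin m ⊕ Fin m) (Fin m ⊕ Fin m) F)
  have hmem : G * ω * G' ∈ L := ((hle hg) ω).1 hωmem
  have hadj' : adjS (G * ω * G') = G * adjS ω * G' := by
    rw [adjS_mul, adjS_mul, adjS_of_mem (hH hg), adjS_of_mem ((Cfsg.spGL m F).inv_mem (hH hg)), inv_inv, mul_assoc]
  obtain ⟨d, hd⟩ := hfixed _ (L.sub_mem hωmem hmem) (by
    have h1 : G * ω * G' + adjS (G * ω * G') = 1 := by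
      rw [hadj', ← add_mul, ← mul_add, hω1, mul_one, ← Units.val_mul, mul_inv_cancel, Units.val_one]
    rw [sub_eq_add_neg, adjS_add, show adjS (-(G * ω * G')) = -adjS (G * ω * G') by simp [adjS],
      eq_sub_of_add_eq' hω1, eq_sub_of_add_eq' h1]
    have h3 : ∀ X Y : Matrix (Fin m ⊕ Fin m) (Fin m ⊕ Fin m) F, 1 - X + -(1 - Y) = X + -Y := fun X Y => by
      rw [show 1 - X + -(1 - Y) = (-1 : F) • (X + -Y) by module, hneg 1, one_smul]
    exact h3 _ _)
  show Cfsg.sympForm m F (ω *ᵥ (G *ᵥ v)) (G *ᵥ v) = Cfsg.sympForm m F (ω *ᵥ v) v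
  rw [show ω = G * ω * G' + d • (1 : Matrix (Fin m ⊕ Fin m) (Fin m ⊕ Fin m) F) by rw [← hd]; abel, Matrix.add_mulVec,
    Matrix.smul_mulVec, Matrix.one_mulVec, hb.add_left, hb.smul_left, hf.alternating, mul_zero, add_zero,
    ← hd, Matrix.mulVec_mulVec]
  rw [show G * ω * G' * G = G * ω by rw [mul_assoc, ← Units.val_mul, inv_mul_cancel, Units.val_one, mul_one],
    ← Matrix.mulVec_mulVec, mem_spGL_iff.1 (hH hg)]
  congr 1
  rw [show G * ω * G' + (ω - G * ω * G') = ω by abel]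

/-- The homogeneous components of a normal subgroup of a symplectic group are orthogonal or pair off. -/
theorem sp_decomposition {H N : Subgroup (GL (Fin m ⊕ Fin m) F)} (hHU : H ≤ Cfsg.spGL m F)
    (hNH : N ≤ H) {t d : ℕ} {D : Fin t → Submodule F (Fin m ⊕ Fin m → F)} (hD : IsMDecomposition d D)
    (hHD : H ≤ decompositionStabilizer D) (hst : ∀ i, Stable (NC N) (D i))
    (hmin : ∀ i, ∀ U, U ≤ D i → Stable (NC N) U → U = ⊥ ∨ U = D i)
    (htr : ∀ i j, ∃ h ∈ H, (D i).map (linEquiv h : (Fin m ⊕ Fin m → F) →ₗ[F] (Fin m ⊕ Fin m → F)) = D j) :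
    IsNondegenerateMDecomposition (Cfsg.sympForm m F) d D ∨
    (t = 2 ∧ ∀ i, IsTotallySingularFor (Cfsg.sympForm m F) (D i)) ∨
    (∃ (t' : ℕ) (E : Fin t' → Submodule F (Fin m ⊕ Fin m → F)),
      IsNondegenerateMDecomposition (Cfsg.sympForm m F) (2 * d) E ∧ H ≤ decompositionStabilizer E) := by
  classical
  have hf := isSymplecticForm_sympForm (m := m) (F := F)
  have hs := sympSesq (m := m) (F := F)
  set f := Cfsg.sympForm m F with hf'
  have hne : ∀ i, D i ≠ ⊥ := fun i h => hD.pos.ne' (by rw [← hD.finrank_eq i, h, finrank_bot])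
  have hDinj : Function.Injective D := hD.indep.injective hne
  have hNU : N ≤ Cfsg.spGL m F := hNH.trans hHU
  choose p hp1 hp0 hpc using fun j => projection_commute hD j
  have hpC : ∀ j, p j ∈ centreComm N := by
    have hcomm : ∀ j, p j ∈ comm N := fun j => (Subalgebra.mem_centralizer_iff F).2 fun s hs' =>
      hpc j s fun i v hv => hst i s (Or.inl hs') v hv
    exact fun j => ⟨hcomm j, (Subalgebra.mem_centralizer_iff F).2 fun c hc =>
      hpc j c fun i v hv => hst i c (Or.inr hc) v hv⟩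
  have hsum : ∀ (v x : Fin m ⊕ Fin m → F), (∀ i, ∀ w ∈ D i, f v w = 0) → f v x = 0 := by
    intro v x hall
    have hx : x ∈ iSup D := hD.iSup_eq_top.symm ▸ Submodule.mem_top
    induction hx using Submodule.iSup_induction' with
    | mem j w hw => exact hall j w hw
    | zero => exact hs.map_zero_right _
    | add y z _ _ hy hz => rw [hs.add_right, hy, hz, add_zero]
  -- a member is orthogonal to another or paired faithfully with it
  have hdich : ∀ i j, (∀ u ∈ D i, ∀ w ∈ D j, f u w = 0) ∨ (∀ u ∈ D i, u ≠ 0 → ∃ w ∈ D j, f u w ≠ 0) := by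
    intro i j
    let R : Submodule F (Fin m ⊕ Fin m → F) := D i ⊓ orthLeft' (f := f) hs.add_left hs.smul_left (D j)
    have hRs : Stable (NC N) R := by
      intro s hs' u hu
      refine ⟨hst i s hs' u hu.1, fun w hw => ?_⟩
      rw [hf', sympForm_adjS]
      refine hu.2 _ ?_
      rcases hs' with ⟨g, hg, rfl⟩ | hc
      · rw [adjS_of_mem (hNU hg)]
        exact hst j _ (Or.inl (mem_matrixSet (N.inv_mem hg))) w hw
      · exact hst j _ (Or.inr (adjS_mem_comm hNU hc)) w hw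
    rcases hmin i R inf_le_left hRs with h | h
    · refine Or.inr fun u hu hu0 => ?_
      by_contra! hall
      exact hu0 ((Submodule.eq_bot_iff _).1 h u ⟨hu, hall⟩)
    · exact Or.inl fun u hu w hw => (h.ge hu).2 w hw
  have hex : ∀ i, ∃ j, ∀ u ∈ D i, u ≠ 0 → ∃ w ∈ D j, f u w ≠ 0 := by
    intro i
    obtain ⟨u, hu, hu0⟩ := Submodule.exists_mem_ne_zero_of_ne_bot (hne i)
    by_contra! hall
    obtain ⟨x, hx⟩ := (hf.nondegenerate u hu0).2
    refine hx (hsum u x fun j w hw => ?_)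
    rcases hdich i j with h | h
    · exact h u hu w hw
    · obtain ⟨a, ha, ha0, hz⟩ := hall j
      obtain ⟨b, hb, hb0⟩ := h a ha ha0
      exact absurd (hz b hb) hb0
  choose τ hτ using hex
  have huniq : ∀ i j, j ≠ τ i → ∀ u ∈ D i, ∀ w ∈ D j, f u w = 0 := by
    intro i j hj
    rcases hdich i j with h | h
    · exact h
    exfalso
    set a := adjS (p (τ i))
    have haC := adjS_mem_centreComm hNU (hpC (τ i))
    obtain ⟨u, hu, hu0⟩ := Submodule.exists_mem_ne_zero_of_ne_bot (hne i)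
    have hau : ∀ v ∈ D i, a *ᵥ v ∈ D i := fun v hv => hst i a (Or.inr haC.1) v hv
    let U : Submodule F (Fin m ⊕ Fin m → F) := D i ⊓ LinearMap.ker (Matrix.toLin' a)
    have hUs : Stable (NC N) U := by
      intro s hs' v hv
      refine ⟨hst i s hs' v hv.1, ?_⟩
      have hcom : a * s = s * a := by
        rcases hs' with hg | hc
        · exact ((Subalgebra.mem_centralizer_iff F).1 haC.1 s hg).symm
        · exact ((Subalgebra.mem_centralizer_iff F).1 haC.2 s hc).symm
      show Matrix.toLin' a (s *ᵥ v) = 0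
      rw [Matrix.toLin'_apply, Matrix.mulVec_mulVec, hcom, ← Matrix.mulVec_mulVec]
      have : a *ᵥ v = 0 := by simpa [← Matrix.toLin'_apply] using hv.2
      rw [this, Matrix.mulVec_zero]
    have key : ∀ v w, f (a *ᵥ v) w = f v (p (τ i) *ᵥ w) := fun v w => by
      rw [hf', sympForm_adjS, adjS_adjS]
    rcases hmin i U inf_le_left hUs with hU | hU
    · obtain ⟨w, hw, hw0⟩ := h (a *ᵥ u) (hau u hu) fun h0 => hu0 ((Submodule.eq_bot_iff _).1 hU u
        ⟨hu, by simpa [← Matrix.toLin'_apply] using h0⟩)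
      rw [key, hp0 (τ i) j hj w hw, hs.map_zero_right] at hw0
      exact hw0 rfl
    · obtain ⟨w, hw, hw0⟩ := hτ i u hu hu0
      have h0 : a *ᵥ u = 0 := by simpa [← Matrix.toLin'_apply] using (hU.ge hu).2
      have := key u w
      rw [h0, hs.map_zero_left, hp1 (τ i) w hw] at this
      exact hw0 this.symm
  have hττ : ∀ i, τ (τ i) = i := by
    intro i
    obtain ⟨u, hu, hu0⟩ := Submodule.exists_mem_ne_zero_of_ne_bot (hne i)
    obtain ⟨w, hw, hw0⟩ := hτ i u hu hu0
    by_contra hne'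
    exact hw0 (by rw [hf.skew, huniq (τ i) i (Ne.symm hne') w hw u hu, neg_zero])
  have hequiv : ∀ h ∈ H, ∃ π : Equiv.Perm (Fin t),
      (∀ i, (D i).map (Matrix.toLin' (h : Matrix (Fin m ⊕ Fin m) (Fin m ⊕ Fin m) F)) = D (π i)) ∧
      ∀ i, τ (π i) = π (τ i) := by
    intro h hh
    obtain ⟨π, hπ⟩ := hHD hh
    refine ⟨π, hπ, fun i => ?_⟩
    obtain ⟨u, hu, hu0⟩ := Submodule.exists_mem_ne_zero_of_ne_bot (hne i)
    obtain ⟨w, hw, hw0⟩ := hτ i u hu hu0
    by_contra hne'
    refine hw0 ?_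
    refine (hHU hh u w).symm.trans ?_
    exact huniq (π i) (π (τ i)) (fun e => hne' e.symm) _ (hπ i ▸ ⟨u, hu, Matrix.toLin'_apply _ _⟩) _
      (hπ (τ i) ▸ ⟨w, hw, Matrix.toLin'_apply _ _⟩)
  by_cases hfix : ∀ i, τ i = i
  · left
    refine ⟨hD, fun i w hw hw0 => ?_, fun i j hij => huniq i j (by rw [hfix i]; exact hij.symm)⟩
    obtain ⟨x, hx, hx0⟩ := hτ i w hw hw0
    rw [hfix i] at hx
    exact ⟨⟨x, hx, fun e => hx0 (by rw [hf.skew, e, neg_zero])⟩, ⟨x, hx, hx0⟩⟩
  right
  have hmove : ∀ i, τ i ≠ i := by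
    push Not at hfix
    obtain ⟨i₀, hi₀⟩ := hfix
    intro i hi
    obtain ⟨h, hh, hmap⟩ := htr i i₀
    obtain ⟨π, hπ, heq⟩ := hequiv h hh
    obtain rfl : π i = i₀ := hDinj ((hπ i).symm.trans hmap)
    exact hi₀ (by rw [heq, hi])
  have hts : ∀ i, IsTotallySingularFor f (D i) := fun i => huniq i i (Ne.symm (hmove i))
  by_cases ht : t = 2
  · exact Or.inl ⟨ht, hts⟩
  right
  let R := {i : Fin t // i < τ i}
  have hrep : ∀ i, ∃ r : R, i = r.1 ∨ i = τ r.1 := fun i => by
    rcases lt_or_gt_of_ne (hmove i) with h | h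
    · exact ⟨⟨τ i, by rw [hττ]; exact h⟩, Or.inr (hττ i).symm⟩
    · exact ⟨⟨i, h⟩, Or.inl rfl⟩
  have hdis : ∀ r r' : R, r.1 ≠ τ r'.1 := fun r r' e => by
    have h1 := r.2
    rw [e, hττ] at h1
    exact lt_asymm h1 r'.2
  have hcardR : 2 * Fintype.card R = t := by
    let e : R ⊕ R → Fin t := Sum.elim (fun r => r.1) (fun r => τ r.1)
    have hb : Function.Bijective e := by
      refine ⟨?_, fun i => ?_⟩
      · rintro (r | r) (r' | r') h
        · exact congrArg Sum.inl (Subtype.ext h)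
        · exact absurd h (hdis r r')
        · exact absurd h.symm (hdis r' r)
        · exact congrArg Sum.inr (Subtype.ext (by simpa [e, hττ] using congrArg τ h))
      · obtain ⟨r, h | h⟩ := hrep i
        · exact ⟨Sum.inl r, h.symm⟩
        · exact ⟨Sum.inr r, h.symm⟩
    have := Fintype.card_congr (Equiv.ofBijective e hb)
    rw [Fintype.card_sum, Fintype.card_fin] at this
    omega
  let enum := (Fintype.equivFin R).symm
  let E : Fin (Fintype.card R) → Submodule F (Fin m ⊕ Fin m → F) := fun k => D (enum k).1 ⊔ D (τ (enum k).1)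
  have hmemE : ∀ i k, (i = (enum k).1 ∨ i = τ (enum k).1) → D i ≤ E k := by
    rintro i k (rfl | rfl)
    exacts [le_sup_left, le_sup_right]
  have hcov : ∀ i, ∃ k, i = (enum k).1 ∨ i = τ (enum k).1 := fun i => by
    obtain ⟨r, h⟩ := hrep i
    exact ⟨enum.symm r, by simpa using h⟩
  have horth : ∀ k l, k ≠ l → AreOrthogonalFor f (E k) (E l) := by
    intro k l hkl u hu v hv
    have hne' : (enum k).1 ≠ (enum l).1 := fun e => hkl (enum.injective (Subtype.ext e))
    obtain ⟨a, ha, b, hb, rfl⟩ := Submodule.mem_sup.1 hu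
    obtain ⟨c, hc, d', hd', rfl⟩ := Submodule.mem_sup.1 hv
    rw [hs.add_left, hs.add_right, hs.add_right,
      huniq _ _ (fun e => hdis (enum l) (enum k) e) a ha c hc,
      huniq (enum k).1 (τ (enum l).1) (fun e => hne' (show (enum k).1 = (enum l).1 by simpa [hττ] using (congrArg τ e).symm)) a ha d' hd',
      huniq _ _ (by rw [hττ]; exact hne'.symm) b hb c hc,
      huniq _ _ (by rw [hττ]; exact fun e => hdis (enum k) (enum l) e.symm) b hb d' hd']
    simp
  have hnd : ∀ k, IsNondegenerateOn f (E k) := by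
    intro k w hw hw0
    obtain ⟨a, ha, b, hb, rfl⟩ := Submodule.mem_sup.1 hw
    have : ∃ x ∈ E k, f (a + b) x ≠ 0 := by
      by_cases ha0 : a = 0
      · subst ha0
        rw [zero_add] at hw0 ⊢
        obtain ⟨x, hx, hx0⟩ := hτ _ b hb hw0
        rw [hττ] at hx
        exact ⟨x, le_sup_left (a := D (enum k).1) hx, hx0⟩
      · obtain ⟨x, hx, hx0⟩ := hτ _ a ha ha0
        refine ⟨x, le_sup_right (a := D (enum k).1) hx, ?_⟩
        rw [hs.add_left, huniq _ _ (by rw [hττ]; exact hmove _) b hb x hx, add_zero]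
        exact hx0
    obtain ⟨x, hx, hx0⟩ := this
    exact ⟨⟨x, hx, fun e => hx0 (by rw [hf.skew, e, neg_zero])⟩, ⟨x, hx, hx0⟩⟩
  refine ⟨_, E, ⟨⟨?_, by have := hD.pos; omega, fun k => ?_, ?_, ?_⟩, hnd, horth⟩, ?_⟩
  · have := hD.two_le; omega
  · have h := Submodule.finrank_sup_add_finrank_inf_eq (D (enum k).1) (D (τ (enum k).1))
    rw [hD.finrank_eq, hD.finrank_eq, (hD.indep.pairwiseDisjoint (Ne.symm (hmove _))).eq_bot, finrank_bot] at h
    show Module.finrank F (E k) = 2 * d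
    simp only [E]
    omega
  · intro k
    rw [Submodule.disjoint_def]
    intro v hv hv'
    by_contra hv0
    obtain ⟨-, x, hx, hx0⟩ := hnd k v hv hv0
    have hle : (⨆ l, ⨆ (_ : l ≠ k), E l) ≤ orthLeft' (f := f) hs.add_left hs.smul_left (E k) :=
      iSup₂_le fun l hl y hy z hz => horth l k hl y hy z hz
    exact hx0 (hle hv' x hx)
  · rw [eq_top_iff, ← hD.iSup_eq_top]
    refine iSup_le fun i => ?_
    obtain ⟨k, hk⟩ := hcov i
    exact le_iSup_of_le k (hmemE i k hk)
  · intro h hh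
    obtain ⟨π, hπ, heq⟩ := hequiv h hh
    choose ρ hρ using fun k => hcov (π (enum k).1)
    have hmap : ∀ k, (E k).map (Matrix.toLin' (h : Matrix (Fin m ⊕ Fin m) (Fin m ⊕ Fin m) F)) = E (ρ k) := by
      intro k
      show (D (enum k).1 ⊔ D (τ (enum k).1)).map _ = D (enum (ρ k)).1 ⊔ D (τ (enum (ρ k)).1)
      rw [Submodule.map_sup, hπ, hπ, ← heq]
      rcases hρ k with h | h <;> rw [h]
      rw [hττ, sup_comm]
    have hinj : Function.Injective ρ := by
      intro k l e
      have hinjh : Function.Injective (Matrix.toLin' (h : Matrix (Fin m ⊕ Fin m) (Fin m ⊕ Fin m) F)) :=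
        (linEquiv h).injective
      have h2 : E k = E l := Submodule.map_injective_of_injective hinjh (by rw [hmap, hmap, e])
      by_contra hkl
      obtain ⟨u, hu, hu0⟩ := Submodule.exists_mem_ne_zero_of_ne_bot (hne (enum k).1)
      have huk : u ∈ E k := hmemE _ k (Or.inl rfl) hu
      obtain ⟨-, x, hx, hx0⟩ := hnd k u huk hu0
      exact hx0 (horth k l hkl u huk x (h2 ▸ hx))
    exact ⟨Equiv.ofBijective ρ ⟨hinj, Finite.injective_iff_surjective.1 hinj⟩, hmap⟩

/-- In characteristic two a pair of complementary totally singular subspaces gives a quadratic form. -/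
theorem quad_of_singular_pair (h2 : (2 : F) = 0) {d : ℕ} {D : Fin 2 → Submodule F (Fin m ⊕ Fin m → F)}
    (hD : IsMDecomposition d D) (hts : ∀ i, IsTotallySingularFor (Cfsg.sympForm m F) (D i))
    {H : Subgroup (GL (Fin m ⊕ Fin m) F)} (hH : H ≤ Cfsg.spGL m F) (hle : H ≤ decompositionStabilizer D) :
    ∃ Q : (Fin m ⊕ Fin m → F) → F, IsNondegenerateQuadraticForm Q ∧
      (∀ u v, QuadraticMap.polar Q u v = Cfsg.sympForm m F u v) ∧ H ≤ quadSimilarityGroup Q := by
  have hf := isSymplecticForm_sympForm (m := m) (F := F)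
  have hb := hf.bilinear
  have hsymm : ∀ u v, Cfsg.sympForm m F u v = Cfsg.sympForm m F v u := fun u v => by
    rw [hf.skew u v]; linear_combination -(Cfsg.sympForm m F v u) * h2
  obtain ⟨p, hp1, hp0, -⟩ := projection_commute hD 0
  have hsplit : ∀ v, p *ᵥ v ∈ D 0 ∧ v - p *ᵥ v ∈ D 1 := by
    intro v
    have hv : v ∈ D 0 ⊔ D 1 := by
      have h1 : iSup D ≤ D 0 ⊔ D 1 := iSup_le fun i => by fin_cases i; exacts [le_sup_left, le_sup_right]
      exact h1 (hD.iSup_eq_top.symm ▸ Submodule.mem_top)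
    obtain ⟨a, ha, b, hb', rfl⟩ := Submodule.mem_sup.1 hv
    rw [Matrix.mulVec_add, hp1 a ha, hp0 1 (by decide) b hb', add_zero]
    exact ⟨ha, by simpa using hb'⟩
  set Q : (Fin m ⊕ Fin m → F) → F := fun v => Cfsg.sympForm m F (p *ᵥ v) (v - p *ᵥ v) with hQdef
  have hQ : ∀ a ∈ D 0, ∀ b ∈ D 1, Q (a + b) = Cfsg.sympForm m F a b := fun a ha b hb' => by
    simp [hQdef, Matrix.mulVec_add, hp1 a ha, hp0 1 (by decide) b hb']
  have hpol : ∀ u v, QuadraticMap.polar Q u v = Cfsg.sympForm m F u v := by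
    intro u v
    obtain ⟨a, ha, b, hb', rfl⟩ : ∃ a ∈ D 0, ∃ b ∈ D 1, a + b = u := ⟨_, (hsplit u).1, _, (hsplit u).2, by abel⟩
    obtain ⟨c, hc, e, he, rfl⟩ : ∃ a ∈ D 0, ∃ b ∈ D 1, a + b = v := ⟨_, (hsplit v).1, _, (hsplit v).2, by abel⟩
    rw [QuadraticMap.polar, show a + b + (c + e) = a + c + (b + e) by abel, hQ _ (add_mem ha hc) _ (add_mem hb' he),
      hQ a ha b hb', hQ c hc e he, hb.add_left, hb.add_right, hb.add_right, hb.add_left, hb.add_right, hb.add_right,
      hts 0 a ha c hc, hts 1 b hb' e he, hsymm b c]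
    ring
  have hpol' : QuadraticMap.polar Q = Cfsg.sympForm m F := funext fun u => funext fun v => hpol u v
  refine ⟨Q, ⟨fun a v => ?_, hpol' ▸ hb, hpol' ▸ hf.nondegenerate⟩, hpol, fun g hg => ⟨1, fun v => ?_⟩⟩
  · simp only [hQdef, Matrix.mulVec_smul, ← smul_sub, hb.smul_left, hb.smul_right]; ring
  rw [Units.val_one, one_mul]
  obtain ⟨a, ha, b, hb', rfl⟩ : ∃ a ∈ D 0, ∃ b ∈ D 1, a + b = v := ⟨_, (hsplit v).1, _, (hsplit v).2, by abel⟩
  obtain ⟨σ, hσ⟩ := hle hg
  set G := (g : Matrix (Fin m ⊕ Fin m) (Fin m ⊕ Fin m) F)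
  have hGa : G *ᵥ a ∈ D (σ 0) := hσ 0 ▸ ⟨a, ha, Matrix.toLin'_apply _ _⟩
  have hGb : G *ᵥ b ∈ D (σ 1) := hσ 1 ▸ ⟨b, hb', Matrix.toLin'_apply _ _⟩
  rw [Matrix.mulVec_add, hQ a ha b hb', ← mem_spGL_iff.1 (hH hg) a b]
  have hne : σ 0 ≠ σ 1 := σ.injective.ne (by decide)
  rcases Fin.exists_fin_two.1 ⟨σ 0, rfl⟩ with h | h
  · have h1 : σ 1 = 1 := by omega
    rw [h] at hGa; rw [h1] at hGb
    exact hQ _ hGa _ hGb
  · have h1 : σ 1 = 0 := by omega
    rw [h] at hGa; rw [h1] at hGb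
    rw [add_comm, hQ _ hGb _ hGa, hsymm]

/-- Over two elements a decomposition into planes gives a quadratic form. -/
theorem quad_of_planes [Fintype F] (hF : Fintype.card F = 2) {t : ℕ} {D : Fin t → Submodule F (Fin m ⊕ Fin m → F)}
    (hD : IsNondegenerateMDecomposition (Cfsg.sympForm m F) 2 D)
    {H : Subgroup (GL (Fin m ⊕ Fin m) F)} (hH : H ≤ Cfsg.spGL m F) (hle : H ≤ decompositionStabilizer D) :
    ∃ Q : (Fin m ⊕ Fin m → F) → F, IsNondegenerateQuadraticForm Q ∧
      (∀ u v, QuadraticMap.polar Q u v = Cfsg.sympForm m F u v) ∧ H ≤ quadSimilarityGroup Q := by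
  classical
  have hf := isSymplecticForm_sympForm (m := m) (F := F)
  have hb := hf.bilinear
  set f := Cfsg.sympForm m F with hfdef
  have h01 : ∀ c : F, c = 0 ∨ c = 1 := by
    intro c
    by_contra! h
    have h1 : ({0, 1, c} : Finset F).card ≤ Fintype.card F := Finset.card_le_univ _
    rw [Finset.card_insert_of_notMem (by simp [h.1.symm]), Finset.card_insert_of_notMem (by simp [h.2.symm]),
      Finset.card_singleton, hF] at h1
    omega
  have h2 : (2 : F) = 0 := by
    rcases h01 2 with h | h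
    · exact h
    · exact absurd (show (1 : F) = 0 by linear_combination h) one_ne_zero
  choose p hp1 hp0 _ using fun j => projection_commute hD.decomp j
  have hmem : ∀ i v, p i *ᵥ v ∈ D i := by
    intro i v
    have hv : v ∈ iSup D := hD.decomp.iSup_eq_top.symm ▸ Submodule.mem_top
    induction hv using Submodule.iSup_induction' with
    | mem j w hw =>
      by_cases hj : j = i
      · subst hj; rw [hp1 j w hw]; exact hw
      · rw [hp0 i j hj w hw]; exact Submodule.zero_mem _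
    | zero => simp
    | add y z _ _ hy hz => rw [Matrix.mulVec_add]; exact add_mem hy hz
  have hsum : ∀ v, ∑ i, p i *ᵥ v = v := by
    intro v
    have hv : v ∈ iSup D := hD.decomp.iSup_eq_top.symm ▸ Submodule.mem_top
    induction hv using Submodule.iSup_induction' with
    | mem j w hw => rw [Finset.sum_eq_single j (fun i _ hi => hp0 i j hi.symm w hw) (by simp), hp1 j w hw]
    | zero => simp
    | add y z _ _ hy hz => simp only [Matrix.mulVec_add, Finset.sum_add_distrib, hy, hz]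
  have hform : ∀ u v, f u v = ∑ i, f (p i *ᵥ u) (p i *ᵥ v) := by
    intro u v
    have hs := sympSesq (m := m) (F := F)
    conv_lhs => rw [← hsum u, ← hsum v, hfdef, apply_sum_left hs]
    refine Finset.sum_congr rfl fun i _ => ?_
    rw [apply_sum_right hs]
    exact Finset.sum_eq_single i (fun j _ hj => hD.orthogonal i j hj.symm _ (hmem i u) _ (hmem j v)) (by simp)
  let φ : (Fin m ⊕ Fin m → F) → F := fun w => if w = 0 then 0 else 1
  have hφ : ∀ i, ∀ a ∈ D i, ∀ b ∈ D i, φ (a + b) - φ a - φ b = f a b := by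
    intro i a ha b hb'
    by_cases ha0 : a = 0
    · subst ha0
      rw [zero_add, show f 0 b = 0 from (sympSesq (m := m) (F := F)).map_zero_left b]
      simp [φ]
    by_cases hb0 : b = 0
    · subst hb0
      rw [add_zero, show f a 0 = 0 from (sympSesq (m := m) (F := F)).map_zero_right a]
      simp [φ]
    by_cases hab : a + b = 0
    · rw [eq_neg_of_add_eq_zero_right hab, ← neg_one_smul F a, hb.smul_right, hf.alternating, mul_zero]
      simp only [φ, ha0, neg_one_smul, add_neg_cancel, neg_eq_zero, if_true, if_false]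
      linear_combination -h2
    have hne : a ≠ b := fun e => hab (by rw [e, ← one_smul F b, ← add_smul]; simp [one_add_one_eq_two, h2])
    have hli : LinearIndependent F ![(⟨a, ha⟩ : D i), ⟨b, hb'⟩] := by
      rw [LinearIndependent.pair_iff]
      intro s t hst
      have h1 : s • a + t • b = 0 := congrArg Subtype.val hst
      rcases h01 s with rfl | rfl <;> rcases h01 t with rfl | rfl <;> simp_all
    have htop := hli.span_eq_top_of_card_eq_finrank' (by simp [hD.decomp.finrank_eq])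
    have hfab : f a b = 1 := by
      refine (h01 _).resolve_left fun h0 => ?_
      obtain ⟨-, x, hx, hx0⟩ := hD.nondegenerate i a ha ha0
      have hxs : (⟨x, hx⟩ : D i) ∈ Submodule.span F (Set.range ![(⟨a, ha⟩ : D i), ⟨b, hb'⟩]) :=
        htop ▸ Submodule.mem_top
      rw [Matrix.range_cons_cons_empty, Submodule.mem_span_pair] at hxs
      obtain ⟨s, t, hst⟩ := hxs
      have hxe : s • a + t • b = x := congrArg Subtype.val hst
      apply hx0
      rw [← hxe, hb.add_right, hb.smul_right, hb.smul_right, hf.alternating, h0]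
      ring
    simp only [φ, ha0, hb0, hab, if_false, hfab]
    linear_combination -h2
  set Q : (Fin m ⊕ Fin m → F) → F := fun v => ∑ i, φ (p i *ᵥ v) with hQdef
  have hpol : ∀ u v, QuadraticMap.polar Q u v = f u v := by
    intro u v
    simp only [QuadraticMap.polar, hQdef, Matrix.mulVec_add, hform u v, ← Finset.sum_sub_distrib]
    exact Finset.sum_congr rfl fun i _ => hφ i _ (hmem i u) _ (hmem i v)
  have hpol' : QuadraticMap.polar Q = f := funext fun u => funext fun v => hpol u v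
  refine ⟨Q, ⟨fun c v => ?_, hpol' ▸ hb, hpol' ▸ hf.nondegenerate⟩, hpol, fun g hg => ⟨1, fun v => ?_⟩⟩
  · rcases h01 c with rfl | rfl <;> simp [hQdef, φ]
  rw [Units.val_one, one_mul]
  obtain ⟨σ, hσ⟩ := hle hg
  set G := (g : Matrix (Fin m ⊕ Fin m) (Fin m ⊕ Fin m) F)
  have hcomm : ∀ i w, p (σ i) *ᵥ (G *ᵥ w) = G *ᵥ (p i *ᵥ w) := by
    intro i w
    have hw : w ∈ iSup D := hD.decomp.iSup_eq_top.symm ▸ Submodule.mem_top
    induction hw using Submodule.iSup_induction' with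
    | mem j x hx =>
      have hGx : G *ᵥ x ∈ D (σ j) := hσ j ▸ ⟨x, hx, Matrix.toLin'_apply _ _⟩
      by_cases hj : j = i
      · subst hj; rw [hp1 _ _ hGx, hp1 _ _ hx]
      · rw [hp0 _ _ (σ.injective.ne hj) _ hGx, hp0 _ _ hj _ hx, Matrix.mulVec_zero]
    | zero => simp
    | add y z _ _ hy hz => simp only [Matrix.mulVec_add, hy, hz]
  simp only [hQdef]
  rw [← Equiv.sum_comp σ]
  refine Finset.sum_congr rfl fun i _ => ?_
  rw [hcomm]
  by_cases h0 : p i *ᵥ v = 0
  · simp [φ, h0]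
  · simp only [φ, h0, G, mulVec_ne_zero g h0, if_false]

end CfsgLib.Geo.Asch
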