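/-
Tensor decompositions of the symplectic form with two factors.
-/
import Cfsg.Agent.Lib.Geo.Asch.SpFields
import Cfsg.Agent.Lib.Geo.Asch.TwoFactors

set_option autoImplicit false

namespace CfsgLib.Geo.Asch

open Matrix Cfsg.Geo
open scoped Kronecker
open CfsgLib.Geo.Roots (isSymplecticForm_sympForm mem_spGL_iff)
open CfsgLib.Classical.Symp (sympBil sympBil_apply sympBil_nondegenerate)

variable {F : Type*} [Field F] {m : ℕ}

/-- A totally singular subspace has dimension at most `m`. -/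
theorem finrank_le_of_totallySingular {W : Submodule F (Fin m ⊕ Fin m → F)}
    (hW : IsTotallySingularFor (Cfsg.sympForm m F) W) : Module.finrank F W ≤ m := by
  have hle : W ≤ (sympBil m F).orthogonal W := fun u hu w hw => (sympBil_apply m F w u).trans (hW w hw u hu)
  have h1 := LinearMap.BilinForm.finrank_orthogonal (sympBil_nondegenerate m F) W
  have h2 := Submodule.finrank_mono hle
  have h3 := Submodule.finrank_le W
  rw [Module.finrank_pi, Fintype.card_sum, Fintype.card_fin] at h1 h3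
  omega

theorem mulVec_coordinates {κ : Type} [Fintype κ] [DecidableEq κ] (e : (Fin m ⊕ Fin m) ≃ κ)
    (P : GL (Fin m ⊕ Fin m) F) (v : Fin m ⊕ Fin m → F) :
    (P : Matrix (Fin m ⊕ Fin m) (Fin m ⊕ Fin m) F) *ᵥ
      (((((P⁻¹ : GL (Fin m ⊕ Fin m) F) : Matrix (Fin m ⊕ Fin m) (Fin m ⊕ Fin m) F) *ᵥ v) ∘ e.symm) ∘ e) = v := by
  rw [Function.comp_assoc, Equiv.symm_comp_self, Function.comp_id, inv_mulVec_cancel]

/-- In characteristic two, tensor products of two alternating forms fix a quadratic form. -/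
theorem quad_of_kron_alt (h2 : (2 : F) = 0) {d : ℕ} {κ' : Type} [Fintype κ'] [DecidableEq κ']
    (e : (Fin m ⊕ Fin m) ≃ Fin d × κ') (P : GL (Fin m ⊕ Fin m) F) {X : Matrix (Fin d) (Fin d) F}
    {Y : Matrix κ' κ' F} (hG : spGram e P = X ⊗ₖ Y) (hXs : Xᵀ = X) (hXd : ∀ i, X i i = 0)
    (hY : ∀ w : κ' → F, w ⬝ᵥ Y *ᵥ w = 0)
    {H : Subgroup (GL (Fin m ⊕ Fin m) F)} (hH : H ≤ Cfsg.spGL m F)
    (hco : ∀ g ∈ H, ∃ (a : Matrix (Fin d) (Fin d) F) (b : Matrix κ' κ' F),
      coord e P (g : Matrix (Fin m ⊕ Fin m) (Fin m ⊕ Fin m) F) = a ⊗ₖ b) :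
    ∃ Q : (Fin m ⊕ Fin m → F) → F, IsNondegenerateQuadraticForm Q ∧
      (∀ u v, QuadraticMap.polar Q u v = Cfsg.sympForm m F u v) ∧ H ≤ quadSimilarityGroup Q := by
  classical
  have hf := isSymplecticForm_sympForm (m := m) (F := F)
  have hYsymm : ∀ u w : κ' → F, u ⬝ᵥ Y *ᵥ w = w ⬝ᵥ Y *ᵥ u := fun u w => by
    have h := hY (u + w)
    simp only [Matrix.mulVec_add, dotProduct_add, add_dotProduct, hY u, hY w] at h
    linear_combination h - (w ⬝ᵥ Y *ᵥ u) * h2
  let q₀ : (Fin d × κ' → F) → F := fun x =>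
    ∑ i, ∑ i', if i < i' then X i i' * ((fun j => x (i, j)) ⬝ᵥ Y *ᵥ fun j => x (i', j)) else 0
  have hadd : ∀ x y, q₀ (x + y) = q₀ x + q₀ y + x ⬝ᵥ (X ⊗ₖ Y) *ᵥ y := by
    intro x y
    have hexp : x ⬝ᵥ (X ⊗ₖ Y) *ᵥ y =
        ∑ i, ∑ i', X i i' * ((fun j => x (i, j)) ⬝ᵥ Y *ᵥ fun j => y (i', j)) := by
      simp only [dotProduct, Matrix.mulVec, Fintype.sum_prod_type, Matrix.kronecker_apply, Finset.mul_sum]
      refine Finset.sum_congr rfl fun i _ => ?_
      rw [Finset.sum_comm]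
      exact Finset.sum_congr rfl fun i' _ => Finset.sum_congr rfl fun j _ => Finset.sum_congr rfl fun j' _ => by ring
    let B : Fin d → Fin d → F := fun i i' => X i i' * ((fun j => x (i, j)) ⬝ᵥ Y *ᵥ fun j => y (i', j))
    have hB : ∑ i, ∑ i', B i i' = (∑ i, ∑ i', if i < i' then B i i' else 0) +
        ∑ i, ∑ i', (if i < i' then B i' i else 0) := by
      rw [Finset.sum_comm (f := fun i i' => if i < i' then B i' i else 0), ← Finset.sum_add_distrib]
      refine Finset.sum_congr rfl fun i _ => ?_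
      rw [← Finset.sum_add_distrib]
      refine Finset.sum_congr rfl fun i' _ => ?_
      rcases lt_trichotomy i i' with h | h | h
      · rw [if_pos h, if_neg (lt_asymm h), add_zero]
      · subst h; simp [B, hXd]
      · rw [if_neg (lt_asymm h), if_pos h, zero_add]
    rw [hexp, show (∑ i, ∑ i', X i i' * ((fun j => x (i, j)) ⬝ᵥ Y *ᵥ fun j => y (i', j))) = ∑ i, ∑ i', B i i' from rfl,
      hB]
    simp only [q₀, ← Finset.sum_add_distrib]
    refine Finset.sum_congr rfl fun i _ => Finset.sum_congr rfl fun i' _ => ?_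
    split_ifs
    · have hXsymm : X i' i = X i i' := congrFun (congrFun hXs i) i'
      simp only [B, hXsymm, hYsymm (fun j => x (i', j)) (fun j => y (i, j)),
        show (fun j => (x + y) (i, j)) = (fun j => x (i, j)) + fun j => y (i, j) from rfl,
        show (fun j => (x + y) (i', j)) = (fun j => x (i', j)) + fun j => y (i', j) from rfl,
        Matrix.mulVec_add, dotProduct_add, add_dotProduct]
      ring
    · simp
  have hpure : ∀ (u : Fin d → F) (w : κ' → F), q₀ (fun p => u p.1 * w p.2) = 0 := by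
    intro u w
    refine Finset.sum_eq_zero fun i _ => Finset.sum_eq_zero fun i' _ => ?_
    split_ifs
    · rw [show (fun j => u i * w j) = u i • w from rfl, show (fun j => u i' * w j) = u i' • w from rfl,
        Matrix.mulVec_smul, dotProduct_smul, smul_dotProduct, hY, smul_zero, smul_zero, mul_zero]
    · rfl
  let κc : (Fin m ⊕ Fin m → F) → (Fin d × κ' → F) := fun v =>
    (((P⁻¹ : GL (Fin m ⊕ Fin m) F) : Matrix (Fin m ⊕ Fin m) (Fin m ⊕ Fin m) F) *ᵥ v) ∘ e.symm
  set Q : (Fin m ⊕ Fin m → F) → F := fun v => q₀ (κc v) with hQdef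
  have hκadd : ∀ u v, κc (u + v) = κc u + κc v := fun u v => by
    simp only [κc, Matrix.mulVec_add]; rfl
  have hpol : ∀ u v, QuadraticMap.polar Q u v = Cfsg.sympForm m F u v := by
    intro u v
    simp only [QuadraticMap.polar, hQdef, hκadd, hadd, ← hG]
    rw [← sympForm_coord, mulVec_coordinates, mulVec_coordinates]
    ring
  have hpol' : QuadraticMap.polar Q = Cfsg.sympForm m F := funext fun u => funext fun v => hpol u v
  have hsmul : ∀ (a : F) v, Q (a • v) = a ^ 2 * Q v := by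
    intro a v
    simp only [hQdef, q₀, Finset.mul_sum]
    refine Finset.sum_congr rfl fun i _ => Finset.sum_congr rfl fun i' _ => ?_
    split_ifs
    · simp only [κc, Matrix.mulVec_smul, Function.comp_apply, Pi.smul_apply]
      rw [show (fun j => a • (((P⁻¹ : GL (Fin m ⊕ Fin m) F) : Matrix (Fin m ⊕ Fin m) (Fin m ⊕ Fin m) F) *ᵥ v) (e.symm (i, j))) =
          a • fun j => (((P⁻¹ : GL (Fin m ⊕ Fin m) F) : Matrix (Fin m ⊕ Fin m) (Fin m ⊕ Fin m) F) *ᵥ v) (e.symm (i, j)) from rfl,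
        show (fun j => a • (((P⁻¹ : GL (Fin m ⊕ Fin m) F) : Matrix (Fin m ⊕ Fin m) (Fin m ⊕ Fin m) F) *ᵥ v) (e.symm (i', j))) =
          a • fun j => (((P⁻¹ : GL (Fin m ⊕ Fin m) F) : Matrix (Fin m ⊕ Fin m) (Fin m ⊕ Fin m) F) *ᵥ v) (e.symm (i', j)) from rfl,
        Matrix.mulVec_smul, dotProduct_smul, smul_dotProduct, smul_eq_mul, smul_eq_mul]
      ring
    · rw [mul_zero]
  refine ⟨Q, ⟨hsmul, hpol' ▸ hf.bilinear, hpol' ▸ hf.nondegenerate⟩, hpol, fun g hg => ⟨1, fun v => ?_⟩⟩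
  rw [Units.val_one, one_mul]
  set G := (g : Matrix (Fin m ⊕ Fin m) (Fin m ⊕ Fin m) F)
  obtain ⟨a, b, hab⟩ := hco g hg
  -- the difference is additive
  let D : (Fin m ⊕ Fin m → F) → F := fun v => Q (G *ᵥ v) - Q v
  have hDadd : ∀ u v, D (u + v) = D u + D v := by
    intro u v
    have h1 := hpol (G *ᵥ u) (G *ᵥ v)
    rw [mem_spGL_iff.1 (hH hg) u v, ← hpol u v] at h1
    simp only [QuadraticMap.polar, ← Matrix.mulVec_add] at h1
    simp only [D]
    linear_combination h1
  have hDsmul : ∀ (c : F) v, D (c • v) = c ^ 2 * D v := fun c v => by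
    simp only [D, Matrix.mulVec_smul, hsmul]; ring
  have hκP : ∀ x, κc ((P : Matrix (Fin m ⊕ Fin m) (Fin m ⊕ Fin m) F) *ᵥ (x ∘ e)) = x := fun x => by
    simp only [κc, mulVec_inv_cancel]
    rw [Function.comp_assoc, Equiv.self_comp_symm, Function.comp_id]
  have hDbasis : ∀ p, D ((P : Matrix (Fin m ⊕ Fin m) (Fin m ⊕ Fin m) F) *ᵥ (Pi.single p 1 ∘ e)) = 0 := by
    rintro ⟨i, j⟩
    simp only [D, hQdef, G, mulVec_coord, hκP, hab]
    rw [show (a ⊗ₖ b) *ᵥ Pi.single (i, j) 1 = fun p => a p.1 i * b p.2 j by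
      ext p; simp [Matrix.mulVec_single_one, Matrix.kronecker_apply],
      show (Pi.single (i, j) (1 : F) : Fin d × κ' → F) = fun p => (Pi.single i 1 : Fin d → F) p.1 * (Pi.single j 1 : κ' → F) p.2 by
      ext ⟨i', j'⟩
      by_cases h1 : i' = i <;> by_cases h2' : j' = j <;> simp [h1, h2', Prod.ext_iff],
      hpure (fun i' => a i' i) (fun j' => b j' j), hpure (Pi.single i 1) (Pi.single j 1), sub_zero]
  have hD0 : D 0 = 0 := by simpa using hDsmul 0 0
  have hsum : ∀ (s : Finset (Fin d × κ')) (f : Fin d × κ' → Fin m ⊕ Fin m → F),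
      D (∑ p ∈ s, f p) = ∑ p ∈ s, D (f p) := by
    intro s f
    induction s using Finset.induction_on with
    | empty => simp [hD0]
    | insert p s hp ih => rw [Finset.sum_insert hp, Finset.sum_insert hp, hDadd, ih]
  have hv : v = ∑ p, κc v p • ((P : Matrix (Fin m ⊕ Fin m) (Fin m ⊕ Fin m) F) *ᵥ (Pi.single p 1 ∘ e)) := by
    conv_lhs => rw [← mulVec_coordinates e P v]
    simp only [← Matrix.mulVec_smul, ← Matrix.mulVec_sum]
    congr 1
    ext i
    simp [κc, Finset.sum_apply, Pi.single_apply]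
  have hDv : D v = 0 := by
    rw [hv, hsum]
    exact Finset.sum_eq_zero fun p _ => by rw [hDsmul, hDbasis, mul_zero]
  exact sub_eq_zero.1 hDv

/-- The Gram matrix of a homogeneous tensor splitting is a Kronecker product. -/
theorem sp_tensor_split {d k : ℕ} {N : Subgroup (GL (Fin m ⊕ Fin m) F)} (hN : N ≤ Cfsg.spGL m F)
    {e : (Fin m ⊕ Fin m) ≃ Fin d × Fin k} {P : GL (Fin m ⊕ Fin m) F}
    {A : GL (Fin m ⊕ Fin m) F → Matrix (Fin d) (Fin d) F} (hc : TensorCoords N d k e P A) :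
    ∃ (X : Matrix (Fin d) (Fin d) F) (Y : Matrix (Fin k) (Fin k) F) (l : F), spGram e P = X ⊗ₖ Y ∧ IsUnit X ∧
      IsUnit Y ∧ l * l = 1 ∧ Xᵀ = l • X ∧ Yᵀ = -(l • Y) ∧
      ∀ S ∈ A '' (N : Set (GL (Fin m ⊕ Fin m) F)), Sᵀ * X * S = X := by
  classical
  set G := spGram e P with hG
  have hdet : ∀ S ∈ A '' (N : Set (GL (Fin m ⊕ Fin m) F)), S.det ≠ 0 := by
    rintro _ ⟨g, hg, rfl⟩ h0
    have := det_coord_ne_zero e P g
    rw [hc.coord_eq g hg, Matrix.det_kronecker, h0, zero_pow (by rw [Fintype.card_fin]; exact hc.pos_right.ne'),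
      zero_mul] at this
    exact this rfl
  have hblk : ∀ a b, ∀ S ∈ A '' (N : Set (GL (Fin m ⊕ Fin m) F)), Sᵀ * blk G a b * S = blk G a b := by
    rintro a b _ ⟨g, hg, rfl⟩
    have h := spGram_fix e P (hN hg)
    have e1 : (A g ⊗ₖ (1 : Matrix (Fin k) (Fin k) F))ᵀ = (A g)ᵀ ⊗ₖ (1 : Matrix (Fin k) (Fin k) F) := by
      rw [← Matrix.kroneckerMap_transpose, Matrix.transpose_one]
    rw [hc.coord_eq g hg, e1] at h
    have := congrArg (fun M => blk M a b) h
    simpa [blk_mul_kron, blk_kron_mul] using this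
  have hGu := spGram_isUnit e P
  haveI : Nonempty (Fin d × Fin k) := ⟨(⟨0, hc.pos_left⟩, ⟨0, hc.pos_right⟩)⟩
  obtain ⟨a₀, b₀, hne⟩ : ∃ a b, blk G a b ≠ 0 := by
    by_contra! hall
    exact hGu.ne_zero (show G = 0 from Matrix.ext fun ⟨i, a⟩ ⟨j, b⟩ => congrFun (congrFun (hall a b) i) j)
  obtain ⟨hXu, hXuniq⟩ := bilin_gram_unique hc.absIrred hdet hne (hblk a₀ b₀)
  set X := blk G a₀ b₀ with hX
  choose B hB using fun a b => hXuniq _ (hblk a b)
  set Y : Matrix (Fin k) (Fin k) F := Matrix.of B with hY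
  have hGB : G = X ⊗ₖ Y := by
    ext ⟨i, a⟩ ⟨j, b⟩
    rw [Matrix.kronecker_apply, hY, Matrix.of_apply]
    exact (congrFun (congrFun (hB a b) i) j).trans (mul_comm _ _)
  have hYu : IsUnit Y := by
    have h := (Matrix.isUnit_iff_isUnit_det _).1 hGu
    rw [← hG, hGB, Matrix.det_kronecker] at h
    rw [Matrix.isUnit_iff_isUnit_det]
    exact (isUnit_pow_iff (by rw [Fintype.card_fin]; exact hc.pos_left.ne')).1 (isUnit_of_mul_isUnit_right h)
  obtain ⟨l, hl⟩ := hXuniq Xᵀ fun S hS => by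
    have h := congrArg Matrix.transpose (hblk a₀ b₀ S hS)
    rwa [Matrix.transpose_mul, Matrix.transpose_mul, Matrix.transpose_transpose, ← mul_assoc] at h
  obtain ⟨i₀, j₀, hij⟩ : ∃ i j, X i j ≠ 0 := by
    by_contra! h0; exact hne (Matrix.ext h0)
  have hl2 : l * l = 1 := by
    have h := congrArg Matrix.transpose hl
    rw [Matrix.transpose_transpose, Matrix.transpose_smul, hl, smul_smul] at h
    have h1 := congrFun (congrFun h i₀) j₀
    rw [Matrix.smul_apply, smul_eq_mul] at h1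
    exact mul_right_cancel₀ hij (by rw [one_mul]; exact h1.symm)
  refine ⟨X, Y, l, hGB, hXu, hYu, hl2, hl, ?_, hblk a₀ b₀⟩
  ext a b
  have h := congrFun (congrFun (spGram_transpose e P) (i₀, a)) (j₀, b)
  rw [← hG, hGB, Matrix.transpose_apply, Matrix.neg_apply, Matrix.kronecker_apply, Matrix.kronecker_apply] at h
  have h1 : X j₀ i₀ = l * X i₀ j₀ := congrFun (congrFun hl i₀) j₀
  rw [h1] at h
  rw [Matrix.transpose_apply, Matrix.neg_apply, Matrix.smul_apply, smul_eq_mul]
  refine mul_left_cancel₀ hij ?_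
  linear_combination l * h - Y b a * X i₀ j₀ * hl2

variable [Fintype F]

/-- In characteristic two both factors of an irreducible tensor splitting are alternating. -/
theorem kron_alternating (h2 : (2 : F) = 0) {d k : ℕ} (hd : 2 ≤ d) (hk : 2 ≤ k)
    {H N : Subgroup (GL (Fin m ⊕ Fin m) F)} (hH : H ≤ Cfsg.spGL m F) (hirr : ActsIrreducibly (matrixSet H))
    {e : (Fin m ⊕ Fin m) ≃ Fin d × Fin k} {P : GL (Fin m ⊕ Fin m) F}
    {A : GL (Fin m ⊕ Fin m) F → Matrix (Fin d) (Fin d) F} (hc : TensorCoords N d k e P A)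
    (hle : H ≤ tensorProductSubgroup d k e P) {X : Matrix (Fin d) (Fin d) F} {Y : Matrix (Fin k) (Fin k) F}
    (hG : spGram e P = X ⊗ₖ Y) (hXu : IsUnit X) (hX : Xᵀ = X) (hY : Yᵀ = Y)
    (hfix : ∀ S ∈ A '' (N : Set (GL (Fin m ⊕ Fin m) F)), Sᵀ * X * S = X) :
    (∀ i, X i i = 0) ∧ ∀ w : Fin k → F, w ⬝ᵥ Y *ᵥ w = 0 := by
  classical
  refine ⟨diag_eq_zero_of_fixed h2 (by simpa using hd) hc.absIrred.1 hX hfix, ?_⟩
  have hb := isBilinearForm_formOfGram Y
  have hsym : ∀ u w, formOfGram id Y u w = formOfGram id Y w u := fun u w => by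
    rw [formOfGram_swap (l := 1) (by rw [hY, one_smul]) w u, one_mul]
  let W : Submodule F (Fin k → F) :=
    { carrier := {w | formOfGram id Y w w = 0}
      add_mem' := fun {u w} hu hw => by
        show formOfGram id Y (u + w) (u + w) = 0
        rw [hb.add_left, hb.add_right, hb.add_right, show formOfGram id Y u u = 0 from hu,
          show formOfGram id Y w w = 0 from hw, hsym w u]
        linear_combination formOfGram id Y u w * h2
      zero_mem' := by show formOfGram id Y 0 0 = 0; simp [formOfGram_id_eq]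
      smul_mem' := fun c w hw => by
        show formOfGram id Y (c • w) (c • w) = 0
        rw [hb.smul_left, hb.smul_right, show formOfGram id Y w w = 0 from hw, mul_zero, mul_zero] }
  let T : (Fin m ⊕ Fin m → F) →ₗ[F] (Fin d → Fin k → F) :=
    { toFun := fun v i j => (((P⁻¹ : GL (Fin m ⊕ Fin m) F) : Matrix (Fin m ⊕ Fin m) (Fin m ⊕ Fin m) F) *ᵥ v) (e.symm (i, j))
      map_add' := fun u v => by ext i j; simp [Matrix.mulVec_add]
      map_smul' := fun c v => by ext i j; simp [Matrix.mulVec_smul] }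
  let U : Submodule F (Fin m ⊕ Fin m → F) := (Submodule.pi Set.univ fun _ => W).comap T
  have hmemU : ∀ v, v ∈ U ↔ ∀ i, T v i ∈ W := fun v => by simp [U, Submodule.mem_pi]
  have hstab : Stable (matrixSet H) U := by
    rintro _ ⟨g, hg, rfl⟩ v hv
    rw [hmemU] at hv ⊢
    obtain ⟨a, b, hab⟩ := (mem_tensorProductSubgroup_iff e P g).1 (hle hg)
    have hfixg := spGram_fix e P (hH hg)
    rw [hab, hG, ← Matrix.kroneckerMap_transpose, ← Matrix.mul_kronecker_mul, ← Matrix.mul_kronecker_mul] at hfixg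
    obtain ⟨i₀, j₀, hij⟩ : ∃ i j, ((a : Matrix (Fin d) (Fin d) F)ᵀ * X * (a : Matrix (Fin d) (Fin d) F)) i j ≠ 0 := by
      by_contra! h0
      haveI : Nonempty (Fin d) := ⟨⟨0, by omega⟩⟩
      refine (IsUnit.ne_zero ?_) (Matrix.ext h0)
      refine (IsUnit.mul ?_ hXu).mul a.isUnit
      rw [Matrix.isUnit_iff_isUnit_det, Matrix.det_transpose]
      exact a.isUnit.map Matrix.detMonoidHom
    set μ := X i₀ j₀ / ((a : Matrix (Fin d) (Fin d) F)ᵀ * X * (a : Matrix (Fin d) (Fin d) F)) i₀ j₀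
    have hbsim : (b : Matrix (Fin k) (Fin k) F)ᵀ * Y * (b : Matrix (Fin k) (Fin k) F) = μ • Y := by
      ext r s
      have h := congrFun (congrFun hfixg (i₀, r)) (j₀, s)
      rw [Matrix.kronecker_apply, Matrix.kronecker_apply] at h
      rw [Matrix.smul_apply, smul_eq_mul, div_mul_eq_mul_div, eq_div_iff hij]
      linear_combination h
    have hbW : ∀ w ∈ W, (b : Matrix (Fin k) (Fin k) F) *ᵥ w ∈ W := fun w hw => by
      show formOfGram id Y _ _ = 0
      rw [formOfGram_id_eq, Matrix.mulVec_mulVec, Matrix.dotProduct_mulVec, Matrix.vecMul_mulVec,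
        ← Matrix.dotProduct_mulVec, ← Matrix.mul_assoc, hbsim, Matrix.smul_mulVec, dotProduct_smul,
        ← formOfGram_id_eq, show formOfGram id Y w w = 0 from hw, smul_zero]
    intro i
    have hT : T ((g : Matrix (Fin m ⊕ Fin m) (Fin m ⊕ Fin m) F) *ᵥ v) i =
        ∑ i', (a : Matrix (Fin d) (Fin d) F) i i' • ((b : Matrix (Fin k) (Fin k) F) *ᵥ T v i') := by
      set x : Fin d × Fin k → F := fun p => T v p.1 p.2 with hx
      have hv' : (P : Matrix (Fin m ⊕ Fin m) (Fin m ⊕ Fin m) F) *ᵥ (x ∘ e) = v := mulVec_coordinates e P v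
      have e1 : T ((g : Matrix (Fin m ⊕ Fin m) (Fin m ⊕ Fin m) F) *ᵥ v) i =
          fun j => (((a : Matrix (Fin d) (Fin d) F) ⊗ₖ (b : Matrix (Fin k) (Fin k) F)) *ᵥ x) (i, j) := by
        rw [← hv', mulVec_coord, hab]
        ext j
        simp [T, mulVec_inv_cancel]
      rw [e1]
      ext j
      simp [x, Matrix.mulVec, dotProduct, Fintype.sum_prod_type, Finset.mul_sum, mul_assoc]
    rw [hT]
    exact W.sum_mem fun i' _ => W.smul_mem _ (hbW _ (hv i'))
  have hTsurj : ∀ x : Fin d → Fin k → F, ∃ v, T v = x := fun x =>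
    ⟨(P : Matrix (Fin m ⊕ Fin m) (Fin m ⊕ Fin m) F) *ᵥ ((fun p => x p.1 p.2) ∘ e), by
      ext i j
      simp [T, mulVec_inv_cancel]⟩
  intro w
  rcases actsIrreducibly_iff.1 hirr U hstab with h | h
  · exfalso
    have hW : W = ⊥ := by
      rw [Submodule.eq_bot_iff]
      intro u hu
      obtain ⟨v, hv⟩ := hTsurj fun _ => u
      have hvU : v ∈ U := (hmemU v).2 fun i => by rw [hv]; exact hu
      have hv0 : T v = 0 := by rw [(Submodule.eq_bot_iff _).1 h v hvU, map_zero]
      rw [hv] at hv0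
      exact congrFun hv0 ⟨0, by omega⟩
    have hinj : Function.Injective fun u => formOfGram id Y u u := by
      intro u v huv
      have hmem : u + v ∈ W := by
        show formOfGram id Y (u + v) (u + v) = 0
        simp only at huv
        rw [hb.add_left, hb.add_right, hb.add_right, hsym v u]
        linear_combination huv + (formOfGram id Y v v + formOfGram id Y u v) * h2
      rw [hW, Submodule.mem_bot] at hmem
      have h4 : (-1 : F) = 1 := by linear_combination -h2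
      rw [eq_neg_of_add_eq_zero_left hmem, ← neg_one_smul F v, h4, one_smul]
    have := Fintype.card_le_of_injective _ hinj
    rw [Fintype.card_fun, Fintype.card_fin] at this
    have := lt_of_lt_of_le (Nat.pow_lt_pow_right (Fintype.one_lt_card (α := F)) (show 1 < k by omega)) this
    simp at this
  · obtain ⟨v, hv⟩ := hTsurj fun _ => w
    have hw := (hmemU v).1 (h.symm ▸ Submodule.mem_top) ⟨0, by omega⟩
    rw [hv, ← formOfGram_id_eq] at *
    exact hw

/-- A tensor factor carrying a two-dimensional symmetric form gives a singular pair or a quadratic field. -/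
theorem sp_tensor_two (h2 : (2 : F) ≠ 0) {n₁ : ℕ} (hn₁ : 0 < n₁) {H : Subgroup (GL (Fin m ⊕ Fin m) F)}
    (hH : H ≤ Cfsg.spGL m F) {e : (Fin m ⊕ Fin m) ≃ Fin n₁ × Fin 2} {P : GL (Fin m ⊕ Fin m) F}
    (hle : H ≤ tensorProductSubgroup n₁ 2 e P) {X : Matrix (Fin n₁) (Fin n₁) F} {Y : Matrix (Fin 2) (Fin 2) F}
    (hG : spGram e P = X ⊗ₖ Y) (hXu : IsUnit X) (hYu : IsUnit Y) (hY : Yᵀ = Y) :
    (∃ D : Fin 2 → Submodule F (Fin m ⊕ Fin m → F), IsMDecomposition m D ∧
      (∀ i, IsTotallySingularFor (Cfsg.sympForm m F) (D i)) ∧ H ≤ decompositionStabilizer D) ∨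
    (∃ K : Subalgebra F (Matrix (Fin m ⊕ Fin m) (Fin m ⊕ Fin m) F), IsFieldSubalgebra 2 K ∧
      IsAdjointClosedFor (Cfsg.sympForm m F) K ∧ ¬ IsSelfAdjointFor (Cfsg.sympForm m F) K ∧
      H ≤ subalgebraNormalizer K) := by
  classical
  haveI : Nonempty (Fin n₁) := ⟨⟨0, hn₁⟩⟩
  have hm : 0 < m := by
    have h := Fintype.card_congr e
    rw [Fintype.card_sum, Fintype.card_prod, Fintype.card_fin, Fintype.card_fin, Fintype.card_fin] at h
    omega
  haveI : Nonempty (Fin m ⊕ Fin m) := ⟨Sum.inl ⟨0, hm⟩⟩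
  have h10 : Y 1 0 = Y 0 1 := congrFun (congrFun hY 0) 1
  set Z : Matrix (Fin 2) (Fin 2) F := !![Y 0 1, Y 1 1; -(Y 0 0), -(Y 0 1)] with hZdef
  set s := Y 0 1 * Y 0 1 - Y 0 0 * Y 1 1 with hsdef
  have hs0 : s ≠ 0 := by
    have h := ((Matrix.isUnit_iff_isUnit_det Y).1 hYu).ne_zero
    rw [Matrix.det_fin_two, h10] at h
    exact fun e0 => h (by rw [hsdef] at e0; linear_combination -e0)
  have hZZ : Z * Z = s • 1 := by
    ext i j
    fin_cases i <;> fin_cases j <;> simp [hZdef, hsdef, Matrix.mul_apply, Fin.sum_univ_two] <;> ring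
  have hYZ : Y * Z = -(s • symJ F) := by
    ext i j
    fin_cases i <;> fin_cases j <;> simp [hZdef, hsdef, h10, symJ, Matrix.mul_apply, Fin.sum_univ_two] <;> ring
  have hZY : Zᵀ * Y = -(Y * Z) := by
    ext i j
    fin_cases i <;> fin_cases j <;> simp [hZdef, h10, Matrix.mul_apply, Fin.sum_univ_two] <;> ring
  obtain ⟨Z', hZ'⟩ := coord_surjective e P ((1 : Matrix (Fin n₁) (Fin n₁) F) ⊗ₖ Z)
  have hZ'Z' : Z' * Z' = s • 1 := coord_injective e P (by
    rw [coord_mul, hZ', ← Matrix.mul_kronecker_mul, one_mul, hZZ, Matrix.kronecker_smul, Matrix.one_kronecker_one,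
      coord_smul, coord_one])
  have hadj : adjS Z' = -Z' := adjS_unique fun u v => by
    conv_lhs => rw [← mulVec_coordinates e P u, ← mulVec_coordinates e P v, mulVec_coord, sympForm_coord, hZ', hG]
    conv_rhs => rw [← mulVec_coordinates e P u, ← mulVec_coordinates e P v, Matrix.neg_mulVec, mulVec_coord,
      ← Matrix.mulVec_neg, show -((coord e P Z' *ᵥ _) ∘ e) = (-(coord e P Z' *ᵥ _)) ∘ e from rfl, sympForm_coord, hZ', hG]
    rw [Matrix.mulVec_neg, dotProduct_neg, Matrix.mulVec_mulVec, ← Matrix.mul_kronecker_mul, mul_one,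
      Matrix.dotProduct_mulVec, Matrix.vecMul_mulVec, ← Matrix.dotProduct_mulVec, ← Matrix.kroneckerMap_transpose,
      ← Matrix.mul_kronecker_mul, Matrix.transpose_one, one_mul, hZY, ← dotProduct_neg, ← Matrix.neg_mulVec]
    congr 2
    ext p q
    simp [Matrix.kronecker_apply]
  -- every element of H scales Z'
  have hscale : ∀ g ∈ H, ∃ c : F, (g : Matrix (Fin m ⊕ Fin m) (Fin m ⊕ Fin m) F) * Z' =
      c • (Z' * (g : Matrix (Fin m ⊕ Fin m) (Fin m ⊕ Fin m) F)) ∧ c * c = 1 := by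
    intro g hg
    obtain ⟨a, b, hab⟩ := (mem_tensorProductSubgroup_iff e P g).1 (hle hg)
    have hfixg := spGram_fix e P (hH hg)
    rw [hab, hG, ← Matrix.kroneckerMap_transpose, ← Matrix.mul_kronecker_mul, ← Matrix.mul_kronecker_mul] at hfixg
    obtain ⟨i₀, j₀, hij⟩ : ∃ i j, ((a : Matrix (Fin n₁) (Fin n₁) F)ᵀ * X * (a : Matrix (Fin n₁) (Fin n₁) F)) i j ≠ 0 := by
      by_contra! h0
      refine (IsUnit.ne_zero ?_) (Matrix.ext h0)
      refine (IsUnit.mul ?_ hXu).mul a.isUnit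
      rw [Matrix.isUnit_iff_isUnit_det, Matrix.det_transpose]
      exact a.isUnit.map Matrix.detMonoidHom
    set μ := X i₀ j₀ / ((a : Matrix (Fin n₁) (Fin n₁) F)ᵀ * X * (a : Matrix (Fin n₁) (Fin n₁) F)) i₀ j₀
    set B := (b : Matrix (Fin 2) (Fin 2) F) with hB
    have hbsim : Bᵀ * Y * B = μ • Y := by
      ext r r'
      have h := congrFun (congrFun hfixg (i₀, r)) (j₀, r')
      rw [Matrix.kronecker_apply, Matrix.kronecker_apply] at h
      rw [Matrix.smul_apply, smul_eq_mul, div_mul_eq_mul_div, eq_div_iff hij]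
      linear_combination h
    have hdet0 : B.det ≠ 0 := (b.isUnit.map Matrix.detMonoidHom).ne_zero
    have hBY : IsUnit (Bᵀ * Y) := by
      refine IsUnit.mul ?_ hYu
      rw [Matrix.isUnit_iff_isUnit_det, Matrix.det_transpose]
      exact isUnit_iff_ne_zero.2 hdet0
    have hBZ : μ • (Z * B) = B.det • (B * Z) := by
      refine (IsUnit.mul_right_inj hBY).1 ?_
      have e1 : Bᵀ * Y * (Z * B) = B.det • (Y * Z) := by
        rw [← mul_assoc, mul_assoc Bᵀ Y Z, hYZ, mul_neg, Matrix.neg_mul, Matrix.mul_smul, Matrix.smul_mul,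
          transpose_mul_symJ, smul_comm, smul_neg]
      rw [Matrix.mul_smul, Matrix.mul_smul, e1, ← mul_assoc (Bᵀ * Y) B Z, hbsim, Matrix.smul_mul, smul_comm]
    have hc : (g : Matrix (Fin m ⊕ Fin m) (Fin m ⊕ Fin m) F) * Z' =
        (μ / B.det) • (Z' * (g : Matrix (Fin m ⊕ Fin m) (Fin m ⊕ Fin m) F)) := by
      refine coord_injective e P ?_
      rw [coord_smul, coord_mul, coord_mul, hZ', hab, ← Matrix.mul_kronecker_mul, ← Matrix.mul_kronecker_mul,
        mul_one, one_mul, ← Matrix.kronecker_smul, div_eq_inv_mul, mul_smul, hBZ, smul_smul,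
        inv_mul_cancel₀ hdet0, one_smul]
    refine ⟨_, hc, ?_⟩
    set G := (g : Matrix (Fin m ⊕ Fin m) (Fin m ⊕ Fin m) F)
    have h1 : G * (Z' * Z') = ((μ / B.det) * (μ / B.det)) • (Z' * Z' * G) := by
      rw [← mul_assoc, hc, Matrix.smul_mul, mul_assoc, hc, Matrix.mul_smul, smul_smul, ← mul_assoc]
    rw [hZ'Z', Matrix.mul_smul, mul_one, Matrix.smul_mul, one_mul, smul_smul, mul_comm _ s, ← smul_smul] at h1
    have h3 := smul_right_injective (Matrix (Fin m ⊕ Fin m) (Fin m ⊕ Fin m) F) hs0 h1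
    exact smul_left_injective F g.isUnit.ne_zero (h3.symm.trans (one_smul F G).symm)
  by_cases hsq : ∃ z, z * z = s
  · obtain ⟨z, hz⟩ := hsq
    have hz0 : z ≠ 0 := fun e0 => hs0 (by rw [← hz, e0, mul_zero])
    left
    let E : F → Submodule F (Fin m ⊕ Fin m → F) := fun c => LinearMap.ker (Matrix.toLin' Z' - c • LinearMap.id)
    have hmemE : ∀ c v, v ∈ E c ↔ Z' *ᵥ v = c • v := fun c v => by simp [E, sub_eq_zero]
    let D : Fin 2 → Submodule F (Fin m ⊕ Fin m → F) := ![E z, E (-z)]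
    have hz2 : (2 : F) * z ≠ 0 := mul_ne_zero h2 hz0
    have hts : ∀ c, c * c = s → IsTotallySingularFor (Cfsg.sympForm m F) (E c) := by
      intro c hc u hu v hv
      rw [hmemE] at hu hv
      have hb := (isSymplecticForm_sympForm (m := m) (F := F)).bilinear
      have h := sympForm_adjS Z' u v
      rw [hadj, Matrix.neg_mulVec, hu, hv, hb.smul_left, ← neg_smul, hb.smul_right] at h
      have hc0 : c ≠ 0 := fun e0 => hs0 (by rw [← hc, e0, mul_zero])
      exact (mul_eq_zero.1 (show (2 : F) * c * Cfsg.sympForm m F u v = 0 by linear_combination h)).resolve_left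
        (mul_ne_zero h2 hc0)
    have hdis : Disjoint (E z) (E (-z)) := by
      rw [Submodule.disjoint_def]
      intro v hv hv'
      rw [hmemE] at hv hv'
      rw [hv] at hv'
      have h := sub_eq_zero.2 hv'
      rw [← sub_smul, smul_eq_zero] at h
      exact h.resolve_left fun e0 => hz2 (by linear_combination e0)
    have hZvv : ∀ v, Z' *ᵥ (Z' *ᵥ v) = (z * z) • v := fun v => by
      rw [Matrix.mulVec_mulVec, hZ'Z', Matrix.smul_mulVec, Matrix.one_mulVec, hz]
    have htop : E z ⊔ E (-z) = ⊤ := by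
      rw [eq_top_iff]
      intro v _
      rw [Submodule.mem_sup]
      refine ⟨(2 * z)⁻¹ • (z • v + Z' *ᵥ v), ?_, (2 * z)⁻¹ • (z • v - Z' *ᵥ v), ?_, ?_⟩
      · rw [hmemE, Matrix.mulVec_smul, Matrix.mulVec_add, Matrix.mulVec_smul, hZvv]; module
      · rw [hmemE, Matrix.mulVec_smul, Matrix.mulVec_sub, Matrix.mulVec_smul, hZvv]; module
      · rw [← smul_add, show z • v + Z' *ᵥ v + (z • v - Z' *ᵥ v) = (2 * z) • v by module, smul_smul,
          inv_mul_cancel₀ hz2, one_smul]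
    have hfr : Module.finrank F (E z) = m ∧ Module.finrank F (E (-z)) = m := by
      have h1 := finrank_le_of_totallySingular (hts z hz)
      have h1' := finrank_le_of_totallySingular (hts (-z) (by rw [neg_mul_neg, hz]))
      have h3 := Submodule.finrank_sup_add_finrank_inf_eq (E z) (E (-z))
      rw [htop, hdis.eq_bot, finrank_top, finrank_bot, Module.finrank_pi, Fintype.card_sum, Fintype.card_fin] at h3
      omega
    refine ⟨D, ⟨le_rfl, hm, fun i => ?_, ?_, ?_⟩, fun i => ?_, fun g hg => ?_⟩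
    · fin_cases i
      exacts [hfr.1, hfr.2]
    · exact (iSupIndep_pair (show (0 : Fin 2) ≠ 1 by decide) (fun i => by fin_cases i <;> simp)).2 hdis
    · rw [← htop]
      exact le_antisymm (iSup_le fun i => by fin_cases i; exacts [le_sup_left, le_sup_right])
        (sup_le (le_iSup D 0) (le_iSup D 1))
    · fin_cases i
      exacts [hts z hz, hts (-z) (by rw [neg_mul_neg, hz])]
    obtain ⟨c, hgc, hc2⟩ := hscale g hg
    obtain ⟨c', hgc', -⟩ := hscale g⁻¹ (H.inv_mem hg)
    have hmove : ∀ (g : GL (Fin m ⊕ Fin m) F) (c : F), c * c = 1 → (g : Matrix (Fin m ⊕ Fin m) (Fin m ⊕ Fin m) F) * Z' =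
        c • (Z' * (g : Matrix (Fin m ⊕ Fin m) (Fin m ⊕ Fin m) F)) → ∀ z, ∀ v ∈ E z,
          (g : Matrix (Fin m ⊕ Fin m) (Fin m ⊕ Fin m) F) *ᵥ v ∈ E (c * z) := by
      intro g c hc h z v hv
      rw [hmemE] at hv ⊢
      have h' := congrArg (fun M : Matrix (Fin m ⊕ Fin m) (Fin m ⊕ Fin m) F => M *ᵥ v) h
      simp only [← Matrix.mulVec_mulVec, Matrix.smul_mulVec, hv, Matrix.mulVec_smul] at h'
      rw [mul_smul, h', smul_smul, hc, one_smul]
    have hmap : ∀ z, (E z).map (Matrix.toLin' (g : Matrix (Fin m ⊕ Fin m) (Fin m ⊕ Fin m) F)) = E (c * z) := by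
      intro z
      refine le_antisymm ?_ fun v hv => ⟨((g⁻¹ : GL (Fin m ⊕ Fin m) F) : Matrix _ _ F) *ᵥ v, ?_, ?_⟩
      · rintro _ ⟨v, hv, rfl⟩
        exact hmove g c hc2 hgc z v hv
      · have hginv : ((g⁻¹ : GL (Fin m ⊕ Fin m) F) : Matrix (Fin m ⊕ Fin m) (Fin m ⊕ Fin m) F) * Z' =
            c • (Z' * ((g⁻¹ : GL (Fin m ⊕ Fin m) F) : Matrix (Fin m ⊕ Fin m) (Fin m ⊕ Fin m) F)) := by
          have h := congrArg (fun M => ((g⁻¹ : GL (Fin m ⊕ Fin m) F) : Matrix _ _ F) * M *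
            ((g⁻¹ : GL (Fin m ⊕ Fin m) F) : Matrix _ _ F)) hgc
          simp only [Matrix.mul_smul, Matrix.smul_mul, ← mul_assoc, Units.inv_mul, one_mul] at h
          simp only [mul_assoc, Units.mul_inv, mul_one] at h
          rw [h, smul_smul, hc2, one_smul]
        have := hmove g⁻¹ c hc2 hginv (c * z) v hv
        rwa [← mul_assoc, hc2, one_mul] at this
      · rw [Matrix.toLin'_apply, inv_mulVec_cancel]
    rcases mul_self_eq_one_iff.1 hc2 with rfl | rfl
    · exact ⟨1, fun i => by fin_cases i <;> simp [D, hmap]⟩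
    · exact ⟨Equiv.swap 0 1, fun i => by fin_cases i <;> simp [D, hmap]⟩
  · right
    have hnsc : ∀ c : F, Z' ≠ c • 1 := fun c hc => hsq ⟨c, by
      have h := hZ'Z'
      rw [hc, Matrix.smul_mul, one_mul, smul_smul] at h
      exact smul_left_injective F (one_ne_zero (α := Matrix (Fin m ⊕ Fin m) (Fin m ⊕ Fin m) F)) h⟩
    have hmul : ∀ a b c d : F, (a • (1 : Matrix (Fin m ⊕ Fin m) (Fin m ⊕ Fin m) F) + b • Z') * (c • 1 + d • Z') =
        (a * c + b * d * s) • 1 + (a * d + b * c) • Z' := by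
      intro a b c d
      rw [add_mul, mul_add, mul_add, Matrix.smul_mul, Matrix.smul_mul, Matrix.smul_mul, Matrix.smul_mul,
        Matrix.mul_smul, Matrix.mul_smul, Matrix.mul_smul, Matrix.mul_smul, one_mul, one_mul, mul_one, hZ'Z']
      module
    let K : Subalgebra F (Matrix (Fin m ⊕ Fin m) (Fin m ⊕ Fin m) F) :=
      { carrier := {x | ∃ a b : F, x = a • 1 + b • Z'}
        mul_mem' := by
          rintro _ _ ⟨a, b, rfl⟩ ⟨c, d, rfl⟩
          exact ⟨_, _, hmul a b c d⟩
        one_mem' := ⟨1, 0, by simp⟩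
        add_mem' := by
          rintro _ _ ⟨a, b, rfl⟩ ⟨c, d, rfl⟩
          exact ⟨a + c, b + d, by module⟩
        zero_mem' := ⟨0, 0, by simp⟩
        algebraMap_mem' := fun c => ⟨c, 0, by rw [Algebra.algebraMap_eq_smul_one, zero_smul, add_zero]⟩ }
    have huniq : ∀ a b : F, a • (1 : Matrix (Fin m ⊕ Fin m) (Fin m ⊕ Fin m) F) + b • Z' = 0 → a = 0 ∧ b = 0 := by
      intro a b h
      by_cases hb : b = 0
      · subst hb
        rw [zero_smul, add_zero, smul_eq_zero] at h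
        exact ⟨h.resolve_right one_ne_zero, rfl⟩
      · refine absurd ?_ (hnsc (-(a / b)))
        rw [← smul_right_inj hb, smul_smul, mul_neg, mul_div_cancel₀ a hb, neg_smul]
        exact eq_neg_of_add_eq_zero_right h
    have hK : IsFieldSubalgebra 2 K := by
      refine ⟨?_, ?_, ?_⟩
      · rintro _ ⟨a, b, rfl⟩ _ ⟨c, d, rfl⟩
        rw [hmul, hmul]
        congr 2 <;> ring
      · rintro _ ⟨a, b, rfl⟩ hne
        have hN : a * a - b * b * s ≠ 0 := by
          intro h0
          by_cases hb : b = 0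
          · subst hb
            rw [zero_mul, zero_mul, sub_zero, mul_self_eq_zero] at h0
            exact hne (by rw [h0, zero_smul, zero_smul, add_zero])
          · exact hsq ⟨a / b, by rw [div_mul_div_comm, div_eq_iff (mul_ne_zero hb hb)]; linear_combination h0⟩
        refine ⟨(a / (a * a - b * b * s)) • 1 + (-b / (a * a - b * b * s)) • Z', ⟨_, _, rfl⟩, ?_⟩
        rw [hmul, show a * (a / (a * a - b * b * s)) + b * (-b / (a * a - b * b * s)) * s =
          (a * a - b * b * s) / (a * a - b * b * s) by ring, div_self hN,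
          show a * (-b / (a * a - b * b * s)) + b * (a / (a * a - b * b * s)) = 0 by ring, zero_smul, add_zero, one_smul]
      · let L : F × F →ₗ[F] K :=
          { toFun := fun p => ⟨p.1 • 1 + p.2 • Z', p.1, p.2, rfl⟩
            map_add' := fun p q => Subtype.ext (by
              show (p.1 + q.1) • (1 : Matrix (Fin m ⊕ Fin m) (Fin m ⊕ Fin m) F) + (p.2 + q.2) • Z' = _ + _
              module)
            map_smul' := fun c p => Subtype.ext (by
              show (c * p.1) • (1 : Matrix (Fin m ⊕ Fin m) (Fin m ⊕ Fin m) F) + (c * p.2) • Z' = c • _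
              module) }
        have hL : Function.Bijective L := by
          refine ⟨fun p q h => ?_, fun ⟨x, a, b, hx⟩ => ⟨(a, b), Subtype.ext hx.symm⟩⟩
          have h' : p.1 • (1 : Matrix (Fin m ⊕ Fin m) (Fin m ⊕ Fin m) F) + p.2 • Z' = q.1 • 1 + q.2 • Z' :=
            congrArg Subtype.val h
          obtain ⟨h1, h2'⟩ := huniq (p.1 - q.1) (p.2 - q.2) (by rw [← sub_eq_zero.2 h']; module)
          exact Prod.ext (sub_eq_zero.1 h1) (sub_eq_zero.1 h2')
        rw [← (LinearEquiv.ofBijective L hL).finrank_eq, Module.finrank_prod, Module.finrank_self]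
    have hfwd : ∀ g ∈ H, ∀ k ∈ K, (g : Matrix (Fin m ⊕ Fin m) (Fin m ⊕ Fin m) F) * k *
        ((g⁻¹ : GL (Fin m ⊕ Fin m) F) : Matrix (Fin m ⊕ Fin m) (Fin m ⊕ Fin m) F) ∈ K := by
      rintro g hg _ ⟨a, b, rfl⟩
      obtain ⟨c, hgc, -⟩ := hscale g hg
      refine ⟨a, b * c, ?_⟩
      rw [mul_add, Matrix.mul_smul, Matrix.mul_smul, hgc, mul_one, add_mul, Matrix.smul_mul, Matrix.smul_mul,
        Matrix.smul_mul, mul_assoc, Units.mul_inv, mul_one, smul_smul]
    refine ⟨K, hK, fun k hk => ?_, fun hsa => ?_, fun g hg k => ⟨hfwd g hg k, fun hk => ?_⟩⟩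
    · obtain ⟨a, b, rfl⟩ := hk
      refine ⟨_, ⟨a, -b, rfl⟩, fun u v => ?_⟩
      rw [sympForm_adjS, adjS_add, adjS_smul, adjS_smul, adjS_one, hadj, smul_neg, neg_smul]
    · have h := isSelfAdjointFor_iff.1 hsa Z' ⟨0, 1, by simp⟩
      rw [hadj, neg_eq_iff_add_eq_zero, ← two_smul F Z', smul_eq_zero] at h
      exact hnsc 0 (by rw [zero_smul]; exact h.resolve_left h2)
    · have := hfwd g⁻¹ (H.inv_mem hg) _ hk
      rwa [inv_inv, ← mul_assoc, ← mul_assoc, Units.inv_mul, one_mul, mul_assoc, Units.inv_mul, mul_one] at this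

end CfsgLib.Geo.Asch
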