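/-
Symplectic-type normal subgroups of unitary groups.
-/
import Cfsg.Agent.Lib.Geo.Asch.SympField
import Cfsg.Agent.Lib.Geo.Asch.UnitForms

set_option autoImplicit false

namespace CfsgLib.Geo.Asch

open Matrix Cfsg.Geo
open scoped commutatorElement

variable {F : Type*} [Field F] [Fintype F] {σ : F ≃+* F} {q n : ℕ}

/-- The data of the sixth class for the unitary group. -/
def IsUnitarySympData (n q r : ℕ) (R : Subgroup (GL (Fin n) F)) : Prop :=
  ∃ p a k : ℕ, p.Prime ∧ CharP F p ∧ q = p ^ a ∧ r ≠ p ∧ 1 ≤ k ∧ n = r ^ k ∧ IsSymplecticTypeGroup r R ∧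
    ActsAbsolutelyIrreducibly (matrixSet R) ∧ R ≤ Cfsg.GU n F q ∧ (∃ H : Subgroup (GL (Fin n) F), ScalarComm' H R) ∧
    IsMinimalFieldFor (Nat.card (Subgroup.center R)) p (2 * a) F ∧
    ((Odd r ∧ Nat.card (Subgroup.center R) = r ∧ r ∣ q + 1 ∧ Nat.card R = r ^ (1 + 2 * k)) ∨
     (r = 2 ∧ a = 1 ∧ p % 4 = 3 ∧ Nat.card (Subgroup.center R) = 4 ∧ Nat.card R = 2 ^ (2 + 2 * k)))

/-- A symplectic-type minimal normal subgroup of an irreducible unitary group. -/
theorem unitary_symp (hq : IsQPow σ q) (hF : Fintype.card F = q ^ 2) (hn : 2 ≤ n) {H N : Subgroup (GL (Fin n) F)}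
    (h : ScalarComm' H N) (hNU : N ≤ Cfsg.GU n F q)
    (hreal : ∀ F₀ : Subfield F, F₀ ≠ ⊤ → ¬ RealisableOver F₀ (matrixSet N)) :
    ∃ r, r.Prime ∧ IsUnitarySympData n q r N := by
  classical
  haveI : Nonempty (Fin n) := ⟨⟨0, by omega⟩⟩
  haveI : Finite (GL (Fin n) F) :=
    Finite.of_injective (fun g : GL (Fin n) F => (g : Matrix (Fin n) (Fin n) F)) Units.val_injective
  haveI := Fintype.ofFinite N
  obtain ⟨r, m, z, hr, hrF, hm1, hm, hst, hZ, hcard, hz, hexp, htr, hcyc⟩ :=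
    h.structure_thm (by rw [Fintype.card_fin]; omega)
  have hnF : (Fintype.card (Fin n) : F) ≠ 0 := by rw [hm, Nat.cast_pow]; exact pow_ne_zero _ hrF
  obtain ⟨k, hk⟩ : ∃ k, z = r ^ k := by
    rcases hz with ⟨-, rfl⟩ | ⟨rfl, rfl | rfl⟩
    exacts [⟨1, (pow_one z).symm⟩, ⟨1, rfl⟩, ⟨2, rfl⟩]
  have hzF : (z : F) ≠ 0 := by rw [hk, Nat.cast_pow]; exact pow_ne_zero _ hrF
  obtain ⟨g, hg⟩ := hcyc.exists_generator
  obtain ⟨c₀, hc₀⟩ := (mem_scalars_iff _).1 ((h.center_eq g.1).1 g.2)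
  set ζ := (c₀ : F) with hζ
  have hpow : ∀ j : ℕ, (((g ^ j : Subgroup.center N) : N) : GL (Fin n) F).val = ζ ^ j • (1 : Matrix (Fin n) (Fin n) F) := fun j => by
    rw [SubmonoidClass.coe_pow, SubmonoidClass.coe_pow, Units.val_pow_eq_pow_val, hc₀, smul_pow, one_pow]
  have hord : orderOf g = z := by rw [orderOf_eq_card_of_forall_mem_zpowers hg, hZ]
  have hprim : IsPrimitiveRoot ζ z := by
    rw [IsPrimitiveRoot.iff_def]
    have key : ∀ j : ℕ, g ^ j = 1 ↔ ζ ^ j = 1 := by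
      intro j
      constructor
      · intro e
        have h1 := hpow j
        rw [e] at h1
        exact smul_left_injective F (one_ne_zero (α := Matrix (Fin n) (Fin n) F)) (by simpa using h1.symm)
      · intro e
        refine Subtype.ext (Subtype.ext (Units.ext ?_))
        rw [hpow j, e, one_smul]
        rfl
    exact ⟨(key z).1 (hord ▸ pow_orderOf_eq_one g), fun l hl => hord ▸ orderOf_dvd_of_pow_eq_one ((key l).2 hl)⟩
  have hcent : ∀ c : F, (∃ x : N, x ∈ Subgroup.center N ∧ ((x : GL (Fin n) F) : Matrix (Fin n) (Fin n) F) = c • 1) →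
      ∃ j : ℕ, c = ζ ^ j := by
    rintro c ⟨x, hx, hxc⟩
    obtain ⟨j, hj⟩ := (isOfFinOrder_of_finite g).mem_powers_iff_mem_zpowers.2 (hg ⟨x, hx⟩)
    refine ⟨j, smul_left_injective F (one_ne_zero (α := Matrix (Fin n) (Fin n) F)) (hxc.symm.trans ?_)⟩
    have e : ((g ^ j : Subgroup.center N) : N) = x := congrArg Subtype.val hj
    rw [← e]
    exact hpow j
  have hz2 : z ≠ 2 := by
    intro hz2
    obtain ⟨f, hf, hnd, hfix⟩ := exists_fixed_form (σ := RingEquiv.refl F) h.absIrred.1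
      (h.sum_trace_ne_zero hnF (hZ.symm ▸ hzF) htr fun c hc => by
        obtain ⟨j, rfl⟩ := hcent c hc
        rw [RingEquiv.refl_apply, ← pow_add, ← two_mul, pow_mul, ← hz2, hprim.pow_eq_one, one_pow])
    exact hreal _ (fixedSubfield_ne_top hq) (realisable_of_bilinear hq hF h.absIrred hNU
      ⟨hf.add_left, hf.smul_left, hf.add_right, hf.smul_right⟩ hnd hfix)
  obtain ⟨p, hp⟩ := CharP.exists F
  haveI : Fact p.Prime := ⟨CharP.char_is_prime F p⟩
  obtain ⟨e, -, he⟩ := FiniteField.card F p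
  have hrp : r ≠ p := fun e' => hrF (e' ▸ CharP.cast_eq_zero F p)
  have hzdvd : z ∣ p ^ (e : ℕ) - 1 := by
    rw [← he]
    exact hprim.dvd_of_pow_eq_one _ (FiniteField.pow_card_sub_one_eq_one _ (hprim.ne_zero (by rw [hk]; exact pow_ne_zero _ hr.ne_zero)))
  -- realisability forces the field to be minimal
  have hminimal : ∀ d : ℕ, 0 < d → d < e → ¬ z ∣ p ^ d - 1 := by
    intro d hd hde hdvd
    let φ : F →+* F := iterateFrobenius F p d
    let F₀ : Subfield F := RingHom.eqLocusField φ (RingHom.id F)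
    have hmem : ∀ x, x ∈ F₀ ↔ x ^ p ^ d = x := fun x => Iff.rfl
    have hζ₀ : ζ ∈ F₀ := by
      rw [hmem]
      obtain ⟨l, hl⟩ := hdvd
      calc ζ ^ p ^ d = ζ ^ (z * l + 1) := by rw [← hl, Nat.sub_add_cancel (Nat.one_le_pow _ _ (Fact.out (p := p.Prime)).pos)]
        _ = ζ := by rw [pow_succ, pow_mul, hprim.pow_eq_one, one_pow, one_mul]
    have hne : F₀ ≠ ⊤ := by
      intro htop
      obtain ⟨u, hu⟩ := IsCyclic.exists_generator (α := Fˣ)
      have h1 : (u : F) ^ p ^ d = u := (hmem _).1 (htop ▸ Subfield.mem_top _)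
      have h2 : u ^ (p ^ d - 1) = 1 := Units.ext (mul_right_cancel₀ u.ne_zero (by
        rw [Units.val_pow_eq_pow_val, ← pow_succ, Nat.sub_add_cancel (Nat.one_le_pow _ _ (Fact.out (p := p.Prime)).pos),
          Units.val_one, one_mul, h1]))
      have h3 := orderOf_dvd_of_pow_eq_one h2
      rw [orderOf_eq_card_of_forall_mem_zpowers hu, Nat.card_units, Nat.card_eq_fintype_card, he] at h3
      have h4 : p ^ d < p ^ (e : ℕ) := Nat.pow_lt_pow_right (Fact.out (p := p.Prime)).one_lt hde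
      have h5 : 1 < p ^ d := Nat.one_lt_pow hd.ne' (Fact.out (p := p.Prime)).one_lt
      have h6 := Nat.le_of_dvd (by omega) h3
      omega
    refine hreal F₀ hne ?_
    obtain ⟨A, hAN, hAab, hidx⟩ := h.exists_abelian hZ hcard
    refine realisable_of_abelian h.absIrred.1 hAN hAab hzF (fun x hx => ?_) hprim hζ₀ hidx
    have hx' := congrArg Subtype.val (hexp ⟨x, hAN hx⟩)
    rcases hz with ⟨hodd, rfl⟩ | ⟨rfl, rfl | rfl⟩
    · rw [Nat.coprime_two_left.2 hodd, mul_one] at hx'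
      exact hx'
    · exact absurd rfl hz2
    · simpa using hx'
  have hmin : IsMinimalFieldFor (Nat.card (Subgroup.center N)) p e F := by
    rw [hZ]
    exact ⟨Fact.out, hp, he, hzdvd, hminimal⟩
  obtain ⟨a, -, ha⟩ := (Nat.dvd_prime_pow (Fact.out (p := p.Prime))).1
    (show q ∣ p ^ (e : ℕ) by rw [← he, hF]; exact dvd_pow_self q two_ne_zero)
  have hea : (e : ℕ) = 2 * a := Nat.pow_right_injective (Fact.out (p := p.Prime)).two_le (by
    show p ^ (e : ℕ) = p ^ (2 * a)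
    rw [← he, hF, ha, ← pow_mul, mul_comm a 2])
  have ha0 : 0 < a := by have := e.pos; omega
  have hna : ¬ z ∣ q - 1 := ha ▸ hminimal a ha0 (by omega)
  have hzd : z ∣ (q + 1) * (q - 1) := by
    rw [hea, mul_comm 2 a, pow_mul, ← ha, ← one_pow 2, Nat.sq_sub_sq] at hzdvd
    exact hzdvd
  refine ⟨r, hr, p, a, m, Fact.out, hp, ha, hrp, hm1, by rw [← hm, Fintype.card_fin], hst, h.absIrred, hNU, ⟨H, h⟩,
    hea ▸ hmin, ?_⟩
  rcases hz with ⟨hodd, rfl⟩ | ⟨rfl, rfl | rfl⟩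
  · refine Or.inl ⟨hodd, hZ, (hr.dvd_mul.1 hzd).resolve_right hna, ?_⟩
    rw [hcard, hm, ← pow_mul, ← pow_succ']
    ring_nf
  · exact absurd rfl hz2
  · have hodd : p % 2 = 1 := by
      rcases (Fact.out (p := p.Prime)).eq_two_or_odd with h2 | h2
      · exact absurd h2.symm hrp
      · exact h2
    have ha1 : a = 1 := by
      by_contra ha1
      refine hminimal 2 two_pos (by omega) ?_
      obtain ⟨t, rfl⟩ : ∃ t, p = 2 * t + 1 := ⟨p / 2, by omega⟩
      exact ⟨t * t + t, by rw [show (2 * t + 1) ^ 2 = 4 * (t * t + t) + 1 by ring, Nat.add_sub_cancel]⟩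
    subst ha1
    rw [pow_one] at ha
    subst ha
    refine Or.inr ⟨rfl, rfl, ?_, hZ, ?_⟩
    · omega
    · rw [hcard, hm, ← pow_mul, pow_add, mul_comm m 2]
      norm_num

end CfsgLib.Geo.Asch
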