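/-
The tensor square of GU₃(2) normalises an extraspecial group of order 3⁵.
-/
import Cfsg.Agent.Lib.Geo.Asch.UnitSymp

set_option autoImplicit false

namespace CfsgLib.Geo.Asch

open Matrix Cfsg.Geo
open scoped Kronecker commutatorElement

variable {F : Type*} [Field F] [Fintype F] {σ : F ≃+* F} {n : ℕ}

/-- Membership in a unitary group by the matrix equation. -/
theorem mem_GU_of_mul {q m : ℕ} (hq : IsQPow σ q) {g : GL (Fin m) F}
    (h : (g : Matrix (Fin m) (Fin m) F)ᵀ * (g : Matrix (Fin m) (Fin m) F).map σ = 1) : g ∈ Cfsg.GU m F q := by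
  have h' : adj σ (g : Matrix (Fin m) (Fin m) F) * g = 1 := by
    have h1 := congrArg (fun M : Matrix (Fin m) (Fin m) F => Mᵀ) h
    simpa [adj] using h1
  intro u v
  show Cfsg.hermForm m F q ((g : Matrix (Fin m) (Fin m) F) *ᵥ u) ((g : Matrix (Fin m) (Fin m) F) *ᵥ v) = _
  rw [herm_adj hq, Matrix.mulVec_mulVec, h', Matrix.one_mulVec]

theorem mul_eq_one_of_mem_GU {q m : ℕ} (hq : IsQPow σ q) {g : GL (Fin m) F} (h : g ∈ Cfsg.GU m F q) :
    (g : Matrix (Fin m) (Fin m) F)ᵀ * (g : Matrix (Fin m) (Fin m) F).map σ = 1 := by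
  have h1 := congrArg (fun M : Matrix (Fin m) (Fin m) F => Mᵀ) (show adj σ (g : Matrix (Fin m) (Fin m) F) * g = 1 by
    rw [adj_gu hq h, Units.inv_mul])
  simpa [adj] using h1

theorem row_orth {q m : ℕ} (hq : IsQPow σ q) {g : GL (Fin m) F} (h : g ∈ Cfsg.GU m F q) (i j : Fin m) :
    ∑ l, (g : Matrix (Fin m) (Fin m) F) i l * σ ((g : Matrix (Fin m) (Fin m) F) j l) = if i = j then 1 else 0 := by
  have h1 : (g : Matrix (Fin m) (Fin m) F) * adj σ (g : Matrix (Fin m) (Fin m) F) = 1 := by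
    rw [adj_gu hq h, Units.mul_inv]
  have h2 := congrFun (congrFun h1 i) j
  simpa [adj, Matrix.mul_apply, Matrix.one_apply] using h2

theorem absIrred_of_span_top {ι : Type} [Fintype ι] [DecidableEq ι] {S : Set (Matrix ι ι F)}
    (h : Submodule.span F S = ⊤) : ActsAbsolutelyIrreducibly S := by
  refine ⟨actsIrreducibly_iff.2 fun W hW => ?_, fun M hM => ?_⟩
  · have hall : ∀ X : Matrix ι ι F, ∀ v ∈ W, X *ᵥ v ∈ W := by
      intro X
      have hX : X ∈ Submodule.span F S := h ▸ Submodule.mem_top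
      induction hX using Submodule.span_induction with
      | mem s hs => exact hW s hs
      | zero => intro v _; simp
      | add a b _ _ ha hb => intro v hv; rw [Matrix.add_mulVec]; exact add_mem (ha v hv) (hb v hv)
      | smul c a _ ha => intro v hv; rw [Matrix.smul_mulVec]; exact W.smul_mem c (ha v hv)
    refine or_iff_not_imp_left.2 fun hW0 => eq_top_iff.2 fun y _ => ?_
    obtain ⟨v, hv, hv0⟩ := Submodule.exists_mem_ne_zero_of_ne_bot hW0
    obtain ⟨i, hi⟩ := Function.ne_iff.1 hv0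
    have h2 := hall (Matrix.of fun a b => if b = i then y a / v i else 0) v hv
    convert h2 using 1
    ext a
    simp [Matrix.mulVec, dotProduct, div_mul_cancel₀ _ hi]
  · have hall : ∀ X : Matrix ι ι F, Commute X M := by
      intro X
      have hX : X ∈ Submodule.span F S := h ▸ Submodule.mem_top
      induction hX using Submodule.span_induction with
      | mem s hs => exact (hM s hs).symm
      | zero => exact Commute.zero_left M
      | add a b _ _ ha hb => exact ha.add_left hb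
      | smul c a _ ha => exact ha.smul_left c
    obtain ⟨c, hc⟩ := Matrix.mem_range_scalar_iff_commute_single'.2 fun i j => hall (Matrix.single i j 1)
    exact ⟨c, by rw [← hc, Matrix.smul_one_eq_diagonal]; rfl⟩

/-- The monomial group of order 27. -/
def qThree (F : Type*) [Field F] [Fintype F] : Subgroup (GL (Fin 3) F) where
  carrier := {g | g ∈ Cfsg.GU 3 F 2 ∧ (g : Matrix (Fin 3) (Fin 3) F).det = 1 ∧
    ∃ k : Fin 3, ∀ i j, j ≠ i + k → (g : Matrix (Fin 3) (Fin 3) F) i j = 0}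
  mul_mem' {a b} ha hb := by
    obtain ⟨ha1, ha2, k, hk⟩ := ha
    obtain ⟨hb1, hb2, l, hl⟩ := hb
    refine ⟨mul_mem ha1 hb1, by rw [Units.val_mul, Matrix.det_mul, ha2, hb2, one_mul], k + l, fun i j hij => ?_⟩
    rw [Units.val_mul, Matrix.mul_apply]
    refine Finset.sum_eq_zero fun m _ => ?_
    by_cases hm : m = i + k
    · rw [hl m j (fun e => hij (by rw [e, hm, add_assoc])), mul_zero]
    · rw [hk i m hm, zero_mul]
  one_mem' := ⟨one_mem _, by simp, 0, fun i j hij => by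
    rw [Units.val_one, Matrix.one_apply_ne (fun e => hij (by rw [e, add_zero]))]⟩
  inv_mem' {a} ha := by
    obtain ⟨ha1, ha2, k, hk⟩ := ha
    refine ⟨inv_mem ha1, ?_, -k, fun i j hij => ?_⟩
    · have h := congrArg Matrix.det a.mul_inv
      rwa [Matrix.det_mul, ha2, one_mul, Matrix.det_one] at h
    · set X := (a : Matrix (Fin 3) (Fin 3) F)
      set Y := ((a⁻¹ : GL (Fin 3) F) : Matrix (Fin 3) (Fin 3) F)
      have h1 : (X * Y) (i + -k) j = 0 := by
        rw [show X * Y = 1 from a.mul_inv, Matrix.one_apply_ne (fun e => hij e.symm)]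
      rw [Matrix.mul_apply, Finset.sum_eq_single i (fun m _ hm => by
        rw [hk _ m (by simpa using hm), zero_mul]) (by simp)] at h1
      refine (mul_eq_zero.1 h1).resolve_left fun h0 => one_ne_zero (α := F) ?_
      rw [← ha2]
      refine Matrix.det_eq_zero_of_row_eq_zero (i + -k) fun m => ?_
      by_cases hm : m = i
      · rw [hm]; exact h0
      · exact hk _ m (by simpa using hm)

variable {ω : F}

theorem sq_conj_one (hq : IsQPow σ 2) (hF : Fintype.card F = 2 ^ 2) {a : F} (ha : a ≠ 0) : a * σ a = 1 := by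
  rw [hq.eq_pow, ← pow_succ']
  have := FiniteField.pow_card_sub_one_eq_one a ha
  rwa [hF] at this

theorem exists_omega (hF : Fintype.card F = 2 ^ 2) :
    ∃ ω : F, ω ≠ 0 ∧ ω ≠ 1 ∧ ω ^ 3 = 1 ∧ 1 + ω + ω ^ 2 = 0 ∧ (3 : F) = 1 ∧
      ∀ a : F, a ≠ 0 → a = 1 ∨ a = ω ∨ a = ω ^ 2 := by
  classical
  obtain ⟨ω, hω⟩ : ∃ ω : F, ω ∉ ({0, 1} : Finset F) := by
    by_contra! h
    have := Finset.card_le_card (s := (Finset.univ : Finset F)) (t := {0, 1}) fun x _ => h x
    rw [Finset.card_univ, hF] at this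
    have := Finset.card_le_two (a := (0 : F)) (b := 1)
    omega
  simp only [Finset.mem_insert, Finset.mem_singleton, not_or] at hω
  have hcube : ∀ a : F, a ≠ 0 → a ^ 3 = 1 := fun a ha => by
    have := FiniteField.pow_card_sub_one_eq_one a ha
    rwa [hF] at this
  have h1 : 1 + ω + ω ^ 2 = 0 := by
    refine (mul_eq_zero.1 (show (ω - 1) * (1 + ω + ω ^ 2) = 0 by linear_combination hcube ω hω.1)).resolve_left ?_
    exact sub_ne_zero.2 hω.2
  have h2 : (2 : F) = 0 := by
    have h4 : ((2 : F)) * 2 = 0 := by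
      have := Nat.cast_card_eq_zero F
      rw [hF] at this
      push_cast at this
      linear_combination this
    exact mul_self_eq_zero.1 h4
  refine ⟨ω, hω.1, hω.2, hcube ω hω.1, h1, by linear_combination h2, fun a ha => ?_⟩
  have hfac : (a - 1) * (a - ω) * (a - ω ^ 2) = 0 := by
    linear_combination hcube a ha - hcube ω hω.1 + (ω * a - a ^ 2) * h1
  rcases mul_eq_zero.1 hfac with h | h
  · rcases mul_eq_zero.1 h with h | h
    · exact Or.inl (sub_eq_zero.1 h)
    · exact Or.inr (Or.inl (sub_eq_zero.1 h))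
  · exact Or.inr (Or.inr (sub_eq_zero.1 h))

/-- Rows of weight one or three. -/
theorem row_weight (hq : IsQPow σ 2) (hF : Fintype.card F = 2 ^ 2) {g : GL (Fin 3) F} (hg : g ∈ Cfsg.GU 3 F 2)
    {i a : Fin 3} (h0 : (g : Matrix (Fin 3) (Fin 3) F) i a = 0) :
    ∃ b, ∀ l, l ≠ b → (g : Matrix (Fin 3) (Fin 3) F) i l = 0 := by
  classical
  by_contra! h
  obtain ⟨l₁, -, hl₁⟩ := h a
  obtain ⟨l₂, hl₂n, hl₂⟩ := h l₁
  have hset : (Finset.univ : Finset (Fin 3)) = {a, l₁, l₂} := by
    symm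
    apply Finset.eq_univ_of_card
    rw [Finset.card_insert_of_notMem, Finset.card_insert_of_notMem, Finset.card_singleton, Fintype.card_fin]
    · simpa using hl₂n.symm
    · simp only [Finset.mem_insert, Finset.mem_singleton, not_or]
      exact ⟨fun e => hl₁ (e ▸ h0), fun e => hl₂ (e ▸ h0)⟩
  have hrow := row_orth hq hg i i
  rw [if_pos rfl, hset, Finset.sum_insert, Finset.sum_insert, Finset.sum_singleton, h0, zero_mul, zero_add,
    sq_conj_one hq hF hl₁, sq_conj_one hq hF hl₂] at hrow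
  · exact one_ne_zero (α := F) (by linear_combination hrow)
  · simpa using hl₂n.symm
  · simp only [Finset.mem_insert, Finset.mem_singleton, not_or]
    exact ⟨fun e => hl₁ (e ▸ h0), fun e => hl₂ (e ▸ h0)⟩

/-- Elements with zero diagonal. -/
theorem mem_qThree_of_diag_zero (hq : IsQPow σ 2) (hF : Fintype.card F = 2 ^ 2) {g : GL (Fin 3) F}
    (hg : g ∈ Cfsg.GU 3 F 2) (hdet : (g : Matrix (Fin 3) (Fin 3) F).det = 1)
    (h0 : ∀ i, (g : Matrix (Fin 3) (Fin 3) F) i i = 0) : g ∈ qThree F := by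
  choose b hb using fun i => row_weight hq hF hg (h0 i)
  have key : ∀ c : Fin 3 → Fin 3, (∀ i, ∀ l, l ≠ c i → (g : Matrix (Fin 3) (Fin 3) F) i l = 0) →
      ∃ k : Fin 3, ∀ i j, j ≠ i + k → (g : Matrix (Fin 3) (Fin 3) F) i j = 0 := by
    intro c hc
    have h00 := h0 0; have h11 := h0 1; have h22 := h0 2
    by_cases hk : ∃ k : Fin 3, ∀ i, c i = i + k ∨ c i = i
    · obtain ⟨k, hk⟩ := hk
      refine ⟨k, fun i j hij => ?_⟩
      rcases hk i with e | e
      · exact hc i j (e.symm ▸ hij)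
      · by_cases hj : j = i
        · rw [hj]; exact h0 i
        · exact hc i j (e.symm ▸ hj)
    exfalso
    have e0 := hc 0; have e1 := hc 1; have e2 := hc 2
    push Not at hk
    have k1 := hk 1; have k2 := hk 2
    rw [Matrix.det_fin_three] at hdet
    generalize hc0 : c 0 = c0 at e0
    generalize hc1 : c 1 = c1 at e1
    generalize hc2 : c 2 = c2 at e2
    simp only [Fin.exists_fin_succ, Fin.exists_fin_zero, hc0, hc1, hc2] at k1 k2
    fin_cases c0 <;> fin_cases c1 <;> fin_cases c2 <;> simp_all (config := { decide := true })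
  exact ⟨hg, hdet, key b hb⟩

/-- `diag(1, ω, ω²)`. -/
def dMat (ω : F) : Matrix (Fin 3) (Fin 3) F := Matrix.diagonal fun i => ω ^ (i : ℕ)

theorem conj_dMat_apply (hq : IsQPow σ 2) {g : GL (Fin 3) F} (hg : g ∈ Cfsg.GU 3 F 2) (i j : Fin 3) :
    ((g : Matrix (Fin 3) (Fin 3) F) * dMat ω * ((g⁻¹ : GL (Fin 3) F) : Matrix (Fin 3) (Fin 3) F)) i j =
      ∑ l, (g : Matrix (Fin 3) (Fin 3) F) i l * ω ^ (l : ℕ) * σ ((g : Matrix (Fin 3) (Fin 3) F) j l) := by
  rw [← adj_gu hq hg, Matrix.mul_apply]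
  simp [dMat, adj]

theorem exists_dGL (hq : IsQPow σ 2) (hF : Fintype.card F = 2 ^ 2) (hω0 : ω ≠ 0) (hω3 : ω ^ 3 = 1) :
    ∃ D : GL (Fin 3) F, D ∈ qThree F ∧ (D : Matrix (Fin 3) (Fin 3) F) = dMat ω := by
  have hdet : (dMat ω).det = 1 := by
    rw [dMat, Matrix.det_diagonal, Fin.prod_univ_three]
    simpa [← pow_succ'] using hω3
  refine ⟨Matrix.GeneralLinearGroup.mkOfDetNeZero _ (hdet.symm ▸ one_ne_zero), ⟨mem_GU_of_mul hq ?_, hdet, 0,
    fun i j hij => Matrix.diagonal_apply_ne _ fun e => hij (by rw [e, add_zero])⟩, rfl⟩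
  show (dMat ω)ᵀ * (dMat ω).map σ = 1
  rw [dMat, Matrix.diagonal_transpose, Matrix.diagonal_map (map_zero σ), Matrix.diagonal_mul_diagonal,
    ← Matrix.diagonal_one]
  congr 1
  funext i
  exact sq_conj_one hq hF (pow_ne_zero _ hω0)

/-- Conjugates of `dMat` by unitary matrices lie in `qThree`. -/
theorem conj_dMat_mem (hq : IsQPow σ 2) (hF : Fintype.card F = 2 ^ 2) (hω0 : ω ≠ 0) (hω : 1 + ω + ω ^ 2 = 0)
    {D : GL (Fin 3) F} (hD : D ∈ qThree F) (hDm : (D : Matrix (Fin 3) (Fin 3) F) = dMat ω)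
    {g : GL (Fin 3) F} (hg : g ∈ Cfsg.GU 3 F 2) : g * D * g⁻¹ ∈ qThree F := by
  classical
  set G := (g : Matrix (Fin 3) (Fin 3) F)
  have hM : ((g * D * g⁻¹ : GL (Fin 3) F) : Matrix (Fin 3) (Fin 3) F) =
      G * dMat ω * ((g⁻¹ : GL (Fin 3) F) : Matrix (Fin 3) (Fin 3) F) := by
    rw [Units.val_mul, Units.val_mul, hDm]
  have hgu : g * D * g⁻¹ ∈ Cfsg.GU 3 F 2 := mul_mem (mul_mem hg hD.1) (inv_mem hg)
  have hdet : ((g * D * g⁻¹ : GL (Fin 3) F) : Matrix (Fin 3) (Fin 3) F).det = 1 := by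
    rw [hM, Matrix.det_units_conj, ← hDm]
    exact hD.2.1
  by_cases hz : ∀ i l, G i l ≠ 0
  · refine mem_qThree_of_diag_zero hq hF hgu hdet fun i => ?_
    rw [hM, conj_dMat_apply hq hg, Fin.sum_univ_three]
    have e : ∀ l, G i l * ω ^ (l : ℕ) * σ (G i l) = ω ^ (l : ℕ) := fun l => by
      rw [mul_right_comm, sq_conj_one hq hF (hz i l), one_mul]
    rw [e, e, e]
    simpa using hω
  push Not at hz
  obtain ⟨i₀, l₀, h0⟩ := hz
  obtain ⟨b, hb⟩ := row_weight hq hF hg h0
  have hb0 : G i₀ b ≠ 0 := by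
    intro h
    have h1 := row_orth hq hg i₀ i₀
    rw [if_pos rfl, Finset.sum_eq_zero (fun l _ => by
      by_cases hl : l = b
      · subst hl; rw [show (g : Matrix (Fin 3) (Fin 3) F) i₀ l = 0 from h, zero_mul]
      · rw [hb l hl, zero_mul])] at h1
    exact zero_ne_one h1
  have hcol : ∀ j, j ≠ i₀ → G j b = 0 := fun j hj => by
    have h1 := row_orth hq hg i₀ j
    rw [if_neg (Ne.symm hj), Finset.sum_eq_single b (fun l _ hl => by rw [hb l hl, zero_mul]) (by simp), mul_eq_zero] at h1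
    exact (map_eq_zero σ).1 (h1.resolve_left hb0)
  have hall : ∀ i, ∃ a, G i a = 0 := fun i => by
    by_cases hi : i = i₀
    · exact ⟨l₀, hi.symm ▸ h0⟩
    · exact ⟨b, hcol i hi⟩
  choose a ha using hall
  choose c hc using fun i => row_weight hq hF hg (ha i)
  refine ⟨hgu, hdet, 0, fun i j hij => ?_⟩
  rw [hM, conj_dMat_apply hq hg]
  have h1 := row_orth hq hg i j
  rw [if_neg (fun e => hij (by rw [e, add_zero])),
    Finset.sum_eq_single (c i) (fun l _ hl => by rw [hc i l hl, zero_mul]) (by simp)] at h1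
  rw [Finset.sum_eq_single (c i) (fun l _ hl => by rw [hc i l hl, zero_mul, zero_mul]) (by simp), mul_right_comm, h1,
    zero_mul]

/-- A unitary matrix whose columns are eigenvectors of a shift. -/
theorem exists_fourier (hq : IsQPow σ 2) (hF : Fintype.card F = 2 ^ 2) (hω0 : ω ≠ 0) (hω3 : ω ^ 3 = 1)
    (hω : 1 + ω + ω ^ 2 = 0) (h3 : (3 : F) = 1) {w : Fin 3 → F} (hw : ∀ i, w i ≠ 0) (e : Equiv.Perm (Fin 3)) :
    ∃ g ∈ Cfsg.GU 3 F 2, ∀ i l, (g : Matrix (Fin 3) (Fin 3) F) i l = w i * ω ^ ((e i : ℕ) * (l : ℕ)) := by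
  set G : Matrix (Fin 3) (Fin 3) F := Matrix.of fun i l => w i * ω ^ ((e i : ℕ) * (l : ℕ)) with hG
  have hσω : σ ω = ω ^ 2 := hq.eq_pow ω
  have key : G * adj σ G = 1 := by
    ext i j
    rw [Matrix.mul_apply, Fin.sum_univ_three]
    simp only [hG, adj, Matrix.of_apply, Matrix.transpose_apply, Matrix.map_apply, map_mul, map_pow, hσω]
    by_cases hij : i = j
    · subst hij
      rw [Matrix.one_apply_eq]
      have h1 : ∀ l : ℕ, w i * ω ^ l * (σ (w i) * (ω ^ 2) ^ l) = 1 := fun l => by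
        rw [mul_mul_mul_comm, sq_conj_one hq hF (hw i), one_mul, ← pow_mul, ← pow_add,
          show l + 2 * l = 3 * l by ring, pow_mul, hω3, one_pow]
      rw [h1, h1, h1]
      linear_combination h3
    · rw [Matrix.one_apply_ne hij]
      have hne : e i ≠ e j := fun h => hij (e.injective h)
      generalize e i = a at hne ⊢
      generalize e j = b at hne ⊢
      have hsum : ω ^ ((a : ℕ) * 0) * (ω ^ 2) ^ ((b : ℕ) * 0) + ω ^ ((a : ℕ) * 1) * (ω ^ 2) ^ ((b : ℕ) * 1) +
          ω ^ ((a : ℕ) * 2) * (ω ^ 2) ^ ((b : ℕ) * 2) = 0 := by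
        fin_cases a <;> fin_cases b <;> simp at hne ⊢ <;> grind
      have : (w i * σ (w j)) * (ω ^ ((a : ℕ) * 0) * (ω ^ 2) ^ ((b : ℕ) * 0) + ω ^ ((a : ℕ) * 1) * (ω ^ 2) ^ ((b : ℕ) * 1) +
          ω ^ ((a : ℕ) * 2) * (ω ^ 2) ^ ((b : ℕ) * 2)) = 0 := by rw [hsum, mul_zero]
      simp only [Fin.val_zero, Fin.val_one, Fin.val_two]
      linear_combination this
  have key' : adj σ G * G = 1 := mul_eq_one_comm.1 key
  refine ⟨⟨G, adj σ G, key, key'⟩, mem_GU_of_mul hq ?_, fun i l => rfl⟩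
  have h1 := congrArg (fun M : Matrix (Fin 3) (Fin 3) F => Mᵀ) key'
  simpa [adj] using h1

theorem eq_conj_of_mul_eq {g x D : GL (Fin 3) F}
    (h : (x : Matrix (Fin 3) (Fin 3) F) * (g : Matrix (Fin 3) (Fin 3) F) =
      (g : Matrix (Fin 3) (Fin 3) F) * (D : Matrix (Fin 3) (Fin 3) F)) : x = g * D * g⁻¹ :=
  eq_mul_inv_of_mul_eq (Units.ext h)

/-- The non-scalar elements of `qThree` are conjugates of `dMat`. -/
theorem exists_conj_dMat (hq : IsQPow σ 2) (hF : Fintype.card F = 2 ^ 2) (hω0 : ω ≠ 0) (hω1 : ω ≠ 1)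
    (hω3 : ω ^ 3 = 1) (hω : 1 + ω + ω ^ 2 = 0) (h3 : (3 : F) = 1)
    (hall : ∀ a : F, a ≠ 0 → a = 1 ∨ a = ω ∨ a = ω ^ 2)
    {D : GL (Fin 3) F} (hDm : (D : Matrix (Fin 3) (Fin 3) F) = dMat ω) {x : GL (Fin 3) F} (hx : x ∈ qThree F)
    (hns : x ∉ scalars (Fin 3) F) : ∃ g ∈ Cfsg.GU 3 F 2, x = g * D * g⁻¹ := by
  classical
  obtain ⟨hxu, hdet, k, hk⟩ := hx
  set X := (x : Matrix (Fin 3) (Fin 3) F) with hX
  have hne : ∀ i, X i (i + k) ≠ 0 := fun i h => one_ne_zero (α := F) (hdet.symm.trans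
    (Matrix.det_eq_zero_of_row_eq_zero i fun j => by
      by_cases hj : j = i + k
      · rw [hj]; exact h
      · exact hk i j hj))
  have h01 := hne 0; have h11 := hne 1; have h21 := hne 2
  rw [Matrix.det_fin_three] at hdet
  fin_cases k
  · -- diagonal
    simp at hk h01 h11 h21
    have hd : X 0 0 * X 1 1 * X 2 2 = 1 := by
      rw [hk 0 1 (by decide), hk 0 2 (by decide), hk 1 0 (by decide), hk 1 2 (by decide), hk 2 0 (by decide),
        hk 2 1 (by decide)] at hdet
      linear_combination hdet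
    have hinj : X 0 0 ≠ X 1 1 ∧ X 0 0 ≠ X 2 2 ∧ X 1 1 ≠ X 2 2 := by
      have hsc : ∀ a : F, X 0 0 = a → X 1 1 = a → X 2 2 = a → False := fun a e0 e1 e2 => hns (by
        have ha : a ≠ 0 := e0 ▸ h01
        refine (mem_scalars_iff x).2 ⟨Units.mk0 a ha, ?_⟩
        ext i j
        by_cases hij : i = j
        · subst hij; fin_cases i <;> simpa [← hX]
        · rw [← hX, hk i j (fun e => hij (by simpa using e.symm))]; simp [hij])
      have key : ∀ a b : F, a ≠ 0 → a * a * b = 1 → b = a := fun a b ha e => by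
        have h1 : a * a * a = 1 := by rcases hall a ha with h | h | h <;> rw [h] <;> grind
        exact mul_left_cancel₀ (mul_ne_zero ha ha) (e.trans h1.symm)
      exact ⟨fun e => hsc _ rfl e.symm (key _ _ h01 (by rw [← hd, ← e])),
        fun e => hsc _ rfl (key _ _ h01 (by rw [← hd, ← e]; ring)) e.symm,
        fun e => hsc _ (key _ _ h11 (by rw [← hd, ← e]; ring)) rfl e.symm⟩
    have hp : ∀ i : Fin 3, ∃ l : Fin 3, X i i = ω ^ (l : ℕ) := fun i => by
      rcases hall (X i i) (by fin_cases i <;> assumption) with h | h | h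
      exacts [⟨0, by simpa using h⟩, ⟨1, by simpa using h⟩, ⟨2, by simpa using h⟩]
    choose p hp using hp
    have hpinj : Function.Injective p := by
      intro i j hij
      have h1 : X i i = X j j := by rw [hp, hp, hij]
      fin_cases i <;> fin_cases j <;> first | rfl | (simp at h1; grind)
    let π : Equiv.Perm (Fin 3) := Equiv.ofBijective p ⟨hpinj, Finite.injective_iff_surjective.1 hpinj⟩
    set G : Matrix (Fin 3) (Fin 3) F := Matrix.of fun i l => if l = π i then 1 else 0 with hG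
    have hGG : Gᵀ * G.map σ = 1 := by
      ext a b
      rw [Matrix.mul_apply, Finset.sum_eq_single (π.symm a) (fun m _ hm => by
        simp [hG, show a ≠ π m from fun e => hm (by simp [e])]) (by simp)]
      by_cases hab : a = b
      · subst hab; simp [hG]
      · simp [hG, hab, Ne.symm hab]
    have hGdet : G.det ≠ 0 := fun h => by
      have := congrArg Matrix.det hGG
      rw [Matrix.det_mul, Matrix.det_transpose, h, zero_mul, Matrix.det_one] at this
      exact zero_ne_one this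
    refine ⟨Matrix.GeneralLinearGroup.mkOfDetNeZero G hGdet, mem_GU_of_mul hq hGG, eq_conj_of_mul_eq ?_⟩
    show X * G = G * _
    rw [hDm]
    ext i l
    rw [Matrix.mul_apply, Finset.sum_eq_single i (fun m _ hm => by rw [hk i m hm, zero_mul]) (by simp),
      dMat, Matrix.mul_diagonal]
    simp only [hG, Matrix.of_apply]
    split_ifs with h
    · rw [mul_one, one_mul, hp, h]; rfl
    · simp
  · -- shift by one
    simp at h01 h11 h21
    obtain ⟨g, hg, hgv⟩ := exists_fourier hq hF hω0 hω3 hω h3 (w := ![1, (X 0 1)⁻¹, (X 0 1 * X 1 2)⁻¹])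
      (by intro i; fin_cases i <;> simp [h01, h11]) (Equiv.refl _)
    refine ⟨g, hg, eq_conj_of_mul_eq ?_⟩
    rw [hDm, ← hX]
    have hd : X 0 1 * X 1 2 * X 2 0 = 1 := by
      rw [hk 0 0 (by decide), hk 0 2 (by decide), hk 1 0 (by decide), hk 1 1 (by decide), hk 2 1 (by decide),
        hk 2 2 (by decide)] at hdet
      linear_combination hdet
    ext i l
    rw [dMat, Matrix.mul_diagonal, Matrix.mul_apply, Finset.sum_eq_single (i + 1) (fun m _ hm => by
      rw [hk i m hm, zero_mul]) (by simp), hgv, hgv]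
    fin_cases i <;> fin_cases l <;> simp <;> grind
  · -- shift by two
    simp at h01 h11 h21
    obtain ⟨g, hg, hgv⟩ := exists_fourier hq hF hω0 hω3 hω h3 (w := ![1, X 1 0, (X 0 2)⁻¹])
      (by intro i; fin_cases i <;> simp_all) ⟨![0, 2, 1], ![0, 2, 1], by intro i; fin_cases i <;> rfl,
        by intro i; fin_cases i <;> rfl⟩
    refine ⟨g, hg, eq_conj_of_mul_eq ?_⟩
    rw [hDm, ← hX]
    have hd : X 0 2 * X 1 0 * X 2 1 = 1 := by
      rw [hk 0 0 (by decide), hk 0 1 (by decide), hk 1 1 (by decide), hk 1 2 (by decide), hk 2 0 (by decide),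
        hk 2 2 (by decide)] at hdet
      linear_combination hdet
    ext i l
    rw [dMat, Matrix.mul_diagonal, Matrix.mul_apply, Finset.sum_eq_single (i + 2) (fun m _ hm => by
      rw [hk i m hm, zero_mul]) (by simp), hgv, hgv]
    fin_cases i <;> fin_cases l <;> simp <;> grind

/-- Properties of the monomial group. -/
theorem qThree_spec (hq : IsQPow σ 2) (hF : Fintype.card F = 2 ^ 2) :
    (∀ g ∈ Cfsg.GU 3 F 2, ∀ x ∈ qThree F, g * x * g⁻¹ ∈ qThree F) ∧
    ⁅qThree F, qThree F⁆ ≤ scalars (Fin 3) F ∧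
    (∀ L : Subgroup (GL (Fin 3) F), L ≤ qThree F → (∀ g ∈ Cfsg.GU 3 F 2, ∀ x ∈ L, g * x * g⁻¹ ∈ L) →
      ¬ L ≤ scalars (Fin 3) F → L = qThree F) ∧
    (∀ x ∈ qThree F, x ∉ scalars (Fin 3) F → ∃ g ∈ Cfsg.GU 3 F 2, g * x * g⁻¹ * x⁻¹ ∉ scalars (Fin 3) F) ∧
    Submodule.span F (matrixSet (qThree F)) = ⊤ := by
  classical
  obtain ⟨ω, hω0, hω1, hω3, hω, h3, hall⟩ := exists_omega hF
  obtain ⟨D, hD, hDm⟩ := exists_dGL hq hF hω0 hω3
  have hconj : ∀ x ∈ qThree F, x ∉ scalars (Fin 3) F → ∃ g ∈ Cfsg.GU 3 F 2, x = g * D * g⁻¹ := fun x hx hns =>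
    exists_conj_dMat hq hF hω0 hω1 hω3 hω h3 hall hDm hx hns
  have hnorm : ∀ g ∈ Cfsg.GU 3 F 2, ∀ x ∈ qThree F, g * x * g⁻¹ ∈ qThree F := by
    intro g hg x hx
    by_cases hs : x ∈ scalars (Fin 3) F
    · rwa [← scalar_commute hs g, mul_inv_cancel_right]
    · obtain ⟨h, hh, rfl⟩ := hconj x hx hs
      rw [show g * (h * D * h⁻¹) * g⁻¹ = g * h * D * (g * h)⁻¹ by group]
      exact conj_dMat_mem hq hF hω0 hω hD hDm (mul_mem hg hh)
  -- `D` commutes with the group up to scalars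
  have hDc : ∀ y ∈ qThree F, ∃ z ∈ scalars (Fin 3) F, D * y = z * (y * D) := by
    rintro y ⟨-, -, k, hk⟩
    refine ⟨Units.map (Matrix.scalar (Fin 3)).toMonoidHom (Units.mk0 (ω ^ (2 * (k : ℕ))) (pow_ne_zero _ hω0)),
      ⟨_, rfl⟩, Units.ext ?_⟩
    show (D : Matrix (Fin 3) (Fin 3) F) * _ = Matrix.scalar (Fin 3) (ω ^ (2 * (k : ℕ))) * (_ * _)
    rw [hDm, Matrix.scalar_apply]
    ext i j
    rw [dMat, Matrix.diagonal_mul, Matrix.diagonal_mul, Matrix.mul_diagonal]
    by_cases hij : j = i + k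
    · subst hij
      have : ω ^ (i : ℕ) = ω ^ (2 * (k : ℕ)) * ω ^ ((i + k : Fin 3) : ℕ) := by
        fin_cases i <;> fin_cases k <;> simp <;> grind
      rw [this]; ring
    · rw [hk i j hij]; ring
  have hcomm : ⁅qThree F, qThree F⁆ ≤ scalars (Fin 3) F := by
    rw [Subgroup.commutator_le]
    intro x hx y hy
    by_cases hs : x ∈ scalars (Fin 3) F
    · rw [commutatorElement_eq_one_iff_mul_comm.2 (scalar_commute hs y)]; exact one_mem _
    obtain ⟨h, hh, rfl⟩ := hconj x hx hs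
    set y' := h⁻¹ * y * h with hy'
    have hy'm : y' ∈ qThree F := by simpa [hy'] using hnorm h⁻¹ (inv_mem hh) y hy
    obtain ⟨z, hz, e⟩ := hDc y' hy'm
    have e2 : D * y' * D⁻¹ * y'⁻¹ = z := by rw [e]; group
    rw [show ⁅h * D * h⁻¹, y⁆ = h * (D * y' * D⁻¹ * y'⁻¹) * h⁻¹ by
      rw [hy', commutatorElement_def]; group, e2]
    exact scalars_normal.conj_mem z hz h
  have hDns : D ∉ scalars (Fin 3) F := fun hs => by
    obtain ⟨c, hc⟩ := (mem_scalars_iff D).1 hs
    have e0 := congrFun (congrFun (hDm.symm.trans hc) 0) 0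
    have e1 := congrFun (congrFun (hDm.symm.trans hc) 1) 1
    simp [dMat] at e0 e1
    exact hω1 (e1.trans e0.symm)
  refine ⟨hnorm, hcomm, fun L hL hLn hLs => ?_, fun x hx hns => ?_, ?_⟩
  · obtain ⟨y, hy, hys⟩ := SetLike.not_le_iff_exists.1 hLs
    obtain ⟨h, hh, rfl⟩ := hconj y (hL hy) hys
    have hDL : D ∈ L := by simpa [mul_assoc] using hLn h⁻¹ (inv_mem hh) _ hy
    have hns' : ∀ x ∈ qThree F, x ∉ scalars (Fin 3) F → x ∈ L := fun x hx hxs => by
      obtain ⟨g, hg, rfl⟩ := hconj x hx hxs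
      exact hLn g hg D hDL
    refine le_antisymm hL fun x hx => ?_
    by_cases hxs : x ∈ scalars (Fin 3) F
    · have hxD : x * D ∉ scalars (Fin 3) F := fun h => hDns (by simpa using mul_mem (inv_mem hxs) h)
      simpa using L.mul_mem (hns' _ (mul_mem hx hD) hxD) (L.inv_mem hDL)
    · exact hns' x hx hxs
  · obtain ⟨h, hh, rfl⟩ := hconj x hx hns
    obtain ⟨g, hg, hgv⟩ := exists_fourier hq hF hω0 hω3 hω h3 (w := fun _ => 1) (fun _ => one_ne_zero) (Equiv.refl _)
    refine ⟨h * g * h⁻¹, mul_mem (mul_mem hh hg) (inv_mem hh), fun hs => ?_⟩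
    have hs2 : g * D * g⁻¹ * D⁻¹ ∈ scalars (Fin 3) F := by
      have h2 := scalars_normal.conj_mem _ hs h⁻¹
      rwa [show h⁻¹ * (h * g * h⁻¹ * (h * D * h⁻¹) * (h * g * h⁻¹)⁻¹ * (h * D * h⁻¹)⁻¹) * h⁻¹⁻¹ =
        g * D * g⁻¹ * D⁻¹ by group] at h2
    obtain ⟨c, hc⟩ := (mem_scalars_iff _).1 hs2
    have h4 : ((g * D * g⁻¹ : GL (Fin 3) F) : Matrix (Fin 3) (Fin 3) F) = (c : F) • dMat ω := by
      rw [show g * D * g⁻¹ = g * D * g⁻¹ * D⁻¹ * D by group, Units.val_mul, hc, hDm, Matrix.smul_mul, one_mul]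
    have h5 := congrFun (congrFun h4 0) 0
    rw [Units.val_mul, Units.val_mul, hDm, conj_dMat_apply hq hg, Fin.sum_univ_three] at h5
    simp [hgv, dMat] at h5
    exact c.ne_zero (h5.symm.trans (by linear_combination hω))
  · rw [eq_top_iff]
    intro M _
    rw [Matrix.matrix_eq_sum_single M]
    refine sum_mem fun i _ => sum_mem fun j _ => ?_
    rw [show Matrix.single i j (M i j) = M i j • Matrix.single i j (1 : F) by
      rw [Matrix.smul_single, smul_eq_mul, mul_one]]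
    refine Submodule.smul_mem _ _ ?_
    set S : Matrix (Fin 3) (Fin 3) F := Matrix.of fun a b => if b = a + (j - i) then 1 else 0 with hS
    have hSS : Sᵀ * S.map σ = 1 := by
      ext a b
      rw [Matrix.mul_apply, Finset.sum_eq_single (a - (j - i)) (fun m _ hm => by
        simp [hS, show a ≠ m + (j - i) from fun e => hm (by rw [e]; abel)]) (by simp)]
      by_cases hab : a = b
      · subst hab; simp [hS]
      · simp [hS, hab, Ne.symm hab]
    have hSdet : S.det = 1 := by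
      rw [hS, Matrix.det_fin_three]
      fin_cases i <;> fin_cases j <;> simp (config := { decide := true })
    let Sg := Matrix.GeneralLinearGroup.mkOfDetNeZero S (hSdet.symm ▸ one_ne_zero)
    have hSg : Sg ∈ qThree F := ⟨mem_GU_of_mul hq hSS, hSdet, j - i, fun a b hab => by
      show S a b = 0
      simp [hS, hab]⟩
    have hproj : Matrix.single i j (1 : F) = ((1 : GL (Fin 3) F) : Matrix (Fin 3) (Fin 3) F) * S +
        ω ^ (2 * (i : ℕ)) • ((D : Matrix (Fin 3) (Fin 3) F) * S) +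
        ω ^ (i : ℕ) • (((D * D : GL (Fin 3) F) : Matrix (Fin 3) (Fin 3) F) * S) := by
      rw [Units.val_one, Units.val_mul, hDm, one_mul, dMat, Matrix.diagonal_mul_diagonal]
      ext a b
      simp only [Matrix.add_apply, Matrix.smul_apply, smul_eq_mul, Matrix.diagonal_mul, hS, Matrix.of_apply]
      fin_cases i <;> fin_cases j <;> fin_cases a <;> fin_cases b <;>
        simp (config := { decide := true }) <;> grind
    rw [hproj]
    refine add_mem (add_mem ?_ (Submodule.smul_mem _ _ ?_)) (Submodule.smul_mem _ _ ?_)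
    · exact Submodule.subset_span ⟨1 * Sg, mul_mem (one_mem _) hSg, by simp only [Units.val_mul]; rfl⟩
    · exact Submodule.subset_span ⟨D * Sg, mul_mem hD hSg, by simp only [Units.val_mul]; rfl⟩
    · exact Submodule.subset_span ⟨D * D * Sg, mul_mem (mul_mem hD hD) hSg, by simp only [Units.val_mul]; rfl⟩

theorem smul_one_kron {d k : ℕ} (c : F) :
    ((c • (1 : Matrix (Fin d) (Fin d) F)) ⊗ₖ (1 : Matrix (Fin k) (Fin k) F)) = c • 1 := by
  rw [Matrix.smul_kronecker, Matrix.one_kronecker_one]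

/-- The tensor square of GU₃(2) lies in the normaliser of 3^{1+4}. -/
theorem unitary_nine (hq : IsQPow σ 2) (hF : Fintype.card F = 2 ^ 2) {H : Subgroup (GL (Fin n) F)}
    (hHU : H ≤ Cfsg.GU n F 2) (e : Fin n ≃ Fin 3 × Fin 3) (P : GL (Fin n) F) {c : F} (hc0 : c ≠ 0)
    (hgram : hermGram σ e P = c • 1) (hle : H ≤ tensorProductSubgroup 3 3 e P) :
    ∃ R : Subgroup (GL (Fin n) F), IsUnitarySympData n 2 3 R ∧ H ≤ subgroupNormalizer R := by
  classical
  obtain ⟨hnorm, hcomm, hmin, hex, hspan⟩ := qThree_spec (σ := σ) hq hF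
  have hn9 : n = 9 := by simpa using Fintype.card_congr e
  haveI : Nonempty (Fin n) := ⟨⟨0, by omega⟩⟩
  haveI : Finite (GL (Fin n) F) :=
    Finite.of_injective (fun g : GL (Fin n) F => (g : Matrix (Fin n) (Fin n) F)) Units.val_injective
  let kr : GL (Fin 3) F × GL (Fin 3) F →* GL (Fin 3 × Fin 3) F :=
    MonoidHom.toHomUnits
      { toFun := fun p => ((p.1 : Matrix (Fin 3) (Fin 3) F) ⊗ₖ (p.2 : Matrix (Fin 3) (Fin 3) F))
        map_one' := by simp
        map_mul' := fun p r => by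
          simp only [Prod.fst_mul, Prod.snd_mul, Units.val_mul, Matrix.mul_kronecker_mul] }
  let ψ : GL (Fin 3) F × GL (Fin 3) F →* GL (Fin n) F :=
    ((MulAut.conj P).toMonoidHom.comp (glReindex (F := F) e.symm).toMonoidHom).comp kr
  have hψ : ∀ a b, coord e P (ψ (a, b) : Matrix (Fin n) (Fin n) F) =
      (a : Matrix (Fin 3) (Fin 3) F) ⊗ₖ (b : Matrix (Fin 3) (Fin 3) F) := by
    intro a b
    show coord e P ((P * glReindex (F := F) e.symm (kr (a, b)) * P⁻¹ : GL (Fin n) F) : Matrix _ _ F) =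
      ((kr (a, b) : GL (Fin 3 × Fin 3) F) : Matrix (Fin 3 × Fin 3) (Fin 3 × Fin 3) F)
    ext i j
    simp [coord, glReindex, mul_assoc, ← mul_assoc ((P⁻¹ : GL (Fin n) F) : Matrix (Fin n) (Fin n) F)]
  set R : Subgroup (GL (Fin n) F) := ((qThree F).prod (qThree F)).map ψ with hRdef
  have hRm : ∀ a b, a ∈ qThree F → b ∈ qThree F → ψ (a, b) ∈ R := fun a b ha hb => ⟨(a, b), ⟨ha, hb⟩, rfl⟩
  have hψinj : ∀ {a b : GL (Fin 3) F}, ψ (a, b) ∈ scalars (Fin n) F →
      a ∈ scalars (Fin 3) F ∧ b ∈ scalars (Fin 3) F := by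
    intro a b h
    obtain ⟨l, hl⟩ := (mem_scalars_iff _).1 h
    have h1 := hψ a b
    rw [hl, coord_smul, coord_one] at h1
    obtain ⟨i, j, hb0⟩ : ∃ i j, (b : Matrix (Fin 3) (Fin 3) F) i j ≠ 0 := by
      by_contra! h0
      exact b.isUnit.ne_zero (Matrix.ext h0)
    obtain ⟨u, v, ha0⟩ : ∃ i j, (a : Matrix (Fin 3) (Fin 3) F) i j ≠ 0 := by
      by_contra! h0
      exact a.isUnit.ne_zero (Matrix.ext h0)
    have sc : ∀ (x : GL (Fin 3) F) (m : F), (x : Matrix (Fin 3) (Fin 3) F) = m • 1 → x ∈ scalars (Fin 3) F :=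
      fun x m hx => (mem_scalars_iff x).2 ⟨Units.mk0 m fun e0 => x.isUnit.ne_zero (by rw [hx, e0, zero_smul]), hx⟩
    have hij : i = j := by
      by_contra hne
      have := congrFun (congrFun h1 (u, i)) (v, j)
      simp [hne] at this
      exact this.elim ha0 hb0
    have huv : u = v := by
      by_contra hne
      have := congrFun (congrFun h1 (u, i)) (v, j)
      simp [hne] at this
      exact this.elim ha0 hb0
    subst hij huv
    refine ⟨sc a ((l : F) / (b : Matrix (Fin 3) (Fin 3) F) i i) ?_,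
      sc b ((l : F) / (a : Matrix (Fin 3) (Fin 3) F) u u) ?_⟩
    · ext x y
      have := congrFun (congrFun h1 (x, i)) (y, i)
      simp [Matrix.one_apply] at this ⊢
      rw [eq_comm, ← eq_div_iff hb0] at this
      rw [this]; split_ifs <;> simp
    · ext x y
      have := congrFun (congrFun h1 (u, x)) (u, y)
      simp [Matrix.one_apply] at this ⊢
      rw [mul_comm, eq_comm, ← eq_div_iff ha0] at this
      rw [this]; split_ifs <;> simp
  have hψsc : ∀ {a b : GL (Fin 3) F}, a ∈ scalars (Fin 3) F → b ∈ scalars (Fin 3) F →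
      ψ (a, b) ∈ scalars (Fin n) F := by
    intro a b ha hb
    obtain ⟨x, hx⟩ := (mem_scalars_iff a).1 ha
    obtain ⟨y, hy⟩ := (mem_scalars_iff b).1 hb
    refine (mem_scalars_iff _).2 ⟨x * y, coord_injective e P ?_⟩
    rw [hψ, hx, hy, coord_smul, coord_one, Matrix.smul_kronecker, Matrix.kronecker_smul, Matrix.one_kronecker_one,
      smul_smul, Units.val_mul]
  have hgu : ∀ {a b}, a ∈ Cfsg.GU 3 F 2 → b ∈ Cfsg.GU 3 F 2 → ψ (a, b) ∈ Cfsg.GU n F 2 := by
    intro a b ha hb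
    apply mem_GU_of_mul hq
    set g := ψ (a, b)
    have h1 : (coord e P (g : Matrix (Fin n) (Fin n) F))ᵀ * hermGram σ e P *
        (coord e P (g : Matrix (Fin n) (Fin n) F)).map σ = hermGram σ e P := by
      rw [hgram, hψ, Matrix.mul_smul, Matrix.smul_mul, mul_one, ← Matrix.kroneckerMap_transpose,
        show ((a : Matrix (Fin 3) (Fin 3) F) ⊗ₖ (b : Matrix (Fin 3) (Fin 3) F)).map σ =
          (a : Matrix (Fin 3) (Fin 3) F).map σ ⊗ₖ (b : Matrix (Fin 3) (Fin 3) F).map σ by ext ⟨i, u⟩ ⟨j, v⟩; simp,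
        ← Matrix.mul_kronecker_mul, mul_eq_one_of_mem_GU hq ha, mul_eq_one_of_mem_GU hq hb, Matrix.one_kronecker_one]
    set K : GL (Fin 3 × Fin 3) F := kr (a, b)
    have hgP : g * P = P * glReindex (F := F) e.symm K := inv_mul_cancel_right _ _
    have hK : (K : Matrix (Fin 3 × Fin 3) (Fin 3 × Fin 3) F) = coord e P (g : Matrix (Fin n) (Fin n) F) := (hψ a b).symm
    rw [← hK, ← hermGram_mul_reindex, ← hgP, hermGram, hermGram] at h1
    have h2 : ((g * P : GL (Fin n) F) : Matrix (Fin n) (Fin n) F)ᵀ *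
        ((g * P : GL (Fin n) F) : Matrix (Fin n) (Fin n) F).map σ =
        (P : Matrix (Fin n) (Fin n) F)ᵀ * (P : Matrix (Fin n) (Fin n) F).map σ := by
      ext i j
      simpa using congrFun (congrFun h1 (e i)) (e j)
    rw [Units.val_mul, Matrix.transpose_mul, Matrix.map_mul, mul_assoc] at h2
    have hu : IsUnit (P : Matrix (Fin n) (Fin n) F)ᵀ := by
      rw [Matrix.isUnit_iff_isUnit_det, Matrix.det_transpose, ← Matrix.isUnit_iff_isUnit_det]; exact P.isUnit
    have h3 := (IsUnit.mul_right_inj hu).1 h2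
    rw [← mul_assoc] at h3
    exact (IsUnit.mul_left_inj (P.isUnit.map σ.toRingHom.mapMatrix)).1 (h3.trans (one_mul _).symm)
  have hRU : R ≤ Cfsg.GU n F 2 := by
    rintro _ ⟨⟨a, b⟩, ⟨ha, hb⟩, rfl⟩
    exact hgu ha.1 hb.1
  have hRnorm : ∀ {g : GL (Fin n) F}, (∀ a b, a ∈ qThree F → b ∈ qThree F → g * ψ (a, b) * g⁻¹ ∈ R) →
      g ∈ subgroupNormalizer R := by
    intro g hg
    have hle' : R.map (MulAut.conj g).toMonoidHom ≤ R := by
      rintro _ ⟨_, ⟨⟨a, b⟩, ⟨ha, hb⟩, rfl⟩, rfl⟩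
      exact hg a b ha hb
    have heq : R.map (MulAut.conj g).toMonoidHom = R := by
      refine Subgroup.eq_of_le_of_card_ge hle' (le_of_eq ?_)
      exact (Subgroup.card_map_of_injective (MulAut.conj g).injective).symm
    refine Subgroup.mem_normalizer_iff.2 fun x => ⟨fun hx => heq ▸ ⟨x, hx, rfl⟩, fun hx => ?_⟩
    rw [← heq] at hx
    obtain ⟨y, hy, e1⟩ := hx
    rwa [show x = y from ((MulAut.conj g).injective e1).symm]
  have hψconj : ∀ a b u v, ψ (u, v) * ψ (a, b) * (ψ (u, v))⁻¹ = ψ (u * a * u⁻¹, v * b * v⁻¹) := fun a b u v => by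
    rw [← map_inv, ← map_mul, ← map_mul]; rfl
  have hGUn : ∀ {u v}, u ∈ Cfsg.GU 3 F 2 → v ∈ Cfsg.GU 3 F 2 → ψ (u, v) ∈ subgroupNormalizer R := fun hu hv =>
    hRnorm fun a b ha hb => by rw [hψconj]; exact hRm _ _ (hnorm _ hu a ha) (hnorm _ hv b hb)
  have hswapdet : ((Equiv.prodComm (Fin 3) (Fin 3)).toPEquiv.toMatrix : Matrix _ _ F).det ≠ 0 := by
    intro h0
    have h1 : ((Equiv.prodComm (Fin 3) (Fin 3)).toPEquiv.toMatrix : Matrix _ _ F) *
        ((Equiv.prodComm (Fin 3) (Fin 3)).toPEquiv.toMatrix : Matrix _ _ F) = 1 := by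
      rw [← PEquiv.toMatrix_trans, ← Equiv.toPEquiv_trans]
      rw [show (Equiv.prodComm (Fin 3) (Fin 3)).trans (Equiv.prodComm (Fin 3) (Fin 3)) = Equiv.refl _ from
        Equiv.ext fun _ => rfl, Equiv.toPEquiv_refl, PEquiv.toMatrix_refl]
    have := congrArg Matrix.det h1
    rw [Matrix.det_mul, Matrix.det_one] at this
    exact left_ne_zero_of_mul_eq_one this h0
  set Sw := P * glReindex (F := F) e.symm (Matrix.GeneralLinearGroup.mkOfDetNeZero _ hswapdet) * P⁻¹ with hSw
  have hswap : ∀ a b, Sw * ψ (a, b) * Sw⁻¹ = ψ (b, a) := by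
    intro a b
    rw [mul_inv_eq_iff_eq_mul]
    have hcs : coord e P (Sw : Matrix (Fin n) (Fin n) F) = (Equiv.prodComm (Fin 3) (Fin 3)).toPEquiv.toMatrix := by
      ext i j
      simp [hSw, coord, glReindex, mul_assoc, ← mul_assoc ((P⁻¹ : GL (Fin n) F) : Matrix (Fin n) (Fin n) F)]
    clear_value Sw
    apply Units.ext
    refine coord_injective e P ?_
    rw [Units.val_mul, Units.val_mul, coord_mul, coord_mul, hψ, hψ, hcs, PEquiv.toMatrix_toPEquiv_mul,
      PEquiv.mul_toMatrix_toPEquiv]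
    ext ⟨i, u⟩ ⟨j, v⟩
    simp [mul_comm]
  have hswN : Sw ∈ subgroupNormalizer R := hRnorm fun a b ha hb => by rw [hswap]; exact hRm b a hb ha
  have hcommR : ⁅R, R⁆ ≤ scalars (Fin n) F := by
    rw [Subgroup.commutator_le]
    rintro _ ⟨⟨a, b⟩, ⟨ha, hb⟩, rfl⟩ _ ⟨⟨a', b'⟩, ⟨ha', hb'⟩, rfl⟩
    rw [← map_commutatorElement]
    exact hψsc (hcomm (Subgroup.commutator_mem_commutator ha ha')) (hcomm (Subgroup.commutator_mem_commutator hb hb'))
  have habs : ActsAbsolutelyIrreducibly (matrixSet R) := by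
    apply absIrred_of_span_top
    let L : Matrix (Fin n) (Fin n) F →ₗ[F] Matrix (Fin 3 × Fin 3) (Fin 3 × Fin 3) F :=
      { toFun := coord e P
        map_add' := fun X Y => by ext i j; simp [coord, mul_add, add_mul]
        map_smul' := fun a X => coord_smul e P a X }
    have hLinj : Function.Injective L := coord_injective e P
    refine Submodule.map_injective_of_injective hLinj ?_
    rw [Submodule.map_span, Submodule.map_top, LinearMap.range_eq_top.2 (coord_surjective e P), eq_top_iff]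
    intro M _
    rw [Matrix.matrix_eq_sum_single M]
    refine sum_mem fun i _ => sum_mem fun j _ => ?_
    rw [show Matrix.single i j (M i j) =
      Matrix.single i.1 j.1 (M i j) ⊗ₖ Matrix.single i.2 j.2 (1 : F) by
        rw [Matrix.single_kronecker_single, mul_one]]
    have h2 : ∀ X Y : Matrix (Fin 3) (Fin 3) F, X ⊗ₖ Y ∈ Submodule.span F (L '' matrixSet R) := by
      intro X Y
      have hX : X ∈ Submodule.span F (matrixSet (qThree F)) := hspan ▸ Submodule.mem_top
      have hY : Y ∈ Submodule.span F (matrixSet (qThree F)) := hspan ▸ Submodule.mem_top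
      induction hX using Submodule.span_induction with
      | mem x hx =>
        induction hY using Submodule.span_induction with
        | mem y hy =>
          obtain ⟨a, ha, rfl⟩ := hx
          obtain ⟨b, hb, rfl⟩ := hy
          exact Submodule.subset_span ⟨_, mem_matrixSet (hRm a b ha hb), hψ a b⟩
        | zero => simp
        | add a b _ _ ha hb => rw [Matrix.kronecker_add]; exact add_mem ha hb
        | smul r a _ ha => rw [Matrix.kronecker_smul]; exact Submodule.smul_mem _ _ ha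
      | zero => simp
      | add a b _ _ ha hb => rw [Matrix.add_kronecker]; exact add_mem ha hb
      | smul r a _ ha => rw [Matrix.smul_kronecker]; exact Submodule.smul_mem _ _ ha
    exact h2 _ _
  have hS : ScalarComm' (subgroupNormalizer R) R :=
    { le := Subgroup.le_normalizer
      normal := fun h hh x hx => (Subgroup.mem_normalizer_iff.1 hh x).1 hx
      absIrred := habs
      comm := hcommR
      min := by
        intro L hL hLn hLs
        obtain ⟨x, hx, hxs⟩ := SetLike.not_le_iff_exists.1 hLs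
        obtain ⟨⟨a, b⟩, ⟨ha, hb⟩, rfl⟩ := hL hx
        -- a non-scalar element on the left
        obtain ⟨a, b, ha, hb, hx, has⟩ : ∃ a b, a ∈ qThree F ∧ b ∈ qThree F ∧ ψ (a, b) ∈ L ∧
            a ∉ scalars (Fin 3) F := by
          by_cases has : a ∈ scalars (Fin 3) F
          · refine ⟨b, a, hb, ha, hswap a b ▸ hLn _ hswN _ hx, fun hbs => hxs (hψsc has hbs)⟩
          · exact ⟨a, b, ha, hb, hx, has⟩
        obtain ⟨g, hg, hgs⟩ := hex a ha has
        have hL1 : ψ (g * a * g⁻¹ * a⁻¹, 1) ∈ L := by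
          have h1 := L.mul_mem (hLn _ (hGUn hg (one_mem _)) _ hx) (L.inv_mem hx)
          rw [hψconj, ← map_inv, ← map_mul] at h1
          simpa using h1
        let L₁ : Subgroup (GL (Fin 3) F) :=
          (L.comap (ψ.comp (MonoidHom.inl _ _))) ⊓ qThree F
        have hL₁ : L₁ = qThree F := by
          refine hmin L₁ inf_le_right (fun u hu y hy => ⟨?_, hnorm u hu y hy.2⟩) fun hs =>
            hgs (hs ⟨hL1, (qThree F).mul_mem (hnorm g hg a ha) ((qThree F).inv_mem ha)⟩)
          show ψ (u * y * u⁻¹, 1) ∈ L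
          have h1 := hLn _ (hGUn hu (one_mem _)) _ hy.1
          rw [show (ψ.comp (MonoidHom.inl _ _)) y = ψ (y, 1) from rfl, hψconj] at h1
          simpa using h1
        have hleft : ∀ u ∈ qThree F, ψ (u, 1) ∈ L := fun u hu => (hL₁.ge hu).1
        refine le_antisymm hL ?_
        rintro _ ⟨⟨u, v⟩, ⟨hu, hv⟩, rfl⟩
        rw [show ((u, v) : GL (Fin 3) F × GL (Fin 3) F) = (u, 1) * (1, v) by simp, map_mul]
        exact L.mul_mem (hleft u hu) (hswap v 1 ▸ hLn _ hswN _ (hleft v hv)) }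
  obtain ⟨r, m, z, hr, -, -, hm, hst, hZ, hcard, hz, -, -, -⟩ := hS.structure_thm (by rw [Fintype.card_fin]; omega)
  rw [Fintype.card_fin] at hm hcard
  obtain rfl : r = 3 := (Nat.prime_dvd_prime_iff_eq hr Nat.prime_three).1 (hr.dvd_of_dvd_pow (n := 2) (by
    rw [show 3 ^ 2 = r ^ m by rw [← hm, hn9]; norm_num]
    exact dvd_pow_self r (by intro h0; rw [h0, pow_zero] at hm; omega)))
  have hz3 : z = 3 := by
    rcases hz with ⟨-, h⟩ | ⟨h, -⟩
    · exact h
    · omega
  refine ⟨R, ⟨2, 1, 2, Nat.prime_two, ?_, rfl, by norm_num, by norm_num, by omega, hst, habs, hRU, ⟨_, hS⟩, ?_, Or.inl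
    ⟨by decide, hZ.trans hz3, dvd_refl 3, by rw [hcard, hz3, hn9]; norm_num⟩⟩, ?_⟩
  · obtain ⟨p, hp⟩ := CharP.exists F
    have hp2 : p = 2 := by
      have hpp := CharP.char_is_prime F p
      obtain ⟨k, -, hk⟩ := FiniteField.card F p
      exact (Nat.prime_dvd_prime_iff_eq hpp Nat.prime_two).1 (hpp.dvd_of_dvd_pow (n := 2) (by
        rw [← hF, hk]; exact dvd_pow_self p k.pos.ne'))
    exact hp2 ▸ hp
  · rw [hZ, hz3]
    refine ⟨Nat.prime_two, ?_, hF, by norm_num, fun d hd hd2 => ?_⟩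
    · obtain ⟨p, hp⟩ := CharP.exists F
      have hp2 : p = 2 := by
        have hpp := CharP.char_is_prime F p
        obtain ⟨k, -, hk⟩ := FiniteField.card F p
        exact (Nat.prime_dvd_prime_iff_eq hpp Nat.prime_two).1 (hpp.dvd_of_dvd_pow (n := 2) (by
          rw [← hF, hk]; exact dvd_pow_self p k.pos.ne'))
      exact hp2 ▸ hp
    · obtain rfl : d = 1 := by omega
      norm_num
  · intro h hh
    obtain ⟨a, b, hab⟩ := (mem_tensorProductSubgroup_iff e P h).1 (hle hh)
    have h1 := hermGram_fix hq e P (hHU hh)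
    rw [hgram, hab, Matrix.mul_smul, Matrix.smul_mul, mul_one] at h1
    have h1' := smul_right_injective (Matrix (Fin 3 × Fin 3) (Fin 3 × Fin 3) F) hc0 h1
    rw [← Matrix.kroneckerMap_transpose,
      show ((a : Matrix (Fin 3) (Fin 3) F) ⊗ₖ (b : Matrix (Fin 3) (Fin 3) F)).map σ =
        (a : Matrix (Fin 3) (Fin 3) F).map σ ⊗ₖ (b : Matrix (Fin 3) (Fin 3) F).map σ by ext ⟨i, u⟩ ⟨j, v⟩; simp,
      ← Matrix.mul_kronecker_mul] at h1'
    set X := (a : Matrix (Fin 3) (Fin 3) F)ᵀ * (a : Matrix (Fin 3) (Fin 3) F).map σ with hX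
    set Y := (b : Matrix (Fin 3) (Fin 3) F)ᵀ * (b : Matrix (Fin 3) (Fin 3) F).map σ with hY
    have hent := fun (i j : Fin 3 × Fin 3) => congrFun (congrFun h1' i) j
    simp only [Matrix.kroneckerMap_apply, Matrix.one_apply, Prod.ext_iff] at hent
    have h00 : X 0 0 * Y 0 0 = 1 := by simpa using hent (0, 0) (0, 0)
    have hX0 : X 0 0 ≠ 0 := left_ne_zero_of_mul_eq_one h00
    have hY0 : Y 0 0 ≠ 0 := right_ne_zero_of_mul_eq_one h00
    have hfix : ∀ {x : F}, x ≠ 0 → σ x = x → x = 1 := fun {x} hx he => by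
      have h2 := sq_conj_one hq hF hx
      rw [he] at h2
      rw [hq.eq_pow, pow_two] at he
      rw [← h2]; exact he.symm
    have hXs : σ (X 0 0) = X 0 0 := by simp [hX, Matrix.mul_apply, map_sum, hq.involutive, mul_comm]
    have hYs : σ (Y 0 0) = Y 0 0 := by simp [hY, Matrix.mul_apply, map_sum, hq.involutive, mul_comm]
    have hX1 : X = 1 := by
      ext i j
      have := hent (i, 0) (j, 0)
      rw [hfix hY0 hYs, mul_one] at this
      simpa [Matrix.one_apply] using this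
    have hY1 : Y = 1 := by
      ext i j
      have := hent (0, i) (0, j)
      rw [hfix hX0 hXs, one_mul] at this
      simpa [Matrix.one_apply] using this
    have hh' : h = ψ (a, b) := Units.ext (coord_injective e P (hab.trans (hψ a b).symm))
    rw [hh']
    exact hGUn (mem_GU_of_mul hq hX1) (mem_GU_of_mul hq hY1)

end CfsgLib.Geo.Asch
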