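/-
The structure of subgroups of the unitary groups in arbitrary dimension.
-/
import Cfsg.Agent.Lib.Geo.Asch.Core
import Cfsg.Agent.Lib.Geo.Asch.UnitNine
import Cfsg.Agent.Lib.Geo.Asch.LinearMax
import Cfsg.Agent.Lib.Geo.Asch.Unitary
import Cfsg.Agent.Lib.Char.Burnside
import Cfsg.Agent.Lib.Classical.Unitary.Matrix

set_option autoImplicit false

namespace CfsgLib.Geo.Asch

open Matrix Cfsg.Geo
open scoped Kronecker commutatorElement

variable {F : Type*} [Field F] [Fintype F] {σ : F ≃+* F} {n q : ℕ}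

/-- The possible hosts of a subgroup of the unitary group. -/
def UnitHost (n q : ℕ) (H : Subgroup (GL (Fin n) F)) : Prop :=
  (∃ W : Submodule F (Fin n → F), W ≠ ⊥ ∧ IsTotallySingularFor (Cfsg.hermForm n F q) W ∧
    H ≤ subspaceStabilizer W) ∨
  (∃ W : Submodule F (Fin n → F), W ≠ ⊥ ∧ IsNondegenerateOn (Cfsg.hermForm n F q) W ∧
    2 * Module.finrank F W < n ∧ H ≤ subspaceStabilizer W) ∨
  (∃ (t m : ℕ) (D : Fin t → Submodule F (Fin n → F)),
    IsNondegenerateMDecomposition (Cfsg.hermForm n F q) m D ∧ t * m = n ∧ H ≤ decompositionStabilizer D) ∨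
  (∃ (k : ℕ) (D : Fin 2 → Submodule F (Fin n → F)), 2 * k = n ∧ IsMDecomposition k D ∧
    (∀ i, IsTotallySingularFor (Cfsg.hermForm n F q) (D i)) ∧ H ≤ decompositionStabilizer D) ∨
  (∃ (r : ℕ) (K : Subalgebra F (Matrix (Fin n) (Fin n) F)), r.Prime ∧ Odd r ∧ r ∣ n ∧ IsFieldSubalgebra r K ∧
    IsAdjointClosedFor (Cfsg.hermForm n F q) K ∧ H ≤ subalgebraNormalizer K) ∨
  (∃ (d k : ℕ) (e : Fin n ≃ Fin d × Fin k) (P : GL (Fin n) F), 2 ≤ d ∧ d < k ∧ d * k = n ∧
    IsTensorFormStructure (fun x : F => x ^ q) (Cfsg.hermForm n F q) (Cfsg.hermForm d F q) (Cfsg.hermForm k F q) e P ∧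
    H ≤ tensorProductSubgroup d k e P) ∨
  (∃ (F₀ : Subfield F) (r : ℕ) (P : GL (Fin n) F), r.Prime ∧ Fintype.card F = Nat.card F₀ ^ r ∧
    IsHermRational F n q F₀ r P ∧ H ≤ subfieldSubgroup F₀ P) ∨
  (∃ (r : ℕ) (R : Subgroup (GL (Fin n) F)), r.Prime ∧ IsUnitarySympData n q r R ∧ H ≤ subgroupNormalizer R) ∨
  (∃ (d t : ℕ) (e : Fin n ≃ (Fin t → Fin d)) (P : GL (Fin n) F), 3 ≤ d ∧ 2 ≤ t ∧ d ^ t = n ∧ ¬ (q = 2 ∧ d = 3) ∧
    IsTensorPowerFormStructure (fun x : F => x ^ q) (Cfsg.hermForm n F q) (Cfsg.hermForm d F q) e P ∧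
    H ≤ tensorWreathSubgroup d t e P) ∨
  InUnitaryResidualClass H

omit [Fintype F] in
theorem isUnitaryFormPow_hermForm (hq : IsQPow σ q) (d : ℕ) : IsUnitaryFormPow q (Cfsg.hermForm d F q) :=
  have hf := isUnitaryForm_hermForm (n := d) hq
  ⟨hf.add_left, hf.smul_left, fun v w => (hf.herm v w).trans (hq.eq_pow _), hf.nondegenerate⟩

theorem IsHermRational.cases (F : Type*) [Field F] [Fintype F] {n q : ℕ} {F₀ : Subfield F} {r : ℕ} {P : GL (Fin n) F}
    (hcard : Fintype.card F = Nat.card F₀ ^ r) (h : IsHermRational F n q F₀ r P) :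
    (Odd r ∧ IsFormRationalStructure (Cfsg.hermForm n F q) F₀ 1 P) ∨
    (Odd q ∧ Fintype.card F = Nat.card F₀ ^ 2 ∧ IsFormRationalStructure (Cfsg.hermForm n F q) F₀ 1 P) ∨
    (Even n ∧ Fintype.card F = Nat.card F₀ ^ 2 ∧ ∃ ζ : F, ζ ≠ 0 ∧ ζ + ζ ^ q = 0 ∧
      IsFormRationalStructure (Cfsg.hermForm n F q) F₀ ζ P ∧
      ∀ u : Fin n → F, (∀ i, u i ∈ F₀) → Cfsg.hermForm n F q ((P : Matrix (Fin n) (Fin n) F) *ᵥ u)
        ((P : Matrix (Fin n) (Fin n) F) *ᵥ u) = 0) := by
  rcases h with h | ⟨rfl, h1, h2⟩ | ⟨rfl, h1, h2⟩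
  · exact Or.inl h
  · exact Or.inr (Or.inl ⟨h1, hcard, h2⟩)
  · exact Or.inr (Or.inr ⟨h1, hcard, h2⟩)

/-- Every host is a member of a class, or residual. -/
theorem UnitHost.member {H : Subgroup (GL (Fin n) F)} (hq : IsQPow σ q) (hHU : H ≤ Cfsg.GU n F q)
    (h : UnitHost n q H) :
    (∃ M : Subgroup (GL (Fin n) F), InUnitaryClass n F q M ∧ H ≤ M) ∨ InUnitaryResidualClass H := by
  rcases h with ⟨W, h0, hts, hle⟩ | ⟨W, h0, hnd, h2, hle⟩ | ⟨t, m, D, hD, -, hle⟩ | ⟨k, D, hk, hD, hts, hle⟩ |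
    ⟨r, K, hr, hro, -, hK, hKa, hle⟩ | ⟨d, k, e, P, hd, hdk, -, hT, hle⟩ | ⟨F₀, r, P, hr, hc, hrat, hle⟩ |
    ⟨r, R, hr, hR, hle⟩ | ⟨d, t, e, P, hd, ht, -, hex, hT, hle⟩ | h
  · exact Or.inl ⟨_, .inl (.inl ⟨W, h0, hts, rfl⟩), le_inf hle hHU⟩
  · exact Or.inl ⟨_, .inl (.inr <| .inl ⟨W, h0, hnd, h2, rfl⟩), le_inf hle hHU⟩
  · exact Or.inl ⟨_, .inl (.inr <| .inr <| .inl ⟨t, m, D, hD, rfl⟩), le_inf hle hHU⟩
  · exact Or.inl ⟨_, .inl (.inr <| .inr <| .inr <| .inl ⟨k, D, hk, hD, hts, rfl⟩), le_inf hle hHU⟩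
  · exact Or.inl ⟨_, .inr <| .inl ⟨r, K, hr, hro, hK, hKa, rfl⟩, le_inf hle hHU⟩
  · exact Or.inl ⟨_, .inr <| .inr <| .inl ⟨d, k, e, P, _, _, hd, hdk, isUnitaryFormPow_hermForm hq d,
      isUnitaryFormPow_hermForm hq k, hT, rfl⟩, le_inf hle hHU⟩
  · rcases IsHermRational.cases F hc hrat with ⟨hro, h⟩ | ⟨hqo, hc2, h⟩ | ⟨hev, hc2, ζ, hz, hz2, h, hsing⟩
    · exact Or.inl ⟨_, .inl (.inr <| .inr <| .inr <| .inr <| .inl ⟨F₀, r, P, hr, hro, hc, h, rfl⟩), le_inf hle hHU⟩
    · exact Or.inl ⟨_, .inl (.inr <| .inr <| .inr <| .inr <| .inr <| .inl ⟨F₀, P, hqo, hc2, h, rfl⟩), le_inf hle hHU⟩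
    · exact Or.inl ⟨_, .inl (.inr <| .inr <| .inr <| .inr <| .inr <| .inr <| .inl
        ⟨F₀, P, ζ, hev, hc2, hz, hz2, h, hsing, rfl⟩), le_inf hle hHU⟩
  · obtain ⟨p, a, k, -, -, -, hrp, hk, -, hst, habs, hRU, -, hmin, hcases⟩ := hR
    refine Or.inl ⟨_, .inl (.inr <| .inr <| .inr <| .inr <| .inr <| .inr <| .inr
      ⟨r, R, p, 2 * a, k, hst, habs, fun g hg => ⟨1, fun u v => by rw [Units.val_one, one_mul]; exact hRU hg u v⟩,
        hrp, hmin, ?_, rfl⟩), le_inf hle hHU⟩
    rcases hcases with ⟨hro, hz, -, hcard⟩ | ⟨hr2, ha, -, hz, hcard⟩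
    · exact Or.inl ⟨hro, hz, hk, hcard⟩
    · exact Or.inr ⟨hr2, by rw [ha], hz, hcard⟩
  · exact Or.inl ⟨_, .inr <| .inr <| .inr ⟨d, t, e, P, _, hd, ht, hex, isUnitaryFormPow_hermForm hq d, hT, rfl⟩,
      le_inf hle hHU⟩
  · exact Or.inr h

omit [Fintype F] in
theorem FactorCoords.absIrred_factor {ι : Type} [Fintype ι] [DecidableEq ι] {t d : ℕ}
    {M : Fin t → Subgroup (GL ι F)} {e : ι ≃ (Fin t → Fin d)} {P : GL ι F}
    {A : Fin t → GL ι F → Matrix (Fin d) (Fin d) F} (hc : FactorCoords d M e P A) (i : Fin t) :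
    ActsAbsolutelyIrreducibly (A i '' (M i : Set (GL ι F))) := by
  classical
  refine ⟨hc.irred i, fun Z hZ => ?_⟩
  rcases Nat.eq_zero_or_pos d with rfl | hd
  · exact ⟨0, Subsingleton.elim _ _⟩
  obtain ⟨X, hX⟩ := coord_surjective e P (factor i Z)
  have hcomm : ∀ j, ∀ g ∈ M j, X * (g : Matrix ι ι F) = (g : Matrix ι ι F) * X := by
    intro j g hg
    refine coord_injective e P ?_
    rw [coord_mul, coord_mul, hX, hc.coord_eq j g hg, factor, factor, ← map_mul, ← map_mul]
    congr 1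
    funext l
    by_cases hli : l = i
    · subst hli
      by_cases hlj : l = j
      · subst hlj
        simpa using hZ _ ⟨g, hg, rfl⟩
      · simp [Pi.mulSingle_eq_of_ne hlj]
    · simp [Pi.mulSingle_eq_of_ne hli]
  obtain ⟨c, hcX⟩ := hc.absIrred.2 X (by
    rintro _ ⟨g, hg, rfl⟩
    show X * (g : Matrix ι ι F) = (g : Matrix ι ι F) * X
    induction hg using Subgroup.iSup_induction' with
    | hp j g hg => exact hcomm j g hg
    | h1 => simp
    | hmul a b _ _ h1 h2 => rw [Units.val_mul, ← mul_assoc, h1, mul_assoc, h2, mul_assoc])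
  have hfac : factor i Z = c • (1 : Matrix (Fin t → Fin d) (Fin t → Fin d) F) := by
    rw [← hX, hcX, coord_smul, coord_one]
  refine ⟨c, ?_⟩
  ext a b
  have h := congrFun (congrFun hfac (Function.update (fun _ => ⟨0, hd⟩) i a))
    (Function.update (fun _ => ⟨0, hd⟩) i b)
  rw [factor_apply, if_pos (fun j hj => by rw [Function.update_of_ne hj, Function.update_of_ne hj]),
    Function.update_self, Function.update_self] at h
  rw [h, Matrix.smul_apply, Matrix.smul_apply]
  congr 1
  by_cases hab : a = b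
  · subst hab; rw [Matrix.one_apply_eq, Matrix.one_apply_eq]
  · rw [Matrix.one_apply_ne hab, Matrix.one_apply_ne]
    exact fun e' => hab (by simpa using congrFun e' i)

/-- A perfect group embedded in GU₃(2) is trivial. -/
theorem no_perfect_factor_three (hq : IsQPow σ 2) (hF : Fintype.card F = 2 ^ 2) {t : ℕ}
    {M : Fin t → Subgroup (GL (Fin n) F)} (hMU : ∀ i, M i ≤ Cfsg.GU n F 2) (hperf : ∀ i, ⁅M i, M i⁆ = M i)
    {e : Fin n ≃ (Fin t → Fin 3)} {P : GL (Fin n) F} {A : Fin t → GL (Fin n) F → Matrix (Fin 3) (Fin 3) F}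
    (hc : FactorCoords 3 M e P A) (i : Fin t) : M i = ⊥ := by
  classical
  have habs := hc.absIrred_factor i
  haveI : Nonempty (Fin t → Fin 3) := ⟨fun _ => 0⟩
  set G := hermGram σ e P with hG
  obtain ⟨x₀, y₀, hne⟩ : ∃ x y, G x y ≠ 0 := by
    by_contra! h0
    exact (hermGram_isUnit (σ := σ) e P).ne_zero (Matrix.ext h0)
  have hmapσ : ∀ X : Matrix (Fin 3) (Fin 3) F, (factor i X : Matrix (Fin t → Fin 3) (Fin t → Fin 3) F).map σ =
      factor i (X.map σ) := by
    intro X
    ext x y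
    rw [Matrix.map_apply, factor_apply, factor_apply, apply_ite σ, map_zero]
    rfl
  have htr : ∀ X : Matrix (Fin 3) (Fin 3) F, (factor i X : Matrix (Fin t → Fin 3) (Fin t → Fin 3) F)ᵀ =
      factor i Xᵀ := by
    intro X
    ext a b
    rw [Matrix.transpose_apply, factor_apply, factor_apply]
    simp [eq_comm]
  -- `A i` is multiplicative and faithful
  have hfinj : Function.Injective (factor i : Matrix (Fin 3) (Fin 3) F → Matrix (Fin t → Fin 3) (Fin t → Fin 3) F) := by
    intro X Y h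
    ext a b
    have h' := congrFun (congrFun h (Function.update x₀ i a)) (Function.update x₀ i b)
    rw [factor_apply, factor_apply, if_pos (fun j hj => by rw [Function.update_of_ne hj, Function.update_of_ne hj]),
      if_pos (fun j hj => by rw [Function.update_of_ne hj, Function.update_of_ne hj])] at h'
    simpa using h'
  let φ : M i →* Matrix (Fin 3) (Fin 3) F :=
    { toFun := fun g => A i g
      map_one' := hfinj (by
        rw [← hc.coord_eq i _ (1 : M i).2]
        show coord e P ((1 : GL (Fin n) F) : Matrix (Fin n) (Fin n) F) = _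
        rw [Units.val_one, coord_one, factor, Pi.mulSingle_one, map_one])
      map_mul' := fun a b => hfinj (by
        rw [← hc.coord_eq i _ (a * b).2]
        show coord e P ((a.1 * b.1 : GL (Fin n) F) : Matrix (Fin n) (Fin n) F) = _
        rw [Units.val_mul, coord_mul, hc.coord_eq i a a.2, hc.coord_eq i b b.2, factor, factor, factor, ← map_mul,
          Pi.mulSingle_mul]) }
  let φu : M i →* GL (Fin 3) F := φ.toHomUnits
  set S : Matrix (Fin 3) (Fin 3) F := Matrix.of fun a b => G (Function.update x₀ i a) (Function.update y₀ i b) with hS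
  have hSfix : ∀ X ∈ A i '' (M i : Set (GL (Fin n) F)), Xᵀ * S * X.map σ = S := by
    rintro _ ⟨g, hg, rfl⟩
    have h := hermGram_fix hq e P (hMU i hg)
    rw [hc.coord_eq i g hg, htr, hmapσ, ← hG] at h
    ext p r
    have h1 := congrFun (congrFun h (Function.update x₀ i p)) (Function.update y₀ i r)
    rw [mul_factor_apply] at h1
    simp only [factor_mul_apply, Function.update_self, Function.update_idem] at h1
    rw [Matrix.mul_apply]
    simp only [Matrix.mul_apply, S, Matrix.of_apply]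
    rw [← h1]
  have hS0 : S ≠ 0 := fun h0 => hne (by simpa [S] using congrFun (congrFun h0 (x₀ i)) (y₀ i))
  have hdet : ∀ X ∈ A i '' (M i : Set (GL (Fin n) F)), X.det ≠ 0 := by
    rintro _ ⟨g, hg, rfl⟩
    exact ((φu ⟨g, hg⟩).isUnit.map Matrix.detMonoidHom).ne_zero
  obtain ⟨hSu, hSuniq⟩ := gram_unique hq habs hdet hS0 hSfix
  obtain ⟨l, hl⟩ := hSuniq (adj σ S) fun X hX => by
    have h := congrArg (adj σ) (hSfix X hX)
    rw [adj_mul, adj_mul, ← mul_assoc] at h
    have e1 : adj σ (X.map σ) = Xᵀ := by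
      ext a b
      simp [adj, hq.involutive]
    have e2 : adj σ Xᵀ = X.map σ := by
      ext a b
      simp [adj]
    rwa [e1, e2] at h
  obtain ⟨k, c, hc0, hk⟩ := exists_factor_of_conjSymm hq hSu hl
  let ψ : M i →* GL (Fin 3) F := (MulAut.conj k).toMonoidHom.comp φu
  have hψinj : Function.Injective ψ := by
    intro a b h
    have h1 : A i a = A i b := congrArg (fun u : GL (Fin 3) F => (u : Matrix (Fin 3) (Fin 3) F))
      ((MulAut.conj k).injective h)
    refine Subtype.ext (Units.ext (coord_injective e P ?_))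
    rw [hc.coord_eq i a a.2, hc.coord_eq i b b.2, h1]
  have hψU : ψ.range ≤ Cfsg.GU 3 F 2 := by
    rintro _ ⟨g, rfl⟩
    refine mem_GU_of_mul hq ?_
    have h1 := hSfix _ ⟨g, g.2, rfl⟩
    rw [hk, Matrix.mul_smul, Matrix.smul_mul] at h1
    have h2 := smul_right_injective (Matrix (Fin 3) (Fin 3) F) hc0 h1
    set K := (k : Matrix (Fin 3) (Fin 3) F) with hK
    set K' := ((k⁻¹ : GL (Fin 3) F) : Matrix (Fin 3) (Fin 3) F) with hK'
    have hv : ((ψ g : GL (Fin 3) F) : Matrix (Fin 3) (Fin 3) F) = K * A i g * K' := rfl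
    rw [hv]
    have hKK : K * K' = 1 := k.mul_inv
    have e0 : (K * A i g * K')ᵀ * (K * A i g * K').map σ =
        K'ᵀ * ((A i g)ᵀ * (Kᵀ * K.map σ) * (A i g).map σ) * K'.map σ := by
      simp only [Matrix.transpose_mul, Matrix.map_mul, mul_assoc]
    rw [e0, h2, ← mul_assoc, ← Matrix.transpose_mul, hKK, Matrix.transpose_one, one_mul, ← Matrix.map_mul, hKK,
      Matrix.map_one _ (map_zero σ) (map_one σ)]
  haveI : Finite (GL (Fin 3) F) :=
    Finite.of_injective (fun g : GL (Fin 3) F => (g : Matrix (Fin 3) (Fin 3) F)) Units.val_injective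
  haveI hsol : Group.IsSolvable (Cfsg.GU 3 F 2) := by
    refine CfsgLib.Burnside.isSolvable_of_card_eq (p := 2) (q := 3) (a := 3) (b := 4) Nat.prime_two Nat.prime_three ?_
    rw [CfsgLib.Classical.Herm.card_GU hF 3]
    simp [Finset.prod_range_succ]
  haveI : Group.IsSolvable (M i) :=
    Group.isSolvable_of_isSolvable_injective (f := (Subgroup.inclusion hψU).comp ψ.rangeRestrict) (fun a b h => hψinj (by
      have h1 := congrArg Subtype.val h
      simpa using h1))
  by_contra hbot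
  haveI : Nontrivial (M i) := (Subgroup.nontrivial_iff_ne_bot _).2 hbot
  have hlt := Group.IsSolvable.commutator_lt_top_of_nontrivial (M i)
  refine hlt.ne ?_
  apply Subgroup.map_injective (M i).subtype_injective
  rw [commutator_def, Subgroup.map_commutator, ← MonoidHom.range_eq_map, Subgroup.range_subtype, hperf i]

/-- The tensor square of two-dimensional factors is written over the fixed field. -/
theorem unitary_two_two (hq : IsQPow σ q) (hF : Fintype.card F = q ^ 2) {H : Subgroup (GL (Fin n) F)}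
    (hHU : H ≤ Cfsg.GU n F q) (e : Fin n ≃ Fin 2 × Fin 2) (P : GL (Fin n) F) {c : F} (hc0 : c ≠ 0)
    (hgram : hermGram σ e P = c • 1) (hle : H ≤ tensorProductSubgroup 2 2 e P) :
    ∃ (F₀ : Subfield F) (P' : GL (Fin n) F), Fintype.card F = Nat.card F₀ ^ 2 ∧ IsHermRational F n q F₀ 2 P' ∧
      H ≤ subfieldSubgroup F₀ P' := by
  classical
  have hn4 : n = 4 := by simpa using Fintype.card_congr e
  set B : Matrix (Fin 2 × Fin 2) (Fin 2 × Fin 2) F := symJ F ⊗ₖ symJ F with hB
  have hBσ : B.map σ = B := by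
    ext ⟨i, u⟩ ⟨j, v⟩
    fin_cases i <;> fin_cases u <;> fin_cases j <;> fin_cases v <;> simp [hB, symJ]
  have hBB : B * B = 1 := by
    rw [hB, ← Matrix.mul_kronecker_mul, symJ_sq, Matrix.smul_kronecker, Matrix.kronecker_smul, smul_smul]
    simp
  have hBt : Bᵀ = B := by
    ext ⟨i, u⟩ ⟨j, v⟩
    fin_cases i <;> fin_cases u <;> fin_cases j <;> fin_cases v <;> simp [hB, symJ]
  obtain ⟨ω, hω⟩ := hq.moved
  obtain ⟨M, hM⟩ := exists_fixed_basis hq.involutive hω (show B * B.map σ = 1 by rw [hBσ, hBB])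
  have hσM : (M : Matrix (Fin 2 × Fin 2) (Fin 2 × Fin 2) F).map σ = B * (M : Matrix (Fin 2 × Fin 2) (Fin 2 × Fin 2) F) := by
    conv_rhs => rw [← hM, ← mul_assoc, hBB, one_mul]
  set F₀ := fixedSubfield σ with hF₀
  have hcard : Fintype.card F = Nat.card F₀ ^ 2 := by
    obtain ⟨F₁, s, hle₁, hs, hc₁⟩ := exists_prime_index (fixedSubfield_ne_top hq)
    let σ' : F ≃ₐ[F₀] F := AlgEquiv.ofRingEquiv (f := σ) fun a => a.2
    have ho : orderOf σ' = 2 := by
      refine orderOf_eq_prime (AlgEquiv.ext fun a => hq.involutive a) ?_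
      intro h1
      exact hω (AlgEquiv.congr_fun h1 ω)
    have hfix : IntermediateField.fixedField (Subgroup.zpowers σ') = ⊥ := by
      rw [eq_bot_iff]
      intro x hx
      refine IntermediateField.mem_bot.2 ⟨⟨x, ?_⟩, rfl⟩
      exact hx ⟨σ', Subgroup.mem_zpowers _⟩
    have h := IntermediateField.finrank_fixedField_eq_card (F := F₀) (E := F) (Subgroup.zpowers σ')
    rw [hfix, Nat.card_zpowers, ho, IntermediateField.finrank_bot'] at h
    rw [← Nat.card_eq_fintype_card, Module.natCard_eq_pow_finrank (K := F₀) (V := F), h]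
  have hcfix : σ c = c := by
    have h := hermGram_conj hq e P
    rw [hgram] at h
    have h' := congrFun (congrFun h ((0 : Fin 2), (0 : Fin 2))) (0, 0)
    simpa using h'
  set P' : GL (Fin n) F := P * glReindex (F := F) e.symm M with hP'
  set G := (M : Matrix (Fin 2 × Fin 2) (Fin 2 × Fin 2) F)ᵀ * B * (M : Matrix (Fin 2 × Fin 2) (Fin 2 × Fin 2) F) with hG
  have hGfix : G.map σ = G := by
    rw [hG, Matrix.map_mul, Matrix.map_mul, Matrix.transpose_map, hσM, hBσ, Matrix.transpose_mul, hBt]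
    simp only [mul_assoc]
    rw [← mul_assoc B B, hBB, one_mul]
  have hform : ∀ u v : Fin n → F, (∀ i, v i ∈ F₀) →
      Cfsg.hermForm n F q ((P' : Matrix (Fin n) (Fin n) F) *ᵥ u) ((P' : Matrix (Fin n) (Fin n) F) *ᵥ v) =
        ∑ i, ∑ j, u i * (c * G (e i) (e j)) * v j := by
    intro u v hv
    have hs := isSesqForm_of_unitary (isUnitaryForm_hermForm (n := n) hq)
    rw [form_eq_gram hs]
    refine Finset.sum_congr rfl fun i _ => Finset.sum_congr rfl fun j _ => ?_
    rw [show σ (v j) = v j from hv j, mul_assoc]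
    congr 2
    have h2 := hermGram_mul_reindex (σ := σ) e P M
    rw [hgram, Matrix.mul_smul, Matrix.smul_mul, mul_one, ← hP'] at h2
    have h3 : hermGram σ e P' = c • G := by
      rw [h2, hG, hσM, ← mul_assoc]
    have h4 := congrFun (congrFun h3 (e i)) (e j)
    simp only [hermGram, Matrix.submatrix_apply, Equiv.symm_apply_apply] at h4
    rw [gramIn, hermForm_eq hq]
    simp only [Matrix.mulVec_single_one, Matrix.col_apply]
    rw [Matrix.mul_apply] at h4
    simp only [Matrix.transpose_apply, Matrix.map_apply] at h4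
    rw [h4]
    rfl
  have hGmem : ∀ a b, G a b ∈ F₀ := fun a b => congrFun (congrFun hGfix a) b
  refine ⟨F₀, P', hcard, ?_, fun h hh => ?_⟩
  · have hrat : IsFormRationalStructure (Cfsg.hermForm n F q) F₀ 1 P' := fun u v hu hv => by
      rw [one_mul, hform u v hv]
      exact sum_mem fun i _ => sum_mem fun j _ => mul_mem (mul_mem (hu i) (mul_mem hcfix (hGmem _ _))) (hv j)
    by_cases h2 : (2 : F) = 0
    swap
    · exact Or.inr (Or.inl ⟨rfl, (odd_iff_two_ne_zero_of_sq hF).2 h2, hrat⟩)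
    refine Or.inr (Or.inr ⟨rfl, by rw [hn4]; decide, 1, one_ne_zero, ?_, hrat, fun u hu => ?_⟩)
    · rw [one_pow]; linear_combination h2
    · have hdiag : ∀ a, G a a = 0 := by
        intro a
        rw [hG, mul_assoc, Matrix.mul_apply]
        simp only [Matrix.mul_apply, Matrix.transpose_apply, Fintype.sum_prod_type, Fin.sum_univ_two]
        simp [hB, symJ]
        linear_combination ((M : Matrix (Fin 2 × Fin 2) (Fin 2 × Fin 2) F) (0, 0) a *
          (M : Matrix (Fin 2 × Fin 2) (Fin 2 × Fin 2) F) (1, 1) a -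
          (M : Matrix (Fin 2 × Fin 2) (Fin 2 × Fin 2) F) (0, 1) a *
          (M : Matrix (Fin 2 × Fin 2) (Fin 2 × Fin 2) F) (1, 0) a) * h2
      rw [hform u u hu]
      rw [← Fintype.sum_prod_type']
      refine Finset.sum_ninvolution (g := fun p => (p.2, p.1)) (fun p => ?_) (fun p hp => ?_) (fun p => Finset.mem_univ _)
        (fun p => rfl)
      · have hsym : G (e p.2) (e p.1) = G (e p.1) (e p.2) := by
          have : Gᵀ = G := by
            rw [hG, Matrix.transpose_mul, Matrix.transpose_mul, Matrix.transpose_transpose, hBt, mul_assoc]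
          exact congrFun (congrFun this (e p.1)) (e p.2)
        simp only [hsym]
        linear_combination (u p.1 * (c * G (e p.1) (e p.2)) * u p.2) * h2
      · intro hfix
        refine hp ?_
        have : p.1 = p.2 := (congrArg Prod.fst hfix).symm
        rw [this, hdiag]; ring
  · obtain ⟨a, b, hab⟩ := (mem_tensorProductSubgroup_iff e P h).1 (hle hh)
    set A := coord e P (h : Matrix (Fin n) (Fin n) F) with hA
    set δ := (a : Matrix (Fin 2) (Fin 2) F).det * (b : Matrix (Fin 2) (Fin 2) F).det with hδ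
    have hAB : Aᵀ * B * A = δ • B := by
      rw [hab, hB, ← Matrix.kroneckerMap_transpose, ← Matrix.mul_kronecker_mul, ← Matrix.mul_kronecker_mul,
        transpose_mul_symJ, transpose_mul_symJ, Matrix.smul_kronecker, Matrix.kronecker_smul, smul_smul]
    have hAU : Aᵀ * A.map σ = 1 := by
      have h1 := hermGram_fix hq e P (hHU hh)
      rw [hgram, ← hA, Matrix.mul_smul, Matrix.smul_mul, mul_one] at h1
      exact smul_right_injective (Matrix (Fin 2 × Fin 2) (Fin 2 × Fin 2) F) hc0 h1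
    have hδ0 : δ ≠ 0 := mul_ne_zero (a.isUnit.map Matrix.detMonoidHom).ne_zero (b.isUnit.map Matrix.detMonoidHom).ne_zero
    have hσA : δ • A.map σ = B * A * B := by
      have h1 : A.map σ * Aᵀ = 1 := mul_eq_one_comm.1 hAU
      have h2 : B * A = A.map σ * (Aᵀ * B * A) := by rw [← mul_assoc, ← mul_assoc, h1, one_mul]
      rw [h2, hAB, Matrix.mul_smul, Matrix.smul_mul, mul_assoc, hBB, mul_one]
    set Mm := (M : Matrix (Fin 2 × Fin 2) (Fin 2 × Fin 2) F)
    set Mi := ((M⁻¹ : GL (Fin 2 × Fin 2) F) : Matrix (Fin 2 × Fin 2) (Fin 2 × Fin 2) F)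
    set A' := Mi * A * Mm with hA'
    have hMM : Mm * Mi = 1 := M.mul_inv
    have hiM : Mi * Mm = 1 := M.inv_mul
    have hσA' : δ • A'.map σ = A' := by
      have h1 : Mm * A' = A * Mm := by rw [hA', ← mul_assoc, ← mul_assoc, hMM, one_mul]
      have h2 : δ • (B * Mm * A'.map σ) = B * Mm * A' := by
        rw [← hσM, ← Matrix.map_mul, h1, Matrix.map_mul, hσM, ← Matrix.smul_mul, hσA, mul_assoc _ Mm A', h1]
        simp only [mul_assoc]
        rw [← mul_assoc B B, hBB, one_mul]
      rw [← Matrix.mul_smul] at h2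
      exact ((Matrix.isUnit_iff_isUnit_det _).2 (by
        rw [Matrix.det_mul]
        exact (IsUnit.map Matrix.detMonoidHom (⟨⟨B, B, hBB, hBB⟩, rfl⟩ : IsUnit B)).mul
          (M.isUnit.map Matrix.detMonoidHom))).mul_right_inj.1 h2
    obtain ⟨i₀, j₀, hne⟩ : ∃ i j, A' i j ≠ 0 := by
      by_contra! h0
      have h1 : A' = 0 := Matrix.ext h0
      have h2 : A * Mm = 0 := by rw [← one_mul (A * Mm), ← hMM, mul_assoc, ← mul_assoc Mi, ← hA', h1, mul_zero]
      exact det_coord_ne_zero e P h (by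
        rw [← hA, show A = A * Mm * Mi by rw [mul_assoc, hMM, mul_one], h2, zero_mul, Matrix.det_zero])
    set γ := A' i₀ j₀ with hγ
    have hent : ∀ i j, δ * σ (A' i j) = A' i j := fun i j => by simpa using congrFun (congrFun hσA' i) j
    have hγ' : δ * σ γ = γ := hent i₀ j₀
    let K : GL (Fin n) F := glReindex (F := F) e.symm M
    set g0 := P'⁻¹ * h * P' with hg0
    have hg0v : ∀ i j, (g0 : Matrix (Fin n) (Fin n) F) i j = A' (e i) (e j) := by
      intro i j
      have hKv : (K : Matrix (Fin n) (Fin n) F) = Mm.submatrix e e := by ext a b; simp [K, glReindex, Mm]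
      have hKi : ((K⁻¹ : GL (Fin n) F) : Matrix (Fin n) (Fin n) F) = Mi.submatrix e e := by
        rw [show K⁻¹ = glReindex (F := F) e.symm M⁻¹ from (map_inv _ _).symm]
        ext a b; simp [glReindex, Mi]
      have hAv : ((P⁻¹ : GL (Fin n) F) : Matrix (Fin n) (Fin n) F) * (h : Matrix (Fin n) (Fin n) F) *
          (P : Matrix (Fin n) (Fin n) F) = A.submatrix e e := by
        rw [hA, coord]; ext a b; simp
      rw [hg0, hP', show (P * K)⁻¹ * h * (P * K) = K⁻¹ * (P⁻¹ * h * P) * K by group, Units.val_mul, Units.val_mul,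
        Units.val_mul, Units.val_mul, hKv, hKi, hAv, Matrix.submatrix_mul_equiv, Matrix.submatrix_mul_equiv, ← hA']
      rfl
    refine subfieldSubgroup_mem (g := g0 * (Units.map (Matrix.scalar (Fin n)).toMonoidHom (Units.mk0 γ hne))⁻¹)
      (c := Units.mk0 γ hne) (fun i j => ?_) (by rw [inv_mul_cancel_right])
    rw [← map_inv, Units.val_mul, Units.coe_map, RingHom.toMonoidHom_eq_coe, MonoidHom.coe_coe, Matrix.scalar_apply,
      Matrix.mul_diagonal, hg0v, Units.val_inv_eq_inv_val, Units.val_mk0]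
    show σ (A' (e i) (e j) * γ⁻¹) = A' (e i) (e j) * γ⁻¹
    rw [map_mul, map_inv₀]
    conv_rhs => rw [← hent, ← hγ']
    rw [mul_inv]
    field_simp

/-- Every subgroup of the special unitary group has a host. -/
theorem unitary_host (hq : IsQPow σ q) (hF : Fintype.card F = q ^ 2) (hn : 3 ≤ n) (H : Subgroup (GL (Fin n) F))
    (hHU : H ≤ Cfsg.GU n F q) : UnitHost n q H := by
  classical
  haveI : Nonempty (Fin n) := ⟨⟨0, by omega⟩⟩
  haveI : Nontrivial (Fin n) := Fin.nontrivial_iff_two_le.2 (by omega)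
  have hf := isUnitaryForm_hermForm (n := n) hq
  have hs := isSesqForm_of_unitary hf
  set f := Cfsg.hermForm n F q with hfdef
  by_cases hirr : ActsIrreducibly (matrixSet H)
  swap
  · rw [actsIrreducibly_iff] at hirr
    push Not at hirr
    obtain ⟨W, hW, hW0, hW1⟩ := hirr
    have stab : ∀ U : Submodule F (Fin n → F), Stable (matrixSet H) U → H ≤ subspaceStabilizer U := by
      intro U hU g hg
      refine (mem_subspaceStabilizer_iff U g).2 fun v => ⟨fun hv => stable_matrixSet_iff.1 hU g hg v hv, fun hv => ?_⟩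
      simpa [mulVec_inv_cancel] using stable_matrixSet_iff.1 hU g⁻¹ (H.inv_mem hg) _ hv
    set W' := orthLeft hs.add_left hs.smul_left W with hW'
    have hW's : Stable (matrixSet H) W' := stable_matrixSet_iff.2 fun g hg v hv w hw => by
      rw [← inv_mulVec_cancel g w]
      exact (hHU hg v _).trans (hv _ (stable_matrixSet_iff.1 hW g⁻¹ (H.inv_mem hg) w hw))
    by_cases hrad : W ⊓ W' = ⊥
    swap
    · exact .inl ⟨W ⊓ W', hrad, fun u hu v hv => hu.2 v hv.1,
        stab _ fun s hs' v hv => ⟨hW s hs' v hv.1, hW's s hs' v hv.2⟩⟩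
    have hdim : Fintype.card (Fin n) ≤ Module.finrank F W + Module.finrank F W' := finrank_le_orthLeft hs W
    rw [Fintype.card_fin] at hdim
    have hsum := Submodule.finrank_sup_add_finrank_inf_eq W W'
    rw [hrad, finrank_bot, add_zero] at hsum
    have hle' := Submodule.finrank_le (W ⊔ W')
    rw [Module.finrank_pi, Fintype.card_fin] at hle'
    have hsup : W ⊔ W' = ⊤ := Submodule.eq_top_of_finrank_eq (by rw [Module.finrank_pi, Fintype.card_fin]; omega)
    have nd : ∀ U U' : Submodule F (Fin n → F), U ⊔ U' = ⊤ → (∀ u ∈ U, ∀ u' ∈ U', f u u' = 0) →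
        IsNondegenerateOn f U := by
      intro U U' hUU horth w hw hw0
      obtain ⟨x, hx⟩ := (hf.nondegenerate w hw0).2
      obtain ⟨a, ha, b, hb, rfl⟩ := Submodule.mem_sup.1 (hUU.symm ▸ Submodule.mem_top : x ∈ U ⊔ U')
      rw [hs.add_right, horth w hw b hb, add_zero] at hx
      exact ⟨⟨a, ha, fun e => hx (by rw [hf.herm, e, map_zero])⟩, ⟨a, ha, hx⟩⟩
    have horth : ∀ u ∈ W, ∀ u' ∈ W', f u u' = 0 := fun u hu u' hu' => by rw [hf.herm, hu' u hu, map_zero]
    have horth' : ∀ u' ∈ W', ∀ u ∈ W, f u' u = 0 := fun u' hu' u hu => hu' u hu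
    have hpos : 0 < Module.finrank F W := Nat.pos_of_ne_zero fun e => hW0 (Submodule.finrank_eq_zero.1 e)
    have hlt : Module.finrank F W < n := by
      have := Submodule.finrank_lt hW1
      rwa [Module.finrank_pi, Fintype.card_fin] at this
    rcases Nat.lt_trichotomy (2 * Module.finrank F W) n with h2 | h2 | h2
    · exact .inr <| .inl ⟨W, hW0, nd W W' hsup horth, h2, stab W hW⟩
    · let D : Fin 2 → Submodule F (Fin n → F) := ![W, W']
      have hdis : Disjoint W W' := disjoint_iff.2 hrad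
      refine .inr <| .inr <| .inl ⟨2, Module.finrank F W, D,
        ⟨⟨le_rfl, hpos, fun i => ?_, ?_, ?_⟩, fun i => ?_, ?_⟩, h2, fun g hg => ⟨1, fun i => ?_⟩⟩
      · fin_cases i
        · rfl
        · show Module.finrank F W' = Module.finrank F W; omega
      · exact (iSupIndep_pair (show (0 : Fin 2) ≠ 1 by decide) (fun i => by fin_cases i <;> simp)).2 hdis
      · rw [← hsup]
        exact le_antisymm (iSup_le fun i => by fin_cases i; exacts [le_sup_left, le_sup_right])
          (sup_le (le_iSup D 0) (le_iSup D 1))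
      · fin_cases i
        · exact nd W W' hsup horth
        · exact nd W' W (by rw [sup_comm]; exact hsup) horth'
      · intro i j hij
        fin_cases i <;> fin_cases j <;> first | exact absurd rfl hij | exact horth | exact horth'
      · have key : ∀ U : Submodule F (Fin n → F), Stable (matrixSet H) U →
            U.map (Matrix.toLin' (g : Matrix (Fin n) (Fin n) F)) = U := fun U hU => by
          refine le_antisymm ?_ fun v hv => ⟨((g⁻¹ : GL (Fin n) F) : Matrix (Fin n) (Fin n) F) *ᵥ v,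
            stable_matrixSet_iff.1 hU g⁻¹ (H.inv_mem hg) v hv, ?_⟩
          · rintro _ ⟨v, hv, rfl⟩
            exact stable_matrixSet_iff.1 hU g hg v hv
          · rw [Matrix.toLin'_apply, inv_mulVec_cancel]
        fin_cases i
        exacts [key W hW, key W' hW's]
    · have hW'0 : W' ≠ ⊥ := fun e => by rw [e, finrank_bot] at hdim; omega
      exact .inr <| .inl ⟨W', hW'0, nd W' W (by rw [sup_comm]; exact hsup) horth', by omega, stab W' hW's⟩
  have hfield : ∀ {e : ℕ} {K : Subalgebra F (Matrix (Fin n) (Fin n) F)}, IsFieldSubalgebra e K →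
      (∀ k ∈ K, adj σ k ∈ K) → e ≠ 1 → H ≤ subalgebraNormalizer K → UnitHost n q H := by
    intro e K hK hadj he hle
    obtain ⟨r, L, hr, hro, hL, hLa, hnorm⟩ := exists_adjoint_prime_subalgebra hq hF hK hadj he
    exact .inr <| .inr <| .inr <| .inr <| .inl ⟨r, L, hr, hro,
      Fintype.card_fin n ▸ dvd_card_of_fieldSubalgebra hL, hL, hLa, hle.trans hnorm⟩
  by_cases habs : ActsAbsolutelyIrreducibly (matrixSet H)
  swap
  · have hKf := centralizer_isField hirr
    set K := Subalgebra.centralizer F (matrixSet H) with hKdef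
    have hK : IsFieldSubalgebra (Module.finrank F K) K := by
      refine ⟨fun x hx y hy => congrArg Subtype.val (hKf.mul_comm ⟨x, hx⟩ ⟨y, hy⟩), fun x hx hx0 => ?_, rfl⟩
      obtain ⟨y, hy⟩ := hKf.mul_inv_cancel (a := ⟨x, hx⟩) fun e => hx0 (congrArg Subtype.val e)
      exact ⟨y, y.2, congrArg Subtype.val hy⟩
    have he : Module.finrank F K ≠ 1 := fun he => habs ⟨hirr, fun M hM => by
      obtain ⟨c, hc⟩ := (finrank_eq_one_iff_of_nonzero' (1 : K)
        (fun e0 => one_ne_zero (α := Matrix (Fin n) (Fin n) F) (congrArg Subtype.val e0))).1 he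
        ⟨M, (Subalgebra.mem_centralizer_iff F).2 fun s hs' => (hM s hs').symm⟩
      exact ⟨c, (congrArg Subtype.val hc).symm⟩⟩
    exact hfield hK (fun k hk => adj_mem_comm hq hHU hk) he fun g hg => mem_subalgebraNormalizer_centralizer
      (fun x hx => H.mul_mem (H.mul_mem hg hx) (H.inv_mem hg)) fun x hx => H.mul_mem (H.mul_mem (H.inv_mem hg) hx) hg
  have hHs : ¬ H ≤ scalars (Fin n) F := fun hle => by
    obtain ⟨x, hx, y, hy, hxy⟩ := not_abelian_of_absIrred habs
    exact hxy (scalar_commute (hle hx) y)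
  obtain ⟨N, hN⟩ := exists_minimalNormal hHs
  have hNU : N ≤ Cfsg.GU n F q := hN.le.trans hHU
  by_cases hhom : IsHomog N
  swap
  · obtain ⟨t, m, D, hD, hHD, hst, hsimp, htr⟩ := exists_decomposition hirr hN.normal hhom
    have htm : t * m = n := (card_eq_of_mDecomposition hD).trans (Fintype.card_fin n)
    rcases herm_decomposition hq hHU hN.le hD hHD hst hsimp htr with h | ⟨rfl, hts⟩ | ⟨t', E, ht', hE, hHE⟩
    · exact .inr <| .inr <| .inl ⟨t, m, D, h, htm, hHD⟩
    · exact .inr <| .inr <| .inr <| .inl ⟨m, D, htm, hD, hts, hHD⟩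
    · exact .inr <| .inr <| .inl ⟨t', 2 * m, E, hE, by rw [← htm, ← ht']; ring, hHE⟩
  by_cases he : Module.finrank F (centreComm N) = 1
  swap
  · refine hfield (e := Module.finrank F (centreComm N)) ?_ (fun k hk => adj_mem_centreComm hq hNU hk) he
      fun g hg => mem_normalizer_centreComm (hN.normal g hg)
        fun x hx => by simpa using hN.normal g⁻¹ (H.inv_mem hg) x hx
    exact centreComm_field hhom
  have hscal : ∀ x ∈ centreComm N, ∃ c : F, x = c • (1 : Matrix (Fin n) (Fin n) F) := by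
    intro x hx
    obtain ⟨c, hc⟩ := (finrank_eq_one_iff_of_nonzero' (1 : centreComm N)
      (fun e0 => one_ne_zero (α := Matrix (Fin n) (Fin n) F) (congrArg Subtype.val e0))).1 he ⟨x, hx⟩
    exact ⟨c, (congrArg Subtype.val hc).symm⟩
  obtain ⟨d, k, e, P, A, hc⟩ := exists_tensorCoords hhom hscal
  by_cases hk : k = 1
  swap
  · have hk2 : 2 ≤ k := by have := hc.pos_right; omega
    have hd2 : 2 ≤ d := hc.two_le hN.not_scalar
    have hdk : d * k = n := by simpa using (Fintype.card_congr e).symm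
    obtain ⟨P', c, hc0, hgram, hle⟩ := exists_orth_tensor hq hHU hN.le hc (hc.le_tensorProductSubgroup hN.normal)
    rcases Nat.lt_trichotomy d k with h | h | h
    · exact .inr <| .inr <| .inr <| .inr <| .inr <| .inl ⟨d, k, e, P', hd2, h, hdk,
        isTensorFormStructure_of_gram hq e P' hc0 hgram, hle⟩
    · subst h
      have hrec : ∀ {κ : Type} [Fintype κ] [DecidableEq κ] (f' : Fin d × Fin d ≃ κ),
          hermGram σ (e.trans f') P' = c • 1 := by
        intro κ _ _ f'
        have h1 : hermGram σ (e.trans f') P' = (hermGram σ e P').submatrix f'.symm f'.symm := rfl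
        rw [h1, hgram]
        ext a b
        simp [Matrix.one_apply, f'.symm.injective.eq_iff]
      by_cases hd3 : 3 ≤ d
      · by_cases hex : q = 2 ∧ d = 3
        · obtain ⟨rfl, rfl⟩ := hex
          obtain ⟨R, hR, hHR⟩ := unitary_nine hq hF hHU e P' hc0 hgram hle
          exact .inr <| .inr <| .inr <| .inr <| .inr <| .inr <| .inr <| .inl ⟨3, R, Nat.prime_three, hR, hHR⟩
        · exact .inr <| .inr <| .inr <| .inr <| .inr <| .inr <| .inr <| .inr <| .inl
            ⟨d, 2, e.trans (finTwoArrowEquiv (Fin d)).symm, P', hd3, le_rfl, by rw [pow_two, hdk], hex,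
              isTensorPowerFormStructure_of_gram hq _ P' hc0 (hrec _),
              hle.trans (tensorProductSubgroup_le_wreath e P')⟩
      · obtain rfl : d = 2 := by omega
        obtain ⟨F₀, P'', hcard, hrat, hHP⟩ := unitary_two_two hq hF hHU e P' hc0 hgram hle
        exact .inr <| .inr <| .inr <| .inr <| .inr <| .inr <| .inl ⟨F₀, 2, P'', Nat.prime_two, hcard, hrat, hHP⟩
    · refine .inr <| .inr <| .inr <| .inr <| .inr <| .inl ⟨k, d, e.trans (Equiv.prodComm _ _), P', hk2, h,
        by rw [mul_comm]; exact hdk, isTensorFormStructure_of_gram hq _ P' hc0 ?_,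
        hle.trans (tensorProductSubgroup_swap e P')⟩
      have h1 : hermGram σ (e.trans (Equiv.prodComm _ _)) P' =
          (hermGram σ e P').submatrix (Equiv.prodComm (Fin d) (Fin k)).symm (Equiv.prodComm (Fin d) (Fin k)).symm := rfl
      rw [h1, hgram]
      ext a b
      simp [Matrix.one_apply, (Equiv.prodComm (Fin d) (Fin k)).symm.injective.eq_iff]
  subst hk
  have hNabs : ActsAbsolutelyIrreducibly (matrixSet N) := hc.absIrred_of_one hhom
  by_cases hreal : ∃ F₀ : Subfield F, F₀ ≠ ⊤ ∧ RealisableOver F₀ (matrixSet N)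
  · obtain ⟨F₀, hne, B, hB⟩ := hreal
    obtain ⟨F₁, s, hle₁, hs₁, hcard⟩ := exists_prime_index hne
    have hP : ∀ g ∈ N, ∀ i j, ((((B⁻¹)⁻¹ : GL (Fin n) F) : Matrix (Fin n) (Fin n) F) *
        (g : Matrix (Fin n) (Fin n) F) * ((B⁻¹ : GL (Fin n) F) : Matrix (Fin n) (Fin n) F)) i j ∈ F₁ := fun g hg i j => by
      rw [inv_inv]
      exact hle₁ (hB _ (mem_matrixSet hg) i j)
    obtain ⟨z, hz, hrat⟩ := exists_rational_structure' hq hF (by omega) hNabs hNU hs₁ hcard B⁻¹ hP
    refine .inr <| .inr <| .inr <| .inr <| .inr <| .inr <| .inl ⟨F₁, s, B⁻¹ * z, hs₁, hcard, hrat, ?_⟩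
    rw [subfieldSubgroup_scale F₁ _ hz]
    exact le_subfieldSubgroup_of_realised hN.normal hNabs hle₁ B hB
  push Not at hreal
  have nobil : ∀ B : (Fin n → F) → (Fin n → F) → F, IsBilinearForm B → IsNondegenerateForm B →
      ¬ FixesForm (matrixSet N) B := fun B hB hBnd hfix =>
    hreal _ (fixedSubfield_ne_top hq) (realisable_of_bilinear hq hF hNabs hNU hB hBnd hfix)
  rcases minimal_cases (by rw [Fintype.card_fin]; omega) hN hNabs hreal with
    hS | ⟨d, t, M, e, P, A, hd, hM, hFc, hle⟩ | hres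
  · obtain ⟨r, hr, hdata⟩ := unitary_symp hq hF (by omega) hS hNU hreal
    refine .inr <| .inr <| .inr <| .inr <| .inr <| .inr <| .inr <| .inl ⟨r, N, hr, hdata, fun h hh =>
      Subgroup.mem_normalizer_iff.2 fun x => ⟨hN.normal h hh x, fun hx => by
        simpa [mul_assoc] using hN.normal h⁻¹ (H.inv_mem hh) _ hx⟩⟩
  · have hMU : ∀ i, M i ≤ Cfsg.GU n F q := fun i => (hM.le i).trans hNU
    have ht0 : 0 < t := by have := hM.two_le; omega
    have hperfN : ⁅N, N⁆ = N := by
      refine le_antisymm ((Subgroup.commutator_le).2 fun x hx y hy =>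
        N.mul_mem (N.mul_mem (N.mul_mem hx hy) (N.inv_mem hx)) (N.inv_mem hy)) ?_
      conv_lhs => rw [← hM.iSup_eq]
      exact iSup_le fun i => (hM.perfect i).ge.trans (Subgroup.commutator_mono (hM.le i) (hM.le i))
    by_cases hd2 : d = 2
    · subst hd2
      exfalso
      obtain ⟨B, hB, hBnd, hsim⟩ : ∃ B : (Fin n → F) → (Fin n → F) → F, IsBilinearForm B ∧
          IsNondegenerateForm B ∧ N ≤ similarityGroup B := by
        rcases wreath_two_le_similarity ht0 e P with ⟨-, Q, hQ, hQle⟩ | ⟨B, hB, hBle⟩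
        · refine ⟨_, hQ.polar_bilinear, hQ.nondegenerate, fun g hg => ?_⟩
          obtain ⟨c, hc⟩ := hQle (hle (hN.le hg))
          exact ⟨c, fun u v => by simp only [QuadraticMap.polar, ← Matrix.mulVec_add, hc]; ring⟩
        · exact ⟨B, hB.bilinear, hB.nondegenerate, fun g hg => hBle (hle (hN.le hg))⟩
      refine nobil B hB hBnd ?_
      let I : Subgroup (GL (Fin n) F) :=
        { carrier := {g | ∀ u v, B ((g : Matrix (Fin n) (Fin n) F) *ᵥ u) ((g : Matrix (Fin n) (Fin n) F) *ᵥ v) = B u v}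
          mul_mem' := fun {a b} ha hb u v => by rw [Units.val_mul, ← Matrix.mulVec_mulVec, ← Matrix.mulVec_mulVec, ha, hb]
          one_mem' := fun u v => by simp
          inv_mem' := fun {a} ha u v => by
            have h := ha (((a⁻¹ : GL (Fin n) F) : Matrix (Fin n) (Fin n) F) *ᵥ u)
              (((a⁻¹ : GL (Fin n) F) : Matrix (Fin n) (Fin n) F) *ᵥ v)
            rw [inv_mulVec_cancel, inv_mulVec_cancel] at h
            exact h.symm }
      have hNI : N ≤ I := by
        conv_lhs => rw [← hperfN]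
        rw [Subgroup.commutator_le]
        intro x hx y hy u v
        obtain ⟨a, ha⟩ := hsim hx
        obtain ⟨b, hb⟩ := hsim hy
        obtain ⟨a', ha'⟩ := hsim (N.inv_mem hx)
        obtain ⟨b', hb'⟩ := hsim (N.inv_mem hy)
        obtain ⟨v0, hv0⟩ := exists_ne (0 : Fin n → F)
        obtain ⟨u0, hu0⟩ := (hBnd v0 hv0).1
        have haa : (a : F) * a' = 1 := by
          have h := ha (((x⁻¹ : GL (Fin n) F) : Matrix (Fin n) (Fin n) F) *ᵥ u0)
            (((x⁻¹ : GL (Fin n) F) : Matrix (Fin n) (Fin n) F) *ᵥ v0)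
          rw [inv_mulVec_cancel, inv_mulVec_cancel, ha', ← mul_assoc] at h
          exact (mul_eq_right₀ hu0).1 h.symm
        have hbb : (b : F) * b' = 1 := by
          have h := hb (((y⁻¹ : GL (Fin n) F) : Matrix (Fin n) (Fin n) F) *ᵥ u0)
            (((y⁻¹ : GL (Fin n) F) : Matrix (Fin n) (Fin n) F) *ᵥ v0)
          rw [inv_mulVec_cancel, inv_mulVec_cancel, hb', ← mul_assoc] at h
          exact (mul_eq_right₀ hu0).1 h.symm
        rw [commutatorElement_def, Units.val_mul, Units.val_mul, Units.val_mul]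
        simp only [← Matrix.mulVec_mulVec, ha, hb, ha', hb']
        linear_combination (b : F) * b' * B u v * haa + B u v * hbb
      rintro _ ⟨g, hg, rfl⟩ u v
      exact hNI hg u v
    have hd3 : 3 ≤ d := by omega
    obtain ⟨P', c, hc0, hgram, hle'⟩ := exists_orth_power hq (by omega) hMU hFc (fun i => hFc.absIrred_factor i) hle
    refine .inr <| .inr <| .inr <| .inr <| .inr <| .inr <| .inr <| .inr <| .inl ⟨d, t, e, P', hd3, hM.two_le,
      by simpa using (Fintype.card_congr e).symm, ?_, isTensorPowerFormStructure_of_gram hq e P' hc0 hgram, hle'⟩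
    rintro ⟨rfl, rfl⟩
    refine hM.not_le ⟨0, ht0⟩ ?_
    rw [no_perfect_factor_three hq hF hMU hM.perfect hFc ⟨0, ht0⟩]
    exact bot_le
  refine .inr <| .inr <| .inr <| .inr <| .inr <| .inr <| .inr <| .inr <| .inr ⟨N, hres, ?_, ?_⟩
  · rintro ⟨Q, hQ, hfix⟩
    exact nobil _ hQ.polar_bilinear hQ.nondegenerate
      (fun s hs' u v => by simp only [QuadraticMap.polar, ← Matrix.mulVec_add, hfix s hs'])
  · rintro ⟨B, hB, hfix⟩
    exact nobil B hB.bilinear hB.nondegenerate hfix

/-- The structure theorem for subgroups of the unitary groups. -/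
theorem unitary_structure (hF : Fintype.card F = q ^ 2) (hn : 3 ≤ n) (H : Subgroup (GL (Fin n) F))
    (hH : H ≤ Cfsg.GU n F q) :
    (∃ M : Subgroup (GL (Fin n) F), InUnitaryClass n F q M ∧ H ≤ M) ∨ InUnitaryResidualClass H := by
  obtain ⟨σ, hq⟩ := exists_isQPow hF
  exact (unitary_host hq hF hn H hH).member hq hH

end CfsgLib.Geo.Asch
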