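/-
Tensor powers of the symplectic form.
-/
import Cfsg.Agent.Lib.Geo.Asch.SpTensor
import Cfsg.Agent.Lib.Geo.Asch.LinearMax
import Cfsg.Agent.Lib.Geo.Asch.UnitStructure
import Cfsg.Agent.Lib.Classical.Symplectic.Geometry

set_option autoImplicit false

namespace CfsgLib.Geo.Asch

open Matrix Cfsg.Geo
open scoped Kronecker

section Pure

variable {F : Type*} [Field F] {d t : ℕ}

/-- Factors of a non-zero pure tensor are determined up to scalars. -/
theorem pureT_proportional {A B : Fin t → Matrix (Fin d) (Fin d) F} (h : pureT d t F A = pureT d t F B)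
    (hne : pureT d t F A ≠ 0) (i : Fin t) : ∃ c : F, c ≠ 0 ∧ B i = c • A i := by
  classical
  obtain ⟨x, y, hxy⟩ : ∃ x y, pureT d t F A x y ≠ 0 := by
    by_contra! h0; exact hne (Matrix.ext h0)
  have hxy' : pureT d t F B x y ≠ 0 := h ▸ hxy
  rw [pureT_apply] at hxy hxy'
  rw [← Finset.mul_prod_erase _ _ (Finset.mem_univ i)] at hxy hxy'
  set a' := ∏ l ∈ Finset.univ.erase i, A l (x l) (y l)
  set b' := ∏ l ∈ Finset.univ.erase i, B l (x l) (y l)
  refine ⟨a' / b', div_ne_zero (mul_ne_zero_iff.1 hxy).2 (mul_ne_zero_iff.1 hxy').2, ?_⟩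
  ext a b
  have h1 := congrFun (congrFun h (Function.update x i a)) (Function.update y i b)
  rw [pureT_apply, pureT_apply, ← Finset.mul_prod_erase _ _ (Finset.mem_univ i),
    ← Finset.mul_prod_erase _ _ (Finset.mem_univ i)] at h1
  simp only [Function.update_self] at h1
  rw [Finset.prod_congr rfl fun l hl => show A l (Function.update x i a l) (Function.update y i b l) = A l (x l) (y l) by
      rw [Function.update_of_ne (Finset.ne_of_mem_erase hl), Function.update_of_ne (Finset.ne_of_mem_erase hl)],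
    Finset.prod_congr rfl fun l hl => show B l (Function.update x i a l) (Function.update y i b l) = B l (x l) (y l) by
      rw [Function.update_of_ne (Finset.ne_of_mem_erase hl), Function.update_of_ne (Finset.ne_of_mem_erase hl)]] at h1
  rw [Matrix.smul_apply, smul_eq_mul, div_mul_eq_mul_div, eq_div_iff (mul_ne_zero_iff.1 hxy').2]
  linear_combination -h1

/-- The factors of an invertible pure tensor are invertible. -/
theorem pureT_factor_det (gs : Fin t → Matrix (Fin d) (Fin d) F) (h : (pureT d t F gs).det ≠ 0) (i : Fin t) :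
    (gs i).det ≠ 0 := by
  intro h0
  obtain ⟨v, hv0, hv⟩ := Matrix.exists_mulVec_eq_zero_iff.2 h0
  obtain ⟨w, hw⟩ := Function.ne_iff.1 hv0
  have hz : pureT d t F gs * factor i (Matrix.of fun a (_ : Fin d) => v a) = 0 := by
    rw [factor, ← map_mul]
    ext X Y
    rw [pureT_apply, Matrix.zero_apply]
    refine Finset.prod_eq_zero (Finset.mem_univ i) ?_
    rw [Pi.mul_apply, Pi.mulSingle_eq_same]
    exact congrFun hv (X i)
  have hz2 : factor i (Matrix.of fun a (_ : Fin d) => v a) = (0 : Matrix (Fin t → Fin d) (Fin t → Fin d) F) :=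
    (IsUnit.mul_right_eq_zero ((Matrix.isUnit_iff_isUnit_det _).2 (isUnit_iff_ne_zero.2 h))).1 hz
  have := congrFun (congrFun hz2 (fun _ => w)) (fun _ => w)
  rw [factor_apply, if_pos fun j _ => rfl] at this
  exact hw this

theorem factor_transpose (i : Fin t) (X : Matrix (Fin d) (Fin d) F) :
    (factor i X : Matrix (Fin t → Fin d) (Fin t → Fin d) F)ᵀ = factor i Xᵀ := by
  ext a b
  rw [Matrix.transpose_apply, factor_apply, factor_apply]
  simp [eq_comm]

theorem permT_transpose_conj (π : Equiv.Perm (Fin t)) (A : Fin t → Matrix (Fin d) (Fin d) F) :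
    (permT d F π)ᵀ * pureT d t F A * permT d F π = pureT d t F fun j => A (π j) := by
  ext x y
  rw [mul_permT]
  have hT : (permT d F π)ᵀ = permT d F π.symm := by
    ext a b
    simp only [permT, Matrix.transpose_apply, Matrix.of_apply]
    refine if_congr ⟨fun h => ?_, fun h => ?_⟩ rfl rfl
    · rw [h, Function.comp_assoc, Equiv.self_comp_symm, Function.comp_id]
    · rw [h, Function.comp_assoc, Equiv.symm_comp_self, Function.comp_id]
  rw [hT, permT_mul, pureT_apply, pureT_apply]
  exact (Fintype.prod_equiv π _ _ fun i => by simp).symm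

end Pure

variable {F : Type*} [Field F] {m : ℕ}

theorem spGram_mul_reindex {κ : Type} [Fintype κ] [DecidableEq κ] (e : (Fin m ⊕ Fin m) ≃ κ)
    (P : GL (Fin m ⊕ Fin m) F) (K : GL κ F) :
    spGram e (P * glReindex (F := F) e.symm K) = (K : Matrix κ κ F)ᵀ * spGram e P * (K : Matrix κ κ F) := by
  have hK : ((glReindex (F := F) e.symm K : GL (Fin m ⊕ Fin m) F) : Matrix (Fin m ⊕ Fin m) (Fin m ⊕ Fin m) F) =
      (K : Matrix κ κ F).submatrix e e := by
    ext i j
    simp [glReindex]
  rw [spGram, spGram, Units.val_mul, hK, Matrix.transpose_mul]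
  have hKL : (K : Matrix κ κ F) = ((K : Matrix κ κ F).submatrix e e).submatrix e.symm e.symm := by simp
  generalize (K : Matrix κ κ F).submatrix e e = L at hKL ⊢
  rw [hKL]
  simp only [Matrix.transpose_submatrix, Matrix.submatrix_mul_equiv, mul_assoc]

/-- A tensor power fixing the symplectic form: a quadratic form, or an odd power of an alternating form. -/
theorem sp_power [Fintype F] {d t : ℕ} (hd : 2 ≤ d) {H N : Subgroup (GL (Fin m ⊕ Fin m) F)}
    (hH : H ≤ Cfsg.spGL m F) (hNH : N ≤ H) {M : Fin t → Subgroup (GL (Fin m ⊕ Fin m) F)}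
    (hM : IsComponents (scalars (Fin m ⊕ Fin m) F) H N M) {e : (Fin m ⊕ Fin m) ≃ (Fin t → Fin d)}
    {P : GL (Fin m ⊕ Fin m) F} {A : Fin t → GL (Fin m ⊕ Fin m) F → Matrix (Fin d) (Fin d) F}
    (hc : FactorCoords d M e P A) (hle : H ≤ tensorWreathSubgroup d t e P) :
    ((2 : F) = 0 ∧ ∃ Q : (Fin m ⊕ Fin m → F) → F, IsNondegenerateQuadraticForm Q ∧ FixesQuadForm (matrixSet N) Q) ∨
    ((2 : F) ≠ 0 ∧ Odd t ∧ Even d ∧ ∃ (P' : GL (Fin m ⊕ Fin m) F) (X : Matrix (Fin d) (Fin d) F) (c : F),
      c ≠ 0 ∧ IsUnit X ∧ Xᵀ = -X ∧ (∀ i, X i i = 0) ∧ spGram e P' = c • pureT d t F (fun _ => X) ∧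
      H ≤ tensorWreathSubgroup d t e P') := by
  classical
  have ht := hM.two_le
  have hMS : ∀ i, M i ≤ Cfsg.spGL m F := fun i => (hM.le i).trans (hNH.trans hH)
  haveI : Nonempty (Fin t → Fin d) := ⟨fun _ => ⟨0, by omega⟩⟩
  have habs := fun i => hc.absIrred_factor i
  set G := spGram e P with hG
  have hGu : IsUnit G := spGram_isUnit e P
  have hfac : ∀ i, ∀ g ∈ M i, (factor i (A i g))ᵀ * G * factor i (A i g) = G := by
    intro i g hg
    rw [← hc.coord_eq i g hg]
    exact spGram_fix e P (hMS i hg)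
  obtain ⟨x₀, y₀, hne⟩ : ∃ x y, G x y ≠ 0 := by
    by_contra! h0
    exact hGu.ne_zero (Matrix.ext h0)
  let S : Fin t → Matrix (Fin d) (Fin d) F := fun i =>
    Matrix.of fun p q => G (Function.update x₀ i p) (Function.update y₀ i q)
  have hdet : ∀ i, ∀ X ∈ A i '' (M i : Set (GL (Fin m ⊕ Fin m) F)), X.det ≠ 0 := by
    rintro i _ ⟨g, hg, rfl⟩
    have h := det_coord_ne_zero e P g
    rw [hc.coord_eq i g hg, factor] at h
    have := pureT_factor_det _ h i
    rwa [Pi.mulSingle_eq_same] at this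
  have hSfix : ∀ i, ∀ X ∈ A i '' (M i : Set (GL (Fin m ⊕ Fin m) F)), Xᵀ * S i * X = S i := by
    rintro i _ ⟨g, hg, rfl⟩
    have h := hfac i g hg
    rw [factor_transpose] at h
    ext p r
    have h1 := congrFun (congrFun h (Function.update x₀ i p)) (Function.update y₀ i r)
    rw [mul_factor_apply] at h1
    simp only [factor_mul_apply, Function.update_self, Function.update_idem] at h1
    rw [Matrix.mul_apply]
    simp only [Matrix.mul_apply, S, Matrix.of_apply]
    rw [← h1]
  have hS0 : ∀ i, S i ≠ 0 := fun i h0 => hne (by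
    simpa [S] using congrFun (congrFun h0 (x₀ i)) (y₀ i))
  have hSu : ∀ i, IsUnit (S i) := fun i => (bilin_gram_unique (habs i) (hdet i) (hS0 i) (hSfix i)).1
  have hSl : ∀ i, ∃ l, (S i)ᵀ = l • S i := fun i =>
    (bilin_gram_unique (habs i) (hdet i) (hS0 i) (hSfix i)).2 _ fun X hX => by
      have h := congrArg Matrix.transpose (hSfix i X hX)
      rwa [Matrix.transpose_mul, Matrix.transpose_mul, Matrix.transpose_transpose, ← mul_assoc] at h
  choose l hl using hSl
  have hl2 : ∀ i, l i * l i = 1 := fun i => by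
    have h := congrArg Matrix.transpose (hl i)
    rw [Matrix.transpose_transpose, Matrix.transpose_smul, hl, smul_smul] at h
    exact smul_left_injective F (hS0 i) ((h.symm).trans (one_smul F _).symm)
  let T := pureT d t F S
  have hTu : IsUnit T := by
    have : IsUnit S := by
      rw [Pi.isUnit_iff]; exact hSu
    exact this.map (pureT d t F)
  have hTfix : ∀ i, ∀ g ∈ M i, (factor i (A i g))ᵀ * T * factor i (A i g) = T := by
    intro i g hg
    rw [factor_transpose, factor, factor, ← map_mul, ← map_mul]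
    congr 1
    funext j
    by_cases hj : j = i
    · subst hj
      simp only [Pi.mul_apply, Pi.mulSingle_eq_same]
      exact hSfix j _ ⟨g, hg, rfl⟩
    · simp [Pi.mulSingle_eq_of_ne hj]
  set Z := ((hTu.unit⁻¹ : GL (Fin t → Fin d) F) : Matrix (Fin t → Fin d) (Fin t → Fin d) F) * G with hZ
  have hTZ : T * Z = G := by rw [hZ, ← mul_assoc, hTu.mul_val_inv, one_mul]
  obtain ⟨Y, hY⟩ := coord_surjective e P Z
  have hYcomm : ∀ i, ∀ g ∈ M i, Y * (g : Matrix (Fin m ⊕ Fin m) (Fin m ⊕ Fin m) F) =
      (g : Matrix (Fin m ⊕ Fin m) (Fin m ⊕ Fin m) F) * Y := by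
    intro i g hg
    refine coord_injective e P ?_
    rw [coord_mul, coord_mul, hY, hc.coord_eq i g hg]
    have hcu : IsUnit (factor i (A i g) : Matrix (Fin t → Fin d) (Fin t → Fin d) F)ᵀ := by
      rw [Matrix.isUnit_iff_isUnit_det, Matrix.det_transpose, ← hc.coord_eq i g hg]
      exact isUnit_iff_ne_zero.2 (det_coord_ne_zero e P g)
    refine (IsUnit.mul_right_inj (hcu.mul hTu)).1 ?_
    rw [← mul_assoc, mul_assoc _ T Z, hTZ, hfac i g hg, ← mul_assoc, hTfix i g hg, hTZ]
  obtain ⟨γ, hγ⟩ := hc.absIrred.2 Y (by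
    rintro _ ⟨g, hg, rfl⟩
    show Y * (g : Matrix (Fin m ⊕ Fin m) (Fin m ⊕ Fin m) F) = (g : Matrix (Fin m ⊕ Fin m) (Fin m ⊕ Fin m) F) * Y
    induction hg using Subgroup.iSup_induction' with
    | hp i g hg => exact hYcomm i g hg
    | h1 => simp
    | hmul a b _ _ h1 h2 => rw [Units.val_mul, ← mul_assoc, h1, mul_assoc, h2, mul_assoc])
  have hGT : G = γ • T := by
    rw [← hTZ, ← hY, hγ, coord_smul, coord_one, Matrix.mul_smul, mul_one]
  have hγ0 : γ ≠ 0 := fun h0 => hGu.ne_zero (by rw [hGT, h0, zero_smul])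
  have hprod : ∏ i, l i = -1 := by
    have h := spGram_transpose e P
    rw [← hG, hGT, Matrix.transpose_smul, pureT_transpose,
      show (fun i => (S i)ᵀ) = fun i => l i • S i from funext hl, pureT_smul, smul_smul, ← neg_smul] at h
    have h1 := smul_left_injective F hTu.ne_zero h
    exact mul_left_cancel₀ hγ0 (by rw [mul_neg, mul_one]; exact h1)
  by_cases h2 : (2 : F) = 0
  · -- characteristic two
    left
    refine ⟨h2, ?_⟩
    have hl1 : ∀ i, l i = 1 := fun i => by
      rcases mul_self_eq_one_iff.1 (hl2 i) with h | h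
      · exact h
      · rw [h]; linear_combination -h2
    have hSs : ∀ i, (S i)ᵀ = S i := fun i => by rw [hl i, hl1 i, one_smul]
    have hSd : ∀ i a, S i a a = 0 := fun i =>
      diag_eq_zero_of_fixed h2 (by simpa using hd) (hc.irred i) (hSs i) (hSfix i)
    obtain ⟨s, rfl⟩ : ∃ s, t = s + 1 := ⟨t - 1, by omega⟩
    let f : (Fin (s + 1) → Fin d) ≃ Fin d × (Fin s → Fin d) := (Fin.consEquiv fun _ => Fin d).symm
    have hsub : ∀ gs : Fin (s + 1) → Matrix (Fin d) (Fin d) F, (pureT d (s + 1) F gs).submatrix f.symm f.symm =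
        gs 0 ⊗ₖ pureT d s F (fun i => gs i.succ) := by
      intro gs
      ext ⟨a, x⟩ ⟨b, y⟩
      simp [f, pureT_apply, Fin.prod_univ_succ]
    have hcoordN : ∀ g ∈ N, ∃ gs, coord e P (g : Matrix (Fin m ⊕ Fin m) (Fin m ⊕ Fin m) F) = pureT d (s + 1) F gs := by
      intro g hg
      rw [← hM.iSup_eq] at hg
      induction hg using Subgroup.iSup_induction' with
      | hp i g hg => exact ⟨_, hc.coord_eq i g hg⟩
      | h1 => exact ⟨1, by rw [Units.val_one, coord_one, map_one]⟩
      | hmul a b _ _ ha hb =>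
        obtain ⟨as, ha⟩ := ha
        obtain ⟨bs, hb⟩ := hb
        exact ⟨as * bs, by rw [Units.val_mul, coord_mul, ha, hb, map_mul]⟩
    have hcomp : ∀ X : Matrix (Fin m ⊕ Fin m) (Fin m ⊕ Fin m) F,
        coord (e.trans f) P X = (coord e P X).submatrix f.symm f.symm := fun X => rfl
    obtain ⟨Q, hQ, hpol, hQle⟩ := quad_of_kron_alt (H := N) h2 (e.trans f) P (X := γ • S 0)
      (Y := pureT d s F fun i => S i.succ)
      (by
        rw [show spGram (e.trans f) P = (spGram e P).submatrix f.symm f.symm from rfl, ← hG, hGT, Matrix.smul_kronecker,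
          ← hsub]
        rfl)
      (by rw [Matrix.transpose_smul, hSs]) (fun i => by rw [Matrix.smul_apply, hSd, smul_zero])
      (fun w => alternating_of_skew (by
          rw [pureT_transpose, funext fun i : Fin s => hSs i.succ, ← neg_one_smul F (pureT d s F _),
            show (-1 : F) = 1 by linear_combination -h2, one_smul])
        (fun x => by
          rw [pureT_apply]
          exact Finset.prod_eq_zero (Finset.mem_univ (⟨0, by omega⟩ : Fin s)) (hSd _ _)) w)
      (hNH.trans hH) (fun g hg => by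
        obtain ⟨gs, hgs⟩ := hcoordN g hg
        exact ⟨_, _, by rw [hcomp, hgs, hsub]⟩)
    refine ⟨Q, hQ, ?_⟩
    rintro _ ⟨g, hg, rfl⟩ v
    obtain ⟨c, hcQ⟩ := hQle hg
    have hc1 : (c : F) = 1 := by
      haveI : Nonempty (Fin m ⊕ Fin m) := e.nonempty
      obtain ⟨u, hu⟩ := exists_ne (0 : Fin m ⊕ Fin m → F)
      obtain ⟨x, hx⟩ := (Roots.isSymplecticForm_sympForm.nondegenerate u hu).1
      have h := polar_eq_of_sim (M := fun v => (g : Matrix (Fin m ⊕ Fin m) (Fin m ⊕ Fin m) F) *ᵥ v)
        (fun a b => Matrix.mulVec_add _ a b) hcQ x u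
      rw [hpol, hpol, Roots.mem_spGL_iff.1 ((hNH.trans hH) hg)] at h
      exact (mul_eq_right₀ hx).1 h.symm
    show Q _ = Q v
    rw [hcQ v, hc1, one_mul]
  -- odd characteristic
  right
  have hwreath : ∀ h ∈ H, ∀ i j, (M i).map (MulAut.conj h).toMonoidHom = M j → l i = l j := by
    intro h hh i j hij
    obtain ⟨π, gs, hC⟩ := exists_coord_of_mem_tensorWreath (hle hh)
    have hdetC : (pureT d t F gs).det ≠ 0 := by
      intro h0
      apply det_coord_ne_zero e P h
      rw [hC, Matrix.det_mul, h0, zero_mul]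
    have hgs : ∀ a, IsUnit (gs a) := fun a =>
      (Matrix.isUnit_iff_isUnit_det _).2 (isUnit_iff_ne_zero.2 (pureT_factor_det gs hdetC a))
    have hπ : π i = j := by
      by_contra hne'
      refine hM.not_le i fun n hn => ?_
      have hn' : h * n * h⁻¹ ∈ M j := hij ▸ ⟨n, hn, rfl⟩
      have h1 : coord e P ((h * n * h⁻¹ : GL (Fin m ⊕ Fin m) F) : Matrix (Fin m ⊕ Fin m) (Fin m ⊕ Fin m) F) *
          coord e P (h : Matrix (Fin m ⊕ Fin m) (Fin m ⊕ Fin m) F) =
          coord e P (h : Matrix (Fin m ⊕ Fin m) (Fin m ⊕ Fin m) F) * coord e P (n : Matrix (Fin m ⊕ Fin m) (Fin m ⊕ Fin m) F) := by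
        rw [← coord_mul, ← coord_mul, ← Units.val_mul, ← Units.val_mul, inv_mul_cancel_right]
      rw [hc.coord_eq j _ hn', hc.coord_eq i n hn, hC, mul_assoc (pureT d t F gs), permT_factor, ← mul_assoc,
        ← mul_assoc] at h1
      have hpu : IsUnit (permT d F π : Matrix (Fin t → Fin d) (Fin t → Fin d) F) :=
        ⟨⟨permT d F π, permT d F π.symm, permT_mul_permT_symm π, by
          simpa using permT_mul_permT_symm (F := F) (d := d) π.symm⟩, rfl⟩
      have h3 := (IsUnit.mul_left_inj hpu).1 h1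
      rw [factor, factor, ← map_mul, ← map_mul] at h3
      have hne0 : pureT d t F (Pi.mulSingle j (A j (h * n * h⁻¹)) * gs) ≠ 0 := by
        rw [map_mul, show pureT d t F (Pi.mulSingle j (A j (h * n * h⁻¹))) = factor j (A j (h * n * h⁻¹)) from rfl,
          ← hc.coord_eq j _ hn']
        exact ((Matrix.isUnit_iff_isUnit_det _).2 (isUnit_iff_ne_zero.2 (det_coord_ne_zero e P _))).mul
          ((Matrix.isUnit_iff_isUnit_det _).2 (isUnit_iff_ne_zero.2 hdetC)) |>.ne_zero
      obtain ⟨c, -, hc'⟩ := pureT_proportional h3 hne0 (π i)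
      rw [Pi.mul_apply, Pi.mul_apply, Pi.mulSingle_eq_same, Pi.mulSingle_eq_of_ne hne', one_mul] at hc'
      have hA : A i n = c • 1 := (IsUnit.mul_right_inj (hgs (π i))).1 (by rw [hc', Matrix.mul_smul, mul_one])
      haveI : Nonempty (Fin m ⊕ Fin m) := e.nonempty
      refine mem_scalars_of_coe (c := c) (coord_injective e P ?_)
      rw [hc.coord_eq i n hn, coord_smul, coord_one, hA, factor,
        show (Pi.mulSingle i (c • (1 : Matrix (Fin d) (Fin d) F)) : Fin t → Matrix (Fin d) (Fin d) F) =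
          fun a => (Pi.mulSingle i c : Fin t → F) a • (1 : Fin t → Matrix (Fin d) (Fin d) F) a from funext fun a => by
            by_cases ha : a = i
            · subst ha; simp
            · simp [Pi.mulSingle_eq_of_ne ha], pureT_smul, Fintype.prod_pi_mulSingle']
      congr 1
      exact map_one (pureT d t F)
    have h1 := spGram_fix e P (hH hh)
    rw [hC, ← hG, hGT, Matrix.transpose_mul, pureT_transpose, Matrix.mul_smul, Matrix.smul_mul] at h1
    have h3 := smul_right_injective (Matrix (Fin t → Fin d) (Fin t → Fin d) F) hγ0 h1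
    have e4 : (permT d F π)ᵀ * (pureT d t F fun a => (gs a)ᵀ) * T * (pureT d t F gs * permT d F π) =
        pureT d t F fun a => (gs (π a))ᵀ * S (π a) * gs (π a) := by
      rw [← permT_transpose_conj π (fun a => (gs a)ᵀ * S a * gs a), show (fun a => (gs a)ᵀ * S a * gs a) =
        (fun a => (gs a)ᵀ) * S * gs from rfl, map_mul, map_mul]
      simp only [T, mul_assoc]
    rw [e4] at h3
    obtain ⟨c, -, hc'⟩ := pureT_proportional h3 (by rw [h3]; exact hTu.ne_zero) i
    rw [hπ] at hc'
    have hT : (S i)ᵀ = l j • S i := by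
      rw [hc', Matrix.transpose_smul, Matrix.transpose_mul, Matrix.transpose_mul, Matrix.transpose_transpose, hl j,
        Matrix.smul_mul, Matrix.mul_smul, ← mul_assoc, smul_comm]
    exact smul_left_injective F (hS0 i) ((hl i).symm.trans hT)
  let i₀ : Fin t := ⟨0, by omega⟩
  have hall : ∀ i, l i = l i₀ := fun i => by
    obtain ⟨h, hh, hij⟩ := hM.transitive i i₀
    exact hwreath h hh i i₀ hij
  have hpow : l i₀ ^ t = -1 := by
    rw [← hprod, Finset.prod_congr rfl fun i _ => hall i, Finset.prod_const, Finset.card_univ, Fintype.card_fin]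
  have hlm : l i₀ = -1 := by
    rcases mul_self_eq_one_iff.1 (hl2 i₀) with h | h
    · rw [h, one_pow] at hpow
      exact absurd (show (2 : F) = 0 by linear_combination hpow) h2
    · exact h
  have htodd : Odd t := by
    by_contra hev
    rw [hlm, (Nat.not_odd_iff_even.1 hev).neg_one_pow] at hpow
    exact h2 (by linear_combination hpow)
  have hskew : ∀ i, (S i)ᵀ = -S i := fun i => by rw [hl, hall, hlm, neg_one_smul]
  have hdiag : ∀ i a, S i a a = 0 := fun i => diag_eq_zero_of_skew h2 (hskew i)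
  have hiso : ∀ i, ∃ k : GL (Fin d) F, S i = (k : Matrix (Fin d) (Fin d) F)ᵀ * S i₀ * (k : Matrix (Fin d) (Fin d) F) := by
    intro i
    have halt : ∀ a, (Matrix.toBilin' (S a)).IsAlt := fun a v => by
      rw [Matrix.toBilin'_apply']; exact alternating_of_skew (hskew a) (hdiag a) v
    have hnd : ∀ a, (Matrix.toBilin' (S a)).Nondegenerate := fun a =>
      LinearMap.BilinForm.nondegenerate_toBilin'_of_det_ne_zero' _ ((Matrix.isUnit_iff_isUnit_det _).1 (hSu a)).ne_zero
    obtain ⟨φ, hφ⟩ := CfsgLib.Classical.Symp.exists_isometry (halt i) (hnd i) (halt i₀) (hnd i₀) rfl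
    have hk : IsUnit (LinearMap.toMatrix' (φ : (Fin d → F) →ₗ[F] (Fin d → F))) := by
      rw [← Matrix.mulVec_injective_iff_isUnit]
      intro x y hxy
      exact φ.injective (by simpa using hxy)
    refine ⟨hk.unit, ?_⟩
    rw [IsUnit.unit_spec]
    ext a b
    have h := hφ (Pi.single a 1) (Pi.single b 1)
    rw [Matrix.toBilin'_apply', Matrix.toBilin'_apply',
      show φ (Pi.single a 1) = LinearMap.toMatrix' (φ : (Fin d → F) →ₗ[F] (Fin d → F)) *ᵥ Pi.single a 1 by rw [LinearMap.toMatrix'_mulVec]; rfl,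
      show φ (Pi.single b 1) = LinearMap.toMatrix' (φ : (Fin d → F) →ₗ[F] (Fin d → F)) *ᵥ Pi.single b 1 by rw [LinearMap.toMatrix'_mulVec]; rfl,
      Matrix.mulVec_mulVec, Matrix.dotProduct_mulVec, Matrix.vecMul_mulVec, ← Matrix.dotProduct_mulVec,
      Matrix.mulVec_single_one, single_one_dotProduct, Matrix.mulVec_single_one, single_one_dotProduct] at h
    rw [mul_assoc]
    exact h.symm
  choose k hk using hiso
  let K : GL (Fin t → Fin d) F := Units.map (pureT d t F) (MulEquiv.piUnits.symm k)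
  have hKv : (K : Matrix (Fin t → Fin d) (Fin t → Fin d) F) = pureT d t F fun i => (k i : Matrix (Fin d) (Fin d) F) := rfl
  have hGK : G = γ • ((K : Matrix (Fin t → Fin d) (Fin t → Fin d) F)ᵀ * pureT d t F (fun _ => S i₀) *
      (K : Matrix (Fin t → Fin d) (Fin t → Fin d) F)) := by
    rw [hKv, pureT_transpose, ← map_mul, ← map_mul, hGT]
    exact congrArg (γ • pureT d t F ·) (funext hk)
  refine ⟨h2, htodd, ?_, P * glReindex (F := F) e.symm K⁻¹, S i₀, γ, hγ0, hSu i₀, hskew i₀, hdiag i₀, ?_,
    hle.trans (le_of_eq ?_)⟩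
  · simpa using even_card_of_skew (hSu i₀) (hskew i₀) (hdiag i₀)
  · rw [spGram_mul_reindex, ← hG, hGK, Matrix.mul_smul, Matrix.smul_mul, ← mul_assoc, ← mul_assoc,
      ← Matrix.transpose_mul, Units.mul_inv, Matrix.transpose_one, one_mul, mul_assoc, Units.mul_inv, mul_one]
  · exact (map_conj_eq_of_mem (Subgroup.mem_map_of_mem (glReindex (F := F) e.symm).toMonoidHom
      ((tensorWreathStandard d t F).inv_mem (show K ∈ tensorWreathStandard d t F from
        Subgroup.subset_closure (Or.inl ⟨k, fun x y => rfl⟩))))).symm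

/-- No perfect factor fits in dimension two over three elements. -/
theorem no_perfect_factor_two [Fintype F] (hF : Fintype.card F = 3) {t : ℕ}
    {M : Fin t → Subgroup (GL (Fin m ⊕ Fin m) F)} (hperf : ∀ i, ⁅M i, M i⁆ = M i)
    {e : (Fin m ⊕ Fin m) ≃ (Fin t → Fin 2)} {P : GL (Fin m ⊕ Fin m) F}
    {A : Fin t → GL (Fin m ⊕ Fin m) F → Matrix (Fin 2) (Fin 2) F}
    (hc : FactorCoords 2 M e P A) (i : Fin t) : M i = ⊥ := by
  classical
  have hfinj : Function.Injective (factor i : Matrix (Fin 2) (Fin 2) F → Matrix (Fin t → Fin 2) (Fin t → Fin 2) F) := by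
    intro X Y h
    ext a b
    have h' := congrFun (congrFun h (Function.update (fun _ => 0) i a)) (Function.update (fun _ => 0) i b)
    rw [factor_apply, factor_apply, if_pos (fun j hj => by rw [Function.update_of_ne hj, Function.update_of_ne hj]),
      if_pos (fun j hj => by rw [Function.update_of_ne hj, Function.update_of_ne hj])] at h'
    simpa using h'
  let φ : M i →* Matrix (Fin 2) (Fin 2) F :=
    { toFun := fun g => A i g
      map_one' := hfinj (by
        rw [← hc.coord_eq i _ (1 : M i).2]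
        show coord e P ((1 : GL (Fin m ⊕ Fin m) F) : Matrix (Fin m ⊕ Fin m) (Fin m ⊕ Fin m) F) = _
        rw [Units.val_one, coord_one, factor, Pi.mulSingle_one, map_one])
      map_mul' := fun a b => hfinj (by
        rw [← hc.coord_eq i _ (a * b).2]
        show coord e P ((a.1 * b.1 : GL (Fin m ⊕ Fin m) F) : Matrix (Fin m ⊕ Fin m) (Fin m ⊕ Fin m) F) = _
        rw [Units.val_mul, coord_mul, hc.coord_eq i a a.2, hc.coord_eq i b b.2, factor, factor, factor, ← map_mul,
          Pi.mulSingle_mul]) }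
  let φu : M i →* GL (Fin 2) F := φ.toHomUnits
  have hinj : Function.Injective φu := by
    intro a b h
    have h1 : A i a = A i b := congrArg (fun u : GL (Fin 2) F => (u : Matrix (Fin 2) (Fin 2) F)) h
    refine Subtype.ext (Units.ext (coord_injective e P ?_))
    rw [hc.coord_eq i a a.2, hc.coord_eq i b b.2, h1]
  haveI : Finite (GL (Fin 2) F) :=
    Finite.of_injective (fun g : GL (Fin 2) F => (g : Matrix (Fin 2) (Fin 2) F)) Units.val_injective
  haveI : Group.IsSolvable (GL (Fin 2) F) := by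
    refine CfsgLib.Burnside.isSolvable_of_card_eq (p := 2) (q := 3) (a := 4) (b := 1) Nat.prime_two Nat.prime_three ?_
    rw [Matrix.card_GL_field]
    simp [hF, Fin.prod_univ_two]
  haveI : Group.IsSolvable (M i) := Group.isSolvable_of_isSolvable_injective hinj
  by_contra hbot
  haveI : Nontrivial (M i) := (Subgroup.nontrivial_iff_ne_bot _).2 hbot
  have hlt := Group.IsSolvable.commutator_lt_top_of_nontrivial (M i)
  refine hlt.ne ?_
  apply Subgroup.map_injective (M i).subtype_injective
  rw [commutator_def, Subgroup.map_commutator, ← MonoidHom.range_eq_map, Subgroup.range_subtype, hperf i]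

end CfsgLib.Geo.Asch
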