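/-
Tensor powers of a quadratic space.
-/
import Cfsg.Agent.Lib.Geo.Asch.OrthTensor
import Cfsg.Agent.Lib.Geo.Asch.OrthSmallBlocks
import Cfsg.Agent.Lib.Geo.Asch.SpPower

set_option autoImplicit false
set_option linter.unusedSectionVars false
set_option maxHeartbeats 800000

namespace CfsgLib.Geo.Asch

open Matrix Cfsg.Geo
open scoped Kronecker
open CfsgLib.Classical CfsgLib.Classical.Quad CfsgLib.Geo.OrthMax
open QuadraticMap (polar polarBilin)

variable {F : Type*} [Field F] [Fintype F] {ι : Type} [Fintype ι] [DecidableEq ι] {Q : QuadraticForm F (ι → F)}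
variable {d t : ℕ} {H N : Subgroup (GL ι F)} {M : Fin t → Subgroup (GL ι F)} {e : ι ≃ (Fin t → Fin d)} {P : GL ι F}
  {A : Fin t → GL ι F → Matrix (Fin d) (Fin d) F}

/-- The action of a component on its tensor factor. -/
theorem FactorCoords.exists_hom (hd : 0 < d) (hc : FactorCoords d M e P A) (i : Fin t) :
    ∃ φ : M i →* GL (Fin d) F, Function.Injective φ ∧ ∀ g : M i, (φ g : Matrix (Fin d) (Fin d) F) = A i g := by
  classical
  have hfinj : Function.Injective (factor i : Matrix (Fin d) (Fin d) F → Matrix (Fin t → Fin d) (Fin t → Fin d) F) := by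
    intro X Y h
    ext a b
    have h' := congrFun (congrFun h (Function.update (fun _ => ⟨0, hd⟩) i a)) (Function.update (fun _ => ⟨0, hd⟩) i b)
    rw [factor_apply, factor_apply, if_pos (fun j hj => by rw [Function.update_of_ne hj, Function.update_of_ne hj]),
      if_pos (fun j hj => by rw [Function.update_of_ne hj, Function.update_of_ne hj])] at h'
    simpa using h'
  let φ : M i →* Matrix (Fin d) (Fin d) F :=
    { toFun := fun g => A i g
      map_one' := hfinj (by
        rw [← hc.coord_eq i _ (1 : M i).2]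
        show coord e P ((1 : GL ι F) : Matrix ι ι F) = _
        rw [Units.val_one, coord_one, factor, Pi.mulSingle_one, map_one])
      map_mul' := fun a b => hfinj (by
        rw [← hc.coord_eq i _ (a * b).2]
        show coord e P ((a.1 * b.1 : GL ι F) : Matrix ι ι F) = _
        rw [Units.val_mul, coord_mul, hc.coord_eq i a a.2, hc.coord_eq i b b.2, factor, factor, factor, ← map_mul,
          Pi.mulSingle_mul]) }
  refine ⟨φ.toHomUnits, fun a b h => ?_, fun g => rfl⟩
  have h1 : A i a = A i b := congrArg (fun u : GL (Fin d) F => (u : Matrix (Fin d) (Fin d) F)) h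
  refine Subtype.ext (Units.ext (coord_injective e P ?_))
  rw [hc.coord_eq i a a.2, hc.coord_eq i b b.2, h1]

/-- A homomorphism from a perfect subgroup to a commutative group is trivial. -/
theorem hom_eq_one_of_perfect {G : Type*} [Group G] {K : Subgroup G} (hK : ⁅K, K⁆ = K) {A : Type*} [CommGroup A]
    (φ : K →* A) (g : K) : φ g = 1 := by
  have htop : commutator K = ⊤ := by
    apply Subgroup.map_injective K.subtype_injective
    rw [commutator_def, Subgroup.map_commutator, ← MonoidHom.range_eq_map, Subgroup.range_subtype, hK]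
  exact Abelianization.commutator_subset_ker φ (htop ▸ Subgroup.mem_top g)

/-- The polar form in the coordinates of a tensor power: one symmetric or alternating form in each factor. -/
theorem orth_power_split (hQ : (polarBilin Q).Nondegenerate) (hd : 2 ≤ d) (hNQ : ∀ g ∈ N, ∀ v, Q ((g : Matrix ι ι F) *ᵥ v) = Q v)
    (hM : IsComponents (scalars ι F) H N M) (hc : FactorCoords d M e P A) :
    ∃ (S : Fin t → Matrix (Fin d) (Fin d) F) (γ : F), γ ≠ 0 ∧ orGram Q e P = γ • pureT d t F S ∧
      ∀ i, IsUnit (S i) ∧ (∃ l : F, (S i)ᵀ = l • S i) ∧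
        ∀ X : Matrix (Fin d) (Fin d) F, (∀ g ∈ M i, (A i g)ᵀ * X * A i g = X) → ∃ c : F, X = c • S i := by
  classical
  have ht := hM.two_le
  haveI : Nonempty (Fin t → Fin d) := ⟨fun _ => ⟨0, by omega⟩⟩
  have habs := fun i => hc.absIrred_factor i
  set G := orGram Q e P with hG
  have hGu : IsUnit G := orGram_isUnit hQ e P
  have hfac : ∀ i, ∀ g ∈ M i, (factor i (A i g))ᵀ * G * factor i (A i g) = G := by
    intro i g hg
    rw [← hc.coord_eq i g hg]
    exact orGram_fix e P (hNQ g (hM.le i hg))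
  obtain ⟨x₀, y₀, hne⟩ : ∃ x y, G x y ≠ 0 := by
    by_contra! h0
    exact hGu.ne_zero (Matrix.ext h0)
  let S : Fin t → Matrix (Fin d) (Fin d) F := fun i =>
    Matrix.of fun p q => G (Function.update x₀ i p) (Function.update y₀ i q)
  have hdet : ∀ i, ∀ X ∈ A i '' (M i : Set (GL ι F)), X.det ≠ 0 := by
    rintro i _ ⟨g, hg, rfl⟩
    have h := det_coord_ne_zero e P g
    rw [hc.coord_eq i g hg, factor] at h
    have := pureT_factor_det _ h i
    rwa [Pi.mulSingle_eq_same] at this
  have hSfix : ∀ i, ∀ X ∈ A i '' (M i : Set (GL ι F)), Xᵀ * S i * X = S i := by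
    rintro i _ ⟨g, hg, rfl⟩
    have h := hfac i g hg
    rw [factor_transpose] at h
    ext p r
    have h1 := congrFun (congrFun h (Function.update x₀ i p)) (Function.update y₀ i r)
    rw [mul_factor_apply] at h1
    simp only [factor_mul_apply, Function.update_self, Function.update_idem] at h1
    rw [Matrix.mul_apply]
    simp only [Matrix.mul_apply, S, Matrix.of_apply]
    rw [← h1]
  have hS0 : ∀ i, S i ≠ 0 := fun i h0 => hne (by
    simpa [S] using congrFun (congrFun h0 (x₀ i)) (y₀ i))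
  have hSu : ∀ i, IsUnit (S i) := fun i => (bilin_gram_unique (habs i) (hdet i) (hS0 i) (hSfix i)).1
  have huniq : ∀ i, ∀ X : Matrix (Fin d) (Fin d) F, (∀ g ∈ M i, (A i g)ᵀ * X * A i g = X) → ∃ c : F, X = c • S i :=
    fun i X hX => (bilin_gram_unique (habs i) (hdet i) (hS0 i) (hSfix i)).2 X (by
      rintro _ ⟨g, hg, rfl⟩; exact hX g hg)
  have hSl : ∀ i, ∃ l, (S i)ᵀ = l • S i := fun i => huniq i _ fun g hg => by
    have h := congrArg Matrix.transpose (hSfix i _ ⟨g, hg, rfl⟩)
    rwa [Matrix.transpose_mul, Matrix.transpose_mul, Matrix.transpose_transpose, ← mul_assoc] at h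
  let T := pureT d t F S
  have hTu : IsUnit T := by
    have : IsUnit S := by
      rw [Pi.isUnit_iff]; exact hSu
    exact this.map (pureT d t F)
  have hTfix : ∀ i, ∀ g ∈ M i, (factor i (A i g))ᵀ * T * factor i (A i g) = T := by
    intro i g hg
    rw [factor_transpose, factor, factor, ← map_mul, ← map_mul]
    congr 1
    funext j
    by_cases hj : j = i
    · subst hj
      simp only [Pi.mul_apply, Pi.mulSingle_eq_same]
      exact hSfix j _ ⟨g, hg, rfl⟩
    · simp [Pi.mulSingle_eq_of_ne hj]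
  set Z := ((hTu.unit⁻¹ : GL (Fin t → Fin d) F) : Matrix (Fin t → Fin d) (Fin t → Fin d) F) * G with hZ
  have hTZ : T * Z = G := by rw [hZ, ← mul_assoc, hTu.mul_val_inv, one_mul]
  obtain ⟨Y, hY⟩ := coord_surjective e P Z
  have hYcomm : ∀ i, ∀ g ∈ M i, Y * (g : Matrix ι ι F) = (g : Matrix ι ι F) * Y := by
    intro i g hg
    refine coord_injective e P ?_
    rw [coord_mul, coord_mul, hY, hc.coord_eq i g hg]
    have hcu : IsUnit (factor i (A i g) : Matrix (Fin t → Fin d) (Fin t → Fin d) F)ᵀ := by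
      rw [Matrix.isUnit_iff_isUnit_det, Matrix.det_transpose, ← hc.coord_eq i g hg]
      exact isUnit_iff_ne_zero.2 (det_coord_ne_zero e P g)
    refine (IsUnit.mul_right_inj (hcu.mul hTu)).1 ?_
    rw [← mul_assoc, mul_assoc _ T Z, hTZ, hfac i g hg, ← mul_assoc, hTfix i g hg, hTZ]
  obtain ⟨γ, hγ⟩ := hc.absIrred.2 Y (by
    rintro _ ⟨g, hg, rfl⟩
    show Y * (g : Matrix ι ι F) = (g : Matrix ι ι F) * Y
    induction hg using Subgroup.iSup_induction' with
    | hp i g hg => exact hYcomm i g hg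
    | h1 => simp
    | hmul a b _ _ h1 h2 => rw [Units.val_mul, ← mul_assoc, h1, mul_assoc, h2, mul_assoc])
  haveI : Nonempty ι := e.nonempty
  have hGT : G = γ • T := by
    rw [← hTZ, ← hY, hγ, coord_smul, coord_one, Matrix.mul_smul, mul_one]
  exact ⟨S, γ, fun h0 => hGu.ne_zero (by rw [hGT, h0, zero_smul]), hGT, fun i => ⟨hSu i, hSl i, huniq i⟩⟩

/-- A tensor power of planes has plus type. -/
theorem plus_of_power_two (hQ : (polarBilin Q).Nondegenerate) (hd : d = 2)
    (hNQ : ∀ g ∈ N, ∀ v, Q ((g : Matrix ι ι F) *ᵥ v) = Q v)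
    (hM : IsComponents (scalars ι F) H N M) (hc : FactorCoords d M e P A) : IsPlusTypeOn (⇑Q) ⊤ := by
  classical
  subst hd
  obtain ⟨S, γ, hγ, hG, hS⟩ := orth_power_split hQ le_rfl hNQ hM hc
  have hdet1 : ∀ i, ∀ g ∈ M i, (A i g).det = 1 := by
    intro i g hg
    obtain ⟨φ, -, hφ⟩ := hc.exists_hom two_pos i
    have h := hom_eq_one_of_perfect (hM.perfect i) (Matrix.GeneralLinearGroup.det.comp φ) ⟨g, hg⟩
    rw [MonoidHom.comp_apply] at h
    have h' := congrArg (fun u : Fˣ => (u : F)) h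
    simp only [Matrix.GeneralLinearGroup.val_det_apply, hφ, Units.val_one] at h'
    exact h'
  have hfixJ : ∀ i, ∀ g ∈ M i, (A i g)ᵀ * symJ F * A i g = symJ F := by
    intro i g hg
    have h := hdet1 i g hg
    rw [Matrix.det_fin_two] at h
    ext a b
    fin_cases a <;> fin_cases b <;> simp [symJ, Matrix.mul_apply, Fin.sum_univ_two]
    · ring
    · linear_combination h
    · linear_combination -h
    · ring
  have hβ : ∀ i, ∃ β : F, S i = β • symJ F := by
    intro i
    obtain ⟨c, hc'⟩ := (hS i).2.2 _ (hfixJ i)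
    have hc0 : c ≠ 0 := fun e0 => by
      have := congrFun (congrFun hc' 0) 1
      rw [e0, zero_smul] at this
      simp [symJ] at this
    exact ⟨c⁻¹, by rw [hc', smul_smul, inv_mul_cancel₀ hc0, one_smul]⟩
  choose β hβ using hβ
  obtain ⟨s, rfl⟩ : ∃ s, t = s + 1 := ⟨t - 1, by have := hM.two_le; omega⟩
  have hs : 0 < s := by have := hM.two_le; omega
  let f : (Fin (s + 1) → Fin 2) ≃ Fin 2 × (Fin s → Fin 2) := (Fin.consEquiv fun _ => Fin 2).symm
  let g₂ : (Fin s → Fin 2) ≃ Fin (Fintype.card (Fin s → Fin 2)) := Fintype.equivFin _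
  let f' : (Fin (s + 1) → Fin 2) ≃ Fin 2 × Fin (Fintype.card (Fin s → Fin 2)) :=
    f.trans ((Equiv.refl (Fin 2)).prodCongr g₂)
  have hsub : ∀ gs : Fin (s + 1) → Matrix (Fin 2) (Fin 2) F, (pureT 2 (s + 1) F gs).submatrix f'.symm f'.symm =
      gs 0 ⊗ₖ (pureT 2 s F fun i => gs i.succ).submatrix g₂.symm g₂.symm := by
    intro gs
    ext ⟨a, x⟩ ⟨b, y⟩
    simp [f', f, pureT_apply, Fin.prod_univ_succ]
  set Y : Matrix (Fin (Fintype.card (Fin s → Fin 2))) (Fin (Fintype.card (Fin s → Fin 2))) F :=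
    (∏ i, β i) • (γ • (pureT 2 s F fun _ => symJ F).submatrix g₂.symm g₂.symm) with hY
  have hG' : orGram Q (e.trans f') P = symJ F ⊗ₖ Y := by
    rw [orGram_reindex, hG, funext hβ, pureT_smul, hY, Matrix.kronecker_smul, Matrix.kronecker_smul,
      ← hsub fun _ => symJ F, smul_comm]
    rfl
  have hJ : ∀ u : Fin 2 → F, u ⬝ᵥ symJ F *ᵥ u = 0 := fun u => by
    simp [symJ, dotProduct, Matrix.mulVec, Fin.sum_univ_two]
    ring
  refine plus_of_pure (e := e.trans f') (P := P) fun u w => ?_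
  by_cases h2 : (2 : F) = 0
  swap
  · rw [apply_vecIn_of_two h2, hG', pure_dot, hJ, zero_mul, zero_div]
  have hYw : w ⬝ᵥ Y *ᵥ w = 0 := by
    refine alternating_of_skew ?_ (fun x => ?_) w
    · have hJt : (symJ F)ᵀ = symJ F := by
        ext a b
        fin_cases a <;> fin_cases b <;> simp [symJ] <;>
          first | linear_combination h2 | linear_combination -h2 | linear_combination 2 * h2 | linear_combination -2 * h2
      rw [hY, Matrix.transpose_smul, Matrix.transpose_smul, Matrix.transpose_submatrix, pureT_transpose, hJt,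
        ← neg_one_smul F ((∏ i, β i) • _), show (-1 : F) = 1 by linear_combination -h2, one_smul]
    · rw [hY]
      simp only [Matrix.smul_apply, Matrix.submatrix_apply, pureT_apply]
      rw [Finset.prod_eq_zero (Finset.mem_univ (⟨0, hs⟩ : Fin s)), smul_zero, smul_zero]
      generalize g₂.symm x ⟨0, hs⟩ = z
      fin_cases z <;> simp [symJ]
  refine semilinear_eq_zero h2 (by simp) (hc.irred 0)
    (φ := fun u => Q (vecIn (e.trans f') P fun a => u a.1 * w a.2)) (fun u v => ?_) (fun c u => ?_) ?_ u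
  · rw [show (fun a : Fin 2 × Fin (Fintype.card (Fin s → Fin 2)) => (u + v) a.1 * w a.2) =
        (fun a => u a.1 * w a.2) + fun a => v a.1 * w a.2 from funext fun a => add_mul _ _ _,
      map_add, apply_add, polar_vecIn, hG', pure_dot, hYw, mul_zero, add_zero]
  · rw [show (fun a : Fin 2 × Fin (Fintype.card (Fin s → Fin 2)) => (c • u) a.1 * w a.2) = c • fun a => u a.1 * w a.2 from
      funext fun a => mul_assoc _ _ _, map_smul, apply_smul, pow_two]
  · rintro _ ⟨g, hg, rfl⟩ v
    have hcoord : coord (e.trans f') P (g : Matrix ι ι F) =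
        A 0 g ⊗ₖ (1 : Matrix (Fin (Fintype.card (Fin s → Fin 2))) (Fin (Fintype.card (Fin s → Fin 2))) F) := by
      show (coord e P (g : Matrix ι ι F)).submatrix f'.symm f'.symm = _
      rw [hc.coord_eq 0 g hg, factor, hsub, Pi.mulSingle_eq_same]
      congr 1
      rw [show (fun i : Fin s => (Pi.mulSingle 0 (A 0 g) : Fin (s + 1) → Matrix (Fin 2) (Fin 2) F) i.succ) = 1 from
        funext fun i => Pi.mulSingle_eq_of_ne (Fin.succ_ne_zero i) _, map_one, Matrix.submatrix_one_equiv]
    have h1 : (A 0 g ⊗ₖ (1 : Matrix (Fin (Fintype.card (Fin s → Fin 2))) (Fin (Fintype.card (Fin s → Fin 2))) F)) *ᵥ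
        (fun a => v a.1 * w a.2) = fun a => (A 0 g *ᵥ v) a.1 * w a.2 := by
      ext ⟨i, j⟩
      simp [Matrix.mulVec, dotProduct, Fintype.sum_prod_type, Matrix.one_apply, Fin.sum_univ_two]
      ring
    rw [← h1, ← hcoord, ← mulVec_vecIn, hNQ g (hM.le 0 hg)]

/-- A tensor power of odd dimension carries a power of one symmetric form. -/
theorem orth_power_odd (h2 : (2 : F) ≠ 0) (hQ : (polarBilin Q).Nondegenerate) (hd : 2 ≤ d) (hodd : Odd d)
    (hNQ : ∀ g ∈ N, ∀ v, Q ((g : Matrix ι ι F) *ᵥ v) = Q v) (hM : IsComponents (scalars ι F) H N M)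
    (hc : FactorCoords d M e P A) (hle : H ≤ tensorWreathSubgroup d t e P) :
    ∃ (P' : GL ι F) (X : Matrix (Fin d) (Fin d) F) (c : F), c ≠ 0 ∧ IsUnit X ∧ Xᵀ = X ∧
      orGram Q e P' = c • pureT d t F (fun _ => X) ∧ H ≤ tensorWreathSubgroup d t e P' := by
  classical
  obtain ⟨S, γ, hγ, hG, hS⟩ := orth_power_split hQ hd hNQ hM hc
  have hsym : ∀ i, (S i)ᵀ = S i := by
    intro i
    obtain ⟨hu, ⟨l, hl⟩, -⟩ := hS i
    haveI : Nonempty (Fin d) := ⟨⟨0, by omega⟩⟩
    have hd0 := ((Matrix.isUnit_iff_isUnit_det _).1 hu).ne_zero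
    have h := congrArg Matrix.det hl
    rw [Matrix.det_transpose, Matrix.det_smul, Fintype.card_fin] at h
    have hld : l ^ d = 1 := mul_right_cancel₀ hd0 (h.symm.trans (one_mul _).symm)
    have hl2 : l * l = 1 := by
      obtain ⟨a, b, hab⟩ : ∃ a b, S i a b ≠ 0 := by
        by_contra! h0; exact hu.ne_zero (Matrix.ext h0)
      have h' := congrArg Matrix.transpose hl
      rw [Matrix.transpose_transpose, Matrix.transpose_smul, hl, smul_smul] at h'
      have h1 := congrFun (congrFun h' a) b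
      rw [Matrix.smul_apply, smul_eq_mul] at h1
      exact mul_right_cancel₀ hab (by rw [one_mul]; exact h1.symm)
    obtain ⟨j, hj⟩ := hodd
    rw [hj, pow_succ, pow_mul, pow_two, hl2, one_pow, one_mul] at hld
    rw [hl, hld, one_smul]
  let i₀ : Fin t := ⟨0, by have := hM.two_le; omega⟩
  have hiso : ∀ i, ∃ (μ : F) (K : GL (Fin d) F), μ ≠ 0 ∧
      S i = μ • ((K : Matrix (Fin d) (Fin d) F)ᵀ * S i₀ * (K : Matrix (Fin d) (Fin d) F)) := fun i =>
    exists_congr_odd h2 hodd (hS i₀).1 (hS i).1 (hsym i₀) (hsym i)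
  choose μ k hμ hk using hiso
  let K : GL (Fin t → Fin d) F := Units.map (pureT d t F) (MulEquiv.piUnits.symm k)
  have hKv : (K : Matrix (Fin t → Fin d) (Fin t → Fin d) F) = pureT d t F fun i => (k i : Matrix (Fin d) (Fin d) F) := rfl
  have hGK : orGram Q e P = (γ * ∏ i, μ i) • ((K : Matrix (Fin t → Fin d) (Fin t → Fin d) F)ᵀ *
      pureT d t F (fun _ => S i₀) * (K : Matrix (Fin t → Fin d) (Fin t → Fin d) F)) := by
    rw [hKv, pureT_transpose, ← map_mul, ← map_mul, hG]
    conv_lhs => rw [funext hk]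
    rw [pureT_smul, smul_smul]
    rfl
  refine ⟨P * glReindex (F := F) e.symm K⁻¹, S i₀, γ * ∏ i, μ i,
    mul_ne_zero hγ (Finset.prod_ne_zero_iff.2 fun i _ => hμ i), (hS i₀).1, hsym i₀, ?_, hle.trans (le_of_eq ?_)⟩
  · rw [orGram_mul_reindex, hGK, Matrix.mul_smul, Matrix.smul_mul, ← mul_assoc, ← mul_assoc,
      ← Matrix.transpose_mul, Units.mul_inv, Matrix.transpose_one, one_mul, mul_assoc, Units.mul_inv, mul_one]
  · exact (map_conj_eq_of_mem (Subgroup.mem_map_of_mem (glReindex (F := F) e.symm).toMonoidHom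
      ((tensorWreathStandard d t F).inv_mem (show K ∈ tensorWreathStandard d t F from
        Subgroup.subset_closure (Or.inl ⟨k, fun x y => rfl⟩))))).symm

/-- No perfect group of orthogonal transformations of a ternary space over three elements is non-trivial. -/
theorem orth_no_perfect_factor_three (hF : Fintype.card F = 3) (h2 : (2 : F) ≠ 0) (hQ : (polarBilin Q).Nondegenerate)
    (hd : d = 3) (hNQ : ∀ g ∈ N, ∀ v, Q ((g : Matrix ι ι F) *ᵥ v) = Q v) (hM : IsComponents (scalars ι F) H N M)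
    (hc : FactorCoords d M e P A) : False := by
  classical
  subst hd
  let i : Fin t := ⟨0, by have := hM.two_le; omega⟩
  obtain ⟨S, γ, hγ, hG, hS⟩ := orth_power_split hQ (by norm_num) hNQ hM hc
  obtain ⟨φ, hφinj, hφ⟩ := hc.exists_hom (by norm_num) i
  obtain ⟨hSu, ⟨l, hl⟩, -⟩ := hS i
  have hfix : ∀ g : M i, (φ g : Matrix (Fin 3) (Fin 3) F)ᵀ * S i * (φ g : Matrix (Fin 3) (Fin 3) F) = S i := by
    intro g
    have h := orGram_fix (Q := Q) e P (hNQ g (hM.le i g.2))
    rw [hc.coord_eq i g g.2, hG, Matrix.mul_smul, Matrix.smul_mul, factor_transpose, factor, factor, ← map_mul,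
      ← map_mul] at h
    have h' := smul_right_injective (Matrix (Fin t → Fin 3) (Fin t → Fin 3) F) hγ h
    have hne : pureT 3 t F S ≠ 0 := by
      haveI : Nonempty (Fin t → Fin 3) := ⟨fun _ => 0⟩
      exact ((Pi.isUnit_iff.2 fun j => (hS j).1).map (pureT 3 t F)).ne_zero
    obtain ⟨c, -, hc'⟩ := pureT_proportional h' (by rw [h']; exact hne) i
    simp only [Pi.mul_apply, Pi.mulSingle_eq_same, ← hφ] at hc'
    have hd : (φ g : Matrix (Fin 3) (Fin 3) F).det = 1 := by
      have h1 := hom_eq_one_of_perfect (hM.perfect i) (Matrix.GeneralLinearGroup.det.comp φ) g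
      have h2' := congrArg (fun u : Fˣ => (u : F)) h1
      simpa [Matrix.GeneralLinearGroup.val_det_apply] using h2'
    have hc1 : c = 1 := by
      have hd0 := ((Matrix.isUnit_iff_isUnit_det _).1 hSu).ne_zero
      have h2' := congrArg Matrix.det hc'
      rw [Matrix.det_smul, Matrix.det_mul, Matrix.det_mul, Matrix.det_transpose, hd, Fintype.card_fin] at h2'
      have hc3 : c ^ 3 = 1 := mul_right_cancel₀ hd0 (by linear_combination -h2')
      have h3 := three_eq_zero_of_card_three hF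
      have : (c - 1) ^ 3 = 0 := by linear_combination hc3 + (c - c ^ 2) * h3
      exact sub_eq_zero.1 (pow_eq_zero_iff (by norm_num) |>.1 this)
    rw [hc1, one_smul] at hc'
    exact hc'.symm
  have hsym : (S i)ᵀ = S i := by
    have hd0 := ((Matrix.isUnit_iff_isUnit_det _).1 hSu).ne_zero
    have h := congrArg Matrix.det hl
    rw [Matrix.det_transpose, Matrix.det_smul, Fintype.card_fin] at h
    have hl3 : l ^ 3 = 1 := mul_right_cancel₀ hd0 (h.symm.trans (one_mul _).symm)
    have h3 := three_eq_zero_of_card_three hF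
    have : (l - 1) ^ 3 = 0 := by linear_combination hl3 + (l - l ^ 2) * h3
    rw [hl, sub_eq_zero.1 (pow_eq_zero_iff (by norm_num) |>.1 this), one_smul]
  obtain ⟨μ, K, hμ, hK⟩ := exists_congr_odd h2 (by decide) hSu isUnit_one hsym Matrix.transpose_one
  let ψ : M i →* GL (Fin 3) F := (MulAut.conj K⁻¹).toMonoidHom.comp φ
  have hψinj : Function.Injective ψ := (MulAut.conj K⁻¹).injective.comp hφinj
  have hortho : ∀ g : M i, (ψ g : Matrix (Fin 3) (Fin 3) F)ᵀ * (ψ g : Matrix (Fin 3) (Fin 3) F) = (1 : F) • 1 := by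
    intro g
    have hψ : (ψ g : Matrix (Fin 3) (Fin 3) F) = ((K⁻¹ : GL (Fin 3) F) : Matrix (Fin 3) (Fin 3) F) *
        (φ g : Matrix (Fin 3) (Fin 3) F) * (K : Matrix (Fin 3) (Fin 3) F) := by
      show ((K⁻¹ * φ g * K⁻¹⁻¹ : GL (Fin 3) F) : Matrix (Fin 3) (Fin 3) F) = _
      rw [inv_inv, Units.val_mul, Units.val_mul]
    set Pm := (φ g : Matrix (Fin 3) (Fin 3) F) * (K : Matrix (Fin 3) (Fin 3) F) with hPm
    have h1 : μ • (Pmᵀ * S i * Pm) = 1 := by
      rw [hPm, Matrix.transpose_mul]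
      calc μ • ((K : Matrix (Fin 3) (Fin 3) F)ᵀ * (φ g : Matrix (Fin 3) (Fin 3) F)ᵀ * S i *
            ((φ g : Matrix (Fin 3) (Fin 3) F) * (K : Matrix (Fin 3) (Fin 3) F)))
          = μ • ((K : Matrix (Fin 3) (Fin 3) F)ᵀ * ((φ g : Matrix (Fin 3) (Fin 3) F)ᵀ * S i *
            (φ g : Matrix (Fin 3) (Fin 3) F)) * (K : Matrix (Fin 3) (Fin 3) F)) := by simp only [mul_assoc]
        _ = 1 := by rw [hfix g, ← hK]
    have hP' : Pm = (K : Matrix (Fin 3) (Fin 3) F) * (ψ g : Matrix (Fin 3) (Fin 3) F) := by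
      rw [hψ, mul_assoc, ← hPm, ← mul_assoc, Units.mul_inv, one_mul]
    rw [hP', Matrix.transpose_mul] at h1
    rw [one_smul]
    conv_rhs => rw [← h1]
    rw [show (ψ g : Matrix (Fin 3) (Fin 3) F)ᵀ * (K : Matrix (Fin 3) (Fin 3) F)ᵀ * S i *
        ((K : Matrix (Fin 3) (Fin 3) F) * (ψ g : Matrix (Fin 3) (Fin 3) F)) =
        (ψ g : Matrix (Fin 3) (Fin 3) F)ᵀ * ((K : Matrix (Fin 3) (Fin 3) F)ᵀ * S i * (K : Matrix (Fin 3) (Fin 3) F)) *
          (ψ g : Matrix (Fin 3) (Fin 3) F) by simp only [mul_assoc],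
      show (K : Matrix (Fin 3) (Fin 3) F)ᵀ * S i * (K : Matrix (Fin 3) (Fin 3) F) = μ⁻¹ • 1 by
        rw [hK, smul_smul, inv_mul_cancel₀ hμ, one_smul],
      Matrix.mul_smul, Matrix.smul_mul, smul_smul, mul_inv_cancel₀ hμ, one_smul, mul_one]
  have hdetne : ∀ g : M i, (ψ g : Matrix (Fin 3) (Fin 3) F).det ≠ 0 := fun g =>
    ((ψ g).isUnit.map Matrix.detMonoidHom).ne_zero
  choose f hf using fun (g : M i) (c : Fin 3) => monomial_of_three hF (hdetne g) (hortho g) c
  have hfne : ∀ g c, (ψ g : Matrix (Fin 3) (Fin 3) F) (f g c) c ≠ 0 := fun g c h0 =>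
    hdetne g (Matrix.det_eq_zero_of_column_eq_zero c fun l => by
      by_cases hl : l = f g c
      · rw [hl, h0]
      · exact hf g c l hl)
  have hfu : ∀ g c r, (ψ g : Matrix (Fin 3) (Fin 3) F) r c ≠ 0 → r = f g c := fun g c r h => by
    by_contra hr; exact h (hf g c r hr)
  have hfmul : ∀ g h c, f (g * h) c = f g (f h c) := fun g h c => by
    refine (hfu (g * h) c _ ?_).symm
    rw [map_mul, Units.val_mul, Matrix.mul_apply,
      Finset.sum_eq_single (f h c) (fun x _ hx => by rw [hf h c x hx, mul_zero]) (by simp)]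
    exact mul_ne_zero (hfne _ _) (hfne _ _)
  have hf1 : ∀ c, f 1 c = c := fun c => (hfu 1 c c (by simp)).symm
  let π : M i →* Equiv.Perm (Fin 3) :=
    { toFun := fun g => ⟨f g, f g⁻¹, fun c => by rw [← hfmul, inv_mul_cancel, hf1],
        fun c => by rw [← hfmul, mul_inv_cancel, hf1]⟩
      map_one' := Equiv.ext hf1
      map_mul' := fun g h => Equiv.ext fun c => hfmul g h c }
  have hsign : ∀ g, π g ∈ alternatingGroup (Fin 3) := fun g => by
    rw [Equiv.Perm.mem_alternatingGroup]
    exact hom_eq_one_of_perfect (hM.perfect i) (Equiv.Perm.sign.comp π) g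
  have hA3 : ∀ a b : alternatingGroup (Fin 3), a * b = b * a := by decide
  letI : CommGroup (alternatingGroup (Fin 3)) := { (inferInstance : Group (alternatingGroup (Fin 3))) with mul_comm := hA3 }
  have hπ : ∀ g c, f g c = c := fun g c => by
    have h1 := hom_eq_one_of_perfect (hM.perfect i) (π.codRestrict (alternatingGroup (Fin 3)) hsign) g
    exact congrArg (fun σ : Equiv.Perm (Fin 3) => σ c) (congrArg Subtype.val h1)
  have hdiag : ∀ g, (ψ g : Matrix (Fin 3) (Fin 3) F) = Matrix.diagonal fun c => (ψ g : Matrix (Fin 3) (Fin 3) F) c c := by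
    intro g
    ext r c
    by_cases hrc : r = c
    · subst hrc; simp
    · rw [Matrix.diagonal_apply_ne _ hrc]
      exact hf g c r (by rw [hπ]; exact hrc)
  refine hM.not_le i ?_
  have hab : ∀ g h : M i, g * h = h * g := fun g h => hψinj (Units.ext (by
    rw [map_mul, map_mul, Units.val_mul, Units.val_mul, hdiag g, hdiag h, Matrix.diagonal_mul_diagonal,
      Matrix.diagonal_mul_diagonal]
    exact congrArg _ (funext fun c => mul_comm _ _)))
  letI : CommGroup (M i) := { (inferInstance : Group (M i)) with mul_comm := hab }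
  intro g hg
  have h1 := hom_eq_one_of_perfect (hM.perfect i) (MonoidHom.id (M i)) ⟨g, hg⟩
  rw [show g = 1 from congrArg Subtype.val h1]
  exact one_mem _

end CfsgLib.Geo.Asch
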