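/-
Quadratic forms rational over a subfield.
-/
import Cfsg.Agent.Lib.Geo.Asch.OrthFrames
import Cfsg.Agent.Lib.Geo.Asch.SpForms
import Cfsg.Agent.Lib.Geo.Asch.Descent
import Cfsg.Agent.Lib.Classical.Dickson.SubgroupFacts

set_option autoImplicit false
set_option linter.unusedSectionVars false
set_option maxHeartbeats 800000

namespace CfsgLib.Geo.Asch

open Matrix Cfsg.Geo
open CfsgLib.Classical CfsgLib.Classical.Quad CfsgLib.Geo.OrthMax
open QuadraticMap (polar polarBilin)

variable {F : Type*} [Field F] [Fintype F] {ι : Type} [Fintype ι] [DecidableEq ι] {Q : QuadraticForm F (ι → F)}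

theorem pi_eq_sum_single (u : ι → F) : u = ∑ i, u i • (Pi.single i 1 : ι → F) :=
  (Finset.univ_sum_single u).symm.trans (Finset.sum_congr rfl fun i _ => by ext j; simp [Pi.single_apply])

theorem gramIn_apply (P : Matrix ι ι F) (i j : ι) :
    gramIn (polar Q) P i j = polar Q (P *ᵥ Pi.single i 1) (P *ᵥ Pi.single j 1) := rfl

/-- The form of an absolutely irreducible group written over a subfield is rational there up to a scalar. -/
theorem orth_rational_structure [Nonempty ι] (hn : 2 ≤ Fintype.card ι) (hQ : (polarBilin Q).Nondegenerate)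
    {N : Subgroup (GL ι F)} (hN : ActsAbsolutelyIrreducibly (matrixSet N))
    (hNQ : ∀ g ∈ N, ∀ v, Q ((g : Matrix ι ι F) *ᵥ v) = Q v) {F₁ : Subfield F} (P : GL ι F)
    (hP : ∀ n ∈ N, ∀ i j, (((P⁻¹ : GL ι F) : Matrix ι ι F) * (n : Matrix ι ι F) * (P : Matrix ι ι F)) i j ∈ F₁) :
    ∃ ζ : F, ζ ≠ 0 ∧ IsQuadFormRationalStructure (fun v => ζ * Q v) F₁ P := by
  classical
  obtain ⟨z, hz, hgram, -⟩ := exists_rational_gram hN polar_isSesq (polar_isNondegenerate hQ)
    (fun s hs u v => by obtain ⟨g, hg, rfl⟩ := hs; exact fixes_polar_of_isometry (hNQ g hg) u v)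
    (F₁ := F₁) (fun a ha => ha) P hP
  refine ⟨z, hz, ?_⟩
  let p : ι → (ι → F) := fun i => (P : Matrix ι ι F) *ᵥ Pi.single i 1
  have hsum : ∀ u : ι → F, (P : Matrix ι ι F) *ᵥ u = ∑ i, u i • p i := fun u => by
    conv_lhs => rw [pi_eq_sum_single u]
    rw [Matrix.mulVec_sum]
    exact Finset.sum_congr rfl fun i _ => Matrix.mulVec_smul _ _ _
  have hpol : ∀ i j, z * polar Q (p i) (p j) ∈ F₁ := hgram
  have hquad : ∀ (u : ι → F), (∀ i, u i ∈ F₁) → ∀ S : Finset ι,
      z * Q (∑ i ∈ S, u i • p i) - ∑ i ∈ S, u i * u i * (z * Q (p i)) ∈ F₁ ∧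
      ∀ j, z * polar Q (p j) (∑ i ∈ S, u i • p i) ∈ F₁ := by
    intro u hu S
    induction S using Finset.induction with
    | empty => simp
    | @insert a S ha ih =>
      refine ⟨?_, fun j => ?_⟩
      · rw [Finset.sum_insert ha, Finset.sum_insert ha, apply_add, apply_smul, QuadraticMap.polar_smul_left,
          smul_eq_mul, show z * (u a * u a * Q (p a) + Q (∑ i ∈ S, u i • p i) + u a * polar Q (p a) (∑ i ∈ S, u i • p i)) -
            (u a * u a * (z * Q (p a)) + ∑ i ∈ S, u i * u i * (z * Q (p i))) =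
            (z * Q (∑ i ∈ S, u i • p i) - ∑ i ∈ S, u i * u i * (z * Q (p i))) +
              u a * (z * polar Q (p a) (∑ i ∈ S, u i • p i)) by ring]
        exact add_mem ih.1 (mul_mem (hu a) (ih.2 a))
      · rw [Finset.sum_insert ha, QuadraticMap.polar_add_right, QuadraticMap.polar_smul_right, smul_eq_mul,
          show z * (u a * polar Q (p j) (p a) + polar Q (p j) (∑ i ∈ S, u i • p i)) =
            u a * (z * polar Q (p j) (p a)) + z * polar Q (p j) (∑ i ∈ S, u i • p i) by ring]
        exact add_mem (mul_mem (hu a) (hpol j a)) (ih.2 j)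
  suffices hq : ∀ i, z * Q (p i) ∈ F₁ by
    intro u hu
    show z * Q _ ∈ F₁
    rw [hsum]
    have h := add_mem (hquad u hu Finset.univ).1
      (sum_mem (S := F₁) fun i (_ : i ∈ Finset.univ) => mul_mem (mul_mem (hu i) (hu i)) (hq i))
    rwa [sub_add_cancel] at h
  by_cases h2 : (2 : F) = 0
  swap
  · intro i
    rw [apply_eq_half_polar h2, mul_div_assoc']
    exact div_mem (hpol i i) (natCast_mem F₁ 2)
  -- characteristic two: the part outside the subfield is invariant and semilinear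
  obtain ⟨π, hπ⟩ := LinearMap.exists_leftInverse_of_injective (Algebra.linearMap F₁ F)
    (LinearMap.ker_eq_bot.2 (algebraMap F₁ F).injective)
  let φ : F →ₗ[F₁] F := LinearMap.id - (Algebra.linearMap F₁ F).comp π
  have hφF : ∀ a ∈ F₁, φ a = 0 := fun a ha => by
    have h1 : π a = ⟨a, ha⟩ := LinearMap.congr_fun hπ ⟨a, ha⟩
    show a - ((π a : F₁) : F) = 0
    rw [h1, sub_self]
  have hφker : ∀ a, φ a = 0 → a ∈ F₁ := fun a ha => by
    rw [show a = ((π a : F₁) : F) from sub_eq_zero.1 ha]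
    exact (π a).2
  have hφs : ∀ b ∈ F₁, ∀ a, φ (b * a) = b * φ a := fun b hb a => φ.map_smul (⟨b, hb⟩ : F₁) a
  let δ : ι → F := fun i => φ (z * Q (p i))
  let D : (ι → F) → F := fun v => ∑ i, (((P⁻¹ : GL ι F) : Matrix ι ι F) *ᵥ v) i ^ 2 * δ i
  haveI : CharP F 2 := CharTwo.of_one_ne_zero_of_two_eq_zero one_ne_zero h2
  have hadd : ∀ u v, D (u + v) = D u + D v := fun u v => by
    simp only [D, Matrix.mulVec_add, Pi.add_apply, CharTwo.add_sq, add_mul, Finset.sum_add_distrib]
  have hsmul : ∀ (c : F) v, D (c • v) = c ^ 2 * D v := fun c v => by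
    simp only [D, Matrix.mulVec_smul, Pi.smul_apply, smul_eq_mul, mul_pow, Finset.mul_sum, mul_assoc]
  have hDp : ∀ i, D (p i) = δ i := fun i => by
    simp only [D, p, mulVec_inv_cancel]
    rw [Finset.sum_eq_single i (fun j _ hj => by simp [hj]) (by simp)]
    simp
  have hlin : ∀ (S : Finset ι) (c : ι → F), D (∑ i ∈ S, c i • p i) = ∑ i ∈ S, c i ^ 2 * δ i := by
    intro S c
    induction S using Finset.induction with
    | empty => simp [D]
    | @insert a S ha ih => rw [Finset.sum_insert ha, Finset.sum_insert ha, hadd, hsmul, hDp, ih]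
  have hinv : ∀ g ∈ N, ∀ v, D ((g : Matrix ι ι F) *ᵥ v) = D v := by
    intro g hg v
    have hcol : ∀ j, D ((g : Matrix ι ι F) *ᵥ p j) = δ j := by
      intro j
      set u : ι → F := fun i => (((P⁻¹ : GL ι F) : Matrix ι ι F) * (g : Matrix ι ι F) * (P : Matrix ι ι F)) i j with hu'
      have hu : ∀ i, u i ∈ F₁ := fun i => hP g hg i j
      have hgp : (g : Matrix ι ι F) *ᵥ p j = ∑ i, u i • p i := by
        have hu2 : u = (((P⁻¹ : GL ι F) : Matrix ι ι F) * (g : Matrix ι ι F) * (P : Matrix ι ι F)) *ᵥ Pi.single j 1 := by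
          funext i
          simp [hu', Matrix.mulVec_single_one]
        rw [← hsum, hu2]
        simp only [p, Matrix.mulVec_mulVec, ← mul_assoc, Units.mul_inv, one_mul]
      have h1 := hφF _ (hquad u hu Finset.univ).1
      rw [← hgp, hNQ g hg, map_sub, map_sum, sub_eq_zero] at h1
      rw [hgp, hlin]
      refine Eq.trans ?_ h1.symm
      exact Finset.sum_congr rfl fun i _ => by rw [hφs _ (mul_mem (hu i) (hu i)), pow_two]
    have hv : v = ∑ i, (((P⁻¹ : GL ι F) : Matrix ι ι F) *ᵥ v) i • p i := by rw [← hsum, inv_mulVec_cancel]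
    generalize (((P⁻¹ : GL ι F) : Matrix ι ι F) *ᵥ v) = c at hv
    subst hv
    rw [hlin, Matrix.mulVec_sum]
    have : ∀ S : Finset ι, D (∑ i ∈ S, (g : Matrix ι ι F) *ᵥ c i • p i) = ∑ i ∈ S, c i ^ 2 * δ i := by
      intro S
      induction S using Finset.induction with
      | empty => simp [D]
      | @insert a S ha ih => rw [Finset.sum_insert ha, Finset.sum_insert ha, hadd, Matrix.mulVec_smul, hsmul, hcol, ih]
    exact this _
  have h0 := semilinear_eq_zero h2 hn hN.1 hadd hsmul (by rintro _ ⟨g, hg, rfl⟩ v; exact hinv g hg v)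
  intro i
  exact hφker _ ((hDp i).symm.trans (h0 (p i)))

/-- In odd dimension the scalar of a rational structure can be absorbed. -/
theorem rational_of_odd (h2 : (2 : F) ≠ 0) (hQ : (polarBilin Q).Nondegenerate) {k : ℕ}
    (hk : Fintype.card ι = 2 * k + 1) {F₁ : Subfield F} (hstd : ∀ i j, gramIn (polar Q) (1 : Matrix ι ι F) i j ∈ F₁)
    {P : GL ι F} {ζ : F} (hζ : ζ ≠ 0) (hrat : IsQuadFormRationalStructure (fun v => ζ * Q v) F₁ P) :
    ∃ P' : GL ι F, IsQuadFormRationalStructure (⇑Q) F₁ P' ∧ subfieldSubgroup F₁ P' = subfieldSubgroup F₁ P := by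
  classical
  set d := (P : Matrix ι ι F).det
  have hd0 : d ≠ 0 := (P.isUnit.map Matrix.detMonoidHom).ne_zero
  have hD0 : (gramQ Q).det ≠ 0 := ((Matrix.isUnit_iff_isUnit_det _).1 (isUnit_gramQ hQ)).ne_zero
  have hs01 : ∀ i x, (Pi.single i 1 : ι → F) x ∈ F₁ := fun i x => by
    rw [Pi.single_apply]; split_ifs <;> [exact one_mem _; exact zero_mem _]
  have hG : ∀ i j, ζ * gramIn (polar Q) (P : Matrix ι ι F) i j ∈ F₁ := by
    intro i j
    rw [gramIn_apply, QuadraticMap.polar, ← Matrix.mulVec_add, mul_sub, mul_sub]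
    exact sub_mem (sub_mem (hrat _ fun x => add_mem (hs01 i x) (hs01 j x)) (hrat _ (hs01 i))) (hrat _ (hs01 j))
  have hdet : (ζ • gramIn (polar Q) (P : Matrix ι ι F)).det ∈ F₁ := det_mem_subfield fun i j => hG i j
  have e1 : (gramIn (polar Q) (P : Matrix ι ι F)).det = d * d * (gramQ Q).det := by
    have h := det_orGram (Q := Q) (Equiv.refl ι) P
    rwa [orGram, Equiv.refl_symm, Equiv.coe_refl, Matrix.submatrix_id_id] at h
  rw [Matrix.det_smul, hk, e1] at hdet
  have ha : ζ * (d * ζ ^ k) ^ 2 ∈ F₁ := by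
    have h := div_mem hdet (det_mem_subfield hstd)
    rwa [show ζ ^ (2 * k + 1) * (d * d * (gramQ Q).det) / (gramIn (polar Q) (1 : Matrix ι ι F)).det =
      ζ * (d * ζ ^ k) ^ 2 by
        rw [show gramIn (polar Q) (1 : Matrix ι ι F) = gramQ Q from rfl, div_eq_iff hD0]
        ring] at h
  have hs0 : d * ζ ^ k ≠ 0 := mul_ne_zero hd0 (pow_ne_zero _ hζ)
  let s : Fˣ := Units.mk0 (d * ζ ^ k)⁻¹ (inv_ne_zero hs0)
  let c : GL ι F := Units.map (Matrix.scalar ι : F →+* Matrix ι ι F).toMonoidHom s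
  have hc : c ∈ scalars ι F := ⟨s, rfl⟩
  refine ⟨P * c, fun u hu => ?_, subfieldSubgroup_mul_scalar F₁ P hc⟩
  have hPc : ((P * c : GL ι F) : Matrix ι ι F) *ᵥ u = (d * ζ ^ k)⁻¹ • ((P : Matrix ι ι F) *ᵥ u) := by
    rw [Units.val_mul, show (c : Matrix ι ι F) = (d * ζ ^ k)⁻¹ • 1 by simp [c, s, Matrix.smul_one_eq_diagonal],
      Matrix.mul_smul, mul_one, Matrix.smul_mulVec]
  rw [hPc, apply_smul,
    show (d * ζ ^ k)⁻¹ * (d * ζ ^ k)⁻¹ * Q ((P : Matrix ι ι F) *ᵥ u) =
      (ζ * Q ((P : Matrix ι ι F) *ᵥ u)) / (ζ * (d * ζ ^ k) ^ 2) by field_simp]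
  exact div_mem (hrat u hu) ha

/-- Quadratic equations over a subfield of index two are soluble. -/
theorem exists_root_of_index_two {F₀ : Subfield F} (hc : Fintype.card F = Nat.card F₀ ^ 2) (ζ : F₀)
    (hζ : ∀ t : F₀, t ^ 2 + t + ζ ≠ 0) : ∃ t : F, t ^ 2 + t + (ζ : F) = 0 := by
  classical
  set q := Nat.card F₀ with hq
  haveI : Fintype F₀ := Fintype.ofFinite F₀
  obtain ⟨p, hp⟩ := CharP.exists F
  haveI := hp
  haveI : Fact p.Prime := ⟨CharP.char_is_prime F p⟩
  haveI : CharP F₀ p := ⟨fun x => by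
    rw [← CharP.cast_eq_zero_iff F p x, ← Subtype.coe_inj]; simp⟩
  obtain ⟨e, -, hqe⟩ := FiniteField.card F₀ p
  rw [← Nat.card_eq_fintype_card, ← hq] at hqe
  have hfr : ∀ a b : F, (a + b) ^ q = a ^ q + b ^ q := fun a b => by rw [hqe, add_pow_char_pow]
  have hiff : ∀ x : F, x ∈ F₀ ↔ x ^ q = x := fun x => CfsgLib.Classical.Dickson.mem_subfield_iff_pow
  have hqq : ∀ x : F, (x ^ q) ^ q = x := fun x => by rw [← pow_mul, ← pow_two, ← hc, FiniteField.pow_card]
  obtain ⟨ω₀, hω₀⟩ : ∃ ω : F, ω ∉ F₀ := by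
    by_contra! h
    have h1 : q = Fintype.card F := by
      rw [hq, ← Nat.card_eq_fintype_card]
      exact Nat.card_congr (Equiv.subtypeUnivEquiv h)
    have h2 : 1 < q := by rw [h1]; exact Fintype.one_lt_card
    rw [← h1] at hc
    nlinarith
  obtain ⟨ω, hω, hs⟩ : ∃ ω : F, ω ∉ F₀ ∧ ω + ω ^ q ≠ 0 := by
    by_cases h : ω₀ + ω₀ ^ q = 0
    swap
    · exact ⟨ω₀, hω₀, h⟩
    refine ⟨ω₀ + 1, fun hm => hω₀ (by simpa using sub_mem hm (one_mem F₀)), ?_⟩
    rw [hfr, one_pow]
    intro h'
    have h2 : (2 : F) = 0 := by linear_combination h' - h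
    refine hω₀ ((hiff _).2 ?_)
    linear_combination h - ω₀ * h2
  set s := ω + ω ^ q with hsdef
  set π := ω * ω ^ q with hπ
  have hsF : s ∈ F₀ := (hiff _).2 (by rw [hsdef, hfr, hqq]; ring)
  have hπF : π ∈ F₀ := (hiff _).2 (by rw [hπ, mul_pow, hqq]; ring)
  set η : F₀ := ⟨π / (s * s), div_mem hπF (mul_mem hsF hsF)⟩
  have hη : ∀ u : F₀, u ^ 2 + u + η ≠ 0 := by
    intro u hu
    have hu' : (u : F) ^ 2 + (u : F) + π / (s * s) = 0 := by
      have := congrArg (fun z : F₀ => (z : F)) hu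
      simpa [η] using this
    have h1 : (-(s * (u : F)) - ω) * (-(s * (u : F)) - ω ^ q) = 0 := by
      have h3 : s * s * ((u : F) ^ 2 + (u : F)) + π = 0 := by
        field_simp at hu'
        linear_combination hu'
      linear_combination h3 + (s * (u : F)) * (-hsdef) + (-hπ)
    rcases mul_eq_zero.1 h1 with h | h
    · exact hω (by rw [← sub_eq_zero.1 h]; exact neg_mem (mul_mem hsF u.2))
    · refine hω ?_
      rw [show ω = s - ω ^ q by rw [hsdef]; ring, ← sub_eq_zero.1 h]
      exact sub_mem hsF (neg_mem (mul_mem hsF u.2))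
  obtain ⟨r, v, -, hrv, hζe⟩ := CfsgLib.Known.QuadClassify.exists_shift hη hζ
  have hrv' : 2 * (v : F) + (r : F) = 1 := by
    have h := congrArg (fun z : F₀ => (z : F)) hrv
    push_cast at h
    exact h
  have hζ' : (v : F) ^ 2 + (v : F) * (r : F) + π / (s * s) * (r : F) ^ 2 = (ζ : F) := by
    have h := congrArg (fun z : F₀ => (z : F)) hζe
    simpa [η] using h
  have ht : (-ω / s) ^ 2 + (-ω / s) + π / (s * s) = 0 := by
    field_simp
    linear_combination hπ - ω * hsdef
  exact ⟨(r : F) * (-ω / s) - (v : F), by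
    linear_combination (r : F) ^ 2 * ht + ((v : F) - (r : F) * (-ω / s)) * hrv' - hζ'⟩

/-- A structure over a subfield of index two has plus type. -/
theorem plus_of_rational (hQ : (polarBilin Q).Nondegenerate) {N : ℕ} (hN : Fintype.card ι = 2 * N) {F₀ : Subfield F}
    (hc : Fintype.card F = Nat.card F₀ ^ 2) {ζ : F} (hζ : ζ ≠ 0) {P : GL ι F}
    (hrat : IsQuadFormRationalStructure (fun v => ζ * Q v) F₀ P) : IsPlusTypeOn (⇑Q) ⊤ := by
  classical
  let L : (ι → F₀) → (ι → F) := fun u => (P : Matrix ι ι F) *ᵥ fun i => (u i : F)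
  have hLadd : ∀ u v, L (u + v) = L u + L v := fun u v => by
    simp only [L, ← Matrix.mulVec_add]
    rfl
  have hLsmul : ∀ (a : F₀) u, L (a • u) = (a : F) • L u := fun a u => by
    simp only [L, ← Matrix.mulVec_smul]
    rfl
  let f : (ι → F₀) → F₀ := fun u => ⟨ζ * Q (L u), hrat _ fun i => (u i).2⟩
  have hfv : ∀ u, (f u : F) = ζ * Q (L u) := fun u => rfl
  have hpv : ∀ u v, ((polar f u v : F₀) : F) = ζ * polar Q (L u) (L v) := fun u v => by
    simp only [QuadraticMap.polar]
    push_cast [hfv, hLadd]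
    ring
  have hf : IsNondegenerateQuadraticForm f := by
    refine ⟨fun c v => Subtype.ext ?_, ⟨fun x y v => Subtype.ext ?_, fun c x v => Subtype.ext ?_,
      fun v x y => Subtype.ext ?_, fun c v x => Subtype.ext ?_⟩, fun v hv => ?_⟩
    · push_cast [hfv]; rw [hLsmul, apply_smul]; ring
    · push_cast [hpv]; rw [hLadd, QuadraticMap.polar_add_left]; ring
    · push_cast [hpv]; rw [hLsmul, QuadraticMap.polar_smul_left, smul_eq_mul]; ring
    · push_cast [hpv]; rw [hLadd, QuadraticMap.polar_add_right]; ring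
    · push_cast [hpv]; rw [hLsmul, QuadraticMap.polar_smul_right, smul_eq_mul]; ring
    · obtain ⟨i, hi⟩ : ∃ i, polar Q (L v) ((P : Matrix ι ι F) *ᵥ Pi.single i 1) ≠ 0 := by
        by_contra! h
        have h0 : L v = 0 := hQ.1 _ fun z => by
          show polar Q (L v) z = 0
          rw [← inv_mulVec_cancel P z, pi_eq_sum_single (((P⁻¹ : GL ι F) : Matrix ι ι F) *ᵥ z), Matrix.mulVec_sum]
          simp only [Matrix.mulVec_smul]
          show polarBilin Q (L v) _ = 0
          rw [map_sum]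
          exact Finset.sum_eq_zero fun i _ => by rw [map_smul]; show _ • polar Q _ _ = 0; rw [h, smul_zero]
        refine hv (funext fun i => Subtype.ext ?_)
        have := congrArg (fun w => ((P⁻¹ : GL ι F) : Matrix ι ι F) *ᵥ w) h0
        simp only [L, mulVec_inv_cancel, Matrix.mulVec_zero] at this
        exact congrFun this i
      have hL1 : L (Pi.single i 1) = (P : Matrix ι ι F) *ᵥ Pi.single i 1 := by
        simp only [L]
        congr 1
        ext x
        simp [Pi.single_apply, apply_ite (fun z : F₀ => (z : F))]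
      have hne : polar f v (Pi.single i 1) ≠ 0 := fun e => hi (by
        have h1 := hpv v (Pi.single i 1)
        rw [e, ZeroMemClass.coe_zero, hL1] at h1
        exact (mul_eq_zero.1 h1.symm).resolve_left hζ)
      exact ⟨⟨Pi.single i 1, by rwa [QuadraticMap.polar_comm]⟩, ⟨Pi.single i 1, hne⟩⟩
  obtain ⟨q₀, hq₀f, hq₀⟩ := exists_quadraticForm hf
  have hsing : ∀ {κ : Type} [Fintype κ] (w : κ → ι → F), LinearIndependent F w → Fintype.card κ = N →
      (∀ a, Q (w a) = 0) → (∀ a b, a ≠ b → polar Q (w a) (w b) = 0) → IsPlusTypeOn (⇑Q) ⊤ := by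
    intro κ _ w hli hcard hQw hpw
    refine ⟨Submodule.span F (Set.range w), le_top, fun x hx => ?_, ?_⟩
    · obtain ⟨c, rfl⟩ := (Submodule.mem_span_range_iff_exists_fun F).1 hx
      suffices h : ∀ S : Finset κ, Q (∑ a ∈ S, c a • w a) = 0 ∧ ∀ b ∉ S, polar Q (w b) (∑ a ∈ S, c a • w a) = 0 from (h _).1
      intro S
      induction S using Finset.induction with
      | empty => simp
      | @insert a S ha ih =>
        refine ⟨?_, fun b hb => ?_⟩
        · rw [Finset.sum_insert ha, apply_add, apply_smul, hQw, ih.1, QuadraticMap.polar_smul_left, ih.2 a ha]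
          simp
        · rw [Finset.sum_insert ha, QuadraticMap.polar_add_right, QuadraticMap.polar_smul_right,
            hpw b a (fun e => hb (e ▸ Finset.mem_insert_self _ _)), ih.2 b (fun h => hb (Finset.mem_insert_of_mem h))]
          simp
    · rw [finrank_span_eq_card hli, hcard, finrank_top, Module.finrank_pi, hN]
  have hdim : Module.finrank F₀ (ι → F₀) = 2 * N := by rw [Module.finrank_pi, hN]
  have lift_li : ∀ {κ : Type} [Fintype κ] (v : Module.Basis κ F₀ (ι → F₀)), LinearIndependent F fun a => L (v a) := by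
    intro κ _ v
    have hcard : Fintype.card κ = Fintype.card ι := by
      rw [← Module.finrank_eq_card_basis v, Module.finrank_pi]
    apply linearIndependent_of_top_le_span_of_card_eq_finrank ?_ (by rw [hcard, Module.finrank_pi])
    intro z _
    have hmem : ∀ u, L u ∈ Submodule.span F (Set.range fun a => L (v a)) := by
      intro u
      rw [← v.sum_repr u]
      induction (Finset.univ : Finset κ) using Finset.induction with
      | empty =>
        have h0 : L 0 = 0 := by
          show (P : Matrix ι ι F) *ᵥ (0 : ι → F) = 0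
          exact Matrix.mulVec_zero _
        simp [h0]
      | @insert a S ha ih =>
        rw [Finset.sum_insert ha, hLadd, hLsmul]
        exact Submodule.add_mem _ (Submodule.smul_mem _ _ (Submodule.subset_span ⟨a, rfl⟩)) ih
    rw [← inv_mulVec_cancel P z, pi_eq_sum_single (((P⁻¹ : GL ι F) : Matrix ι ι F) *ᵥ z), Matrix.mulVec_sum]
    refine Submodule.sum_mem _ fun i _ => ?_
    rw [Matrix.mulVec_smul]
    refine Submodule.smul_mem _ _ ?_
    convert hmem (Pi.single i 1) using 1
    simp only [L]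
    congr 1
    ext x
    simp [Pi.single_apply, apply_ite (fun z : F₀ => (z : F))]
  have hval : ∀ u, ζ * Q (L u) = ((q₀ u : F₀) : F) := fun u => by rw [show q₀ u = f u from congrFun hq₀f u]
  have hpol : ∀ u v, ζ * polar Q (L u) (L v) = ((polar q₀ u v : F₀) : F) := fun u v => by
    rw [show polar q₀ u v = polar f u v by rw [hq₀f], hpv]
  rcases CfsgLib.Known.QuadClassify.classify_even hdim q₀ hq₀ with ⟨E, hE⟩ | ⟨hN1, η, E, hη, hE⟩
  · let B := (Pi.basisFun F₀ (Fin N ⊕ Fin N)).map E
    refine hsing (fun a : Fin N => L (B (Sum.inl a))) ((lift_li B).comp _ Sum.inl_injective) (Fintype.card_fin N)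
      (fun a => ?_) (fun a b hab => ?_)
    · refine (mul_eq_zero.1 ((hval _).trans ?_)).resolve_left hζ
      rw [Module.Basis.map_apply, Pi.basisFun_apply, hE]
      simp [Cfsg.quadFormPlus]
    · refine (mul_eq_zero.1 ((hpol _ _).trans ?_)).resolve_left hζ
      simp only [QuadraticMap.polar, B, Module.Basis.map_apply, Pi.basisFun_apply, ← map_add, hE]
      simp [Cfsg.quadFormPlus]
  · let B := (Pi.basisFun F₀ ((Fin (N - 1) ⊕ Fin (N - 1)) ⊕ Fin 2)).map E
    obtain ⟨t, ht⟩ := exists_root_of_index_two hc η hη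
    let w : Fin (N - 1) ⊕ Unit → ι → F := Sum.elim (fun a => L (B (Sum.inl (Sum.inl a))))
      (fun _ => t • L (B (Sum.inr 0)) + L (B (Sum.inr 1)))
    have hv : ∀ x, ζ * Q (L (B x)) = ((Cfsg.quadFormMinus (N - 1) F₀ 1 η (Pi.single x 1) : F₀) : F) := fun x => by
      rw [hval, Module.Basis.map_apply, Pi.basisFun_apply, hE]
    have hp : ∀ x y, ζ * polar Q (L (B x)) (L (B y)) =
        ((Cfsg.quadFormMinus (N - 1) F₀ 1 η (Pi.single x 1 + Pi.single y 1) - Cfsg.quadFormMinus (N - 1) F₀ 1 η (Pi.single x 1) -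
          Cfsg.quadFormMinus (N - 1) F₀ 1 η (Pi.single y 1) : F₀) : F) := fun x y => by
      rw [hpol]
      simp only [QuadraticMap.polar, B, Module.Basis.map_apply, Pi.basisFun_apply, ← map_add, hE]
    have hQw : ∀ a, Q (w a) = 0 := by
      rintro (a | a) <;> refine (mul_eq_zero.1 ?_).resolve_left hζ
      · show ζ * Q (L (B _)) = 0
        rw [hv]; simp [Cfsg.quadFormMinus, Cfsg.quadFormPlus]
      · show ζ * Q (t • L (B (Sum.inr 0)) + L (B (Sum.inr 1))) = 0
        have e0 := hv (Sum.inr 0)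
        have e1 := hv (Sum.inr 1)
        have e2 := hp (Sum.inr 0) (Sum.inr 1)
        simp [Cfsg.quadFormMinus, Cfsg.quadFormPlus] at e0 e1 e2
        rw [apply_add, apply_smul, QuadraticMap.polar_smul_left, smul_eq_mul]
        linear_combination (t * t) * e0 + e1 + t * e2 + ht
    refine hsing w ?_ (by simp; omega) hQw ?_
    · refine Fintype.linearIndependent_iff.2 fun c hc' => ?_
      have hli := Fintype.linearIndependent_iff.1 (lift_li B)
        (Sum.elim (Sum.elim (fun a => c (Sum.inl a)) 0) ![c (Sum.inr ()) * t, c (Sum.inr ())]) (by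
          rw [← hc']
          simp [w, Fintype.sum_sum_type, Fin.sum_univ_two, smul_add, smul_smul])
      rintro (a | a)
      · exact hli (Sum.inl (Sum.inl a))
      · exact hli (Sum.inr 1)
    · have h01 : ∀ a : Fin (N - 1), polar Q (L (B (Sum.inl (Sum.inl a))))
          (t • L (B (Sum.inr 0)) + L (B (Sum.inr 1))) = 0 := fun a => by
        refine ((mul_eq_zero (a := ζ)).1 ?_).resolve_left hζ
        rw [QuadraticMap.polar_add_right, QuadraticMap.polar_smul_right, smul_eq_mul, mul_add, mul_left_comm, hp, hp]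
        simp [Cfsg.quadFormMinus, Cfsg.quadFormPlus]
      rintro (a | a) (b | b) hab
      · refine ((mul_eq_zero (a := ζ)).1 ?_).resolve_left hζ
        show ζ * polar Q (L (B _)) (L (B _)) = 0
        rw [hp]; simp [Cfsg.quadFormMinus, Cfsg.quadFormPlus]
      · exact h01 a
      · exact (QuadraticMap.polar_comm _ _ _).trans (h01 b)
      · exact absurd rfl hab

end CfsgLib.Geo.Asch
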