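/-
Symplectic-type normal subgroups of orthogonal groups.
-/
import Cfsg.Agent.Lib.Geo.Asch.OrthFrames
import Cfsg.Agent.Lib.Geo.Asch.SympGroup

set_option autoImplicit false
set_option linter.unusedSectionVars false
set_option maxHeartbeats 800000

namespace CfsgLib.Geo.Asch

open Matrix Cfsg.Geo
open CfsgLib.Classical CfsgLib.Classical.Quad CfsgLib.Geo.OrthMax
open QuadraticMap (polar polarBilin)

variable {F : Type*} [Field F] [Fintype F] {ι : Type} [Fintype ι] [DecidableEq ι] {Q : QuadraticForm F (ι → F)}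

/-- A scalar fixing a non-degenerate quadratic form is a sign. -/
theorem scalar_sq_one [Nonempty ι] (hQ : (polarBilin Q).Nondegenerate) {g : GL ι F} {c : F}
    (hg : ∀ v, Q ((g : Matrix ι ι F) *ᵥ v) = Q v) (hc : (g : Matrix ι ι F) = c • 1) : c * c = 1 := by
  obtain ⟨v, hv⟩ := exists_ne (0 : ι → F)
  obtain ⟨x, hx⟩ : ∃ x, polar Q v x ≠ 0 := by
    by_contra! h; exact hv (hQ.1 v h)
  have h := fixes_polar_of_isometry hg v x
  rw [hc, Matrix.smul_mulVec, Matrix.smul_mulVec, Matrix.one_mulVec, Matrix.one_mulVec, QuadraticMap.polar_smul_left,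
    QuadraticMap.polar_smul_right, smul_eq_mul, smul_eq_mul, ← mul_assoc] at h
  exact mul_right_cancel₀ hx (h.trans (one_mul _).symm)

/-- Symplectic-type normal subgroups occur only in dimension a power of two, and then with plus type. -/
theorem orth_symp_plus (hQ : (polarBilin Q).Nondegenerate) (hn : 7 ≤ Fintype.card ι) {H N : Subgroup (GL ι F)}
    (h : ScalarComm' H N) (hNQ : ∀ g ∈ N, ∀ v, Q ((g : Matrix ι ι F) *ᵥ v) = Q v) :
    ∃ k, Fintype.card ι = 2 ^ k ∧ IsPlusTypeOn (⇑Q) ⊤ := by
  classical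
  haveI : Nonempty ι := Fintype.card_pos_iff.1 (by omega)
  haveI : Finite (GL ι F) := Finite.of_injective (fun g : GL ι F => (g : Matrix ι ι F)) Units.val_injective
  obtain ⟨r, m, z, hr, hr0, hm, hcard, -, hz, hcardN, hcases, -, htr, -⟩ := h.structure_thm (by omega)
  let mat : N → Matrix ι ι F := fun x => ((x : GL ι F) : Matrix ι ι F)
  have hmm : ∀ x y : N, mat (x * y) = mat x * mat y := fun x y => rfl
  have hinjm : Function.Injective mat := fun x y e => Subtype.ext (Units.ext e)
  have hcent : ∀ x : N, x ∈ Subgroup.center N → mat x = 1 ∨ mat x = -1 := by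
    intro x hx
    obtain ⟨c, hc⟩ := (mem_scalars_iff _).1 ((h.center_eq x).1 hx)
    rcases mul_self_eq_one_iff.1 (scalar_sq_one hQ (hNQ _ x.2) hc) with e | e
    · left; show (x.1 : Matrix ι ι F) = 1; rw [hc, e, one_smul]
    · right; show (x.1 : Matrix ι ι F) = -1; rw [hc, e, neg_one_smul]
  rcases hcases with ⟨hrodd, rfl⟩ | ⟨rfl, hz24⟩
  · exfalso
    have hone : ∀ x : N, x ∈ Subgroup.center N → x = 1 := by
      intro x hx
      have hpow : x ^ z = 1 := by
        have h1 := pow_card_eq_one' (G := Subgroup.center N) (x := ⟨x, hx⟩)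
        rw [hz] at h1
        exact congrArg Subtype.val h1
      have hsq : x * x = 1 := by
        refine hinjm ?_
        rw [hmm]
        rcases hcent x hx with e | e <;> rw [e] <;> simp [mat]
      obtain ⟨j, hj⟩ := hrodd
      rwa [hj, pow_succ, pow_mul, pow_two, hsq, one_pow, one_mul] at hpow
    have : Nat.card (Subgroup.center N) = 1 := by
      rw [Subgroup.card_eq_one, Subgroup.eq_bot_iff_forall]
      exact hone
    rw [hz] at this
    exact hr.one_lt.ne' this
  have h2 : (2 : F) ≠ 0 := by exact_mod_cast hr0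
  refine ⟨m, hcard, ?_⟩
  have hcomm : ∀ x y : N, mat y * mat x = mat x * mat y ∨ mat y * mat x = -(mat x * mat y) := by
    intro x y
    obtain ⟨c, hc, e⟩ := h.commutator_central x y
    have e' := congrArg mat e
    rw [hmm, hmm, hmm] at e'
    rcases hcent c hc with e1 | e1 <;> rw [e1] at e'
    · left; rw [e', one_mul]
    · right; rw [e', neg_one_mul]
  have hsqc : ∀ x : N, x * x ∈ Subgroup.center N := fun x => Subgroup.mem_center_iff.2 fun y => hinjm (by
    simp only [hmm]
    rcases hcomm x y with e | e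
    · rw [← mul_assoc, e, mul_assoc, e, ← mul_assoc]
    · rw [← mul_assoc, e, neg_mul, mul_assoc, e, mul_neg, neg_neg, ← mul_assoc])
  have hsq : ∀ x : N, mat x * mat x = 1 ∨ mat x * mat x = -1 := fun x => by
    rw [← hmm]
    exact hcent _ (hsqc x)
  have hncent : ∀ x : N, x ∉ Subgroup.center N → mat x ≠ 1 ∧ mat x ≠ -1 := by
    intro x hx
    refine ⟨fun e => hx (Subgroup.mem_center_iff.2 fun y => hinjm ?_),
      fun e => hx (Subgroup.mem_center_iff.2 fun y => hinjm ?_)⟩
    · rw [hmm, hmm, e, mul_one, one_mul]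
    · rw [hmm, hmm, e, mul_neg, neg_mul, mul_one, one_mul]
  have hanti : ∀ x : N, x ∉ Subgroup.center N → ∃ y : N, mat y * mat x = -(mat x * mat y) := by
    intro x hx
    by_contra! hall
    exact hx (Subgroup.mem_center_iff.2 fun y => hinjm (by
      rw [hmm, hmm]
      exact (hcomm x y).resolve_right (hall y)))
  obtain ⟨x, hxc, hxx⟩ : ∃ x : N, x ∉ Subgroup.center N ∧ mat x * mat x = 1 := by
    by_contra! hall
    have hm1 : ∀ a : N, a ∉ Subgroup.center N → mat a * mat a = -1 := fun a ha => (hsq a).resolve_left (hall a ha)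
    obtain ⟨x, hx⟩ : ∃ x : N, x ∉ Subgroup.center N := by
      by_contra! hall'
      have : Subgroup.center N = ⊤ := eq_top_iff.2 fun a _ => hall' a
      have h1 := hcardN
      rw [this, Subgroup.card_top] at hz
      rw [hz] at h1
      have h3 : 0 < z := by rw [← hz]; exact Nat.card_pos
      have : Fintype.card ι ^ 2 = 1 := Nat.eq_of_mul_eq_mul_left h3 (by rw [mul_one]; exact h1.symm)
      nlinarith
    obtain ⟨y, hy⟩ := hanti x hx
    let q := QuotientGroup.mk' (Subgroup.center N)
    have hker : ∀ a : N, a ∈ Subgroup.center N → q a = 1 := fun a ha => (QuotientGroup.eq_one_iff a).2 ha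
    have hEc : ∀ A B : N ⧸ Subgroup.center N, A * B = B * A := by
      intro A B
      obtain ⟨a, rfl⟩ := QuotientGroup.mk'_surjective _ A
      obtain ⟨b, rfl⟩ := QuotientGroup.mk'_surjective _ B
      obtain ⟨c, hc, e⟩ := h.commutator_central b a
      rw [← map_mul, ← map_mul, e, map_mul _ c, hker c hc, one_mul]
    have hE2 : ∀ A : N ⧸ Subgroup.center N, A * A = 1 := by
      intro A
      obtain ⟨a, rfl⟩ := QuotientGroup.mk'_surjective _ A
      rw [← map_mul]
      exact hker _ (hsqc a)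
    have hE3 : ∀ A B : N ⧸ Subgroup.center N, A * (A * B) = B := fun A B => by rw [← mul_assoc, hE2, one_mul]
    let S : Set N := {w | q w = 1 ∨ q w = q x ∨ q w = q y ∨ q w = q x * q y}
    have hS : ∀ w : N, w ∈ S := by
      intro w
      by_contra hw
      have hmul : ∀ b : N, (q b = q x ∨ q b = q y ∨ q b = q x * q y) → w * b ∉ S := by
        intro b hb hmem
        apply hw
        have e : q w = q (w * b) * q b := by rw [map_mul, mul_assoc, hE2, mul_one]
        have hlc : ∀ A B C : N ⧸ Subgroup.center N, A * (B * C) = B * (A * C) := fun A B C => by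
          rw [← mul_assoc, hEc A B, mul_assoc]
        show q w = 1 ∨ q w = q x ∨ q w = q y ∨ q w = q x * q y
        rw [e]
        rcases hmem with h1 | h1 | h1 | h1 <;> rcases hb with h2 | h2 | h2 <;> rw [h1, h2] <;>
          simp [hE2, hE3, mul_assoc, hEc (q y) (q x), hlc (q y) (q x)]
      obtain ⟨w', hw', hw'x, hw'y⟩ : ∃ w' : N, w' ∉ S ∧ mat w' * mat x = mat x * mat w' ∧ mat w' * mat y = mat y * mat w' := by
        have hxy2 : mat x * mat y = -(mat y * mat x) := by rw [hy, neg_neg]
        rcases hcomm x w with ex | ex <;> rcases hcomm y w with ey | ey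
        · exact ⟨w, hw, ex, ey⟩
        · refine ⟨w * x, hmul x (Or.inl rfl), ?_, ?_⟩
          · rw [hmm, ← mul_assoc (mat x), ← ex]
          · rw [hmm, mul_assoc, hxy2, mul_neg, ← mul_assoc, ey, neg_mul, neg_neg, mul_assoc]
        · refine ⟨w * y, hmul y (Or.inr (Or.inl rfl)), ?_, ?_⟩
          · rw [hmm, mul_assoc, hy, mul_neg, ← mul_assoc, ex, neg_mul, neg_neg, mul_assoc]
          · rw [hmm, ← mul_assoc (mat y), ← ey]
        · refine ⟨w * (x * y), hmul (x * y) (Or.inr (Or.inr (map_mul q x y))), ?_, ?_⟩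
          · have hxw : mat x * mat w = -(mat w * mat x) := by rw [ex, neg_neg]
            rw [hmm, hmm, ← mul_assoc (mat x) (mat w), hxw, neg_mul, mul_assoc (mat w), mul_assoc (mat x) (mat y), hy]
            simp only [mul_neg, mul_assoc]
          · have hyw : mat y * mat w = -(mat w * mat y) := by rw [ey, neg_neg]
            rw [hmm, hmm, ← mul_assoc (mat y) (mat w), hyw, neg_mul, mul_assoc (mat w) (mat y), ← mul_assoc (mat y), hy]
            simp only [neg_mul, mul_neg, neg_neg, mul_assoc]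
      have hwnc : w' ∉ Subgroup.center N := fun hc => hw' (Or.inl (hker _ hc))
      have hxwnc : x * w' ∉ Subgroup.center N := fun hc => by
        refine hw' (Or.inr (Or.inl ?_))
        have h1 := hker _ hc
        rw [map_mul] at h1
        rw [← hE3 (q x) (q w'), h1, mul_one]
      refine hall (x * w') hxwnc ?_
      rw [hmm, mul_assoc (mat x), ← mul_assoc (mat w'), hw'x, mul_assoc (mat x) (mat w'), ← mul_assoc (mat x) (mat x),
        hm1 x hx, hm1 w' hwnc, neg_one_mul, neg_neg]
    have hle : Nat.card (N ⧸ Subgroup.center N) ≤ 4 := by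
      rw [← Set.ncard_univ]
      have hsub : (Set.univ : Set (N ⧸ Subgroup.center N)) ⊆ ({1, q x, q y, q x * q y} : Finset _) := by
        intro A _
        obtain ⟨a, rfl⟩ := QuotientGroup.mk'_surjective _ A
        simp only [Finset.coe_insert, Finset.coe_singleton, Set.mem_insert_iff, Set.mem_singleton_iff]
        exact hS a
      refine (Set.ncard_le_ncard hsub (Finset.finite_toSet _)).trans ?_
      rw [Set.ncard_coe_finset]
      exact (Finset.card_insert_le _ _).trans (Nat.succ_le_succ ((Finset.card_insert_le _ _).trans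
        (Nat.succ_le_succ ((Finset.card_insert_le _ _).trans (le_of_eq (by simp))))))
    have h1 := Subgroup.card_eq_card_quotient_mul_card_subgroup (Subgroup.center N)
    rw [hcardN, hz, mul_comm] at h1
    have hzpos : 0 < z := by rw [← hz]; exact Nat.card_pos
    have h4 := Nat.eq_of_mul_eq_mul_right hzpos h1
    nlinarith
  obtain ⟨y, hy⟩ := hanti x hxc
  obtain ⟨hx1, hxm1⟩ := hncent x hxc
  let Wp : Submodule F (ι → F) := LinearMap.ker ((mat x - 1).mulVecLin)
  let Wm : Submodule F (ι → F) := LinearMap.ker ((mat x + 1).mulVecLin)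
  have hWp : ∀ v, v ∈ Wp ↔ mat x *ᵥ v = v := fun v => by
    rw [LinearMap.mem_ker, Matrix.mulVecLin_apply, Matrix.sub_mulVec, Matrix.one_mulVec, sub_eq_zero]
  have hWm : ∀ v, v ∈ Wm ↔ mat x *ᵥ v = -v := fun v => by
    rw [LinearMap.mem_ker, Matrix.mulVecLin_apply, Matrix.add_mulVec, Matrix.one_mulVec, add_eq_zero_iff_eq_neg]
  have horth : AreOrthogonalFor (polar Q) Wp Wm := by
    intro u hu v hv
    have h1 := fixes_polar_of_isometry (hNQ _ x.2) u v
    rw [show ((x : GL ι F) : Matrix ι ι F) = mat x from rfl, (hWp u).1 hu, (hWm v).1 hv, QuadraticMap.polar_neg_right] at h1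
    exact (mul_eq_zero.1 (show (2 : F) * polar Q u v = 0 by linear_combination -h1)).resolve_left h2
  have hsum : ∀ v, ∃ a ∈ Wp, ∃ b ∈ Wm, v = a + b := by
    intro v
    refine ⟨(2 : F)⁻¹ • (v + mat x *ᵥ v), (hWp _).2 ?_, (2 : F)⁻¹ • (v - mat x *ᵥ v), (hWm _).2 ?_, ?_⟩
    · rw [Matrix.mulVec_smul, Matrix.mulVec_add, Matrix.mulVec_mulVec, hxx, Matrix.one_mulVec, add_comm]
    · rw [Matrix.mulVec_smul, Matrix.mulVec_sub, Matrix.mulVec_mulVec, hxx, Matrix.one_mulVec, ← smul_neg, neg_sub]
    · rw [← smul_add, add_add_sub_cancel, ← two_smul F, smul_smul, inv_mul_cancel₀ h2, one_smul]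
  have hndp : IsNondegenerateOn (polar Q) Wp := by
    intro w hw hw0
    obtain ⟨v, hv⟩ : ∃ v, polar Q w v ≠ 0 := by by_contra! h'; exact hw0 (hQ.1 w h')
    obtain ⟨a, ha, b, hb, rfl⟩ := hsum v
    rw [QuadraticMap.polar_add_right, horth w hw b hb, add_zero] at hv
    exact ⟨⟨a, ha, by rwa [QuadraticMap.polar_comm]⟩, ⟨a, ha, hv⟩⟩
  have hflip : ∀ v, mat x *ᵥ (mat y *ᵥ v) = -(mat y *ᵥ (mat x *ᵥ v)) := fun v => by
    rw [Matrix.mulVec_mulVec, Matrix.mulVec_mulVec, hy, Matrix.neg_mulVec, neg_neg]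
  have hyu : Function.Injective (mat y).mulVecLin := fun u v huv =>
    (Matrix.mulVec_injective_iff_isUnit.2 (y : GL ι F).isUnit) huv
  have hmap : Wp.map (linEquiv (y : GL ι F) : (ι → F) →ₗ[F] (ι → F)) = Wm := by
    apply le_antisymm
    · rintro _ ⟨v, hv, rfl⟩
      refine (hWm _).2 ?_
      show mat x *ᵥ (mat y *ᵥ v) = -(mat y *ᵥ v)
      rw [hflip, (hWp v).1 hv]
    · intro v hv
      refine ⟨(((y : GL ι F)⁻¹ : GL ι F) : Matrix ι ι F) *ᵥ v, (hWp _).2 ?_, inv_mulVec_cancel _ _⟩
      have h1 := hflip ((((y : GL ι F)⁻¹ : GL ι F) : Matrix ι ι F) *ᵥ v)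
      rw [show mat y *ᵥ ((((y : GL ι F)⁻¹ : GL ι F) : Matrix ι ι F) *ᵥ v) = v from inv_mulVec_cancel _ _,
        (hWm v).1 hv, neg_inj] at h1
      apply hyu
      simp only [Matrix.mulVecLin_apply]
      exact h1.symm.trans (inv_mulVec_cancel _ _).symm
  have hiso : AreIsometricFor (⇑Q) Wp Wm :=
    ⟨((linEquiv (y : GL ι F)).submoduleMap Wp).trans (LinearEquiv.ofEq _ _ hmap), fun w => hNQ _ y.2 w⟩
  have htop : Wp ⊔ Wm = ⊤ := eq_top_iff.2 fun v _ => by
    obtain ⟨a, ha, b, hb, rfl⟩ := hsum v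
    exact Submodule.add_mem_sup ha hb
  have hdim : Module.finrank F Wp = Module.finrank F Wm := by
    obtain ⟨e, -⟩ := hiso
    exact e.finrank_eq
  have hn2 := finrank_sup_of_orth hndp horth
  rw [htop, finrank_top, Module.finrank_pi, hcard, ← hdim] at hn2
  obtain ⟨j, rfl⟩ : ∃ j, m = j + 2 := ⟨m - 2, by
    rcases Nat.lt_or_ge m 2 with hlt | hge
    · interval_cases m; omega
    · omega⟩
  have hd : Module.finrank F Wp = 2 * 2 ^ j := by rw [pow_add] at hn2; omega
  rw [← htop]
  exact plus_of_isometric hndp hd horth hiso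

end CfsgLib.Geo.Asch
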