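/-
The possible hosts of a subgroup of an orthogonal group.
-/
import Cfsg.Agent.Lib.Geo.Asch.Core
import Cfsg.Agent.Lib.Geo.Asch.OrthDecomposition
import Cfsg.Agent.Lib.Geo.Asch.OrthBinary
import Cfsg.Agent.Lib.Geo.Asch.OrthSymp
import Cfsg.Agent.Lib.Geo.Asch.OrthPower
import Cfsg.Agent.Lib.Geo.Asch.OrthSubfield
import Cfsg.Agent.Lib.Geo.Asch.LinearMax

set_option autoImplicit false
set_option linter.unusedSectionVars false
set_option maxHeartbeats 800000

namespace CfsgLib.Geo.Asch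

open Matrix Cfsg.Geo
open scoped Kronecker
open CfsgLib.Classical CfsgLib.Classical.Quad CfsgLib.Geo.OrthMax
open QuadraticMap (polar polarBilin)

variable {F : Type*} [Field F] [Fintype F] {ι : Type} [Fintype ι] [DecidableEq ι] {Q : QuadraticForm F (ι → F)}

/-- The possible hosts of a subgroup of the orthogonal group. -/
def OrthHost (Q : QuadraticForm F (ι → F)) (H : Subgroup (GL ι F)) : Prop :=
  (∃ W : Submodule F (ι → F), W ≠ ⊥ ∧ IsTotallySingularQuad (⇑Q) W ∧ H ≤ subspaceStabilizer W) ∨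
  (∃ W : Submodule F (ι → F), W ≠ ⊥ ∧ W ≠ ⊤ ∧ IsNondegenerateOn (polar Q) W ∧ H ≤ subspaceStabilizer W) ∨
  ((2 : F) = 0 ∧ ∃ v : ι → F, Q v ≠ 0 ∧ H ≤ subspaceStabilizer (Submodule.span F {v})) ∨
  (∃ (t m : ℕ) (D : Fin t → Submodule F (ι → F)), IsOrthogonalMDecomposition (⇑Q) m D ∧
    (m = 1 → (Fintype.card F).Prime) ∧ H ≤ decompositionStabilizer D) ∨
  (∃ (m : ℕ) (D : Fin 2 → Submodule F (ι → F)), 2 * m = Fintype.card ι ∧ IsMDecomposition m D ∧
    (∀ i, IsTotallySingularQuad (⇑Q) (D i)) ∧ H ≤ decompositionStabilizer D) ∨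
  (∃ (r : ℕ) (K : Subalgebra F (Matrix ι ι F)), r.Prime ∧ r ∣ Fintype.card ι ∧ IsFieldSubalgebra r K ∧
    ((IsSelfAdjointFor (polar Q) K ∧ r ≠ Fintype.card ι ∧ 2 * r ≠ Fintype.card ι) ∨
      (r = 2 ∧ IsAdjointClosedFor (polar Q) K ∧ ¬ IsSelfAdjointFor (polar Q) K ∧
        ∀ k ∈ K, ∃ c : F, ∀ v, Q (k *ᵥ v) = c * Q v)) ∧ H ≤ subalgebraNormalizer K) ∨
  (∃ (n₁ n₂ : ℕ) (e : ι ≃ Fin n₁ × Fin n₂) (P : GL ι F) (X : Matrix (Fin n₁) (Fin n₁) F)
    (Y : Matrix (Fin n₂) (Fin n₂) F), 2 ≤ n₁ ∧ n₁ ≤ n₂ ∧ Even n₁ ∧ Even n₂ ∧ n₁ * n₂ = Fintype.card ι ∧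
    IsUnit X ∧ IsUnit Y ∧ Xᵀ = -X ∧ Yᵀ = -Y ∧ (∀ a, X a a = 0) ∧ (∀ a, Y a a = 0) ∧ orGram Q e P = X ⊗ₖ Y ∧
    (∀ (u : Fin n₁ → F) (w : Fin n₂ → F), Q (vecIn e P fun a => u a.1 * w a.2) = 0) ∧
    H ≤ tensorProductSubgroup n₁ n₂ e P) ∨
  ((2 : F) ≠ 0 ∧ ∃ (n₁ n₂ : ℕ) (e : ι ≃ Fin n₁ × Fin n₂) (P : GL ι F) (X : Matrix (Fin n₁) (Fin n₁) F)
    (Y : Matrix (Fin n₂) (Fin n₂) F), 3 ≤ n₁ ∧ n₁ ≤ n₂ ∧ n₁ * n₂ = Fintype.card ι ∧ IsUnit X ∧ IsUnit Y ∧
    Xᵀ = X ∧ Yᵀ = Y ∧ orGram Q e P = X ⊗ₖ Y ∧ H ≤ tensorProductSubgroup n₁ n₂ e P) ∨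
  (∃ (F₀ : Subfield F) (r : ℕ) (P : GL ι F) (ζ : F), r.Prime ∧ Fintype.card F = Nat.card F₀ ^ r ∧ ζ ≠ 0 ∧
    IsQuadFormRationalStructure (fun v => ζ * Q v) F₀ P ∧ H ≤ subfieldSubgroup F₀ P) ∨
  ((2 : F) ≠ 0 ∧ ∃ (d t : ℕ) (e : ι ≃ (Fin t → Fin d)) (P : GL ι F) (X : Matrix (Fin d) (Fin d) F) (c : F),
    Odd d ∧ 3 ≤ d ∧ 2 ≤ t ∧ d ^ t = Fintype.card ι ∧ ¬ (Fintype.card F = 3 ∧ d = 3) ∧ c ≠ 0 ∧ IsUnit X ∧ Xᵀ = X ∧
    orGram Q e P = c • pureT d t F (fun _ => X) ∧ H ≤ tensorWreathSubgroup d t e P) ∨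
  (Fintype.card ι = 8 ∧ IsPlusTypeOn (⇑Q) ⊤) ∨
  InOrthogonalResidualClass H

theorem odd_card_iff' : Odd (Fintype.card F) ↔ (2 : F) ≠ 0 := odd_card_iff_two_ne_zero

/-- Isometric lines over a field that is not prime give a subfield structure. -/
theorem subfield_of_lines (h2 : (2 : F) ≠ 0) (hprime : ¬ (Fintype.card F).Prime) {H : Subgroup (GL ι F)}
    (hH : ∀ g ∈ H, ∀ v, Q ((g : Matrix ι ι F) *ᵥ v) = Q v) {t : ℕ} {D : Fin t → Submodule F (ι → F)}
    (hD : IsOrthogonalMDecomposition (⇑Q) 1 D) (hle : H ≤ decompositionStabilizer D) :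
    ∃ (F₀ : Subfield F) (r : ℕ) (P : GL ι F) (ζ : F), r.Prime ∧ Fintype.card F = Nat.card F₀ ^ r ∧ ζ ≠ 0 ∧
      IsQuadFormRationalStructure (fun v => ζ * Q v) F₀ P ∧ H ≤ subfieldSubgroup F₀ P := by
  classical
  obtain ⟨F₁, r, -, hr, hcard⟩ := exists_prime_index (ne_bot_top_of_not_prime hprime)
  obtain ⟨b, c, hc, hQb, hspan, horth⟩ := frame_of_lines h2 hD
  have ht : Fintype.card ι = t := by
    have := card_eq_of_mDecomposition hD.decomp.decomp
    omega
  have e : ι ≃ Fin t := Fintype.equivFinOfCardEq ht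
  have hb0 : ∀ i, b i ≠ 0 := fun i h0 => hc (by rw [← hQb i, h0, QuadraticMap.map_zero])
  have hli : LinearIndependent F b := hD.decomp.decomp.indep.linearIndependent (fun i => D i)
    (fun i => by rw [hspan i]; exact Submodule.mem_span_singleton_self _) hb0
  let M : Matrix ι ι F := Matrix.of fun i j => b (e j) i
  have hM : IsUnit M := Matrix.linearIndependent_cols_iff_isUnit.1 (hli.comp _ e.injective)
  have hcol : ∀ j, (hM.unit : Matrix ι ι F) *ᵥ Pi.single j 1 = b (e j) := fun j => by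
    rw [hM.unit_spec, Matrix.mulVec_single_one]
    rfl
  refine ⟨F₁, r, hM.unit, c⁻¹, hr, hcard, inv_ne_zero hc, fun u hu => ?_, le_subfieldSubgroup_of_cols _ fun g hg i j => ?_⟩
  · show c⁻¹ * Q _ ∈ F₁
    suffices h : ∀ S : Finset ι, Q (∑ x ∈ S, u x • b (e x)) = c * ∑ x ∈ S, u x * u x ∧
        ∀ y ∉ S, polar Q (b (e y)) (∑ x ∈ S, u x • b (e x)) = 0 by
      have hsum : (hM.unit : Matrix ι ι F) *ᵥ u = ∑ x, u x • b (e x) := by
        conv_lhs => rw [pi_eq_sum_single u]
        rw [Matrix.mulVec_sum]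
        exact Finset.sum_congr rfl fun x _ => by rw [Matrix.mulVec_smul, hcol]
      rw [hsum, (h _).1, inv_mul_cancel_left₀ hc]
      exact sum_mem fun x _ => mul_mem (hu x) (hu x)
    intro S
    induction S using Finset.induction with
    | empty => simp
    | @insert a S ha ih =>
      refine ⟨?_, fun y hy => ?_⟩
      · rw [Finset.sum_insert ha, Finset.sum_insert ha, apply_add, apply_smul, hQb, ih.1,
          QuadraticMap.polar_smul_left, ih.2 a ha, smul_zero]
        ring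
      · rw [Finset.sum_insert ha, QuadraticMap.polar_add_right, QuadraticMap.polar_smul_right,
          horth _ _ (fun h' => hy (Finset.mem_insert.2 (Or.inl (e.injective h')))),
          ih.2 y (fun h' => hy (Finset.mem_insert_of_mem h'))]
        simp
  · obtain ⟨π, hπ⟩ := hle hg
    have hmem : (g : Matrix ι ι F) *ᵥ b (e j) ∈ D (π (e j)) :=
      (hπ (e j)).le ⟨b (e j), by rw [hspan]; exact Submodule.mem_span_singleton_self _, Matrix.toLin'_apply _ _⟩
    rw [hspan] at hmem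
    obtain ⟨a, ha⟩ := Submodule.mem_span_singleton.1 hmem
    have ha1 : a * a = 1 := by
      have h1 := hH g hg (b (e j))
      rw [← ha, apply_smul, hQb, hQb] at h1
      exact mul_right_cancel₀ hc (h1.trans (one_mul _).symm)
    have hT : ((((hM.unit⁻¹ : GL ι F) : Matrix ι ι F) * (g : Matrix ι ι F) * (hM.unit : Matrix ι ι F))) *ᵥ
        Pi.single j 1 = a • Pi.single (e.symm (π (e j))) 1 := by
      rw [← Matrix.mulVec_mulVec, ← Matrix.mulVec_mulVec, hcol, ← ha]
      conv_lhs => rw [← e.apply_symm_apply (π (e j)), ← hcol, ← Matrix.mulVec_smul]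
      rw [mulVec_inv_cancel]
    have hij := congrFun hT i
    rw [Matrix.mulVec_single_one] at hij
    rw [show ((((hM.unit⁻¹ : GL ι F) : Matrix ι ι F) * (g : Matrix ι ι F) * (hM.unit : Matrix ι ι F))) i j =
      (a • (Pi.single (e.symm (π (e j))) 1 : ι → F)) i from hij]
    rw [Pi.smul_apply, Pi.single_apply, smul_eq_mul]
    split_ifs
    · rw [mul_one]
      rcases mul_self_eq_one_iff.1 ha1 with rfl | rfl
      exacts [one_mem _, neg_mem (one_mem _)]
    · rw [mul_zero]; exact zero_mem _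

/-- An adjoint-closed field that is not self-adjoint has even degree. -/
theorem two_dvd_of_not_selfAdjoint [Nonempty ι] (hQ : (polarBilin Q).Nondegenerate) {e : ℕ}
    {L : Subalgebra F (Matrix ι ι F)} (hL : IsFieldSubalgebra e L) (hadj : ∀ k ∈ L, adjQ Q k ∈ L)
    (hsa : ¬ IsSelfAdjointFor (polar Q) L) : 2 ∣ e := by
  letI : Field L := (isField_of_fieldSubalgebra hL).toField
  haveI : Finite L := inferInstance
  let ψ : L →ₐ[F] L :=
    { toFun := fun x => ⟨adjQ Q x.1, hadj _ x.2⟩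
      map_one' := Subtype.ext (adjQ_one hQ)
      map_mul' := fun x y => Subtype.ext (by
        show adjQ Q (x.1 * y.1) = adjQ Q x.1 * adjQ Q y.1
        rw [adjQ_mul hQ, hL.comm _ (hadj _ y.2) _ (hadj _ x.2)])
      map_zero' := Subtype.ext (by
        show adjQ Q (0 : Matrix ι ι F) = 0
        rw [← zero_smul F (1 : Matrix ι ι F), adjQ_smul, zero_smul, zero_smul])
      map_add' := fun x y => Subtype.ext (adjQ_add _ _)
      commutes' := fun c => Subtype.ext (by
        show adjQ Q (algebraMap F (Matrix ι ι F) c) = _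
        rw [Algebra.algebraMap_eq_smul_one, adjQ_smul, adjQ_one hQ]
        exact (Algebra.algebraMap_eq_smul_one c).symm) }
  have hinv : ∀ x, ψ (ψ x) = x := fun x => Subtype.ext (adjQ_adjQ hQ _)
  let φ : L ≃ₐ[F] L := AlgEquiv.ofBijective ψ
    ⟨fun a b h => by rw [← hinv a, ← hinv b, h], fun b => ⟨ψ b, hinv b⟩⟩
  have ho : orderOf φ = 2 := by
    refine orderOf_eq_prime ?_ ?_
    · exact AlgEquiv.ext fun x => by rw [pow_two, AlgEquiv.mul_apply]; exact hinv x
    · intro h1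
      refine hsa ((selfAdjoint_iff hQ).2 fun k hk => ?_)
      exact congrArg Subtype.val (AlgEquiv.congr_fun h1 ⟨k, hk⟩)
  rw [← ho, ← hL.finrank_eq]
  refine (orderOf_dvd_natCard φ).trans ?_
  rw [IsGalois.card_aut_eq_finrank]

/-- A group commuting with a field of full degree is abelian. -/
theorem abelian_of_full_field [Nonempty ι] {N : Subgroup (GL ι F)} {e : ℕ} {K : Subalgebra F (Matrix ι ι F)}
    (hK : IsFieldSubalgebra e K) (hKN : K ≤ comm N) (he : e = Fintype.card ι) :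
    ∀ x ∈ N, ∀ y ∈ N, x * y = y * x := by
  classical
  obtain ⟨v, hv⟩ := exists_ne (0 : ι → F)
  let L : K →ₗ[F] (ι → F) :=
    { toFun := fun k => (k : Matrix ι ι F) *ᵥ v
      map_add' := fun a b => Matrix.add_mulVec _ _ _
      map_smul' := fun c a => Matrix.smul_mulVec c (a : Matrix ι ι F) v }
  have hinj : Function.Injective L := (injective_iff_map_eq_zero _).2 fun k hk => by
    by_contra hk0
    obtain ⟨y, hy, hky⟩ := hK.inv _ k.2 fun e0 => hk0 (Subtype.ext e0)
    refine hv ?_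
    have h1 : (k : Matrix ι ι F) *ᵥ v = 0 := hk
    rw [← Matrix.one_mulVec v, ← hky, hK.comm _ k.2 _ hy, ← Matrix.mulVec_mulVec, h1, Matrix.mulVec_zero]
  have hsurj : Function.Surjective L :=
    (LinearMap.injective_iff_surjective_of_finrank_eq_finrank (by rw [hK.finrank_eq, Module.finrank_pi, he])).1 hinj
  have hcomm : ∀ g ∈ N, ∀ k ∈ K, (g : Matrix ι ι F) * k = k * (g : Matrix ι ι F) := fun g hg k hk =>
    (Subalgebra.mem_centralizer_iff F).1 (hKN hk) _ (mem_matrixSet hg)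
  intro x hx y hy
  obtain ⟨a, ha⟩ := hsurj ((x : Matrix ι ι F) *ᵥ v)
  obtain ⟨b, hb⟩ := hsurj ((y : Matrix ι ι F) *ᵥ v)
  change (a : Matrix ι ι F) *ᵥ v = (x : Matrix ι ι F) *ᵥ v at ha
  change (b : Matrix ι ι F) *ᵥ v = (y : Matrix ι ι F) *ᵥ v at hb
  have e1 : (x : Matrix ι ι F) *ᵥ ((y : Matrix ι ι F) *ᵥ v) = (y : Matrix ι ι F) *ᵥ ((x : Matrix ι ι F) *ᵥ v) := by
    rw [← hb, Matrix.mulVec_mulVec, hcomm x hx _ b.2, ← Matrix.mulVec_mulVec, ← ha, Matrix.mulVec_mulVec,
      Matrix.mulVec_mulVec, hcomm y hy _ a.2, ← Matrix.mulVec_mulVec, ← Matrix.mulVec_mulVec, ← hb,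
      Matrix.mulVec_mulVec, Matrix.mulVec_mulVec, hK.comm _ b.2 _ a.2]
  refine Units.ext ?_
  refine Matrix.ext_of_mulVec_single fun i => ?_
  obtain ⟨k, hk⟩ := hsurj (Pi.single i 1)
  change (k : Matrix ι ι F) *ᵥ v = Pi.single i 1 at hk
  rw [← hk, Units.val_mul, Units.val_mul, ← Matrix.mulVec_mulVec, ← Matrix.mulVec_mulVec,
    Matrix.mulVec_mulVec _ (y : Matrix ι ι F), hcomm y hy _ k.2, ← Matrix.mulVec_mulVec,
    Matrix.mulVec_mulVec _ (x : Matrix ι ι F) (k : Matrix ι ι F), hcomm x hx _ k.2, ← Matrix.mulVec_mulVec, e1,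
    Matrix.mulVec_mulVec _ (x : Matrix ι ι F) (k : Matrix ι ι F), hcomm x hx _ k.2, ← Matrix.mulVec_mulVec,
    Matrix.mulVec_mulVec _ (y : Matrix ι ι F) (k : Matrix ι ι F), hcomm y hy _ k.2, ← Matrix.mulVec_mulVec]

theorem orth_host (hQ : (polarBilin Q).Nondegenerate) (hn : 7 ≤ Fintype.card ι)
    (hodd2 : Odd (Fintype.card ι) → (2 : F) ≠ 0) (hsmall : Odd (Fintype.card ι) ∨ Fintype.card ι ≤ 12)
    (H : Subgroup (GL ι F)) (hH : ∀ g ∈ H, ∀ v, Q ((g : Matrix ι ι F) *ᵥ v) = Q v) : OrthHost Q H := by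
  classical
  haveI : Nonempty ι := Fintype.card_pos_iff.1 (by omega)
  haveI : Nontrivial ι := Fintype.one_lt_card_iff_nontrivial.1 (by omega)
  have hb := polar_isSesq (Q := Q)
  by_cases hirr : ActsIrreducibly (matrixSet H)
  swap
  · rw [actsIrreducibly_iff] at hirr
    push Not at hirr
    obtain ⟨W, hW, hW0, hW1⟩ := hirr
    have hW's : Stable (matrixSet H) (perp Q W) := stable_matrixSet_iff.2 fun g hg v hv =>
      perp_map_mem (hH g hg) (fun w hw => stable_matrixSet_iff.1 hW g⁻¹ (H.inv_mem hg) w hw) hv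
    set R := W ⊓ perp Q W with hR
    by_cases hR0 : R = ⊥
    · exact .inr <| .inl ⟨W, hW0, hW1, ndOn_of_inf_perp hR0, le_stabilizer_of_stable hW⟩
    have hRs : Stable (matrixSet H) R := fun s hs v hv => ⟨hW s hs v hv.1, hW's s hs v hv.2⟩
    have hRp : ∀ u ∈ R, ∀ v ∈ R, polar Q u v = 0 := fun u hu v hv => mem_perp.1 hv.2 u hu.1
    let R₀ : Submodule F (ι → F) :=
      { carrier := {u | u ∈ R ∧ Q u = 0}
        add_mem' := fun {u v} hu hv => ⟨R.add_mem hu.1 hv.1, by
          rw [apply_add, hu.2, hv.2, hRp u hu.1 v hv.1]; ring⟩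
        zero_mem' := ⟨R.zero_mem, QuadraticMap.map_zero _⟩
        smul_mem' := fun c u hu => ⟨R.smul_mem c hu.1, by rw [apply_smul, hu.2, mul_zero]⟩ }
    by_cases hR₀ : R₀ = ⊥
    swap
    · exact .inl ⟨R₀, hR₀, fun u hu => hu.2, le_stabilizer_of_stable (stable_matrixSet_iff.2 fun g hg v hv =>
        ⟨stable_matrixSet_iff.1 hRs g hg v hv.1, (hH g hg v).trans hv.2⟩)⟩
    have h2 : (2 : F) = 0 := by
      by_contra h2
      refine hR0 ((Submodule.eq_bot_iff _).2 fun u hu => ?_)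
      have h0 : u ∈ R₀ := ⟨hu, by rw [apply_eq_half_polar h2, hRp u hu u hu, zero_div]⟩
      rwa [hR₀, Submodule.mem_bot] at h0
    obtain ⟨v, hv, hv0⟩ := Submodule.exists_mem_ne_zero_of_ne_bot hR0
    have hQv : Q v ≠ 0 := fun e => hv0 (by
      have h0 : v ∈ R₀ := ⟨hv, e⟩
      rwa [hR₀, Submodule.mem_bot] at h0)
    have hline : ∀ w ∈ R, w ∈ Submodule.span F {v} := by
      intro w hw
      haveI : CharP F 2 := CharTwo.of_one_ne_zero_of_two_eq_zero one_ne_zero h2
      obtain ⟨a, ha⟩ := FiniteField.isSquare_of_char_two (ringChar.eq F 2) (Q w / Q v)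
      have h0 : w + a • v ∈ R₀ := ⟨R.add_mem hw (R.smul_mem a hv), by
        rw [apply_add, apply_smul, hRp w hw (a • v) (R.smul_mem a hv), ← ha, div_mul_cancel₀ _ hQv]
        linear_combination Q w * h2⟩
      rw [hR₀, Submodule.mem_bot] at h0
      rw [eq_neg_of_add_eq_zero_left h0]
      exact Submodule.neg_mem _ (Submodule.smul_mem _ _ (Submodule.mem_span_singleton_self _))
    have hRv : R = Submodule.span F {v} :=
      le_antisymm hline ((Submodule.span_singleton_le_iff_mem _ _).2 hv)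
    exact .inr <| .inr <| .inl ⟨h2, v, hQv, le_stabilizer_of_stable (hRv ▸ hRs)⟩
  have hHs : ¬ H ≤ scalars ι F := by
    intro hle
    obtain ⟨i⟩ : Nonempty ι := inferInstance
    have hs : (Pi.single i 1 : ι → F) ≠ 0 := fun e => one_ne_zero (α := F) (by simpa using congrFun e i)
    rcases hirr (Submodule.span F {Pi.single i 1}) (by
      rintro _ ⟨g, hg, rfl⟩ _ ⟨v, hv, rfl⟩
      obtain ⟨c, hc⟩ := (mem_scalars_iff _).1 (hle hg)
      show Matrix.toLin' (g : Matrix ι ι F) v ∈ _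
      rw [Matrix.toLin'_apply, hc, Matrix.smul_mulVec, Matrix.one_mulVec]
      exact Submodule.smul_mem _ _ hv) with h | h
    · exact hs (Submodule.span_singleton_eq_bot.1 h)
    · have h1 := congrArg (fun U : Submodule F (ι → F) => Module.finrank F U) h
      simp only [finrank_span_singleton hs, finrank_top, Module.finrank_pi] at h1
      omega
  obtain ⟨N, hN⟩ := exists_minimalNormal hHs
  have hNQ : ∀ g ∈ N, ∀ v, Q ((g : Matrix ι ι F) *ᵥ v) = Q v := fun g hg => hH g (hN.le hg)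
  have mkD : ∀ {t m : ℕ} {D : Fin t → Submodule F (ι → F)}, IsNondegenerateMDecomposition (polar Q) m D →
      H ≤ decompositionStabilizer D → OrthHost Q H := by
    intro t m D hD hle
    have hO := isometric_of_irreducible hH hirr hD hle
    by_cases hm : m = 1 ∧ ¬ (Fintype.card F).Prime
    swap
    · exact .inr <| .inr <| .inr <| .inl ⟨t, m, D, hO, fun h => not_not.1 fun h' => hm ⟨h, h'⟩, hle⟩
    obtain ⟨rfl, hnp⟩ := hm
    have h2 : (2 : F) ≠ 0 := fun h2 => by
      have := even_finrank_of_ndOn h2 (hD.nondegenerate ⟨0, by have := hD.decomp.two_le; omega⟩)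
      rw [hD.decomp.finrank_eq] at this
      exact Nat.not_even_one this
    exact .inr <| .inr <| .inr <| .inr <| .inr <| .inr <| .inr <| .inr <| .inl (subfield_of_lines h2 hnp hH hO hle)
  by_cases hhom : IsHomog N
  swap
  · obtain ⟨t, k, D, hD, hHD, hst, hsimp, htr⟩ := exists_decomposition hirr hN.normal hhom
    rcases orth_decomposition hQ hH hN.le hD hHD hst hsimp htr with h | ⟨rfl, hts⟩ | ⟨t', E, -, hE, hHE⟩
    · exact mkD h hHD
    swap
    · exact mkD hE hHE
    have hk : 2 * k = Fintype.card ι := card_eq_of_mDecomposition hD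
    refine .inr <| .inr <| .inr <| .inr <| .inl ⟨k, D, hk, hD, ?_, hHD⟩
    by_cases h2 : (2 : F) = 0
    swap
    · exact fun i w hw => by rw [apply_eq_half_polar h2, hts i w hw w hw, zero_div]
    let Z : Fin 2 → Submodule F (ι → F) := fun i =>
      { carrier := {u | u ∈ D i ∧ Q u = 0}
        add_mem' := fun {u v} hu hv => ⟨(D i).add_mem hu.1 hv.1, by
          rw [apply_add, hu.2, hv.2, hts i u hu.1 v hv.1]; ring⟩
        zero_mem' := ⟨(D i).zero_mem, QuadraticMap.map_zero _⟩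
        smul_mem' := fun c u hu => ⟨(D i).smul_mem c hu.1, by rw [apply_smul, hu.2, mul_zero]⟩ }
    have hst' : Stable (matrixSet H) (⨆ i, Z i) := stable_matrixSet_iff.2 fun g hg v hv => by
      obtain ⟨π, hπ⟩ := hHD hg
      induction hv using Submodule.iSup_induction' with
      | mem i w hw =>
        exact Submodule.mem_iSup_of_mem (π i) ⟨(hπ i).le ⟨w, hw.1, Matrix.toLin'_apply _ _⟩, (hH g hg w).trans hw.2⟩
      | zero => rw [Matrix.mulVec_zero]; exact Submodule.zero_mem _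
      | add y z _ _ hy hz => rw [Matrix.mulVec_add]; exact Submodule.add_mem _ hy hz
    rcases actsIrreducibly_iff.1 hirr _ hst' with h | h
    · exfalso
      haveI : CharP F 2 := CharTwo.of_one_ne_zero_of_two_eq_zero one_ne_zero h2
      have hZ : ∀ w ∈ D 0, Q w = 0 → w = 0 := fun w hw hQw => by
        have h1 : w ∈ ⨆ i, Z i := Submodule.mem_iSup_of_mem 0 ⟨hw, hQw⟩
        rwa [h, Submodule.mem_bot] at h1
      have hk1 : Module.finrank F (D 0) ≤ 1 := by
        by_cases hD0 : D 0 = ⊥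
        · rw [hD0, finrank_bot]; omega
        obtain ⟨v, hv, hv0⟩ := Submodule.exists_mem_ne_zero_of_ne_bot hD0
        refine (Submodule.finrank_mono (show D 0 ≤ Submodule.span F {v} from fun w hw => ?_)).trans
          (finrank_span_singleton hv0).le
        obtain ⟨a, ha⟩ := FiniteField.isSquare_of_char_two (ringChar.eq F 2) (Q w / Q v)
        have h0 := hZ (w + a • v) ((D 0).add_mem hw ((D 0).smul_mem a hv)) (by
          rw [apply_add, apply_smul, hts 0 w hw _ ((D 0).smul_mem a hv), ← ha,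
            div_mul_cancel₀ _ (fun e => hv0 (hZ v hv e))]
          linear_combination Q w * h2)
        rw [eq_neg_of_add_eq_zero_left h0]
        exact Submodule.neg_mem _ (Submodule.smul_mem _ _ (Submodule.mem_span_singleton_self _))
      rw [hD.finrank_eq] at hk1
      omega
    · intro i w hw
      have hall : ∀ x : ι → F, ∃ c : Fin 2 → ι → F, (∀ j, c j ∈ Z j) ∧ ∑ j, c j = x := by
        intro x
        have hx : x ∈ Z 0 ⊔ Z 1 := by
          have hle2 : (⨆ j, Z j) ≤ Z 0 ⊔ Z 1 := iSup_le fun j => by fin_cases j; exacts [le_sup_left, le_sup_right]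
          exact hle2 (h.symm ▸ Submodule.mem_top)
        obtain ⟨a, ha, b, hb, rfl⟩ := Submodule.mem_sup.1 hx
        exact ⟨![a, b], fun j => by fin_cases j; exacts [ha, hb], by simp [Fin.sum_univ_two]⟩
      obtain ⟨c, hc, hsum⟩ := hall w
      have h0 : ∑ j, (c j - if j = i then w else 0) = 0 := by
        rw [Finset.sum_sub_distrib, hsum, Finset.sum_ite_eq' Finset.univ i, if_pos (Finset.mem_univ i), sub_self]
      have := component_unique hD (c := fun j => c j - if j = i then w else 0)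
        (fun j => by split_ifs with hj <;> [exact (D j).sub_mem (hc j).1 (hj ▸ hw); exact (D j).sub_mem (hc j).1 (D j).zero_mem])
        h0 i
      rw [if_pos rfl, sub_eq_zero] at this
      exact this ▸ (hc i).2
  by_cases he : Module.finrank F (centreComm N) = 1
  swap
  · -- an extension field
    have hK := centreComm_field hhom
    set K := centreComm N with hKdef
    set e := Module.finrank F K with hedef
    have hadj : ∀ k ∈ K, adjQ Q k ∈ K := fun k hk => adjQ_mem_centreComm hQ hNQ hk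
    have hnorm : H ≤ subalgebraNormalizer K := fun g hg => mem_normalizer_centreComm (hN.normal g hg)
      fun x hx => by simpa using hN.normal g⁻¹ (H.inv_mem hg) x hx
    have hN0 : N ≠ ⊥ := fun e0 => hN.not_scalar (e0 ▸ bot_le)
    have hdvd : e ∣ Fintype.card ι := dvd_card_of_fieldSubalgebra hK
    by_cases hsa : IsSelfAdjointFor (polar Q) K
    · have hnab : ∃ x ∈ N, ∃ y ∈ N, x * y ≠ y * x := by
        by_contra! hab
        exact not_selfAdjoint_of_abelian hQ hN hNQ hhom hab hsa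
      have hne1 : e ≠ Fintype.card ι := fun h1 => by
        obtain ⟨x, hx, y, hy, hxy⟩ := hnab
        exact hxy (abelian_of_full_field hK centreComm_le h1 x hx y hy)
      have hne2 : Fintype.card ι ≠ 2 * e := fun h1 =>
        no_plane_over_field hQ hN hH hnab hK hsa centreComm_le h1
      obtain ⟨r, L, hr, hre, hLK, hL, hn'⟩ := exists_prime_subalgebra hK he
      refine .inr <| .inr <| .inr <| .inr <| .inr <| .inl ⟨r, L, hr, hre.trans hdvd, hL,
        Or.inl ⟨fun k hk => hsa k (hLK hk), fun h1 => ?_, fun h1 => ?_⟩, hnorm.trans hn'⟩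
      · exact hne1 (Nat.dvd_antisymm hdvd (h1 ▸ hre))
      · obtain ⟨a, ha⟩ := hre
        obtain ⟨b, hb⟩ := hdvd
        have hab : a * b = 2 := by
          rw [← h1, ha, mul_comm 2 r, mul_assoc] at hb
          exact (Nat.eq_of_mul_eq_mul_left hr.pos hb).symm
        rcases (Nat.dvd_prime Nat.prime_two).1 ⟨b, hab.symm⟩ with rfl | rfl
        · exact hne2 (by rw [← h1, ha, mul_one])
        · exact hne1 (by rw [← h1, ha, mul_comm])
    · have h2e := two_dvd_of_not_selfAdjoint hQ hK hadj hsa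
      obtain ⟨L, hLK, hL, hn', hmem⟩ := exists_subalgebra_of_dvd hK Nat.prime_two h2e
      have hLadj : ∀ k ∈ L, adjQ Q k ∈ L := by
        intro k hk
        obtain ⟨hkK, hkQ⟩ := (hmem k).1 hk
        refine (hmem _).2 ⟨hadj k hkK, ?_⟩
        have hpow : ∀ (X : Matrix ι ι F) (j : ℕ), adjQ Q (X ^ j) = adjQ Q X ^ j := by
          intro X j
          induction j with
          | zero => rw [pow_zero, pow_zero, adjQ_one hQ]
          | succ j ih => rw [pow_succ, adjQ_mul hQ, ih, ← pow_succ']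
        rw [← hpow, hkQ]
      refine .inr <| .inr <| .inr <| .inr <| .inr <| .inl ⟨2, L, Nat.prime_two, h2e.trans hdvd, hL, ?_, hnorm.trans hn'⟩
      rcases selfAdjoint_or_quadratic hQ Nat.prime_two hL hLadj with h | ⟨-, hns, hsim⟩
      · exact Or.inl ⟨h, by omega, by omega⟩
      · refine Or.inr ⟨rfl, adjointClosed_of_adjQ hQ hLadj, hns, fun k hk => ?_⟩
        obtain ⟨c, hc⟩ := hsim k hk
        exact ⟨c, similitudes_of_norm hQ hhom hN0 hNQ (centreComm_le (hLK hk)) hc⟩
  have hscal : ∀ x ∈ centreComm N, ∃ c : F, x = c • (1 : Matrix ι ι F) := by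
    intro x hx
    obtain ⟨c, hc⟩ := (finrank_eq_one_iff_of_nonzero' (1 : centreComm N)
      (fun e0 => one_ne_zero (α := Matrix ι ι F) (congrArg Subtype.val e0))).1 he ⟨x, hx⟩
    exact ⟨c, (congrArg Subtype.val hc).symm⟩
  obtain ⟨d, k, e, P, A, hc⟩ := exists_tensorCoords hhom hscal
  by_cases hk : k = 1
  swap
  · have hk2 : 2 ≤ k := by have := hc.pos_right; omega
    have hd2 : 2 ≤ d := hc.two_le hN.not_scalar
    have hle := hc.le_tensorProductSubgroup hN.normal
    have hdk : d * k = Fintype.card ι := by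
      have h := Fintype.card_congr e
      rw [Fintype.card_prod, Fintype.card_fin, Fintype.card_fin] at h
      exact h.symm
    obtain ⟨X, Y, l, hG, hXu, hYu, hl, hX, hY, hfix⟩ := orth_tensor_split hQ hNQ hc
    have alt : (∀ a, X a a = 0) → Xᵀ = -X → (∀ w : Fin k → F, w ⬝ᵥ Y *ᵥ w = 0) → Yᵀ = -Y → OrthHost Q H := by
      intro hXd hX' hYw hY'
      have hYd : ∀ a, Y a a = 0 := fun a => by simpa using hYw (Pi.single a 1)
      have hpure := orth_pure_zero hd2 hNQ hc hG hYw
      have hde : Even d := by simpa using even_card_of_skew hXu hX' hXd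
      have hke : Even k := by simpa using even_card_of_skew hYu hY' hYd
      rcases le_total d k with hle' | hle'
      · exact .inr <| .inr <| .inr <| .inr <| .inr <| .inr <| .inl ⟨d, k, e, P, X, Y, hd2, hle', hde, hke, hdk,
          hXu, hYu, hX', hY', hXd, hYd, hG, hpure, hle⟩
      · exact .inr <| .inr <| .inr <| .inr <| .inr <| .inr <| .inl ⟨k, d, e.trans (Equiv.prodComm _ _), P, Y, X, hk2,
          hle', hke, hde, by rw [mul_comm]; exact hdk, hYu, hXu, hY', hX', hYd, hXd, orGram_swap hG,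
          pure_zero_swap hpure, hle.trans (tensorProductSubgroup_swap e P)⟩
    by_cases h2 : (2 : F) = 0
    · have hl1 : l = 1 := by
        rcases mul_self_eq_one_iff.1 hl with h | h
        · exact h
        · rw [h]; linear_combination -h2
      subst hl1
      have hX' : Xᵀ = X := hX.trans (one_smul F X)
      have hY' : Yᵀ = Y := hY.trans (one_smul F Y)
      have hneg : ∀ {j : ℕ} (Z : Matrix (Fin j) (Fin j) F), Zᵀ = Z → Zᵀ = -Z := fun Z hZ => by
        rw [hZ, ← neg_one_smul F Z, show (-1 : F) = 1 by linear_combination -h2, one_smul]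
      exact alt (diag_eq_zero_of_fixed h2 (by simpa using hd2) hc.absIrred.1 hX' hfix) (hneg X hX')
        (orth_kron_alternating h2 (by omega) hk2 hH hirr hle hG hXu hY') (hneg Y hY')
    rcases mul_self_eq_one_iff.1 hl with rfl | rfl
    swap
    · have hX' : Xᵀ = -X := by simpa using hX
      have hY' : Yᵀ = -Y := by simpa using hY
      exact alt (diag_eq_zero_of_skew h2 hX') hX' (alternating_of_skew hY' (diag_eq_zero_of_skew h2 hY')) hY'
    have hX' : Xᵀ = X := by simpa using hX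
    have hY' : Yᵀ = Y := by simpa using hY
    have two : ∀ {n₁ : ℕ} {e : ι ≃ Fin n₁ × Fin 2} {X : Matrix (Fin n₁) (Fin n₁) F} {Y : Matrix (Fin 2) (Fin 2) F},
        0 < n₁ → H ≤ tensorProductSubgroup n₁ 2 e P → orGram Q e P = X ⊗ₖ Y → IsUnit X → IsUnit Y → Yᵀ = Y →
        n₁ * 2 = Fintype.card ι → OrthHost Q H := by
      intro n₁ e X Y hn₁ hle hG hXu hYu hY hcardn
      rcases orth_tensor_two h2 hQ hn₁ (m := n₁) (by omega) hH hle hG hXu hYu hY with
        ⟨D, hD, hts, hHD⟩ | ⟨K, hK, hadj, hns, hsim, hHK⟩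
      · exact .inr <| .inr <| .inr <| .inr <| .inl ⟨n₁, D, by omega, hD, hts, hHD⟩
      · exact .inr <| .inr <| .inr <| .inr <| .inr <| .inl ⟨2, K, Nat.prime_two,
          ⟨n₁, by omega⟩, hK, Or.inr ⟨rfl, hadj, hns, hsim⟩, hHK⟩
    by_cases hk3 : k = 2
    · subst hk3
      exact two (by omega) hle hG hXu hYu hY' hdk
    by_cases hd3 : d = 2
    · subst hd3
      exact two (by omega) (hle.trans (tensorProductSubgroup_swap e P)) (orGram_swap hG) hYu hXu hX'
        (by rw [mul_comm]; exact hdk)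
    rcases le_total d k with hle' | hle'
    · exact .inr <| .inr <| .inr <| .inr <| .inr <| .inr <| .inr <| .inl ⟨h2, d, k, e, P, X, Y, by omega, hle', hdk,
        hXu, hYu, hX', hY', hG, hle⟩
    · exact .inr <| .inr <| .inr <| .inr <| .inr <| .inr <| .inr <| .inl ⟨h2, k, d, e.trans (Equiv.prodComm _ _), P,
        Y, X, by omega, hle', by rw [mul_comm]; exact hdk, hYu, hXu, hY', hX', orGram_swap hG,
        hle.trans (tensorProductSubgroup_swap e P)⟩
  subst hk
  have hNabs : ActsAbsolutelyIrreducibly (matrixSet N) := hc.absIrred_of_one hhom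
  by_cases hreal : ∃ F₀ : Subfield F, F₀ ≠ ⊤ ∧ RealisableOver F₀ (matrixSet N)
  · obtain ⟨F₀, hne, B, hB⟩ := hreal
    obtain ⟨F₁, s, hle₁, hs₁, hcard⟩ := exists_prime_index hne
    obtain ⟨ζ, hζ, hrat⟩ := orth_rational_structure (by omega) hQ hNabs hNQ (F₁ := F₁) B⁻¹ fun g hg i j => by
      rw [inv_inv]
      exact hle₁ (hB _ (mem_matrixSet hg) i j)
    exact .inr <| .inr <| .inr <| .inr <| .inr <| .inr <| .inr <| .inr <| .inl ⟨F₁, s, B⁻¹, ζ, hs₁, hcard, hζ, hrat,
      le_subfieldSubgroup_of_realised hN.normal hNabs hle₁ B hB⟩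
  push Not at hreal
  have h12 : ∀ {a : ℕ}, Fintype.card ι = 2 ^ a → Fintype.card ι = 8 := by
    intro a ha
    rcases hsmall with h | h
    · rcases Nat.eq_zero_or_pos a with rfl | hpos
      · omega
      · exact absurd (Nat.even_pow.2 ⟨even_two, hpos.ne'⟩) (Nat.not_even_iff_odd.2 (ha ▸ h))
    · have : a ≤ 3 := by
        by_contra! hlt
        have := Nat.pow_le_pow_right (n := 2) two_pos hlt
        omega
      interval_cases a <;> omega
  rcases minimal_cases (by omega) hN hNabs hreal with hS | ⟨d, t, M, e, P, A, hd, hM, hFc, hle⟩ | hres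
  · obtain ⟨a, ha, hplus⟩ := orth_symp_plus hQ hn hS hNQ
    exact .inr <| .inr <| .inr <| .inr <| .inr <| .inr <| .inr <| .inr <| .inr <| .inr <| .inl ⟨h12 ha, hplus⟩
  · have hdt : d ^ t = Fintype.card ι := by
      have h := Fintype.card_congr e
      rw [Fintype.card_fun, Fintype.card_fin, Fintype.card_fin] at h
      exact h.symm
    by_cases hd2 : d = 2
    · have hplus := plus_of_power_two hQ hd2 hNQ hM hFc
      subst hd2
      exact .inr <| .inr <| .inr <| .inr <| .inr <| .inr <| .inr <| .inr <| .inr <| .inr <| .inl ⟨h12 hdt.symm, hplus⟩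
    have ht2 := hM.two_le
    have hnodd : Odd (Fintype.card ι) := by
      rcases hsmall with h | h
      · exact h
      · have h1 : d ^ 2 ≤ 12 := (Nat.pow_le_pow_right (by omega) ht2).trans (hdt ▸ h)
        have hd3 : d = 3 := by
          by_contra hne
          have := Nat.pow_le_pow_left (show 4 ≤ d by omega) 2
          omega
        subst hd3
        rw [← hdt]
        exact Odd.pow (by decide)
    have hodd : Odd d := by
      by_contra hev
      rw [← hdt] at hnodd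
      exact Nat.not_even_iff_odd.2 hnodd (Nat.even_pow.2 ⟨Nat.not_odd_iff_even.1 hev, by omega⟩)
    have h2 := hodd2 hnodd
    have hex : ¬ (Fintype.card F = 3 ∧ d = 3) := fun h =>
      orth_no_perfect_factor_three h.1 h2 hQ h.2 hNQ hM hFc
    obtain ⟨P', X, c, hc0, hXu, hX, hG, hle'⟩ := orth_power_odd h2 hQ hd hodd hNQ hM hFc hle
    exact .inr <| .inr <| .inr <| .inr <| .inr <| .inr <| .inr <| .inr <| .inr <| .inl ⟨h2, d, t, e, P', X, c, hodd,
      by omega, ht2, hdt, hex, hc0, hXu, hX, hG, hle'⟩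
  refine .inr <| .inr <| .inr <| .inr <| .inr <| .inr <| .inr <| .inr <| .inr <| .inr <| .inr ⟨N, hres, ?_⟩
  rintro ⟨σ, g, hg, hfix⟩
  exact hreal _ (fixedSubfield_ne_top' hg.ne_refl) (realisable_fixed_of_sesq hNabs (isSesqForm_of_unitary hg)
    hg.nondegenerate hfix polar_isBilinear (polar_isNondegenerate hQ)
    (fun s hs u v => by obtain ⟨g, hg, rfl⟩ := hs; exact fixes_polar_of_isometry (hNQ g hg) u v))

end CfsgLib.Geo.Asch
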