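/-
The special unitary group is contained in none of the geometric subgroups, in arbitrary dimension.
-/
import Cfsg.Agent.Lib.Geo.Asch.UnitStructure

set_option autoImplicit false

namespace CfsgLib.Geo.Asch

open Matrix Cfsg.Geo
open scoped Kronecker commutatorElement

variable {F : Type*} [Field F] [Fintype F] {σ : F ≃+* F} {n q : ℕ}

theorem not_SU_le_subspaceStabilizer (h : IsQPow σ q) (hF : Fintype.card F = q ^ 2) (hn : 2 ≤ n)
    {W : Submodule F (Fin n → F)} (h0 : W ≠ ⊥) (h1 : W ≠ ⊤) : ¬ SUg n F q ≤ subspaceStabilizer W := by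
  intro hle
  rcases eq_bot_or_top_of_transvections h hF hn (W := W) fun φ u hφ hmem w hw =>
    ((mem_subspaceStabilizer_iff W _).1 (hle hmem) w).1 hw with h' | h'
  exacts [h0 h', h1 h']

omit [Fintype F] in
theorem ne_top_of_totallySingular (h : IsQPow σ q) (hn : 0 < n) {W : Submodule F (Fin n → F)}
    (hW : IsTotallySingularFor (Cfsg.hermForm n F q) W) : W ≠ ⊤ := by
  intro htop
  set i : Fin n := ⟨0, hn⟩
  obtain ⟨x, hx⟩ := ((isUnitaryForm_hermForm (n := n) h).nondegenerate (Pi.single i 1)
    (by simp)).1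
  exact hx (hW x (htop ▸ Submodule.mem_top) _ (htop ▸ Submodule.mem_top))

theorem not_SU_le_decompositionStabilizer' (h : IsQPow σ q) (hF : Fintype.card F = q ^ 2) (hn : 2 ≤ n) {t m : ℕ}
    {D : Fin t → Submodule F (Fin n → F)} (hD : IsMDecomposition m D) (hm : 2 ≤ m) :
    ¬ SUg n F q ≤ decompositionStabilizer D := by
  intro hle
  have htm : t * m = n := (card_eq_of_mDecomposition hD).trans (Fintype.card_fin n)
  have hfix : ∀ (φ u : Fin n → F) (hφ : φ ⬝ᵥ u = 0), transvectionGL φ u hφ ∈ SUg n F q →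
      ∀ i, ∀ w ∈ D i, ((transvectionGL φ u hφ : GL (Fin n) F) : Matrix (Fin n) (Fin n) F) *ᵥ w ∈ D i := by
    intro φ u hφ hmem i w hw
    obtain ⟨τ, hτ⟩ := hle hmem
    have hmap : ∀ x ∈ D i, ((transvectionGL φ u hφ : GL (Fin n) F) : Matrix (Fin n) (Fin n) F) *ᵥ x ∈ D (τ i) :=
      fun x hx => hτ i ▸ ⟨x, hx, Matrix.toLin'_apply _ _⟩
    by_cases hi : τ i = i
    · simpa [hi] using hmap w hw
    exfalso
    -- `φ` is injective on `D i`
    let L : D i →ₗ[F] F :=
      { toFun := fun x => φ ⬝ᵥ (x : Fin n → F)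
        map_add' := fun a b => dotProduct_add φ _ _
        map_smul' := fun a x => dotProduct_smul a φ _ }
    have hL : Function.Injective L := by
      rw [← LinearMap.ker_eq_bot, LinearMap.ker_eq_bot']
      intro x hx
      have h1 := hmap x x.2
      rw [transvectionGL_mulVec, show φ ⬝ᵥ (x : Fin n → F) = 0 from hx, zero_smul, add_zero] at h1
      exact Subtype.ext (Submodule.disjoint_def.1 (hD.indep.pairwiseDisjoint (Ne.symm hi)) _ x.2 h1)
    have := LinearMap.finrank_le_finrank_of_injective hL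
    rw [hD.finrank_eq, Module.finrank_self] at this
    omega
  have ht := hD.two_le
  let i : Fin t := ⟨0, by omega⟩
  rcases eq_bot_or_top_of_transvections h hF hn (W := D i) fun φ u hφ hmem w hw => hfix φ u hφ hmem i w hw with h' | h'
  · have := hD.finrank_eq i
    rw [h', finrank_bot] at this
    omega
  · have := hD.finrank_eq i
    rw [h', finrank_top, Module.finrank_pi, Fintype.card_fin] at this
    rw [this] at htm
    nlinarith

theorem exists_orth_ne_zero {d : ℕ} (hd : 2 ≤ d) (ψ : Fin d → F) : ∃ v : Fin d → F, v ≠ 0 ∧ ψ ⬝ᵥ v = 0 := by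
  set i : Fin d := ⟨0, by omega⟩
  set j : Fin d := ⟨1, by omega⟩
  have hij : i ≠ j := by simp [i, j]
  by_cases hi : ψ i = 0
  · exact ⟨Pi.single i 1, by simp, by simp [hi]⟩
  · refine ⟨ψ j • Pi.single i 1 - ψ i • Pi.single j 1, fun h0 => hi ?_, ?_⟩
    · simpa [hij] using congrFun h0 j
    · simp [dotProduct_sub]
      ring

omit [Fintype F] in
/-- Coordinates of a transvection. -/
theorem coord_transvection {κ : Type} [Fintype κ] [DecidableEq κ] (e : Fin n ≃ κ) (P : GL (Fin n) F)
    (φ u : Fin n → F) (hφ : φ ⬝ᵥ u = 0) (hu : u ≠ 0) (hφ0 : φ ≠ 0) :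
    ∃ x y : κ → F, x ≠ 0 ∧ y ≠ 0 ∧ y ⬝ᵥ x = 0 ∧
      coord e P ((transvectionGL φ u hφ : GL (Fin n) F) : Matrix (Fin n) (Fin n) F) = 1 + Matrix.vecMulVec x y := by
  set p := (P : Matrix (Fin n) (Fin n) F) with hp
  set p' := ((P⁻¹ : GL (Fin n) F) : Matrix (Fin n) (Fin n) F) with hp'
  have hval : coord e P ((transvectionGL φ u hφ : GL (Fin n) F) : Matrix (Fin n) (Fin n) F) =
      1 + Matrix.vecMulVec ((p' *ᵥ u) ∘ e.symm) ((φ ᵥ* p) ∘ e.symm) := by
    show coord e P (1 + Matrix.vecMulVec u φ) = _
    ext a b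
    simp only [coord, Matrix.submatrix_apply, ← hp, ← hp', mul_add, add_mul, mul_one, Matrix.mul_vecMulVec,
      Matrix.vecMulVec_mul, Matrix.add_apply, Matrix.vecMulVec_apply, Function.comp_apply]
    rw [show p' * p = 1 from P.inv_mul]
    simp [Matrix.one_apply]
  refine ⟨_, _, fun e0 => mulVec_ne_zero P⁻¹ hu (funext fun k => ?_), fun e0 => hφ0 ?_, ?_, hval⟩
  · have h := congrFun e0 (e k)
    rw [Function.comp_apply, Equiv.symm_apply_apply] at h
    exact h
  · have h1 : φ ᵥ* p = 0 := funext fun k => by simpa using congrFun e0 (e k)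
    have h2 := congrArg (fun v => v ᵥ* p') h1
    simpa [Matrix.vecMul_vecMul, show p * p' = 1 from P.mul_inv] using h2
  · rw [comp_equiv_symm_dotProduct, Function.comp_assoc, Equiv.symm_comp_self, Function.comp_id,
      ← Matrix.dotProduct_mulVec, Matrix.mulVec_mulVec, show p * p' = 1 from P.mul_inv, Matrix.one_mulVec, hφ]

theorem not_SU_le_tensorProductSubgroup (h : IsQPow σ q) (hF : Fintype.card F = q ^ 2) {d k : ℕ} (hd : 2 ≤ d)
    (hk : 2 ≤ k) (e : Fin n ≃ Fin d × Fin k) (P : GL (Fin n) F) :
    ¬ SUg n F q ≤ tensorProductSubgroup d k e P := by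
  classical
  intro hle
  have hn : 2 ≤ n := by
    have hdk : n = d * k := by simpa using Fintype.card_congr e
    nlinarith
  obtain ⟨u, φ, hφ, hu0, hφ0, hmem⟩ := exists_SU_transvection_ne_one (n := n) h hF hn
  obtain ⟨a, b, hab⟩ := (mem_tensorProductSubgroup_iff e P _).1 (hle hmem)
  obtain ⟨x, y, hx0, hy0, hyx, hval⟩ := coord_transvection e P φ u hφ hu0 hφ0
  rw [hval] at hab
  -- both factors are diagonal
  have hA : ∀ j j', j ≠ j' → (b : Matrix (Fin k) (Fin k) F) j j' = 0 := by
    intro j j' hj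
    by_contra hb
    obtain ⟨v, hv0, hv⟩ := exists_orth_ne_zero hd (fun i' => y (i', j'))
    refine mulVec_ne_zero a hv0 (funext fun i => ?_)
    have he : ∀ i', (b : Matrix (Fin k) (Fin k) F) j j' * (a : Matrix (Fin d) (Fin d) F) i i' = x (i, j) * y (i', j') :=
      fun i' => by
        have h1 := congrFun (congrFun hab (i, j)) (i', j')
        simpa [Matrix.one_apply, hj, Matrix.vecMulVec_apply, mul_comm] using h1.symm
    rw [Pi.zero_apply]
    refine (mul_eq_zero.1 (show (b : Matrix (Fin k) (Fin k) F) j j' * ((a : Matrix (Fin d) (Fin d) F) *ᵥ v) i = 0 from ?_)).resolve_left hb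
    have hv' : ∑ i', y (i', j') * v i' = 0 := hv
    simp only [Matrix.mulVec, dotProduct, Finset.mul_sum]
    simp only [← mul_assoc, he]
    simp only [mul_assoc, ← Finset.mul_sum, hv', mul_zero]
  have hB : ∀ i i', i ≠ i' → (a : Matrix (Fin d) (Fin d) F) i i' = 0 := by
    intro i i' hi
    by_contra ha
    obtain ⟨v, hv0, hv⟩ := exists_orth_ne_zero hk (fun j' => y (i', j'))
    refine mulVec_ne_zero b hv0 (funext fun j => ?_)
    have he : ∀ j', (a : Matrix (Fin d) (Fin d) F) i i' * (b : Matrix (Fin k) (Fin k) F) j j' = x (i, j) * y (i', j') :=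
      fun j' => by
        have h1 := congrFun (congrFun hab (i, j)) (i', j')
        simpa [Matrix.one_apply, hi, Matrix.vecMulVec_apply] using h1.symm
    rw [Pi.zero_apply]
    refine (mul_eq_zero.1 (show (a : Matrix (Fin d) (Fin d) F) i i' * ((b : Matrix (Fin k) (Fin k) F) *ᵥ v) j = 0 from ?_)).resolve_left ha
    have hv' : ∑ j', y (i', j') * v j' = 0 := hv
    simp only [Matrix.mulVec, dotProduct, Finset.mul_sum]
    simp only [← mul_assoc, he]
    simp only [mul_assoc, ← Finset.mul_sum, hv', mul_zero]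
  have hoff : ∀ p r, p ≠ r → x p * y r = 0 := by
    rintro ⟨i, j⟩ ⟨i', j'⟩ hne
    have h1 := congrFun (congrFun hab (i, j)) (i', j')
    rw [Matrix.add_apply, Matrix.one_apply_ne hne, zero_add, Matrix.vecMulVec_apply, Matrix.kronecker_apply] at h1
    rw [h1]
    by_cases hi : i = i'
    · subst hi; rw [hA j j' fun e' => hne (by rw [e']), mul_zero]
    · rw [hB i i' hi, zero_mul]
  obtain ⟨p, hp⟩ := Function.ne_iff.1 hx0
  have hy : ∀ r, r ≠ p → y r = 0 := fun r hr => (mul_eq_zero.1 (hoff p r hr.symm)).resolve_left hp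
  have hyp : y p ≠ 0 := fun h0 => hy0 (funext fun r => by
    by_cases hr : r = p
    · rw [hr, h0]; rfl
    · exact hy r hr)
  rw [dotProduct, Finset.sum_eq_single p (fun r _ hr => by rw [hy r hr, zero_mul]) (by simp)] at hyx
  exact mul_ne_zero hyp hp hyx

theorem not_SU_le_tensorWreathSubgroup (h : IsQPow σ q) (hF : Fintype.card F = q ^ 2) {d t : ℕ} (hd : 3 ≤ d)
    (ht : 2 ≤ t) (e : Fin n ≃ (Fin t → Fin d)) (P : GL (Fin n) F) :
    ¬ SUg n F q ≤ tensorWreathSubgroup d t e P := by
  classical
  intro hle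
  have hn : 2 ≤ n := by
    have hdt : n = d ^ t := by simpa using Fintype.card_congr e
    have := Nat.pow_le_pow_right (show 0 < d by omega) ht
    nlinarith
  obtain ⟨u, φ, hφ, hu0, hφ0, hmem⟩ := exists_SU_transvection_ne_one (n := n) h hF hn
  obtain ⟨π, gs, hC⟩ := exists_coord_of_mem_tensorWreath (hle hmem)
  obtain ⟨x, y, hx0, hy0, hyx, hval⟩ := coord_transvection e P φ u hφ hu0 hφ0
  have hdet : (pureT d t F gs).det ≠ 0 := by
    intro h0
    apply det_coord_ne_zero e P (transvectionGL φ u hφ)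
    rw [hC, Matrix.det_mul, h0, zero_mul]
  rw [hval] at hC
  have key : ∀ X Y : Fin t → Fin d, (if X = Y then 1 else 0) + x X * y Y = ∏ i, gs i (X i) (Y (π.symm i)) := by
    intro X Y
    have h1 := congrFun (congrFun hC X) Y
    rw [mul_permT, pureT_apply, Matrix.add_apply, Matrix.one_apply, Matrix.vecMulVec_apply] at h1
    exact h1
  have hker : ∀ i (v : Fin d → F), gs i *ᵥ v = 0 → v = 0 := by
    intro i v hv
    by_contra hv0
    obtain ⟨w, hw⟩ := Function.ne_iff.1 hv0
    have hz : pureT d t F gs * factor i (Matrix.of fun a (_ : Fin d) => v a) = 0 := by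
      rw [factor, ← map_mul]
      ext X Y
      rw [pureT_apply, Matrix.zero_apply]
      refine Finset.prod_eq_zero (Finset.mem_univ i) ?_
      rw [Pi.mul_apply, Pi.mulSingle_eq_same]
      exact congrFun hv (X i)
    have hz2 : factor i (Matrix.of fun a (_ : Fin d) => v a) = (0 : Matrix (Fin t → Fin d) (Fin t → Fin d) F) :=
      (IsUnit.mul_right_eq_zero ((Matrix.isUnit_iff_isUnit_det _).2 (isUnit_iff_ne_zero.2 hdet))).1 hz
    have := congrFun (congrFun hz2 (fun _ => w)) (fun _ => w)
    rw [factor_apply, if_pos fun j _ => rfl] at this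
    exact hw this
  have hrow : ∀ i a, ∃ b, gs i a b ≠ 0 := by
    intro i a
    by_contra! h0
    refine hdet (Matrix.det_eq_zero_of_row_eq_zero (fun _ => a) fun Y => ?_)
    rw [pureT_apply]
    exact Finset.prod_eq_zero (Finset.mem_univ i) (h0 _)
  -- a slice at one position is a multiple of a factor
  have hslice : ∀ (i : Fin t) (X Y : Fin t → Fin d) (a b : Fin d),
      ∏ l, gs l (Function.update X i a l) (Function.update Y (π.symm i) b (π.symm l)) =
        (∏ l ∈ Finset.univ.erase i, gs l (X l) (Y (π.symm l))) * gs i a b := by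
    intro i X Y a b
    rw [← Finset.prod_erase_mul _ _ (Finset.mem_univ i), Function.update_self, Function.update_self]
    congr 1
    refine Finset.prod_congr rfl fun l hl => ?_
    rw [Function.update_of_ne (Finset.ne_of_mem_erase hl),
      Function.update_of_ne (fun e' => Finset.ne_of_mem_erase hl (π.symm.injective e'))]
  by_cases hπ : π = 1
  · subst hπ
    have hoff : ∀ X Y : Fin t → Fin d, X ≠ Y → x X * y Y = 0 := by
      intro X Y hne
      obtain ⟨l₀, hl₀⟩ := Function.ne_iff.1 hne
      haveI : Nontrivial (Fin t) := Fin.nontrivial_iff_two_le.2 ht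
      obtain ⟨i, hi⟩ := exists_ne l₀
      set c := ∏ l ∈ Finset.univ.erase i, gs l (X l) (Y ((1 : Equiv.Perm (Fin t)).symm l)) with hc
      have hblk : ∀ a b, c * gs i a b = x (Function.update X i a) * y (Function.update Y i b) := by
        intro a b
        have h1 := key (Function.update X i a) (Function.update Y i b)
        rw [if_neg (fun e' => hl₀ (by simpa [Function.update_of_ne hi.symm] using congrFun e' l₀)), zero_add] at h1
        rw [h1]
        exact (hslice i X Y a b).symm
      have hc0 : c = 0 := by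
        by_contra hc0
        obtain ⟨v, hv0, hv⟩ := exists_orth_ne_zero (by omega : 2 ≤ d) fun b => y (Function.update Y i b)
        refine hv0 (hker i v (funext fun a => ?_))
        have hv' : ∑ b, y (Function.update Y i b) * v b = 0 := hv
        rw [Pi.zero_apply]
        refine (mul_eq_zero.1 (show c * (gs i *ᵥ v) a = 0 from ?_)).resolve_left hc0
        simp only [Matrix.mulVec, dotProduct, Finset.mul_sum, ← mul_assoc, hblk]
        simp only [mul_assoc, ← Finset.mul_sum, hv', mul_zero]
      have h1 := hblk (X i) (Y i)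
      rw [hc0, zero_mul, Function.update_eq_self, Function.update_eq_self] at h1
      exact h1.symm
    obtain ⟨p, hp⟩ := Function.ne_iff.1 hx0
    have hy : ∀ r, r ≠ p → y r = 0 := fun r hr => (mul_eq_zero.1 (hoff p r hr.symm)).resolve_left hp
    have hyp : y p ≠ 0 := fun h0 => hy0 (funext fun r => by
      by_cases hr : r = p
      · rw [hr, h0]; rfl
      · exact hy r hr)
    rw [dotProduct, Finset.sum_eq_single p (fun r _ hr => by rw [hy r hr, zero_mul]) (by simp)] at hyx
    exact mul_ne_zero hyp hp hyx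
  · obtain ⟨i, hi⟩ : ∃ i, π.symm i ≠ i := by
      by_contra! hall
      exact hπ (Equiv.ext fun i => by simpa using congrArg π (hall i).symm)
    set j := π.symm i
    let o : Fin d := ⟨0, by omega⟩
    choose bsel hbsel using hrow
    set X : Fin t → Fin d := fun _ => o
    set Y : Fin t → Fin d := fun l => bsel (π l) o
    set c := ∏ l ∈ Finset.univ.erase i, gs l (X l) (Y (π.symm l)) with hc
    have hc0 : c ≠ 0 := Finset.prod_ne_zero_iff.2 fun l _ => by simpa [Y, X] using hbsel l o
    have hblk : ∀ a b, c * gs i a b = (if Function.update X i a = Function.update Y j b then 1 else 0) +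
        x (Function.update X i a) * y (Function.update Y j b) := fun a b => by
      rw [key, hslice i X Y a b]
    -- a vector annihilated by the block
    let L : (Fin d → F) →ₗ[F] F × F :=
      { toFun := fun v => ((fun b => y (Function.update Y j b)) ⬝ᵥ v, v (X j))
        map_add' := fun a b => by simp [dotProduct_add]
        map_smul' := fun a b => by simp [dotProduct_smul] }
    have hL : LinearMap.ker L ≠ ⊥ := fun e0 => by
      have h1 := LinearMap.finrank_le_finrank_of_injective (LinearMap.ker_eq_bot.1 e0)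
      rw [Module.finrank_pi, Fintype.card_fin, Module.finrank_prod, Module.finrank_self] at h1
      omega
    obtain ⟨v, hv, hv0⟩ := Submodule.exists_mem_ne_zero_of_ne_bot hL
    have hv1 : ∑ b, y (Function.update Y j b) * v b = 0 := congrArg Prod.fst (LinearMap.mem_ker.1 hv)
    have hv2 : v (X j) = 0 := congrArg Prod.snd (LinearMap.mem_ker.1 hv)
    refine hv0 (hker i v (funext fun a => ?_))
    rw [Pi.zero_apply]
    refine (mul_eq_zero.1 (show c * (gs i *ᵥ v) a = 0 from ?_)).resolve_left hc0
    simp only [Matrix.mulVec, dotProduct, Finset.mul_sum, ← mul_assoc, hblk, add_mul, Finset.sum_add_distrib]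
    simp only [mul_assoc, ← Finset.mul_sum, hv1, mul_zero, add_zero]
    refine Finset.sum_eq_zero fun b _ => ?_
    split_ifs with he
    · have := congrFun he j
      rw [Function.update_of_ne hi, Function.update_self] at this
      rw [← this, hv2, mul_zero]
    · rw [zero_mul]

/-- A central commutator moves the eigenspace. -/
theorem exists_twist {H R : Subgroup (GL (Fin n) F)} (h : ScalarComm' H R) {c : GL (Fin n) F} (hc : c ∈ R)
    (hns : c ∉ scalars (Fin n) F) :
    ∃ y ∈ R, ∃ ζ : F, ζ ≠ 1 ∧ (c : Matrix (Fin n) (Fin n) F) * (y : Matrix (Fin n) (Fin n) F) =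
      ζ • ((y : Matrix (Fin n) (Fin n) F) * (c : Matrix (Fin n) (Fin n) F)) := by
  haveI : Nonempty (Fin n) := by
    by_contra hne
    rw [not_nonempty_iff] at hne
    exact hns (by rw [show c = 1 from Units.ext (Subsingleton.elim _ _)]; exact one_mem _)
  obtain ⟨y, hy, hyc⟩ : ∃ y ∈ R, c * y ≠ y * c := by
    by_contra! hall
    exact hns (mem_scalars_of_commute h.absIrred hall)
  obtain ⟨ζ, hζ⟩ := (mem_scalars_iff _).1 (h.comm (Subgroup.commutator_mem_commutator hc hy))
  have he : (c : Matrix (Fin n) (Fin n) F) * (y : Matrix (Fin n) (Fin n) F) =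
      (ζ : F) • ((y : Matrix (Fin n) (Fin n) F) * (c : Matrix (Fin n) (Fin n) F)) := by
    rw [← Units.val_mul, show c * y = ⁅c, y⁆ * (y * c) by rw [commutatorElement_def]; group, Units.val_mul, hζ,
      Matrix.smul_mul, one_mul, Units.val_mul]
  refine ⟨y, hy, ζ, fun h1 => hyc (Units.ext ?_), he⟩
  rw [Units.val_mul, Units.val_mul, he, h1, one_smul]

/-- A unitary transvection normalising `R` commutes with it once the fixed space is too large. -/
theorem transvection_commutator_fix {x : GL (Fin n) F} {φ u : Fin n → F} {hφ : φ ⬝ᵥ u = 0} :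
    ∃ Z : Submodule F (Fin n → F), n ≤ Module.finrank F Z + 2 ∧ ∀ w ∈ Z,
      ((x * transvectionGL φ u hφ * x⁻¹ * (transvectionGL φ u hφ)⁻¹ : GL (Fin n) F) : Matrix (Fin n) (Fin n) F) *ᵥ w = w := by
  set t := transvectionGL φ u hφ with ht
  let L : (Fin n → F) →ₗ[F] F × F :=
    LinearMap.prod
      { toFun := fun w => φ ⬝ᵥ w, map_add' := dotProduct_add φ, map_smul' := fun a w => dotProduct_smul a φ w }
      { toFun := fun w => φ ⬝ᵥ (((x⁻¹ : GL (Fin n) F) : Matrix (Fin n) (Fin n) F) *ᵥ w)
        map_add' := fun a b => by rw [Matrix.mulVec_add, dotProduct_add]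
        map_smul' := fun a w => by rw [Matrix.mulVec_smul, dotProduct_smul, RingHom.id_apply] }
  refine ⟨LinearMap.ker L, ?_, fun w hw => ?_⟩
  · have h1 := LinearMap.finrank_range_add_finrank_ker L
    have h2 := Submodule.finrank_le (LinearMap.range L)
    rw [Module.finrank_prod, Module.finrank_self] at h2
    rw [Module.finrank_pi, Fintype.card_fin] at h1
    omega
  rw [LinearMap.mem_ker] at hw
  have h1 : φ ⬝ᵥ w = 0 := congrArg Prod.fst hw
  have h2 : φ ⬝ᵥ (((x⁻¹ : GL (Fin n) F) : Matrix (Fin n) (Fin n) F) *ᵥ w) = 0 := congrArg Prod.snd hw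
  have ht1 : ((t⁻¹ : GL (Fin n) F) : Matrix (Fin n) (Fin n) F) *ᵥ w = w := by
    conv_lhs => rw [show w = (t : Matrix (Fin n) (Fin n) F) *ᵥ w by rw [ht, transvectionGL_mulVec, h1, zero_smul, add_zero]]
    rw [mulVec_inv_cancel]
  rw [Units.val_mul, Units.val_mul, Units.val_mul, ← Matrix.mulVec_mulVec, ht1, ← Matrix.mulVec_mulVec,
    ← Matrix.mulVec_mulVec, ht, transvectionGL_mulVec, h2, zero_smul, add_zero, inv_mulVec_cancel]

theorem not_SU_le_subgroupNormalizer' (h : IsQPow σ q) (hF : Fintype.card F = q ^ 2) (hn : 5 ≤ n) {r : ℕ}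
    {R : Subgroup (GL (Fin n) F)} (hR : IsUnitarySympData n q r R) : ¬ SUg n F q ≤ subgroupNormalizer R := by
  classical
  intro hle
  haveI : Nonempty (Fin n) := ⟨⟨0, by omega⟩⟩
  haveI : Nontrivial (Fin n) := Fin.nontrivial_iff_two_le.2 (by omega)
  obtain ⟨p, a, k, -, -, -, -, -, -, -, -, -, ⟨H, hS⟩, -⟩ := hR
  obtain ⟨x, hx, y, hy, hxy⟩ := not_abelian_of_absIrred hS.absIrred
  obtain ⟨c, hc⟩ := scalar_of_commute_transvections h hF (by omega) (k := (x : Matrix (Fin n) (Fin n) F))
    fun φ u hφ hmem => by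
      set t := transvectionGL φ u hφ
      have hcR : x * t * x⁻¹ * t⁻¹ ∈ R := by
        have h1 := (Subgroup.mem_normalizer_iff.1 (hle hmem) x⁻¹).1 (R.inv_mem hx)
        simpa [mul_assoc] using R.mul_mem hx h1
      suffices hc1 : x * t * x⁻¹ * t⁻¹ = 1 by
        rw [mul_inv_eq_one, mul_inv_eq_iff_eq_mul] at hc1
        exact (congrArg Units.val hc1).symm
      obtain ⟨Z, hZ, hfix⟩ := transvection_commutator_fix (x := x) (hφ := hφ)
      by_cases hs : x * t * x⁻¹ * t⁻¹ ∈ scalars (Fin n) F
      · obtain ⟨s, hs'⟩ := (mem_scalars_iff _).1 hs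
        obtain ⟨w, hw, hw0⟩ := Submodule.exists_mem_ne_zero_of_ne_bot (p := Z)
          (fun e => by rw [e, finrank_bot] at hZ; omega)
        have := hfix w hw
        rw [hs', Matrix.smul_mulVec, Matrix.one_mulVec] at this
        exact Units.ext (by rw [hs', smul_left_injective F hw0 (this.trans (one_smul F w).symm), one_smul, Units.val_one])
      exfalso
      obtain ⟨z, -, ζ, hζ, he⟩ := exists_twist hS hcR hs
      let Z' := Z.map (Matrix.toLin' (z : Matrix (Fin n) (Fin n) F))
      have hinj : Function.Injective (Matrix.toLin' (z : Matrix (Fin n) (Fin n) F)) := (linEquiv z).injective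
      have hdim : Module.finrank F Z' = Module.finrank F Z :=
        (Submodule.equivMapOfInjective _ hinj Z).finrank_eq.symm
      have hdis : Disjoint Z Z' := by
        rw [Submodule.disjoint_def]
        rintro v hv ⟨w, hw, rfl⟩
        rw [Matrix.toLin'_apply] at hv ⊢
        by_contra hv0
        have h1 := hfix _ hv
        rw [Matrix.mulVec_mulVec, he, Matrix.smul_mulVec, ← Matrix.mulVec_mulVec, hfix w hw] at h1
        exact hζ (smul_left_injective F hv0 (h1.trans (one_smul F _).symm))
      have h1 := Submodule.finrank_sup_add_finrank_inf_eq Z Z'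
      rw [hdis.eq_bot, finrank_bot] at h1
      have h2 := Submodule.finrank_le (Z ⊔ Z')
      rw [Module.finrank_pi, Fintype.card_fin] at h2
      omega
  refine hxy (Units.ext ?_)
  rw [Units.val_mul, Units.val_mul, hc, Matrix.smul_mul, Matrix.mul_smul, one_mul, mul_one]

end CfsgLib.Geo.Asch
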