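/-
The maximal subgroups of the special unitary groups lie in the geometric classes or are residual.
-/
import Cfsg.Agent.Lib.Geo.Asch.UnitNotLe

set_option autoImplicit false

namespace CfsgLib.Geo.Asch

open Matrix Cfsg.Geo

variable {F : Type*} [Field F] [Fintype F] {σ : F ≃+* F} {n q : ℕ}

theorem ne_top_of_index {F₀ : Subfield F} {r : ℕ} (hr : r.Prime) (hc : Fintype.card F = Nat.card F₀ ^ r) :
    F₀ ≠ ⊤ := by
  intro htop
  subst htop
  rw [Nat.card_congr Subfield.topEquiv.toEquiv, Nat.card_eq_fintype_card] at hc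
  have h1 := Fintype.one_lt_card (α := F)
  have h2 : Fintype.card F ^ 1 < Fintype.card F ^ r := Nat.pow_lt_pow_right h1 hr.one_lt
  rw [pow_one, ← hc] at h2
  exact lt_irrefl _ h2

/-- The maximal subgroups of `SU`, with the numerical conditions. -/
theorem unitary_maximal (hq : IsQPow σ q) (hF : Fintype.card F = q ^ 2) (hn : 4 ≤ n)
    (hsymp : ∀ r R, IsUnitarySympData (F := F) n q r R → ¬ SUg n F q ≤ subgroupNormalizer R)
    {H : Subgroup (GL (Fin n) F)} (hH : IsMaximalIn (SUg n F q) H) :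
    (∃ W : Submodule F (Fin n → F), W ≠ ⊥ ∧ IsTotallySingularFor (Cfsg.hermForm n F q) W ∧
      H = subspaceStabilizer W ⊓ SUg n F q) ∨
    (∃ W : Submodule F (Fin n → F), W ≠ ⊥ ∧ IsNondegenerateOn (Cfsg.hermForm n F q) W ∧
      2 * Module.finrank F W < n ∧ H = subspaceStabilizer W ⊓ SUg n F q) ∨
    (∃ (t m : ℕ) (D : Fin t → Submodule F (Fin n → F)),
      IsNondegenerateMDecomposition (Cfsg.hermForm n F q) m D ∧ t * m = n ∧
      H = decompositionStabilizer D ⊓ SUg n F q) ∨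
    (∃ (k : ℕ) (D : Fin 2 → Submodule F (Fin n → F)), 2 * k = n ∧ IsMDecomposition k D ∧
      (∀ i, IsTotallySingularFor (Cfsg.hermForm n F q) (D i)) ∧ H = decompositionStabilizer D ⊓ SUg n F q) ∨
    (∃ (r : ℕ) (K : Subalgebra F (Matrix (Fin n) (Fin n) F)), r.Prime ∧ Odd r ∧ r ∣ n ∧ IsFieldSubalgebra r K ∧
      IsAdjointClosedFor (Cfsg.hermForm n F q) K ∧ H = subalgebraNormalizer K ⊓ SUg n F q) ∨
    (∃ (d k : ℕ) (e : Fin n ≃ Fin d × Fin k) (P : GL (Fin n) F), 2 ≤ d ∧ d < k ∧ d * k = n ∧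
      IsTensorFormStructure (fun x : F => x ^ q) (Cfsg.hermForm n F q) (Cfsg.hermForm d F q) (Cfsg.hermForm k F q) e P ∧
      H = tensorProductSubgroup d k e P ⊓ SUg n F q) ∨
    (∃ (F₀ : Subfield F) (r : ℕ) (P : GL (Fin n) F), r.Prime ∧ Fintype.card F = Nat.card F₀ ^ r ∧
      IsHermRational F n q F₀ r P ∧ H = subfieldSubgroup F₀ P ⊓ SUg n F q) ∨
    (∃ (r : ℕ) (R : Subgroup (GL (Fin n) F)), r.Prime ∧ IsUnitarySympData n q r R ∧
      H = subgroupNormalizer R ⊓ SUg n F q) ∨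
    (∃ (d t : ℕ) (e : Fin n ≃ (Fin t → Fin d)) (P : GL (Fin n) F), 3 ≤ d ∧ 2 ≤ t ∧ d ^ t = n ∧ ¬ (q = 2 ∧ d = 3) ∧
      IsTensorPowerFormStructure (fun x : F => x ^ q) (Cfsg.hermForm n F q) (Cfsg.hermForm d F q) e P ∧
      H = tensorWreathSubgroup d t e P ⊓ SUg n F q) ∨
    InUnitaryResidualClass H := by
  classical
  have fin : ∀ M : Subgroup (GL (Fin n) F), H ≤ M → ¬ SUg n F q ≤ M → H = M ⊓ SUg n F q :=
    fun M hle hnot => ((hH.2 _ (le_inf hle hH.1.le) inf_le_right).resolve_right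
      fun e => hnot (inf_eq_right.1 e)).symm
  rcases unitary_host hq hF (by omega) H (hH.1.le.trans inf_le_left) with
    ⟨W, h0, hts, hle⟩ | ⟨W, h0, hnd, h2, hle⟩ | ⟨t, m, D, hD, htm, hle⟩ | ⟨k, D, hk, hD, hts, hle⟩ |
    ⟨r, K, hr, hro, hrn, hK, hKa, hle⟩ | ⟨d, k, e, P, hd, hdk, hn', hT, hle⟩ | ⟨F₀, r, P, hr, hc, hrat, hle⟩ |
    ⟨r, R, hr, hR, hle⟩ | ⟨d, t, e, P, hd, ht, hn', hex, hT, hle⟩ | h
  · exact .inl ⟨W, h0, hts, fin _ hle (not_SU_le_subspaceStabilizer hq hF (by omega) h0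
      (ne_top_of_totallySingular hq (by omega) hts))⟩
  · refine .inr <| .inl ⟨W, h0, hnd, h2, fin _ hle (not_SU_le_subspaceStabilizer hq hF (by omega) h0 fun e => ?_)⟩
    rw [e, finrank_top, Module.finrank_pi, Fintype.card_fin] at h2
    omega
  · refine .inr <| .inr <| .inl ⟨t, m, D, hD, htm, fin _ hle ?_⟩
    by_cases hm : 2 ≤ m
    · exact not_SU_le_decompositionStabilizer' hq hF (by omega) hD.decomp hm
    · have := hD.decomp.pos
      obtain rfl : m = 1 := by omega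
      obtain rfl : t = n := by omega
      exact not_SU_le_decompositionStabilizer hq hF hn hD
  · exact .inr <| .inr <| .inr <| .inl ⟨k, D, hk, hD, hts, fin _ hle
      (not_SU_le_decompositionStabilizer' hq hF (by omega) hD (by omega))⟩
  · exact .inr <| .inr <| .inr <| .inr <| .inl ⟨r, K, hr, hro, hrn, hK, hKa, fin _ hle
      (not_SU_le_subalgebraNormalizer hq hF (by omega) hK hr.one_lt)⟩
  · exact .inr <| .inr <| .inr <| .inr <| .inr <| .inl ⟨d, k, e, P, hd, hdk, hn', hT, fin _ hle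
      (not_SU_le_tensorProductSubgroup hq hF hd (by omega) e P)⟩
  · exact .inr <| .inr <| .inr <| .inr <| .inr <| .inr <| .inl ⟨F₀, r, P, hr, hc, hrat, fin _ hle
      (not_SU_le_subfieldSubgroup' hq hF hn (ne_top_of_index hr hc) P)⟩
  · exact .inr <| .inr <| .inr <| .inr <| .inr <| .inr <| .inr <| .inl ⟨r, R, hr, hR, fin _ hle (hsymp r R hR)⟩
  · exact .inr <| .inr <| .inr <| .inr <| .inr <| .inr <| .inr <| .inr <| .inl ⟨d, t, e, P, hd, ht, hn', hex, hT,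
      fin _ hle (not_SU_le_tensorWreathSubgroup hq hF hd ht e P)⟩
  · exact .inr <| .inr <| .inr <| .inr <| .inr <| .inr <| .inr <| .inr <| .inr h

/-- The sixth class for `r = 3`. -/
theorem IsUnitarySympData.three {R : Subgroup (GL (Fin n) F)} (h : IsUnitarySympData n q 3 R) :
    ∃ p : ℕ, p.Prime ∧ q = p ∧ p % 3 = 2 ∧ IsSymplecticTypeGroup 3 R ∧ ActsAbsolutelyIrreducibly (matrixSet R) ∧
      R ≤ similarityGroup (Cfsg.hermForm n F q) ∧ Nat.card (Subgroup.center R) = 3 ∧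
      ∃ k, n = 3 ^ k ∧ Nat.card R = 3 ^ (1 + 2 * k) := by
  obtain ⟨p, a, k, hp, -, hq', hrp, -, hk, hst, habs, hRU, -, ⟨-, -, -, hdvd, hmin⟩, hcase⟩ := h
  rcases hcase with ⟨-, hz, h3, hcard⟩ | ⟨h32, -⟩
  swap
  · omega
  rw [hz] at hdvd hmin
  have ha0 : a ≠ 0 := by
    rintro rfl
    rw [pow_zero] at hq'
    omega
  have ha1 : a = 1 := by
    by_contra ha1
    have hp3 : p % 3 ≠ 0 := fun h0 =>
      hrp ((Nat.prime_dvd_prime_iff_eq Nat.prime_three hp).1 (Nat.dvd_of_mod_eq_zero h0))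
    refine hmin 2 two_pos (by omega) ?_
    refine (Nat.modEq_iff_dvd' (Nat.one_le_pow _ _ hp.pos)).1 (Nat.ModEq.symm ?_)
    show p ^ 2 % 3 = 1 % 3
    rw [Nat.pow_mod]
    rcases (show p % 3 = 1 ∨ p % 3 = 2 by omega) with h | h <;> rw [h]
  subst ha1
  rw [pow_one] at hq'
  subst hq'
  exact ⟨q, hp, rfl, by omega, hst, habs, fun g hg => ⟨1, fun u v => by rw [Units.val_one, one_mul]; exact hRU hg u v⟩,
    hz, k, hk, hcard⟩

end CfsgLib.Geo.Asch
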