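/-
Common steps for reading off the maximal subgroups of the orthogonal groups from the hosts.
-/
import Cfsg.Agent.Lib.Geo.Asch.OrthHost
import Cfsg.Agent.Lib.Geo.Asch.OrthSmallBlocks
import Cfsg.Agent.Lib.Geo.Asch.OrthNotLe
import Cfsg.Agent.Lib.Geo.Asch.UnitMax

set_option autoImplicit false
set_option linter.unusedSectionVars false
set_option maxHeartbeats 800000

namespace CfsgLib.Geo.Asch

open Matrix Cfsg.Geo
open scoped Kronecker
open CfsgLib.Classical CfsgLib.Classical.Quad CfsgLib.Geo.OrthMax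
open QuadraticMap (polar polarBilin)

variable {F : Type*} [Field F] [Fintype F] {ι : Type} [Fintype ι] [DecidableEq ι] {Q : QuadraticForm F (ι → F)}

/-- A maximal subgroup contained in a group not containing `Ω` is its intersection with `Ω`. -/
theorem eq_inf_omega {H M : Subgroup (GL ι F)} (hH : IsMaximalIn (omegaGL (⇑Q)) H) (hle : H ≤ M)
    (hnot : ¬ omegaGL (⇑Q) ≤ M) : H = M ⊓ omegaGL (⇑Q) :=
  ((hH.2 _ (le_inf hle hH.1.le) inf_le_right).resolve_right fun e => hnot (inf_eq_right.1 e)).symm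

theorem iso_of_le_omega {H : Subgroup (GL ι F)} (hle : H ≤ omegaGL (⇑Q)) :
    ∀ g ∈ H, ∀ v, Q ((g : Matrix ι ι F) *ᵥ v) = Q v := fun _ hg => (mem_omega_facts (hle hg)).1

theorem finrank_pi_card : Module.finrank F (ι → F) = Fintype.card ι := Module.finrank_pi F

theorem finrank_perp_eq (hQ : (polarBilin Q).Nondegenerate) (W : Submodule F (ι → F)) :
    Module.finrank F (perp Q W) = Fintype.card ι - Module.finrank F W := by
  rw [finrank_perp hQ, Module.finrank_pi]

theorem finrank_lt_card {W : Submodule F (ι → F)} (hW : W ≠ ⊤) : Module.finrank F W < Fintype.card ι := by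
  simpa [Module.finrank_pi] using Submodule.finrank_lt hW

theorem finrank_pos_of_ne_bot {W : Submodule F (ι → F)} (hW : W ≠ ⊥) : 0 < Module.finrank F W :=
  Nat.pos_of_ne_zero fun e => hW (Submodule.finrank_eq_zero.1 e)

theorem ne_of_finrank {W : Submodule F (ι → F)} {k : ℕ} (hW : Module.finrank F W = k) (h0 : 0 < k)
    (h1 : k < Fintype.card ι) : W ≠ ⊥ ∧ W ≠ ⊤ := by
  constructor
  · intro e
    rw [e, finrank_bot] at hW
    omega
  · intro e
    rw [e, finrank_top, Module.finrank_pi] at hW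
    omega

theorem ne_top_of_singular (hQ : (polarBilin Q).Nondegenerate) (hn : 0 < Fintype.card ι) {W : Submodule F (ι → F)}
    (hW : IsTotallySingularQuad (⇑Q) W) : W ≠ ⊤ := by
  rintro rfl
  obtain ⟨i⟩ := Fintype.card_pos_iff.1 hn
  have h0 : (Pi.single i 1 : ι → F) = 0 := hQ.1 _ fun w => by
    show polar Q _ w = 0
    simp [QuadraticMap.polar, hW _ (Submodule.mem_top)]
  simpa using congrFun h0 i

theorem le_stabilizer_perp {H : Subgroup (GL ι F)} (hH : ∀ g ∈ H, ∀ v, Q ((g : Matrix ι ι F) *ᵥ v) = Q v)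
    {W : Submodule F (ι → F)} (hle : H ≤ subspaceStabilizer W) : H ≤ subspaceStabilizer (perp Q W) :=
  le_stabilizer_of_stable (stable_matrixSet_iff.2 fun g hg _ hv =>
    perp_map_mem (hH g hg) (fun w hw => ((mem_subspaceStabilizer_iff W _).1 (hle (H.inv_mem hg)) w).1 hw) hv)

theorem ndOn_perp (hQ : (polarBilin Q).Nondegenerate) {W : Submodule F (ι → F)}
    (hW : IsNondegenerateOn (polar Q) W) : IsNondegenerateOn (polar Q) (perp Q W) :=
  ndOn_of_inf_perp (by rw [perp_perp hQ, inf_comm]; exact inf_perp_of_ndOn hW)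

/-- A reducible group fixes a totally singular or a non-degenerate subspace. -/
theorem reducible_host (h2 : (2 : F) ≠ 0) {H : Subgroup (GL ι F)}
    (hH : ∀ g ∈ H, ∀ v, Q ((g : Matrix ι ι F) *ᵥ v) = Q v) (hred : ¬ ActsIrreducibly (matrixSet H)) :
    (∃ W : Submodule F (ι → F), W ≠ ⊥ ∧ IsTotallySingularQuad (⇑Q) W ∧ H ≤ subspaceStabilizer W) ∨
    (∃ W : Submodule F (ι → F), W ≠ ⊥ ∧ W ≠ ⊤ ∧ IsNondegenerateOn (polar Q) W ∧ H ≤ subspaceStabilizer W) := by
  rw [actsIrreducibly_iff] at hred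
  push Not at hred
  obtain ⟨W, hW, hW0, hW1⟩ := hred
  by_cases hR : W ⊓ perp Q W = ⊥
  · exact .inr ⟨W, hW0, hW1, ndOn_of_inf_perp hR, le_stabilizer_of_stable hW⟩
  refine .inl ⟨W ⊓ perp Q W, hR, fun v hv => ?_, fun g hg => ?_⟩
  · rw [apply_eq_half_polar h2, mem_perp.1 hv.2 v hv.1, zero_div]
  · have h1 := (mem_subspaceStabilizer_iff W _).1 (le_stabilizer_of_stable hW hg)
    have h2' := (mem_subspaceStabilizer_iff _ _).1 (le_stabilizer_perp hH (le_stabilizer_of_stable hW) hg)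
    exact (mem_subspaceStabilizer_iff _ _).2 fun v => and_congr (h1 v) (h2' v)

theorem tensorFormStructure_of_orGram {n₁ n₂ : ℕ} {e : ι ≃ Fin n₁ × Fin n₂} {P : GL ι F}
    {X : Matrix (Fin n₁) (Fin n₁) F} {Y : Matrix (Fin n₂) (Fin n₂) F} (h : orGram Q e P = X ⊗ₖ Y) :
    IsTensorFormStructure id (polar Q) (formOfGram id X) (formOfGram id Y) e P :=
  ⟨1, one_ne_zero, fun x y => by
    rw [← vecIn_apply, ← vecIn_apply, polar_vecIn, h, one_mul, gramMatrix_formOfGram, gramMatrix_formOfGram,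
      formOfGram_id_eq]⟩

theorem tensorPowerFormStructure_of_orGram {d t : ℕ} {e : ι ≃ (Fin t → Fin d)} {P : GL ι F}
    {X : Matrix (Fin d) (Fin d) F} {c : F} (hc : c ≠ 0) (h : orGram Q e P = c • pureT d t F (fun _ => X)) :
    IsTensorPowerFormStructure id (polar Q) (formOfGram id X) e P :=
  ⟨c, hc, fun x y => by
    rw [← vecIn_apply, ← vecIn_apply, polar_vecIn, h, Matrix.smul_mulVec, dotProduct_smul, smul_eq_mul,
      ← formOfGram_id_eq, gramMatrix_formOfGram]
    rfl⟩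

/-- A tensor product of two symmetric forms of the same odd size is a tensor square. -/
theorem square_of_tensor (h2 : (2 : F) ≠ 0) {d : ℕ} (hd : Odd d) {H : Subgroup (GL ι F)}
    {e : ι ≃ Fin d × Fin d} {P : GL ι F} {X Y : Matrix (Fin d) (Fin d) F} (hXu : IsUnit X) (hYu : IsUnit Y)
    (hX : Xᵀ = X) (hY : Yᵀ = Y) (hG : orGram Q e P = X ⊗ₖ Y) (hle : H ≤ tensorProductSubgroup d d e P) :
    ∃ (P₁ : GL ι F) (c : F), c ≠ 0 ∧
      orGram Q (e.trans (finTwoArrowEquiv (Fin d)).symm) P₁ = c • pureT d 2 F (fun _ => X) ∧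
      H ≤ tensorWreathSubgroup d 2 (e.trans (finTwoArrowEquiv (Fin d)).symm) P₁ := by
  obtain ⟨μ, M, hμ, hM⟩ := exists_congr_odd h2 hd hYu hXu hY hX
  let K : GL (Fin d × Fin d) F := Matrix.GeneralLinearGroup.mkOfDetNeZero
    ((1 : Matrix (Fin d) (Fin d) F) ⊗ₖ (M : Matrix (Fin d) (Fin d) F)) (by
      rw [Matrix.det_kronecker, Matrix.det_one, one_pow, one_mul]
      exact pow_ne_zero _ (M.isUnit.map Matrix.detMonoidHom).ne_zero)
  have hK : (K : Matrix (Fin d × Fin d) (Fin d × Fin d) F) =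
      (1 : Matrix (Fin d) (Fin d) F) ⊗ₖ (M : Matrix (Fin d) (Fin d) F) := rfl
  set P₁ := P * glReindex (F := F) e.symm K with hP₁
  refine ⟨P₁, μ⁻¹, inv_ne_zero hμ, ?_, ?_⟩
  · have hG₁ : orGram Q e P₁ = μ⁻¹ • (X ⊗ₖ X) := by
      rw [hP₁, orGram_mul_reindex, hG, hK, ← Matrix.kroneckerMap_transpose, ← Matrix.mul_kronecker_mul,
        ← Matrix.mul_kronecker_mul, Matrix.transpose_one, one_mul, mul_one,
        show (M : Matrix (Fin d) (Fin d) F)ᵀ * Y * (M : Matrix (Fin d) (Fin d) F) = μ⁻¹ • X by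
          rw [hM, smul_smul, inv_mul_cancel₀ hμ, one_smul],
        Matrix.kronecker_smul]
    rw [orGram_reindex, hG₁]
    ext x y
    simp [Matrix.kronecker_apply, pureT_apply, Fin.prod_univ_two, finTwoArrowEquiv]
  · refine le_trans ?_ (tensorProductSubgroup_le_wreath e P₁)
    exact hle.trans (le_of_eq (map_conj_eq_of_mem (Subgroup.mem_map_of_mem (glReindex (F := F) e.symm).toMonoidHom
      (show K ∈ kroneckerSubgroup d d F from ⟨1, M, by rw [hK, Units.val_one]⟩))).symm)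

/-- The standard form of odd dimension has Gram matrix over every subfield. -/
theorem rational_qOdd (h2 : (2 : F) ≠ 0) (m : ℕ) {F₁ : Subfield F} {P : GL (Unit ⊕ (Fin m ⊕ Fin m)) F} {ζ : F}
    (hζ : ζ ≠ 0) (hrat : IsQuadFormRationalStructure (fun v => ζ * qOdd m F v) F₁ P) :
    ∃ P' : GL (Unit ⊕ (Fin m ⊕ Fin m)) F, IsQuadFormRationalStructure (⇑(qOdd m F)) F₁ P' ∧
      subfieldSubgroup F₁ P' = subfieldSubgroup F₁ P := by
  exact rational_of_odd h2 (qOdd_nondeg h2 m) (k := m) (by simp; omega) (gram_qOdd_mem m F₁) hζ hrat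

theorem not_omega_le_lines (h2 : (2 : F) ≠ 0) (hQ : (polarBilin Q).Nondegenerate) {t : ℕ} (ht : 6 ≤ t)
    {D : Fin t → Submodule F (ι → F)} (hD : IsOrthogonalMDecomposition (⇑Q) 1 D) :
    ¬ omegaGL (⇑Q) ≤ decompositionStabilizer D := by
  obtain ⟨b, c, hc, hQb, hspan, -⟩ := frame_of_lines h2 hD
  have hcard := card_eq_of_mDecomposition hD.decomp.decomp
  exact not_omega_le_decompositionStabilizer h2 hQ ht (by omega) b
    (fun i => by rw [hspan i]; exact Submodule.mem_span_singleton_self _) hc hQb hD.decomp.orthogonal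

/-- A maximal subgroup fixing a proper subspace is its stabiliser in `Ω`. -/
theorem eq_stabilizer (hQ : (polarBilin Q).Nondegenerate) (hn : 5 ≤ Fintype.card ι) {H : Subgroup (GL ι F)}
    (hH : IsMaximalIn (omegaGL (⇑Q)) H) {W : Submodule F (ι → F)} (h0 : W ≠ ⊥) (h1 : W ≠ ⊤)
    (hle : H ≤ subspaceStabilizer W) : H = subspaceStabilizer W ⊓ omegaGL (⇑Q) :=
  eq_inf_omega hH hle (not_omega_le_subspaceStabilizer hQ hn h0 h1)

theorem eq_singular (hQ : (polarBilin Q).Nondegenerate) (hn : 5 ≤ Fintype.card ι) {H : Subgroup (GL ι F)}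
    (hH : IsMaximalIn (omegaGL (⇑Q)) H) {W : Submodule F (ι → F)} (h0 : W ≠ ⊥)
    (hts : IsTotallySingularQuad (⇑Q) W) (hle : H ≤ subspaceStabilizer W) :
    H = subspaceStabilizer W ⊓ omegaGL (⇑Q) :=
  eq_stabilizer hQ hn hH h0 (ne_top_of_singular hQ (by omega) hts) hle

theorem eq_field (hQ : (polarBilin Q).Nondegenerate) (hn : 5 ≤ Fintype.card ι) {H : Subgroup (GL ι F)}
    (hH : IsMaximalIn (omegaGL (⇑Q)) H) {r : ℕ} (hr : 2 ≤ r) {K : Subalgebra F (Matrix ι ι F)}
    (hK : IsFieldSubalgebra r K) (hle : H ≤ subalgebraNormalizer K) :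
    H = subalgebraNormalizer K ⊓ omegaGL (⇑Q) :=
  eq_inf_omega hH hle (not_omega_le_subalgebraNormalizer hQ hn hK hr)

theorem eq_subfield (hQ : (polarBilin Q).Nondegenerate) (hn : 5 ≤ Fintype.card ι) {H : Subgroup (GL ι F)}
    (hH : IsMaximalIn (omegaGL (⇑Q)) H) {F₀ : Subfield F} {r : ℕ} (hr : r.Prime)
    (hc : Fintype.card F = Nat.card F₀ ^ r) {P : GL ι F} (hle : H ≤ subfieldSubgroup F₀ P) :
    H = subfieldSubgroup F₀ P ⊓ omegaGL (⇑Q) :=
  eq_inf_omega hH hle (not_omega_le_subfieldSubgroup' hQ hn (ne_top_of_index hr hc) P)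

/-- Over the field of three elements a plus plane can be traded for a line, whose complement has even dimension. -/
theorem hyperplane_of_plus_plane (hF : Fintype.card F = 3) (h2 : (2 : F) ≠ 0) (hQ : (polarBilin Q).Nondegenerate)
    {H : Subgroup (GL ι F)} (hle : H ≤ omegaGL (⇑Q)) {U : Submodule F (ι → F)}
    (hnd : IsNondegenerateOn (polar Q) U) (hd : Module.finrank F U = 2) (hplus : IsPlusTypeOn (⇑Q) U)
    (hU : H ≤ subspaceStabilizer U) :
    ∃ v : ι → F, Module.finrank F (Submodule.span F {v}) = 1 ∧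
      IsNondegenerateOn (polar Q) (Submodule.span F {v}) ∧ H ≤ subspaceStabilizer (Submodule.span F {v}) := by
  have hst : Stable (matrixSet H) U := stable_matrixSet_iff.2 fun g hg v hv =>
    ((mem_subspaceStabilizer_iff U g).1 (hU hg) v).1 hv
  obtain ⟨v, hv1, hvst⟩ := exists_line_of_plus_plane hF hle hst hnd hd hplus
  have hv0 : v ≠ 0 := fun e => by rw [e, QuadraticMap.map_zero] at hv1; exact zero_ne_one hv1
  refine ⟨v, finrank_span_singleton hv0, ndOn_of_inf_perp ?_, le_stabilizer_of_stable hvst⟩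
  rw [Submodule.eq_bot_iff]
  rintro x ⟨hx, hx'⟩
  obtain ⟨t, rfl⟩ := Submodule.mem_span_singleton.1 hx
  have h := mem_perp.1 hx' v (Submodule.mem_span_singleton_self v)
  rw [QuadraticMap.polar_smul_right, polar_self', hv1, mul_one, smul_eq_mul] at h
  rw [(mul_eq_zero.1 h).resolve_right h2, zero_smul]

end CfsgLib.Geo.Asch
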