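/-
Steps shared by the even-dimensional orthogonal maximal subgroup statements.
-/
import Cfsg.Agent.Lib.Geo.Asch.OrthMax
import Cfsg.Agent.Lib.Geo.OrthNotMaximal

set_option autoImplicit false
set_option linter.unusedSectionVars false
set_option maxHeartbeats 800000

namespace CfsgLib.Geo.Asch

open Matrix Cfsg.Geo
open scoped Kronecker
open CfsgLib.Classical CfsgLib.Classical.Quad CfsgLib.Geo.OrthMax
open QuadraticMap (polar polarBilin)

variable {F : Type*} [Field F] [Fintype F] {ι : Type} [Fintype ι] [DecidableEq ι] {Q : QuadraticForm F (ι → F)}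

theorem card_ne_six : Fintype.card F ≠ 6 := by
  intro h
  obtain ⟨p, hp⟩ := CharP.exists F
  obtain ⟨n, hp', hn⟩ := FiniteField.card F p
  rw [h] at hn
  have h2 : (2 : ℕ) = p := ((Nat.prime_dvd_prime_iff_eq Nat.prime_two hp').1
    (Nat.prime_two.dvd_of_dvd_pow (hn ▸ (by norm_num : 2 ∣ 6))))
  have h3 : (3 : ℕ) = p := ((Nat.prime_dvd_prime_iff_eq Nat.prime_three hp').1
    (Nat.prime_three.dvd_of_dvd_pow (hn ▸ (by norm_num : 3 ∣ 6))))
  omega

theorem card_cases :
    Fintype.card F = 2 ∨ Fintype.card F = 3 ∨ Fintype.card F = 4 ∨ Fintype.card F = 5 ∨ 7 ≤ Fintype.card F := by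
  have h1 := Fintype.one_lt_card (α := F)
  have h6 := card_ne_six (F := F)
  omega

theorem odd_card_of_odd_part {W : Submodule F (ι → F)} (hW : IsNondegenerateOn (polar Q) W)
    (ho : Odd (Module.finrank F W)) : Odd (Fintype.card F) :=
  odd_card_iff'.2 fun h2 => Nat.not_even_iff_odd.2 ho (even_finrank_of_ndOn h2 hW)

theorem areIsometricFor_symm {W W' : Submodule F (ι → F)} (h : AreIsometricFor (⇑Q) W W') :
    AreIsometricFor (⇑Q) W' W := by
  obtain ⟨e, he⟩ := h
  refine ⟨e.symm, fun w => ?_⟩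
  have := he (e.symm w)
  rw [LinearEquiv.apply_symm_apply] at this
  exact this.symm

theorem areIsometricFor_refl (W : Submodule F (ι → F)) : AreIsometricFor (⇑Q) W W :=
  ⟨LinearEquiv.refl F W, fun _ => rfl⟩

/-- Isometries preserve plus type. -/
theorem isometric_plus {W W' : Submodule F (ι → F)} (h : AreIsometricFor (⇑Q) W W')
    (hp : IsPlusTypeOn (⇑Q) W) : IsPlusTypeOn (⇑Q) W' := by
  obtain ⟨e, he⟩ := h
  obtain ⟨U, hUW, hU, hUd⟩ := hp
  let L : U →ₗ[F] (ι → F) := W'.subtype.comp ((e : W →ₗ[F] W').comp (Submodule.inclusion hUW))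
  have hL : Function.Injective L :=
    W'.injective_subtype.comp (e.injective.comp (Submodule.inclusion_injective hUW))
  refine ⟨LinearMap.range L, ?_, ?_, ?_⟩
  · rintro _ ⟨u, rfl⟩; exact Subtype.coe_prop _
  · rintro _ ⟨u, rfl⟩
    show Q ((e _ : W') : ι → F) = 0
    rw [he]
    exact hU _ u.2
  · rw [LinearMap.finrank_range_of_inj hL, ← e.finrank_eq]
    exact hUd

theorem orth_of_pair {k : ℕ} {D : Fin 2 → Submodule F (ι → F)} (hD : IsNondegenerateMDecomposition (polar Q) k D)
    (h : AreIsometricFor (⇑Q) (D 0) (D 1)) : IsOrthogonalMDecomposition (⇑Q) k D := by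
  refine ⟨hD, fun i j => ?_⟩
  fin_cases i <;> fin_cases j
  exacts [areIsometricFor_refl _, h, areIsometricFor_symm h, areIsometricFor_refl _]

theorem areOrthogonalFor_perp (W : Submodule F (ι → F)) : AreOrthogonalFor (polar Q) W (perp Q W) :=
  fun u hu _ hv => mem_perp.1 hv u hu

theorem sup_perp_eq_top (hQ : (polarBilin Q).Nondegenerate) {W : Submodule F (ι → F)}
    (hW : IsNondegenerateOn (polar Q) W) : W ⊔ perp Q W = ⊤ := by
  apply Submodule.eq_top_of_finrank_eq
  rw [finrank_sup_of_orth hW (areOrthogonalFor_perp W), finrank_perp_eq hQ, Module.finrank_pi]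
  have := Submodule.finrank_le W
  rw [Module.finrank_pi] at this
  omega

/-- A non-degenerate half and its complement form a decomposition. -/
theorem pair_decomposition (hQ : (polarBilin Q).Nondegenerate) {H : Subgroup (GL ι F)}
    (hH : ∀ g ∈ H, ∀ v, Q ((g : Matrix ι ι F) *ᵥ v) = Q v) {W : Submodule F (ι → F)} {k : ℕ} (hk : 0 < k)
    (hW : IsNondegenerateOn (polar Q) W) (hd : Module.finrank F W = k) (hcard : Fintype.card ι = 2 * k)
    (hle : H ≤ subspaceStabilizer W) :
    IsNondegenerateMDecomposition (polar Q) k ![W, perp Q W] ∧ H ≤ decompositionStabilizer ![W, perp Q W] := by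
  have hnd : ∀ i, IsNondegenerateOn (polar Q) (![W, perp Q W] i) := by
    intro i
    fin_cases i
    exacts [hW, ndOn_perp hQ hW]
  have horth : ∀ i j, i ≠ j → AreOrthogonalFor (polar Q) (![W, perp Q W] i) (![W, perp Q W] j) := by
    intro i j hij
    fin_cases i <;> fin_cases j
    · exact absurd rfl hij
    · exact areOrthogonalFor_perp W
    · exact fun u hu v hv => perp_left hu hv
    · exact absurd rfl hij
  refine ⟨⟨⟨le_rfl, hk, fun i => ?_, indep_of_orth hnd horth, ?_⟩, hnd, horth⟩, fun g hg => ⟨1, fun i => ?_⟩⟩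
  · fin_cases i
    · exact hd
    · show Module.finrank F (perp Q W) = k
      rw [finrank_perp_eq hQ, hd, hcard]
      omega
  · refine top_le_iff.1 ((sup_perp_eq_top hQ hW).ge.trans (sup_le ?_ ?_))
    exacts [le_iSup ![W, perp Q W] 0, le_iSup ![W, perp Q W] 1]
  · rw [Equiv.Perm.coe_one, id_eq]
    fin_cases i
    · exact map_eq_of_stable (stable_matrixSet_iff.2 fun g hg v hv =>
        ((mem_subspaceStabilizer_iff W g).1 (hle hg) v).1 hv) hg
    · exact map_eq_of_stable (stable_matrixSet_iff.2 fun g hg v hv =>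
        ((mem_subspaceStabilizer_iff _ g).1 (le_stabilizer_perp hH hle hg) v).1 hv) hg

/-- In a space of plus type a half splits into two halves of the same type. -/
theorem isometric_perp_of_plus (hQ : (polarBilin Q).Nondegenerate) {W : Submodule F (ι → F)} {m : ℕ}
    (hW : IsNondegenerateOn (polar Q) W) (hd : Module.finrank F W = 2 * m) (hcard : Fintype.card ι = 4 * m)
    (hplus : IsPlusTypeOn (⇑Q) ⊤) : AreIsometricFor (⇑Q) W (perp Q W) := by
  have hd' : Module.finrank F (perp Q W) = 2 * m := by rw [finrank_perp_eq hQ, hd, hcard]; omega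
  have hW' := ndOn_perp hQ hW
  have horth := areOrthogonalFor_perp (Q := Q) W
  have horth' : AreOrthogonalFor (polar Q) (perp Q W) W := fun u hu v hv => perp_left hu hv
  rw [← sup_perp_eq_top hQ hW] at hplus
  by_cases h : IsPlusTypeOn (⇑Q) W <;> by_cases h' : IsPlusTypeOn (⇑Q) (perp Q W)
  · exact isometric_of_plus hW hW' hd hd' h h'
  · exact absurd hplus (not_plus_sup hW hW' horth h h')
  · exact absurd (sup_comm W (perp Q W) ▸ hplus) (not_plus_sup hW' hW horth' h' h)
  · exact isometric_of_not_plus hW hW' hd hd' h h'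

/-- An even number of isometric parts gives plus type when half the dimension is even. -/
theorem plus_of_even_parts (hQ : (polarBilin Q).Nondegenerate) {N : ℕ} (hcard : Fintype.card ι = 2 * N)
    (hN : Even N) {t k : ℕ} {D : Fin t → Submodule F (ι → F)} (hD : IsOrthogonalMDecomposition (⇑Q) k D)
    (ht : Even t) : IsPlusTypeOn (⇑Q) ⊤ := by
  have ht0 := hD.decomp.decomp.two_le
  rcases Nat.even_or_odd k with ⟨j, rfl⟩ | ho
  · exact (plus_top_parts (k := j) (by rw [two_mul]; exact hD) ⟨0, by omega⟩).2 (.inl ht)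
  · have h := card_eq_of_mDecomposition hD.decomp.decomp
    have h0 := hD.decomp.decomp.pos
    have hN1 : 1 ≤ N := by
      have := Nat.mul_le_mul ht0 (show 1 ≤ k by omega)
      omega
    have h2 : (2 : F) ≠ 0 := odd_card_iff'.1 (odd_card_of_odd_part (hD.decomp.nondegenerate ⟨0, by omega⟩)
      (by rw [hD.decomp.decomp.finrank_eq]; exact ho))
    rw [plus_top_iff h2 hQ hN1 hcard, hN.neg_one_pow, one_mul]
    exact isSquare_det_of_even hD ht

/-- A square discriminant in dimension `2 * N` with `N` odd: plus type exactly when `-1` is a square. -/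
theorem plus_iff_of_square (h2 : (2 : F) ≠ 0) (hQ : (polarBilin Q).Nondegenerate) {N : ℕ} (hN : Odd N)
    (hcard : Fintype.card ι = 2 * N) (h : IsSquare (gramQ Q).det) :
    IsPlusTypeOn (⇑Q) ⊤ ↔ Fintype.card F % 4 ≠ 3 := by
  rw [plus_top_iff h2 hQ hN.pos hcard, hN.neg_one_pow, ← FiniteField.isSquare_neg_one_iff]
  have hd : (gramQ Q).det ≠ 0 := ((Matrix.isUnit_iff_isUnit_det _).1 (isUnit_gramQ hQ)).ne_zero
  constructor
  · intro h'
    have := h'.div h
    rwa [mul_div_assoc, div_self hd, mul_one] at this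
  · exact fun h' => h'.mul h

/-- A non-square discriminant in dimension `2 * N` with `N` odd: plus type exactly when `-1` is not a square. -/
theorem plus_iff_of_not_square (h2 : (2 : F) ≠ 0) (hQ : (polarBilin Q).Nondegenerate) {N : ℕ} (hN : Odd N)
    (hcard : Fintype.card ι = 2 * N) (h : ¬ IsSquare (gramQ Q).det) :
    IsPlusTypeOn (⇑Q) ⊤ ↔ Fintype.card F % 4 = 3 := by
  rw [plus_top_iff h2 hQ hN.pos hcard, hN.neg_one_pow]
  have hd : (gramQ Q).det ≠ 0 := ((Matrix.isUnit_iff_isUnit_det _).1 (isUnit_gramQ hQ)).ne_zero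
  classical
  have hc : ringChar F ≠ 2 := fun e => h2 (by
    have h' := ringChar.Nat.cast_ringChar (R := F)
    rw [e] at h'
    exact_mod_cast h')
  constructor
  · intro h'
    by_contra h3
    have := h'.div (FiniteField.isSquare_neg_one_iff.2 h3)
    rw [mul_div_cancel_left₀ _ (neg_ne_zero.2 (one_ne_zero (α := F)))] at this
    exact h this
  · intro h3
    have hn1 : ¬ IsSquare (-1 : F) := fun hs => FiniteField.isSquare_neg_one_iff.1 hs h3
    obtain ⟨a, ha⟩ := FiniteField.exists_nonsquare (F := F) hc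
    have e1 := quadraticChar_neg_one_iff_not_isSquare.2 hn1
    have e2 := quadraticChar_neg_one_iff_not_isSquare.2 h
    have e3 : quadraticChar F ((-1) * (gramQ Q).det) = 1 := by rw [map_mul, e1, e2]; norm_num
    exact (quadraticChar_one_iff_isSquare (mul_ne_zero (neg_ne_zero.2 one_ne_zero) hd)).1 e3

/-- A maximal subgroup of `Ω` for a form of plus type fixes no totally singular space of codimension one in a
half. -/
theorem no_half_minus_one (hQ : (polarBilin Q).Nondegenerate) (hn : 5 ≤ Fintype.card ι)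
    (hplus : IsPlusTypeOn (⇑Q) ⊤) {H : Subgroup (GL ι F)} (hH : IsMaximalIn (omegaGL (⇑Q)) H)
    {W : Submodule F (ι → F)} (hW : IsTotallySingularQuad (⇑Q) W)
    (hdim : 2 * (Module.finrank F W + 1) = Fintype.card ι) (hle : H ≤ subspaceStabilizer W) : False := by
  obtain ⟨U, -, hU, hUd⟩ := hplus
  rw [finrank_top] at hUd
  have h0 : W ≠ ⊥ := fun e => by rw [e, finrank_bot] at hdim; omega
  obtain ⟨K, hK, hK'⟩ := exists_between_half hQ hn (U₀ := U) ⟨hU, hUd⟩ hW hdim
  rw [← eq_singular hQ hn hH h0 hW hle] at hK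
  rcases hH.2 K hK.le hK'.le with h | h
  · exact hK.ne h.symm
  · exact hK'.ne h

/-- A maximal subgroup of `Ω` does not exchange totally singular halves of odd dimension. -/
theorem no_swap (hQ : (polarBilin Q).Nondegenerate) (hn : 5 ≤ Fintype.card ι) {H : Subgroup (GL ι F)}
    (hH : IsMaximalIn (omegaGL (⇑Q)) H) {k : ℕ} (hk : 2 * k = Fintype.card ι) (hko : Odd k)
    {D : Fin 2 → Submodule F (ι → F)} (hD : IsMDecomposition k D) (hts : ∀ i, IsTotallySingularQuad (⇑Q) (D i))
    (hle : H ≤ decompositionStabilizer D) : False := by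
  obtain ⟨K, hK, hK'⟩ := exists_between_pair hQ hn hk hko hD hts
  rw [← eq_inf_omega hH hle (not_omega_le_decomposition_of_three hQ hn hD (by omega))] at hK
  rcases hH.2 K hK.le hK'.le with h | h
  · exact hK.ne h.symm
  · exact hK'.ne h

theorem plus_of_singular_pair {k : ℕ} (hk : 2 * k = Fintype.card ι) {D : Fin 2 → Submodule F (ι → F)}
    (hD : IsMDecomposition k D) (hts : ∀ i, IsTotallySingularQuad (⇑Q) (D i)) : IsPlusTypeOn (⇑Q) ⊤ :=
  ⟨D 0, le_top, hts 0, by rw [hD.finrank_eq, finrank_top, Module.finrank_pi, hk]⟩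

/-- Reading off a maximal subgroup fixing a non-degenerate subspace in dimension at most twelve. -/
theorem nd_cases (hQ : (polarBilin Q).Nondegenerate) {N : ℕ} (hcard : Fintype.card ι = 2 * N) (hN : 3 ≤ N)
    (hN' : N ≤ 6) {H : Subgroup (GL ι F)} (hH : IsMaximalIn (omegaGL (⇑Q)) H) {W : Submodule F (ι → F)}
    (h0 : W ≠ ⊥) (h1 : W ≠ ⊤) (hnd : IsNondegenerateOn (polar Q) W) (hle : H ≤ subspaceStabilizer W) :
    (Odd (Fintype.card F) ∧ ∃ W : Submodule F (ι → F), W ≠ ⊥ ∧ W ≠ ⊤ ∧ Odd (Module.finrank F W) ∧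
      2 * Module.finrank F W ≠ 2 * N ∧ IsNondegenerateOn (polar Q) W ∧
      H = subspaceStabilizer W ⊓ omegaGL (⇑Q)) ∨
    (∃ W : Submodule F (ι → F), Module.finrank F W = 2 ∧ IsNondegenerateOn (polar Q) W ∧
      ¬ IsPlusTypeOn (⇑Q) W ∧ H = subspaceStabilizer W ⊓ omegaGL (⇑Q)) ∨
    (4 ≤ Fintype.card F ∧ ∃ W : Submodule F (ι → F), Module.finrank F W = 2 ∧ IsNondegenerateOn (polar Q) W ∧
      IsPlusTypeOn (⇑Q) W ∧ H = subspaceStabilizer W ⊓ omegaGL (⇑Q)) ∨
    (∃ W : Submodule F (ι → F), Module.finrank F W = 4 ∧ IsNondegenerateOn (polar Q) W ∧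
      H = subspaceStabilizer W ⊓ omegaGL (⇑Q)) ∨
    (¬ Odd (Fintype.card F) ∧ ∃ v : ι → F, Q v ≠ 0 ∧
      H = subspaceStabilizer (Submodule.span F {v}) ⊓ omegaGL (⇑Q)) ∨
    (∃ W : Submodule F (ι → F), Module.finrank F W = N ∧ IsNondegenerateOn (polar Q) W ∧
      H ≤ subspaceStabilizer W) := by
  have hn5 : 5 ≤ Fintype.card ι := by omega
  have hiso := iso_of_le_omega hH.1.le
  have hd' := finrank_perp_eq hQ W
  have hpos := finrank_pos_of_ne_bot h0
  have hlt := finrank_lt_card h1
  by_cases hN2 : Module.finrank F W = N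
  · exact .inr <| .inr <| .inr <| .inr <| .inr ⟨W, hN2, hnd, hle⟩
  rcases Nat.even_or_odd (Module.finrank F W) with he | ho
  swap
  · exact .inl ⟨odd_card_of_odd_part hnd ho, W, h0, h1, ho, by omega, hnd, eq_stabilizer hQ hn5 hH h0 h1 hle⟩
  obtain ⟨U, hUd, hUnd, hUle⟩ : ∃ U : Submodule F (ι → F), (Module.finrank F U = 2 ∨ Module.finrank F U = 4) ∧
      IsNondegenerateOn (polar Q) U ∧ H ≤ subspaceStabilizer U := by
    obtain ⟨j, hj⟩ := he
    by_cases hsmall : Module.finrank F W ≤ 4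
    · exact ⟨W, by omega, hnd, hle⟩
    · exact ⟨perp Q W, by omega, ndOn_perp hQ hnd, le_stabilizer_perp hiso hle⟩
  rcases hUd with hU2 | hU4
  swap
  · obtain ⟨hb, ht⟩ := ne_of_finrank hU4 (by omega) (by omega)
    exact .inr <| .inr <| .inr <| .inl ⟨U, hU4, hUnd, eq_stabilizer hQ hn5 hH hb ht hUle⟩
  obtain ⟨hb, ht⟩ := ne_of_finrank hU2 (by omega) (by omega)
  have heq := eq_stabilizer hQ hn5 hH hb ht hUle
  by_cases hp : IsPlusTypeOn (⇑Q) U
  swap
  · exact .inr <| .inl ⟨U, hU2, hUnd, hp, heq⟩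
  have h1q := Fintype.one_lt_card (α := F)
  rcases (show Fintype.card F = 2 ∨ Fintype.card F = 3 ∨ 4 ≤ Fintype.card F by omega) with hq | hq | hq
  · obtain ⟨u, w, hu, hw, hqu, hqw, huw, hspan⟩ := exists_hyperbolic hUnd hU2 hp
    refine .inr <| .inr <| .inr <| .inr <| .inl ⟨by rw [hq]; decide, u + w, ?_, ?_⟩
    · rw [apply_add, hqu, hqw, huw]
      simp
    have hv0 : u + w ≠ 0 := fun e => by
      have := apply_add (Q := Q) u w
      rw [e, QuadraticMap.map_zero, hqu, hqw, huw] at this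
      simp at this
    obtain ⟨hb', ht'⟩ := ne_of_finrank (finrank_span_singleton (K := F) hv0) (by omega) (by omega)
    refine eq_stabilizer hQ hn5 hH hb' ht' fun g hg => ?_
    have h01 := eq_zero_or_one_of_card_two hq
    obtain ⟨a, b, hab⟩ := hspan _ (((mem_subspaceStabilizer_iff U g).1 (hUle hg) (u + w)).1 (U.add_mem hu hw))
    replace hab := hab.symm
    have hq1 := hiso g hg (u + w)
    rw [← hab, apply_add, apply_smul, apply_smul, QuadraticMap.polar_smul_left, QuadraticMap.polar_smul_right,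
      apply_add (Q := Q) u w, hqu, hqw, huw] at hq1
    have hab1 : a * b = 1 := by
      simp only [smul_eq_mul] at hq1
      linear_combination hq1
    have ha : a = 1 := (h01 a).resolve_left (left_ne_zero_of_mul_eq_one hab1)
    have hb1 : b = 1 := (h01 b).resolve_left (right_ne_zero_of_mul_eq_one hab1)
    rw [ha, hb1, one_smul, one_smul] at hab
    refine (mem_subspaceStabilizer_iff _ g).2 fun z => ⟨fun hz => ?_, fun hz => ?_⟩
    · obtain ⟨c, rfl⟩ := Submodule.mem_span_singleton.1 hz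
      rw [Matrix.mulVec_smul, ← hab]
      exact Submodule.smul_mem _ _ (Submodule.mem_span_singleton_self _)
    · obtain ⟨c, hc⟩ := Submodule.mem_span_singleton.1 hz
      refine Submodule.mem_span_singleton.2 ⟨c, ?_⟩
      have h2 := congrArg (fun x => ((g⁻¹ : GL ι F) : Matrix ι ι F) *ᵥ x) hc
      have h3 := congrArg (fun x => ((g⁻¹ : GL ι F) : Matrix ι ι F) *ᵥ x) hab
      simp only [mulVec_inv_cancel] at h2 h3
      rwa [Matrix.mulVec_smul, h3] at h2
  · have h2 : (2 : F) ≠ 0 := odd_card_iff'.1 (hq ▸ by decide)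
    obtain ⟨v, hvd, hvnd, hvle⟩ := hyperplane_of_plus_plane hq h2 hQ hH.1.le hUnd hU2 hp hUle
    obtain ⟨hb', ht'⟩ := ne_of_finrank hvd (by omega) (by omega)
    exact .inl ⟨hq ▸ by decide, _, hb', ht', hvd ▸ odd_one, by omega, hvnd,
      eq_stabilizer hQ hn5 hH hb' ht' hvle⟩
  · exact .inr <| .inr <| .inl ⟨hq, U, hU2, hUnd, hp, heq⟩

/-- A quadratic field of similitudes makes the form a sum of anisotropic planes. -/
theorem plus_iff_of_similitude_field (hQ : (polarBilin Q).Nondegenerate) {K : Subalgebra F (Matrix ι ι F)}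
    (hK : IsFieldSubalgebra 2 K) (hadj : IsAdjointClosedFor (polar Q) K)
    (hsim : ∀ k ∈ K, ∃ c : F, ∀ v, Q (k *ᵥ v) = c * Q v) :
    ∃ j, Fintype.card ι = 2 * j ∧ (IsPlusTypeOn (⇑Q) ⊤ ↔ Even j) := by
  classical
  have key : ∀ (n : ℕ) (S : Submodule F (ι → F)), Module.finrank F S = n → IsNondegenerateOn (polar Q) S →
      (∀ k ∈ K, ∀ v ∈ S, k *ᵥ v ∈ S) → ∃ j, n = 2 * j ∧ (IsPlusTypeOn (⇑Q) S ↔ Even j) := by
    have plane : ∀ S : Submodule F (ι → F), S ≠ ⊥ → IsNondegenerateOn (polar Q) S →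
        (∀ k ∈ K, ∀ v ∈ S, k *ᵥ v ∈ S) → ∃ P : Submodule F (ι → F), P ≤ S ∧ Module.finrank F P = 2 ∧
          IsNondegenerateOn (polar Q) P ∧ ¬ IsPlusTypeOn (⇑Q) P ∧ (∀ k ∈ K, ∀ v ∈ P, k *ᵥ v ∈ P) := by
      intro S hS hSnd hSK
      obtain ⟨v, hvS, hv⟩ : ∃ v ∈ S, Q v ≠ 0 := by
        by_contra! hall
        obtain ⟨x, hx, hx0⟩ := Submodule.exists_mem_ne_zero_of_ne_bot hS
        obtain ⟨-, y, hy, hxy⟩ := hSnd x hx hx0
        exact hxy (polar_zero_of_singular hall hx hy)
      have hv0 : v ≠ 0 := fun e => hv (by rw [e, QuadraticMap.map_zero])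
      let L : K →ₗ[F] (ι → F) :=
        { toFun := fun k => (k : Matrix ι ι F) *ᵥ v
          map_add' := fun k l => Matrix.add_mulVec _ _ _
          map_smul' := fun c k => Matrix.smul_mulVec _ _ _ }
      have hinj : Function.Injective L := by
        rw [← LinearMap.ker_eq_bot, LinearMap.ker_eq_bot']
        intro k hk
        by_contra hk0
        obtain ⟨l, -, hl⟩ := hK.inv _ k.2 (fun e => hk0 (Subtype.ext e))
        have hlk : l * (k : Matrix ι ι F) = 1 := mul_eq_one_comm.1 hl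
        apply hv0
        calc v = (1 : Matrix ι ι F) *ᵥ v := (Matrix.one_mulVec v).symm
          _ = l *ᵥ ((k : Matrix ι ι F) *ᵥ v) := by rw [Matrix.mulVec_mulVec, hlk]
          _ = 0 := by rw [show (k : Matrix ι ι F) *ᵥ v = 0 from hk, Matrix.mulVec_zero]
      have hP2 : Module.finrank F (LinearMap.range L) = 2 := by
        rw [LinearMap.finrank_range_of_inj hinj]; exact hK.finrank_eq
      have hPaniso : ∀ w ∈ LinearMap.range L, Q w = 0 → w = 0 := by
        rintro _ ⟨k, rfl⟩ hw
        by_contra hne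
        have hk0 : (k : Matrix ι ι F) ≠ 0 := fun e => hne (by show (k : Matrix ι ι F) *ᵥ v = 0; rw [e, Matrix.zero_mulVec])
        obtain ⟨c, hc⟩ := hsim _ k.2
        obtain ⟨l, -, hl⟩ := hK.inv _ k.2 hk0
        change Q ((k : Matrix ι ι F) *ᵥ v) = 0 at hw
        rw [hc, mul_eq_zero, or_iff_left hv] at hw
        have := hc (l *ᵥ v)
        rw [Matrix.mulVec_mulVec, hl, Matrix.one_mulVec, hw, zero_mul] at this
        exact hv this
      have hPnd : IsNondegenerateOn (polar Q) (LinearMap.range L) := by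
        intro w hw hw0
        obtain ⟨x, hx, hxw⟩ : ∃ x ∈ LinearMap.range L, polar Q x w ≠ 0 := by
          by_contra! hall
          by_cases h2 : (2 : F) = 0
          · haveI : CharP F 2 := charP_two_of_eq_zero h2
            haveI : Fact (Nat.Prime 2) := ⟨Nat.prime_two⟩
            obtain ⟨x, hx, hxi⟩ : ∃ x ∈ LinearMap.range L, x ∉ Submodule.span F {w} := by
              by_contra! hc
              have := Submodule.finrank_mono (show LinearMap.range L ≤ Submodule.span F {w} from hc)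
              rw [hP2, finrank_span_singleton hw0] at this
              omega
            have hqw : Q w ≠ 0 := fun e => hw0 (hPaniso w hw e)
            obtain ⟨a, ha⟩ := Finite.surjective_of_injective (frobenius_inj F 2) (Q x / Q w)
            rw [frobenius_def] at ha
            refine hxi (Submodule.mem_span_singleton.2 ⟨a, ?_⟩)
            refine (sub_eq_zero.1 (hPaniso _ ((LinearMap.range L).sub_mem hx ((LinearMap.range L).smul_mem a hw))
              ?_)).symm
            rw [sub_eq_add_neg, ← neg_smul, apply_add, apply_smul, QuadraticMap.polar_smul_right, hall x hx,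
              neg_mul_neg, ← pow_two, ha, div_mul_cancel₀ _ hqw, smul_zero, add_zero, ← two_mul, h2, zero_mul]
          · have := hall w hw
            rw [polar_self'] at this
            exact hw0 (hPaniso w hw ((mul_eq_zero.1 this).resolve_left h2))
        exact ⟨⟨x, hx, hxw⟩, ⟨x, hx, by rwa [QuadraticMap.polar_comm]⟩⟩
      refine ⟨LinearMap.range L, ?_, hP2, hPnd, ?_, ?_⟩
      · rintro _ ⟨k, rfl⟩
        exact hSK _ k.2 v hvS
      · rintro ⟨U, hUle, hU, hUd⟩
        obtain ⟨u, hu, hu0⟩ := Submodule.exists_mem_ne_zero_of_ne_bot (p := U) (fun e => by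
          rw [e, finrank_bot, hP2] at hUd; omega)
        exact hu0 (hPaniso u (hUle hu) (hU u hu))
      · rintro k hk _ ⟨l, rfl⟩
        exact ⟨⟨k * l, K.mul_mem hk l.2⟩, by show (k * (l : Matrix ι ι F)) *ᵥ v = _; rw [← Matrix.mulVec_mulVec]; rfl⟩
    have split : ∀ S P : Submodule F (ι → F), IsNondegenerateOn (polar Q) S → (∀ k ∈ K, ∀ v ∈ S, k *ᵥ v ∈ S) →
        P ≤ S → IsNondegenerateOn (polar Q) P → (∀ k ∈ K, ∀ v ∈ P, k *ᵥ v ∈ P) →
        ∃ S' : Submodule F (ι → F), P ⊔ S' = S ∧ IsNondegenerateOn (polar Q) S' ∧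
          (∀ k ∈ K, ∀ v ∈ S', k *ᵥ v ∈ S') ∧ AreOrthogonalFor (polar Q) P S' := by
      intro S P hSnd hSK hPS hPnd hPK
      have horth : AreOrthogonalFor (polar Q) P (S ⊓ perp Q P) := fun u hu _ hv => mem_perp.1 hv.2 u hu
      have hsup : P ⊔ (S ⊓ perp Q P) = S := by
        rw [inf_comm S, ← sup_inf_assoc_of_le _ hPS, sup_perp_eq_top hQ hPnd, top_inf_eq]
      refine ⟨S ⊓ perp Q P, hsup, fun w hw hw0 => ?_, fun k hk w hw => ⟨hSK k hk w hw.1, ?_⟩, horth⟩
      · obtain ⟨-, x, hx, hxw⟩ := hSnd w hw.1 hw0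
        rw [← hsup] at hx
        obtain ⟨a, ha, b, hb, rfl⟩ := Submodule.mem_sup.1 hx
        rw [QuadraticMap.polar_add_right, perp_left hw.2 ha, zero_add] at hxw
        exact ⟨⟨b, hb, by rwa [QuadraticMap.polar_comm]⟩, ⟨b, hb, hxw⟩⟩
      · refine mem_perp.2 fun u hu => ?_
        obtain ⟨k', hk', hkk⟩ := hadj k hk
        rw [QuadraticMap.polar_comm, hkk]
        exact perp_left hw.2 (hPK k' hk' u hu)
    intro n
    induction n using Nat.strong_induction_on with
    | _ n ih =>
      intro S hn hSnd hSK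
      by_cases hS : S = ⊥
      · refine ⟨0, by rw [← hn, hS, finrank_bot], iff_of_true ⟨⊥, bot_le, fun w hw => ?_, ?_⟩ ⟨0, rfl⟩⟩
        · rw [(Submodule.mem_bot F).1 hw, QuadraticMap.map_zero]
        · rw [hS, finrank_bot]
      obtain ⟨P, hPS, hP2, hPnd, hPm, hPK⟩ := plane S hS hSnd hSK
      obtain ⟨S', hsup, hS'nd, hS'K, horth⟩ := split S P hSnd hSK hPS hPnd hPK
      have hd := finrank_sup_of_orth hPnd horth
      rw [hsup, hn, hP2] at hd
      obtain ⟨j, hj, hiff⟩ := ih (Module.finrank F S') (by omega) S' rfl hS'nd hS'K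
      refine ⟨j + 1, by omega, ?_⟩
      have horth' : AreOrthogonalFor (polar Q) S' P := fun u hu v hv => by
        rw [QuadraticMap.polar_comm]; exact horth v hv u hu
      rw [Nat.even_add_one]
      by_cases hpl : IsPlusTypeOn (⇑Q) S'
      · refine iff_of_false ?_ (not_not.2 (hiff.1 hpl))
        rw [← hsup, sup_comm]
        exact not_plus_sup hS'nd hPnd horth' hpl hPm
      · refine iff_of_true ?_ (mt hiff.2 hpl)
        have hS'0 : S' ≠ ⊥ := fun e => hpl ⟨⊥, bot_le, fun w hw => by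
          rw [(Submodule.mem_bot F).1 hw, QuadraticMap.map_zero], by rw [e, finrank_bot]⟩
        obtain ⟨P', hP'S, hP'2, hP'nd, hP'm, hP'K⟩ := plane S' hS'0 hS'nd hS'K
        obtain ⟨T, hT, hTnd, hTK, hTorth⟩ := split S' P' hS'nd hS'K hP'S hP'nd hP'K
        have hd' := finrank_sup_of_orth hP'nd hTorth
        rw [hT, hP'2] at hd'
        obtain ⟨i, hi, hiff'⟩ := ih (Module.finrank F T) (by omega) T rfl hTnd hTK
        have hie : Even i := by
          have hji : j = i + 1 := by omega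
          have hodd := mt hiff.2 hpl
          rw [hji, Nat.even_add_one, not_not] at hodd
          exact hodd
        rw [← hsup, ← hT, ← sup_assoc]
        refine plus_sup (ndOn_sup hPnd hP'nd fun u hu v hv => horth u hu v (hT ▸ Submodule.mem_sup_left hv))
          (fun u hu v hv => ?_)
          (plus_of_not_plus hPnd hP'nd (m := 1) hP2 hP'2
            (fun u hu v hv => horth u hu v (hT ▸ Submodule.mem_sup_left hv)) hPm hP'm) (hiff'.2 hie)
        obtain ⟨a, ha, b, hb, rfl⟩ := Submodule.mem_sup.1 hu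
        rw [QuadraticMap.polar_add_left, horth a ha v (hT ▸ Submodule.mem_sup_right hv), hTorth b hb v hv, add_zero]
  obtain ⟨j, hj, hiff⟩ := key _ ⊤ rfl
    (fun w _ hw0 => ⟨let ⟨x, hx⟩ := (polar_isNondegenerate hQ w hw0).1; ⟨x, trivial, hx⟩,
      let ⟨x, hx⟩ := (polar_isNondegenerate hQ w hw0).2; ⟨x, trivial, hx⟩⟩) (fun _ _ _ _ => trivial)
  exact ⟨j, by rw [finrank_top, Module.finrank_pi] at hj; exact hj, hiff⟩

end CfsgLib.Geo.Asch
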