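/-
Steps special to dimension twelve.
-/
import Cfsg.Agent.Lib.Geo.Asch.OrthEven
import Cfsg.Agent.Lib.Geo.Asch.OrthTensor

set_option autoImplicit false
set_option linter.unusedSectionVars false
set_option maxHeartbeats 800000

namespace CfsgLib.Geo.Asch

open Matrix Cfsg.Geo
open scoped Kronecker
open CfsgLib.Classical CfsgLib.Classical.Quad CfsgLib.Geo.OrthMax
open QuadraticMap (polar polarBilin)

variable {F : Type*} [Field F] [Fintype F] {ι : Type} [Fintype ι] [DecidableEq ι] {Q : QuadraticForm F (ι → F)}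

/-- The discriminant of a tensor product of a ternary and a quaternary form is that of the quaternary factor. -/
theorem plus_iff_three_four (h2 : (2 : F) ≠ 0) (hQ : (polarBilin Q).Nondegenerate) {e : ι ≃ Fin 3 × Fin 4}
    {P : GL ι F} {X : Matrix (Fin 3) (Fin 3) F} {Y : Matrix (Fin 4) (Fin 4) F} (hG : orGram Q e P = X ⊗ₖ Y)
    (hXu : IsUnit X) (hYu : IsUnit Y) : IsPlusTypeOn (⇑Q) ⊤ ↔ IsSquare Y.det := by
  have hcard : Fintype.card ι = 2 * 6 := by rw [Fintype.card_congr e]; simp
  rw [plus_top_iff h2 hQ (by norm_num) hcard, show ((-1 : F) ^ 6) = 1 by norm_num, one_mul]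
  have h := det_orGram (Q := Q) e P
  rw [hG, Matrix.det_kronecker, Fintype.card_fin, Fintype.card_fin] at h
  have hd : (P : Matrix ι ι F).det ≠ 0 := (P.isUnit.map Matrix.detMonoidHom).ne_zero
  have hX0 := ((Matrix.isUnit_iff_isUnit_det _).1 hXu).ne_zero
  have hY0 := ((Matrix.isUnit_iff_isUnit_det _).1 hYu).ne_zero
  constructor
  · rintro ⟨a, ha⟩
    refine ⟨(P : Matrix ι ι F).det * a / (X.det ^ 2 * Y.det), ?_⟩
    rw [ha] at h
    field_simp
    linear_combination h
  · rintro ⟨a, ha⟩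
    refine ⟨X.det ^ 2 * a ^ 3 / (P : Matrix ι ι F).det, ?_⟩
    rw [ha] at h
    field_simp
    linear_combination -h

/-- A symmetric quaternary matrix of non-square determinant gives a form of minus type. -/
theorem not_plus_of_nonsquare (h2 : (2 : F) ≠ 0) {Y : Matrix (Fin 4) (Fin 4) F} (hYu : IsUnit Y) (hY : Yᵀ = Y)
    (hns : ¬ IsSquare Y.det) : ¬ IsPlusTypeOn (fun v : Fin 4 → F => formOfGram id Y v v) ⊤ := by
  let R : QuadraticForm F (Fin 4 → F) := LinearMap.BilinMap.toQuadraticMap (Matrix.toLinearMap₂' F Y)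
  have hR : ∀ v, R v = v ⬝ᵥ Y *ᵥ v := fun v => Matrix.toLinearMap₂'_apply' Y v v
  have he : (fun v : Fin 4 → F => formOfGram id Y v v) = ⇑R := funext fun v => by rw [formOfGram_id_eq, hR]
  have hp : ∀ u v, polar R u v = 2 * (u ⬝ᵥ Y *ᵥ v) := by
    intro u v
    simp only [QuadraticMap.polar, hR, Matrix.mulVec_add, add_dotProduct, dotProduct_add]
    rw [show v ⬝ᵥ Y *ᵥ u = u ⬝ᵥ Y *ᵥ v by
      rw [Matrix.dotProduct_mulVec, ← Matrix.mulVec_transpose, hY, dotProduct_comm]]
    ring
  have hRn : (polarBilin R).Nondegenerate := by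
    have key : ∀ x : Fin 4 → F, (∀ y, polar R y x = 0) → x = 0 := fun x hx => by
      have hz : Y *ᵥ x = 0 := funext fun i => by
        have := hx (Pi.single i 1)
        rw [hp, single_one_dotProduct] at this
        exact (mul_eq_zero.1 this).resolve_left h2
      exact Matrix.mulVec_injective_iff_isUnit.2 hYu (hz.trans (Matrix.mulVec_zero Y).symm)
    exact ⟨fun x hx => key x fun y => (QuadraticMap.polar_comm _ _ _).trans (hx y), fun x hx => key x hx⟩
  have hg : gramQ R = (2 : F) • Y := by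
    ext i j
    rw [gramQ, gramIn_apply, Matrix.one_mulVec, Matrix.one_mulVec, hp, single_one_dotProduct, Matrix.mulVec_single_one]
    rfl
  rw [he, plus_top_iff h2 hRn (N := 2) (by norm_num) (by simp), hg, Matrix.det_smul, Fintype.card_fin]
  rintro ⟨a, ha⟩
  have h4 : (4 : F) ≠ 0 := by
    rw [show (4 : F) = 2 * 2 by norm_num]
    exact mul_ne_zero h2 h2
  refine hns ⟨a / 4, ?_⟩
  field_simp
  linear_combination ha

end CfsgLib.Geo.Asch
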