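/-
Symplectic-type normal subgroups of the symplectic groups: extraspecial of minus type over a prime field.
-/
import Cfsg.Agent.Lib.Geo.Asch.SpForms
import Cfsg.Agent.Lib.Geo.Asch.AbelianRealise

set_option autoImplicit false

namespace CfsgLib.Geo.Asch

open Matrix Cfsg.Geo
open CfsgLib.Geo.Roots (isSymplecticForm_sympForm mem_spGL_iff)

variable {F : Type*} [Field F] [Fintype F] {m : ℕ}

/-- An abelian group of exponent two in an absolutely irreducible symplectic-type group inside the symplectic group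
is too small to split the space completely. -/
theorem symp_minus_type (h2 : (2 : F) ≠ 0) {H N : Subgroup (GL (Fin m ⊕ Fin m) F)} (h : ScalarComm' H N)
    (hm : 1 ≤ m) (hNS : N ≤ Cfsg.spGL m F) (hZ : Nat.card (Subgroup.center N) = 2) {k : ℕ} (hk : 2 * m = 2 ^ k)
    (hcard : Nat.card N = 2 ^ (1 + 2 * k))
    (htr : ∀ x : N, x ∉ Subgroup.center N → ((x : GL (Fin m ⊕ Fin m) F) : Matrix (Fin m ⊕ Fin m) (Fin m ⊕ Fin m) F).trace = 0) :
    IsOfMinusType k N := by
  classical
  intro A hAc hAexp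
  by_contra! hbig
  haveI : Nonempty (Fin m ⊕ Fin m) := ⟨Sum.inl ⟨0, hm⟩⟩
  haveI : Finite (GL (Fin m ⊕ Fin m) F) :=
    Finite.of_injective (fun g : GL (Fin m ⊕ Fin m) F => (g : Matrix (Fin m ⊕ Fin m) (Fin m ⊕ Fin m) F))
      Units.val_injective
  have hcardι : Fintype.card (Fin m ⊕ Fin m) = 2 ^ k := by
    rw [Fintype.card_sum, Fintype.card_fin, ← hk]; ring
  have hnF : (Fintype.card (Fin m ⊕ Fin m) : F) ≠ 0 := by
    rw [hcardι, Nat.cast_pow]; exact pow_ne_zero _ (by exact_mod_cast h2)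
  let mat : N → Matrix (Fin m ⊕ Fin m) (Fin m ⊕ Fin m) F := fun x => ((x : GL (Fin m ⊕ Fin m) F) : Matrix (Fin m ⊕ Fin m) (Fin m ⊕ Fin m) F)
  have mat_mul : ∀ x y, mat (x * y) = mat x * mat y := fun x y => rfl
  -- a common eigenvector
  have hab : ∀ x ∈ A.map N.subtype, ∀ y ∈ A.map N.subtype, x * y = y * x := by
    rintro _ ⟨x, hx, rfl⟩ _ ⟨y, hy, rfl⟩
    exact congrArg (fun t : A => ((t : N) : GL (Fin m ⊕ Fin m) F)) (hAc.is_comm.comm ⟨x, hx⟩ ⟨y, hy⟩)
  have hne1 : (-1 : F) ≠ 1 := fun e => h2 (by linear_combination -e)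
  obtain ⟨v, hv0, hv⟩ := exists_common_eigen hab (m := 2) (by exact_mod_cast h2)
    (by
      rintro _ ⟨x, hx, rfl⟩
      rw [← map_pow, pow_two, hAexp x hx, map_one])
    (ζ := -1) (IsPrimitiveRoot.mk_of_lt _ two_pos (by norm_num) fun l hl hl2 => by
      interval_cases l
      simpa using hne1)
  -- the vectors of the cosets
  set w : N ⧸ A → Fin m ⊕ Fin m → F := fun q => mat q.out *ᵥ v with hw
  haveI := Fintype.ofFinite (N ⧸ A)
  have hcoset : ∀ x : N, ∃ c : F, mat x *ᵥ v = c • w (x : N ⧸ A) := by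
    intro x
    have hmem : ((x : N ⧸ A).out)⁻¹ * x ∈ A := QuotientGroup.eq.1 ((x : N ⧸ A).out_eq)
    obtain ⟨j, hj⟩ := hv _ ⟨_, hmem, rfl⟩
    refine ⟨(-1) ^ j, ?_⟩
    rw [hw]
    simp only
    rw [← Matrix.mulVec_smul, ← hj]
    show mat x *ᵥ v = mat ((x : N ⧸ A).out) *ᵥ (mat (((x : N ⧸ A).out)⁻¹ * x) *ᵥ v)
    rw [Matrix.mulVec_mulVec, ← mat_mul, mul_inv_cancel_left]
  let W : Submodule F (Fin m ⊕ Fin m → F) := Submodule.span F (Set.range fun x : N => mat x *ᵥ v)
  have hWtop : W = ⊤ := by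
    refine (actsIrreducibly_iff.1 h.absIrred.1 W ?_).resolve_left ?_
    · rintro _ ⟨g, hg, rfl⟩ u hu
      have hle : W ≤ W.comap ((g : Matrix (Fin m ⊕ Fin m) (Fin m ⊕ Fin m) F).mulVecLin) := Submodule.span_le.2 (by
        rintro _ ⟨x, rfl⟩
        show (g : Matrix (Fin m ⊕ Fin m) (Fin m ⊕ Fin m) F) *ᵥ (mat x *ᵥ v) ∈ W
        rw [Matrix.mulVec_mulVec]
        exact Submodule.subset_span ⟨⟨g, hg⟩ * x, rfl⟩)
      exact hle hu
    · intro hb
      have hv1 : v ∈ W := Submodule.subset_span ⟨1, Matrix.one_mulVec v⟩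
      rw [hb, Submodule.mem_bot] at hv1
      exact hv0 hv1
  have hspan : ⊤ ≤ Submodule.span F (Set.range w) := by
    rw [← hWtop, Submodule.span_le]
    rintro _ ⟨x, rfl⟩
    obtain ⟨c, hc⟩ := hcoset x
    show mat x *ᵥ v ∈ _
    rw [hc]
    exact Submodule.smul_mem _ _ (Submodule.subset_span ⟨_, rfl⟩)
  have hQ : Fintype.card (N ⧸ A) = 2 ^ k := by
    refine le_antisymm ?_ ?_
    · have h1 := Subgroup.card_eq_card_quotient_mul_card_subgroup A
      rw [hcard, Nat.card_eq_fintype_card (α := N ⧸ A)] at h1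
      refine Nat.le_of_mul_le_mul_right ?_ (pow_pos two_pos (k + 1))
      calc Fintype.card (N ⧸ A) * 2 ^ (k + 1) ≤ Fintype.card (N ⧸ A) * Nat.card A := Nat.mul_le_mul_left _ hbig
        _ = 2 ^ k * 2 ^ (k + 1) := by rw [← h1, ← pow_add]; ring_nf
    · have h1 := finrank_range_le_card (R := F) w
      rw [show Set.finrank F (Set.range w) = Module.finrank F ↥(Submodule.span F (Set.range w)) from rfl,
        top_le_iff.1 hspan, finrank_top, Module.finrank_pi, hcardι] at h1
      exact h1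
  have hli : LinearIndependent F w := linearIndependent_of_top_le_span_of_card_eq_finrank hspan
    (by rw [hQ, Module.finrank_pi, hcardι])
  let b := Module.Basis.mk hli hspan
  have hb : ∀ q, b q = w q := fun q => Module.Basis.mk_apply hli hspan q
  -- commutators with `A` are signs
  have hsign : ∀ (a x : N), ∃ c : F, mat (a * x) = c • mat (x * a) := by
    intro a x
    obtain ⟨c, hc, e⟩ := h.commutator_central x a
    obtain ⟨l, hl⟩ := (mem_scalars_iff _).1 ((h.center_eq c).1 hc)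
    refine ⟨l, ?_⟩
    rw [e, mat_mul, show mat c = (l : F) • 1 from hl, Matrix.smul_mul, one_mul]
  -- the span of `A` is diagonal in this basis
  set S := Submodule.span F (Set.range fun a : A => mat (a : N)) with hS
  have hdiag : ∀ M ∈ S, ∀ q, ∃ c : F, M *ᵥ w q = c • w q := by
    intro M hM q
    refine Submodule.span_induction ?_ ⟨0, by simp⟩ ?_ ?_ hM
    · rintro _ ⟨a, rfl⟩
      obtain ⟨c, hc⟩ := hsign a q.out
      obtain ⟨j, hj⟩ := hv _ ⟨(a : N), a.2, rfl⟩
      refine ⟨c * (-1) ^ j, ?_⟩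
      rw [hw]
      simp only
      rw [Matrix.mulVec_mulVec, ← mat_mul, hc, Matrix.smul_mulVec, mat_mul, ← Matrix.mulVec_mulVec,
        show mat (a : N) *ᵥ v = (-1 : F) ^ j • v from hj, Matrix.mulVec_smul, smul_smul]
    · rintro x y _ _ ⟨c, hc⟩ ⟨d, hd⟩
      exact ⟨c + d, by rw [Matrix.add_mulVec, hc, hd, add_smul]⟩
    · rintro r x _ ⟨c, hc⟩
      exact ⟨r * c, by rw [Matrix.smul_mulVec, hc, smul_smul]⟩
  let L : S →ₗ[F] (N ⧸ A → F) :=
    { toFun := fun M q => b.repr ((M : Matrix (Fin m ⊕ Fin m) (Fin m ⊕ Fin m) F) *ᵥ w q) q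
      map_add' := fun M M' => funext fun q => by simp [Matrix.add_mulVec]
      map_smul' := fun c M => funext fun q => by simp [Matrix.smul_mulVec] }
  have hL : ∀ (M : S) q, (M : Matrix (Fin m ⊕ Fin m) (Fin m ⊕ Fin m) F) *ᵥ w q = L M q • w q := by
    intro M q
    obtain ⟨c, hc⟩ := hdiag M M.2 q
    show _ = b.repr ((M : Matrix (Fin m ⊕ Fin m) (Fin m ⊕ Fin m) F) *ᵥ w q) q • w q
    rw [hc, map_smul, ← hb q, b.repr_self, Finsupp.smul_apply, Finsupp.single_eq_same, smul_eq_mul, mul_one]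
  have hLinj : Function.Injective L := by
    rw [← LinearMap.ker_eq_bot, LinearMap.ker_eq_bot']
    intro M hM
    apply Subtype.ext
    refine Matrix.toLin'.injective (b.ext fun q => ?_)
    rw [hb, Matrix.toLin'_apply, hL M q, hM, Pi.zero_apply, zero_smul]
    simp
  have hSrank : 2 ^ k ≤ Module.finrank F S := by
    set ZA := (Subgroup.center N).subgroupOf A with hZA
    haveI := Fintype.ofFinite (A ⧸ ZA)
    let u : A ⧸ ZA → S := fun p => ⟨mat (p.out : N), Submodule.subset_span ⟨p.out, rfl⟩⟩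
    have hu : LinearIndependent F u := by
      refine LinearIndependent.of_comp S.subtype ?_
      rw [Fintype.linearIndependent_iff]
      intro g hg q
      have h1 := congrArg (fun M => mat ((q.out : N))⁻¹ * M) hg
      simp only [Finset.mul_sum, Matrix.mul_smul, mul_zero, Function.comp_apply, Submodule.subtype_apply] at h1
      have h2' := congrArg Matrix.trace h1
      rw [Matrix.trace_sum, Matrix.trace_zero, Finset.sum_eq_single q] at h2'
      · simp only [u] at h2'
        rw [← mat_mul, inv_mul_cancel] at h2'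
        simp only [mat, OneMemClass.coe_one, Units.val_one, Matrix.trace_smul, Matrix.trace_one, smul_eq_mul] at h2'
        exact (mul_eq_zero.1 h2').resolve_right hnF
      · intro p _ hp
        have hne : ((q.out : N))⁻¹ * (p.out : N) ∉ Subgroup.center N := fun hmm => hp (by
          rw [← QuotientGroup.out_eq' p, ← QuotientGroup.out_eq' q]
          exact (QuotientGroup.eq.2 (show (q.out)⁻¹ * p.out ∈ ZA from hmm)).symm)
        simp only [u]
        rw [← mat_mul, Matrix.trace_smul]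
        show g p • (mat (((q.out : N))⁻¹ * (p.out : N))).trace = 0
        rw [htr _ hne, smul_zero]
      · simp
    refine le_trans ?_ hu.fintype_card_le_finrank
    have h1 := Subgroup.card_eq_card_quotient_mul_card_subgroup ZA
    rw [Nat.card_eq_fintype_card (α := A ⧸ ZA)] at h1
    have h3 : Nat.card ZA ≤ 2 := hZ ▸ Nat.card_le_card_of_injective
      (fun z : ZA => (⟨((z : A) : N), z.2⟩ : Subgroup.center N))
      fun x y e => Subtype.ext (Subtype.ext (congrArg (fun t : Subgroup.center N => (t : N)) e))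
    refine Nat.le_of_mul_le_mul_right (c := 2) ?_ two_pos
    calc 2 ^ k * 2 = 2 ^ (k + 1) := (pow_succ 2 k).symm
      _ ≤ Nat.card A := hbig
      _ ≤ _ := by rw [h1]; exact Nat.mul_le_mul_left _ h3
  have hLsurj : Function.Surjective L := by
    refine (LinearMap.injective_iff_surjective_of_finrank_eq_finrank (le_antisymm ?_ ?_)).1 hLinj
    · exact LinearMap.finrank_le_finrank_of_injective hLinj
    · rw [Module.finrank_pi, hQ]; exact hSrank
  obtain ⟨M, hM⟩ := hLsurj (Pi.single ((1 : N) : N ⧸ A) 1)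
  have hMv : (M : Matrix (Fin m ⊕ Fin m) (Fin m ⊕ Fin m) F) *ᵥ v = v := by
    obtain ⟨c, hc⟩ := hcoset 1
    rw [show mat (1 : N) *ᵥ v = v from Matrix.one_mulVec v] at hc
    rw [hc, Matrix.mulVec_smul, hL, hM, Pi.single_eq_same, one_smul]
  have hMimg : ∀ x, ∃ c : F, (M : Matrix (Fin m ⊕ Fin m) (Fin m ⊕ Fin m) F) *ᵥ x = c • v := by
    obtain ⟨c, hc⟩ := hcoset 1
    rw [show mat (1 : N) *ᵥ v = v from Matrix.one_mulVec v] at hc
    have hc0 : c ≠ 0 := fun e => hv0 (by rw [hc, e, zero_smul])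
    intro x
    have hx : x ∈ Submodule.span F (Set.range w) := hspan Submodule.mem_top
    refine Submodule.span_induction ?_ ⟨0, by simp⟩ ?_ ?_ hx
    · rintro _ ⟨q, rfl⟩
      rw [hL, hM]
      by_cases hq : q = ((1 : N) : N ⧸ A)
      · subst hq
        exact ⟨c⁻¹, by rw [Pi.single_eq_same, one_smul, hc, smul_smul, inv_mul_cancel₀ hc0, one_smul]⟩
      · exact ⟨0, by rw [Pi.single_eq_of_ne hq, zero_smul, zero_smul]⟩
    · rintro x y _ _ ⟨c, hc⟩ ⟨d, hd⟩
      exact ⟨c + d, by rw [Matrix.mulVec_add, hc, hd, add_smul]⟩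
    · rintro r x _ ⟨c, hc⟩
      exact ⟨r * c, by rw [Matrix.mulVec_smul, hc, smul_smul]⟩
  -- an element of `N` pairing `v` non-trivially commutes with `A`
  have hsymp := isSymplecticForm_sympForm (m := m) (F := F)
  obtain ⟨g, hg⟩ : ∃ g : N, Cfsg.sympForm m F v (mat g *ᵥ v) ≠ 0 := by
    by_contra! hall
    obtain ⟨x, hx⟩ := (hsymp.nondegenerate v hv0).2
    apply hx
    have hx' : x ∈ W := hWtop ▸ Submodule.mem_top
    refine Submodule.span_induction ?_ ?_ ?_ ?_ hx'
    · rintro _ ⟨y, rfl⟩; exact hall y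
    · simpa using hsymp.bilinear.smul_right 0 v 0
    · intro a c _ _ ha hc
      rw [hsymp.bilinear.add_right, ha, hc, add_zero]
    · intro r a _ ha
      rw [hsymp.bilinear.smul_right, ha, mul_zero]
  have hcomm : ∀ a : A, mat g * mat (a : N) = mat (a : N) * mat g := by
    intro a
    obtain ⟨c, hc⟩ := hsign a g
    obtain ⟨j, hj⟩ := hv _ ⟨(a : N), a.2, rfl⟩
    have hj' : mat (a : N) *ᵥ v = (-1 : F) ^ j • v := hj
    have e2 : mat (a : N) *ᵥ (mat g *ᵥ v) = (c * (-1 : F) ^ j) • (mat g *ᵥ v) := by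
      rw [Matrix.mulVec_mulVec, ← mat_mul, hc, Matrix.smul_mulVec, mat_mul, ← Matrix.mulVec_mulVec, hj',
        Matrix.mulVec_smul, smul_smul]
    have h1 := (mem_spGL_iff.1 (hNS (a : N).2)) v (mat g *ᵥ v)
    rw [show ((((a : N) : GL (Fin m ⊕ Fin m) F)) : Matrix (Fin m ⊕ Fin m) (Fin m ⊕ Fin m) F) = mat (a : N) from rfl, hj', e2,
      hsymp.bilinear.smul_left, hsymp.bilinear.smul_right, ← mul_assoc,
      show (-1 : F) ^ j * (c * (-1) ^ j) = c by
        rw [mul_left_comm, ← mul_pow, neg_mul_neg, one_mul, one_pow, mul_one]] at h1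
    have hc1 : c = 1 := mul_right_cancel₀ hg (h1.trans (one_mul _).symm)
    rw [← mat_mul, ← mat_mul, hc, hc1, one_smul]
  have hgM : mat g * (M : Matrix (Fin m ⊕ Fin m) (Fin m ⊕ Fin m) F) = (M : Matrix (Fin m ⊕ Fin m) (Fin m ⊕ Fin m) F) * mat g := by
    refine Submodule.span_induction ?_ (by simp) ?_ ?_ M.2
    · rintro _ ⟨a, rfl⟩; exact hcomm a
    · intro x y _ _ hx hy; rw [mul_add, add_mul, hx, hy]
    · intro r x _ hx; rw [Matrix.mul_smul, Matrix.smul_mul, hx]
  obtain ⟨c, hc⟩ := hMimg (mat g *ᵥ v)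
  rw [Matrix.mulVec_mulVec, ← hgM, ← Matrix.mulVec_mulVec, hMv] at hc
  exact hg (by rw [hc, hsymp.bilinear.smul_right, hsymp.alternating, mul_zero])

/-- A symplectic-type minimal normal subgroup of an irreducible symplectic group. -/
theorem symp_sp_data (hm : 1 ≤ m) {H N : Subgroup (GL (Fin m ⊕ Fin m) F)} (h : ScalarComm' H N)
    (hNS : N ≤ Cfsg.spGL m F) (hreal : ∀ F₀ : Subfield F, F₀ ≠ ⊤ → ¬ RealisableOver F₀ (matrixSet N)) :
    ∃ p k : ℕ, IsSymplecticTypeGroup 2 N ∧ ActsAbsolutelyIrreducibly (matrixSet N) ∧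
      N ≤ similarityGroup (Cfsg.sympForm m F) ∧ p.Prime ∧ Odd p ∧ Fintype.card F = p ∧
      Nat.card N = 2 ^ (1 + 2 * k) ∧ Nat.card (Subgroup.center N) = 2 ∧ IsOfMinusType k N := by
  classical
  haveI : Nonempty (Fin m ⊕ Fin m) := ⟨Sum.inl ⟨0, hm⟩⟩
  haveI : Finite (GL (Fin m ⊕ Fin m) F) :=
    Finite.of_injective (fun g : GL (Fin m ⊕ Fin m) F => (g : Matrix (Fin m ⊕ Fin m) (Fin m ⊕ Fin m) F))
      Units.val_injective
  haveI := Fintype.ofFinite N
  have hsymp := isSymplecticForm_sympForm (m := m) (F := F)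
  have hcardι : Fintype.card (Fin m ⊕ Fin m) = 2 * m := by rw [Fintype.card_sum, Fintype.card_fin]; ring
  obtain ⟨r, k, z, hr, hrF, hk1, hk, hst, hZ, hcard, hz, hexp, htr, hcyc⟩ := h.structure_thm (by omega)
  obtain rfl : r = 2 := by
    rw [hcardι] at hk
    exact ((Nat.prime_dvd_prime_iff_eq Nat.prime_two hr).1 (Nat.prime_two.dvd_of_dvd_pow (hk ▸ dvd_mul_right 2 m))).symm
  have h2 : (2 : F) ≠ 0 := by exact_mod_cast hrF
  -- central elements are signs
  have hcent : ∀ c : F, (∃ x : N, x ∈ Subgroup.center N ∧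
      ((x : GL (Fin m ⊕ Fin m) F) : Matrix (Fin m ⊕ Fin m) (Fin m ⊕ Fin m) F) = c • 1) → c * c = 1 := by
    rintro c ⟨x, -, hxc⟩
    have hne : (Pi.single (Sum.inl ⟨0, hm⟩) 1 : Fin m ⊕ Fin m → F) ≠ 0 := fun e => by
      simpa using congrFun e (Sum.inl ⟨0, hm⟩)
    obtain ⟨y, hy⟩ := (hsymp.nondegenerate _ hne).2
    have h1 := (mem_spGL_iff.1 (hNS x.2)) (Pi.single (Sum.inl ⟨0, hm⟩) 1) y
    rw [hxc, Matrix.smul_mulVec, Matrix.one_mulVec, Matrix.smul_mulVec, Matrix.one_mulVec,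
      hsymp.bilinear.smul_left, hsymp.bilinear.smul_right, ← mul_assoc] at h1
    exact mul_right_cancel₀ hy (h1.trans (one_mul _).symm)
  have hz2 : z = 2 := by
    rcases hz with ⟨hodd, -⟩ | ⟨-, h' | h'⟩
    · exact absurd hodd (by decide)
    · exact h'
    exfalso
    obtain ⟨g, hg⟩ := hcyc.exists_generator
    obtain ⟨c₀, hc₀⟩ := (mem_scalars_iff _).1 ((h.center_eq g.1).1 g.2)
    have h1 : g ^ 2 = 1 := Subtype.ext (Subtype.ext (Units.ext (by
      rw [SubmonoidClass.coe_pow, SubmonoidClass.coe_pow, Units.val_pow_eq_pow_val, hc₀, smul_pow, one_pow,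
        pow_two, hcent _ ⟨g.1, g.2, hc₀⟩, one_smul]
      rfl)))
    have h3 := orderOf_dvd_of_pow_eq_one h1
    rw [orderOf_eq_card_of_forall_mem_zpowers hg, hZ, h'] at h3
    norm_num at h3
  subst hz2
  have hnF : (Fintype.card (Fin m ⊕ Fin m) : F) ≠ 0 := by rw [hk, Nat.cast_pow]; exact pow_ne_zero _ hrF
  -- the prime field
  obtain ⟨p, hp⟩ := CharP.exists F
  haveI : Fact p.Prime := ⟨CharP.char_is_prime F p⟩
  obtain ⟨e, -, he⟩ := FiniteField.card F p
  have hodd : Odd p := by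
    rcases (Fact.out (p := p.Prime)).eq_two_or_odd' with rfl | ho
    · exact absurd (show (2 : F) = 0 by exact_mod_cast CharP.cast_eq_zero F 2) h2
    · exact ho
  have hp1 : Fintype.card F = p := by
    let σ : F ≃+* F := RingEquiv.ofBijective (frobenius F p)
      ⟨(frobenius F p).injective, Finite.injective_iff_surjective.1 (frobenius F p).injective⟩
    have hσ : ∀ x, σ x = x ^ p := fun x => rfl
    by_contra hne
    have hσne : σ ≠ RingEquiv.refl F := by
      intro e'
      obtain ⟨u, hu⟩ := IsCyclic.exists_generator (α := Fˣ)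
      have h1 : (u : F) ^ p = u := (hσ _).symm.trans (by rw [e']; rfl)
      have hp0 := (Fact.out (p := p.Prime)).pos
      have h2' : u ^ (p - 1) = 1 := Units.ext (mul_right_cancel₀ u.ne_zero (by
        rw [Units.val_pow_eq_pow_val, ← pow_succ, Nat.sub_add_cancel hp0, Units.val_one, one_mul, h1]))
      have h3 := orderOf_dvd_of_pow_eq_one h2'
      rw [orderOf_eq_card_of_forall_mem_zpowers hu, Nat.card_units, Nat.card_eq_fintype_card] at h3
      have h4 : p ≤ Fintype.card F := he ▸ Nat.le_self_pow e.pos.ne' p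
      have h5 := (Fact.out (p := p.Prime)).two_le
      have h6 := Nat.le_of_dvd (by omega) h3
      omega
    obtain ⟨f, hf, hnd, hfix⟩ := exists_fixed_form (σ := σ) h.absIrred.1
      (h.sum_trace_ne_zero hnF (by rw [hZ]; exact_mod_cast h2) htr fun c hc => by
        have hcc := hcent c hc
        rcases mul_self_eq_one_iff.1 hcc with rfl | rfl <;> simp)
    exact hreal _ (fixedSubfield_ne_top' hσne) (realisable_fixed_of_sesq h.absIrred hf hnd hfix hsymp.bilinear
      hsymp.nondegenerate (fixesForm_of_le_spGL hNS))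
  have hk2 : 2 * m = 2 ^ k := hcardι ▸ hk
  have hcard' : Nat.card N = 2 ^ (1 + 2 * k) := by
    rw [hcard, hk, ← pow_mul, pow_add, pow_one, mul_comm k 2]
  refine ⟨p, k, hst, h.absIrred, ?_, Fact.out, hodd, hp1, hcard', hZ,
    symp_minus_type h2 h hm hNS hZ hk2 hcard' htr⟩
  intro g hg
  exact ⟨1, fun u v => by rw [Units.val_one, one_mul]; exact mem_spGL_iff.1 (hNS hg) u v⟩

end CfsgLib.Geo.Asch
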