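/-
The structure of subgroups of the symplectic groups in arbitrary dimension.
-/
import Cfsg.Agent.Lib.Geo.Asch.Core
import Cfsg.Agent.Lib.Geo.Asch.Unitary
import Cfsg.Agent.Lib.Geo.Asch.LinearMax
import Cfsg.Agent.Lib.Geo.Asch.SpSymp
import Cfsg.Agent.Lib.Geo.Asch.SpFields
import Cfsg.Agent.Lib.Geo.Asch.SpTensor
import Cfsg.Agent.Lib.Geo.Asch.SpPower

set_option autoImplicit false

namespace CfsgLib.Geo.Asch

open Matrix Cfsg.Geo
open scoped Kronecker
open CfsgLib.Geo.Roots (isSymplecticForm_sympForm mem_spGL_iff)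

variable {F : Type*} [Field F] [Fintype F] {m : ℕ}

/-- A finite field has odd order exactly when two is non-zero. -/
theorem sp_odd_card_iff : Odd (Fintype.card F) ↔ (2 : F) ≠ 0 := by
  rw [← Nat.not_even_iff_odd, not_iff_not, Nat.even_iff, ← FiniteField.even_card_iff_char_two]
  exact ⟨fun h => by haveI : CharP F 2 := ringChar.of_eq h; exact CharP.cast_eq_zero F 2, fun h => by
    haveI : CharP F 2 := (CharP.charP_iff_prime_eq_zero Nat.prime_two).2 (by exact_mod_cast h)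
    exact ringChar.eq F 2⟩

/-- The possible hosts of a subgroup of the symplectic group. -/
def SpHost (m : ℕ) (H : Subgroup (GL (Fin m ⊕ Fin m) F)) : Prop :=
  (∃ W : Submodule F (Fin m ⊕ Fin m → F), W ≠ ⊥ ∧ IsTotallySingularFor (Cfsg.sympForm m F) W ∧
    H ≤ subspaceStabilizer W) ∨
  (∃ W : Submodule F (Fin m ⊕ Fin m → F), W ≠ ⊥ ∧ IsNondegenerateOn (Cfsg.sympForm m F) W ∧
    Module.finrank F W < m ∧ H ≤ subspaceStabilizer W) ∨
  (∃ (t k : ℕ) (D : Fin t → Submodule F (Fin m ⊕ Fin m → F)),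
    IsNondegenerateMDecomposition (Cfsg.sympForm m F) k D ∧ t * k = 2 * m ∧ Even k ∧ H ≤ decompositionStabilizer D) ∨
  (Odd (Fintype.card F) ∧ ∃ D : Fin 2 → Submodule F (Fin m ⊕ Fin m → F), IsMDecomposition m D ∧
    (∀ i, IsTotallySingularFor (Cfsg.sympForm m F) (D i)) ∧ H ≤ decompositionStabilizer D) ∨
  (∃ (r : ℕ) (K : Subalgebra F (Matrix (Fin m ⊕ Fin m) (Fin m ⊕ Fin m) F)), r.Prime ∧ r ∣ m ∧
    IsFieldSubalgebra r K ∧ IsSelfAdjointFor (Cfsg.sympForm m F) K ∧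
    (∀ k ∈ K, ∀ v, Cfsg.sympForm m F (k *ᵥ v) v = 0) ∧ H ≤ subalgebraNormalizer K) ∨
  (∃ K : Subalgebra F (Matrix (Fin m ⊕ Fin m) (Fin m ⊕ Fin m) F), Odd (Fintype.card F) ∧ IsFieldSubalgebra 2 K ∧
    IsAdjointClosedFor (Cfsg.sympForm m F) K ∧ ¬ IsSelfAdjointFor (Cfsg.sympForm m F) K ∧
    H ≤ subalgebraNormalizer K) ∨
  (∃ (n₁ n₂ : ℕ) (e : (Fin m ⊕ Fin m) ≃ Fin n₁ × Fin n₂) (P : GL (Fin m ⊕ Fin m) F)
    (f₁ : (Fin n₁ → F) → (Fin n₁ → F) → F) (f₂ : (Fin n₂ → F) → (Fin n₂ → F) → F),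
    Odd (Fintype.card F) ∧ 2 ≤ n₁ ∧ Even n₁ ∧ 3 ≤ n₂ ∧ n₁ * n₂ = 2 * m ∧ IsSymplecticForm f₁ ∧
    IsSymmetricForm f₂ ∧ IsTensorFormStructure id (Cfsg.sympForm m F) f₁ f₂ e P ∧
    H ≤ tensorProductSubgroup n₁ n₂ e P) ∨
  (∃ (F₀ : Subfield F) (r : ℕ) (P : GL (Fin m ⊕ Fin m) F) (ζ : F), r.Prime ∧
    Fintype.card F = Nat.card F₀ ^ r ∧ ζ ≠ 0 ∧ IsFormRationalStructure (Cfsg.sympForm m F) F₀ ζ P ∧
    H ≤ subfieldSubgroup F₀ P) ∨
  (∃ (R : Subgroup (GL (Fin m ⊕ Fin m) F)) (p k : ℕ), IsSymplecticTypeGroup 2 R ∧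
    ActsAbsolutelyIrreducibly (matrixSet R) ∧ R ≤ similarityGroup (Cfsg.sympForm m F) ∧ p.Prime ∧ Odd p ∧
    Fintype.card F = p ∧ Nat.card R = 2 ^ (1 + 2 * k) ∧ 2 * m = 2 ^ k ∧ Nat.card (Subgroup.center R) = 2 ∧
    IsOfMinusType k R ∧ R ≤ Cfsg.spGL m F ∧ H ≤ subgroupNormalizer R) ∨
  (∃ (k t : ℕ) (e : (Fin m ⊕ Fin m) ≃ (Fin t → Fin k)) (P : GL (Fin m ⊕ Fin m) F)
    (f₁ : (Fin k → F) → (Fin k → F) → F),
    Odd (Fintype.card F) ∧ Odd t ∧ 3 ≤ t ∧ 2 ≤ k ∧ Even k ∧ k ^ t = 2 * m ∧ ¬ (Fintype.card F = 3 ∧ k = 2) ∧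
    IsSymplecticForm f₁ ∧ IsTensorPowerFormStructure id (Cfsg.sympForm m F) f₁ e P ∧
    H ≤ tensorWreathSubgroup k t e P) ∨
  (∃ Q : (Fin m ⊕ Fin m → F) → F, ¬ Odd (Fintype.card F) ∧ IsNondegenerateQuadraticForm Q ∧
    (∀ u v, QuadraticMap.polar Q u v = Cfsg.sympForm m F u v) ∧ H ≤ quadSimilarityGroup Q) ∨
  InSymplecticResidualClass H

/-- Every host is a member of a class, or residual. -/
theorem SpHost.member {H : Subgroup (GL (Fin m ⊕ Fin m) F)} (hH : H ≤ Cfsg.spGL m F) (h : SpHost m H) :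
    (∃ M : Subgroup (GL (Fin m ⊕ Fin m) F), InSymplecticClass m F M ∧ H ≤ M) ∨ InSymplecticResidualClass H := by
  rcases h with ⟨W, h0, hts, hle⟩ | ⟨W, h0, hnd, h2, hle⟩ | ⟨t, k, D, hD, -, -, hle⟩ | ⟨ho, D, hD, hts, hle⟩ |
    ⟨r, K, hr, -, hK, hs, hz, hle⟩ | ⟨K, ho, hK, ha, hns, hle⟩ |
    ⟨n₁, n₂, e, P, f₁, f₂, ho, -, -, h3, -, hf₁, hf₂, hT, hle⟩ |
    ⟨F₀, r, P, ζ, hr, hc, hζ, hrat, hle⟩ | ⟨R, p, k, hst, habs, hsim, hp, hpo, hF, hcard, -, hz, hmin, -, hle⟩ |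
    ⟨k, t, e, P, f₁, ho, hto, ht, -, -, -, hex, hf₁, hT, hle⟩ | ⟨Q, hev, hQ, hpol, hle⟩ | h
  · exact Or.inl ⟨_, .inl (.inl ⟨W, h0, hts, rfl⟩), le_inf hle hH⟩
  · exact Or.inl ⟨_, .inl (.inr <| .inl ⟨W, h0, hnd, h2, rfl⟩), le_inf hle hH⟩
  · exact Or.inl ⟨_, .inl (.inr <| .inr <| .inl ⟨t, k, D, hD, rfl⟩), le_inf hle hH⟩
  · exact Or.inl ⟨_, .inl (.inr <| .inr <| .inr <| .inl ⟨D, ho, hD, hts, rfl⟩), le_inf hle hH⟩
  · exact Or.inl ⟨_, .inr <| .inl ⟨r, K, hr, hK, hs, hz, rfl⟩, le_inf hle hH⟩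
  · exact Or.inl ⟨_, .inr <| .inr <| .inl ⟨K, ho, hK, ha, hns, rfl⟩, le_inf hle hH⟩
  · exact Or.inl ⟨_, .inr <| .inr <| .inr <| .inl ⟨n₁, n₂, e, P, f₁, f₂, ho, h3, hf₁, hf₂, hT, rfl⟩, le_inf hle hH⟩
  · exact Or.inl ⟨_, .inl (.inr <| .inr <| .inr <| .inr <| .inl ⟨F₀, r, P, ζ, hr, hc, hζ, hrat, rfl⟩), le_inf hle hH⟩
  · exact Or.inl ⟨_, .inl (.inr <| .inr <| .inr <| .inr <| .inr <| .inl
      ⟨R, p, k, hst, habs, hsim, hp, hpo, hF, hcard, hz, hmin, rfl⟩), le_inf hle hH⟩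
  · exact Or.inl ⟨_, .inr <| .inr <| .inr <| .inr ⟨k, t, e, P, f₁, ho, hto, ht, hex, hf₁, hT, rfl⟩, le_inf hle hH⟩
  · exact Or.inl ⟨_, .inl (.inr <| .inr <| .inr <| .inr <| .inr <| .inr ⟨Q, hev, hQ, hpol, rfl⟩), le_inf hle hH⟩
  · exact Or.inr h

/-- A non-degenerate subspace for an alternating form has even dimension. -/
theorem even_finrank_of_nondegenerateOn {W : Submodule F (Fin m ⊕ Fin m → F)}
    (hW : IsNondegenerateOn (Cfsg.sympForm m F) W) : Even (Module.finrank F W) := by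
  classical
  have hs := sympSesq (m := m) (F := F)
  have hf := isSymplecticForm_sympForm (m := m) (F := F)
  let b := Module.finBasis F W
  let X : Matrix (Fin (Module.finrank F W)) (Fin (Module.finrank F W)) F :=
    fun a c => Cfsg.sympForm m F (b a : Fin m ⊕ Fin m → F) (b c : Fin m ⊕ Fin m → F)
  have hu : IsUnit X := by
    rw [← Matrix.mulVec_injective_iff_isUnit]
    intro x y hxy
    have hz : X *ᵥ (x - y) = 0 := by rw [Matrix.mulVec_sub, sub_eq_zero]; exact hxy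
    refine sub_eq_zero.1 (funext fun a => ?_)
    let w : W := ∑ c, (x - y) c • b c
    have hwco : (w : Fin m ⊕ Fin m → F) = ∑ c, (x - y) c • (b c : Fin m ⊕ Fin m → F) := by
      simp [w]
    have hbase : ∀ c, Cfsg.sympForm m F (b c : Fin m ⊕ Fin m → F) (w : Fin m ⊕ Fin m → F) = 0 := by
      intro c
      rw [hwco, apply_sum_right hs]
      refine (Finset.sum_congr rfl fun d _ => ?_).trans (congrFun hz c)
      rw [hs.smul_right]
      exact mul_comm _ _
    have hw0 : (w : Fin m ⊕ Fin m → F) = 0 := by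
      by_contra hne
      obtain ⟨u, hu, huw⟩ := (hW _ w.2 hne).1
      apply huw
      have e : u = ∑ c, b.repr ⟨u, hu⟩ c • (b c : Fin m ⊕ Fin m → F) := by
        have h' := congrArg W.subtype (b.sum_repr ⟨u, hu⟩)
        simp only [map_sum, map_smul, Submodule.subtype_apply] at h'
        exact h'.symm
      rw [e, apply_sum_left hs]
      exact Finset.sum_eq_zero fun c _ => by rw [hs.smul_left, hbase, mul_zero]
    exact Fintype.linearIndependent_iff.1 b.linearIndependent (x - y) (Subtype.ext hw0) a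
  have hskew : Xᵀ = -X := by
    ext a c
    exact hf.skew _ _
  simpa using even_card_of_skew hu hskew fun a => hf.alternating _

/-- The form on a subspace structure over a subfield. -/
theorem sp_rational_structure {N : Subgroup (GL (Fin m ⊕ Fin m) F)} (hm : 1 ≤ m)
    (hN : ActsAbsolutelyIrreducibly (matrixSet N)) (hNS : N ≤ Cfsg.spGL m F) {F₁ : Subfield F}
    (P : GL (Fin m ⊕ Fin m) F)
    (hP : ∀ n ∈ N, ∀ i j, (((P⁻¹ : GL (Fin m ⊕ Fin m) F) : Matrix (Fin m ⊕ Fin m) (Fin m ⊕ Fin m) F) *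
      (n : Matrix (Fin m ⊕ Fin m) (Fin m ⊕ Fin m) F) * (P : Matrix (Fin m ⊕ Fin m) (Fin m ⊕ Fin m) F)) i j ∈ F₁) :
    ∃ ζ : F, ζ ≠ 0 ∧ IsFormRationalStructure (Cfsg.sympForm m F) F₁ ζ P := by
  haveI : Nonempty (Fin m ⊕ Fin m) := ⟨Sum.inl ⟨0, hm⟩⟩
  obtain ⟨z, hz, hmem, -⟩ := exists_rational_gram hN sympSesq (isSymplecticForm_sympForm).nondegenerate
    (fixesForm_of_le_spGL hNS) (F₁ := F₁) (fun a ha => ha) P hP
  refine ⟨z, hz, fun u v hu hv => ?_⟩
  rw [form_eq_gram sympSesq, Finset.mul_sum]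
  refine sum_mem fun i _ => ?_
  rw [Finset.mul_sum]
  refine sum_mem fun j _ => ?_
  rw [RingEquiv.refl_apply, mul_left_comm, ← mul_assoc z]
  exact mul_mem (hu i) (mul_mem (hmem i j) (hv j))

omit [Fintype F] in
/-- The tensor case with a skew factor and a symmetric one, in odd characteristic. -/
theorem sp_tensor_host [Fintype F] (h2 : (2 : F) ≠ 0) {n₁ n₂ : ℕ} (hn₁ : 2 ≤ n₁) (hn₂ : 2 ≤ n₂)
    {H : Subgroup (GL (Fin m ⊕ Fin m) F)} (hH : H ≤ Cfsg.spGL m F)
    {e : (Fin m ⊕ Fin m) ≃ Fin n₁ × Fin n₂} {P : GL (Fin m ⊕ Fin m) F}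
    (hle : H ≤ tensorProductSubgroup n₁ n₂ e P) {X : Matrix (Fin n₁) (Fin n₁) F} {Y : Matrix (Fin n₂) (Fin n₂) F}
    (hG : spGram e P = X ⊗ₖ Y) (hXu : IsUnit X) (hYu : IsUnit Y) (hX : Xᵀ = -X) (hY : Yᵀ = Y) : SpHost m H := by
  have hodd : Odd (Fintype.card F) := sp_odd_card_iff.2 h2
  have hcard : n₁ * n₂ = 2 * m := by
    have h := Fintype.card_congr e
    simp at h
    omega
  have hd := diag_eq_zero_of_skew h2 hX
  have hev : Even n₁ := by simpa using even_card_of_skew hXu hX hd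
  by_cases h3 : 3 ≤ n₂
  · exact .inr <| .inr <| .inr <| .inr <| .inr <| .inr <| .inl ⟨n₁, n₂, e, P, formOfGram id X, formOfGram id Y,
      hodd, hn₁, hev, h3, hcard, isSymplecticForm_formOfGram hXu hX hd, isSymmetricForm_formOfGram hYu hY,
      isTensorFormStructure_of_spGram e P hG, hle⟩
  obtain rfl : n₂ = 2 := by omega
  rcases sp_tensor_two h2 (by omega) hH hle hG hXu hYu hY with ⟨D, hD, hts, hHD⟩ | ⟨K, hK, ha, hns, hHK⟩
  · exact .inr <| .inr <| .inr <| .inl ⟨hodd, D, hD, hts, hHD⟩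
  · exact .inr <| .inr <| .inr <| .inr <| .inr <| .inl ⟨K, hodd, hK, ha, hns, hHK⟩

theorem symp_host (hm : 1 ≤ m) (H : Subgroup (GL (Fin m ⊕ Fin m) F)) (hHS : H ≤ Cfsg.spGL m F) : SpHost m H := by
  classical
  haveI : Nonempty (Fin m ⊕ Fin m) := ⟨Sum.inl ⟨0, hm⟩⟩
  haveI : Nontrivial (Fin m ⊕ Fin m) := ⟨⟨Sum.inl ⟨0, hm⟩, Sum.inr ⟨0, hm⟩, by simp⟩⟩
  have hcardι : Fintype.card (Fin m ⊕ Fin m) = 2 * m := by rw [Fintype.card_sum, Fintype.card_fin]; ring
  have hf := isSymplecticForm_sympForm (m := m) (F := F)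
  have hs := sympSesq (m := m) (F := F)
  set f := Cfsg.sympForm m F with hfdef
  have hquad : ∀ Q : (Fin m ⊕ Fin m → F) → F, (2 : F) = 0 → IsNondegenerateQuadraticForm Q →
      (∀ u v, QuadraticMap.polar Q u v = f u v) → H ≤ quadSimilarityGroup Q → SpHost m H := fun Q h2 hQ hp hle =>
    .inr <| .inr <| .inr <| .inr <| .inr <| .inr <| .inr <| .inr <| .inr <| .inr <| .inl ⟨Q,
      fun ho => sp_odd_card_iff.1 ho h2, hQ, hp, hle⟩
  have hodd_of : (2 : F) ≠ 0 → Odd (Fintype.card F) := sp_odd_card_iff.2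
  by_cases hirr : ActsIrreducibly (matrixSet H)
  swap
  · rw [actsIrreducibly_iff] at hirr
    push Not at hirr
    obtain ⟨W, hW, hW0, hW1⟩ := hirr
    have stab : ∀ U : Submodule F (Fin m ⊕ Fin m → F), Stable (matrixSet H) U → H ≤ subspaceStabilizer U := by
      intro U hU g hg
      refine (mem_subspaceStabilizer_iff U g).2 fun v => ⟨fun hv => stable_matrixSet_iff.1 hU g hg v hv, fun hv => ?_⟩
      simpa [mulVec_inv_cancel] using stable_matrixSet_iff.1 hU g⁻¹ (H.inv_mem hg) _ hv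
    set W' := orthLeft hs.add_left hs.smul_left W with hW'
    have hW's : Stable (matrixSet H) W' := stable_matrixSet_iff.2 fun g hg v hv w hw => by
      rw [← inv_mulVec_cancel g w]
      exact (mem_spGL_iff.1 (hHS hg) v _).trans (hv _ (stable_matrixSet_iff.1 hW g⁻¹ (H.inv_mem hg) w hw))
    by_cases hrad : W ⊓ W' = ⊥
    swap
    · exact .inl ⟨W ⊓ W', hrad, fun u hu v hv => hu.2 v hv.1,
        stab _ fun s hs' v hv => ⟨hW s hs' v hv.1, hW's s hs' v hv.2⟩⟩
    have hdim : Fintype.card (Fin m ⊕ Fin m) ≤ Module.finrank F W + Module.finrank F W' :=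
      finrank_le_orthLeft hs W
    rw [hcardι] at hdim
    have hsum := Submodule.finrank_sup_add_finrank_inf_eq W W'
    rw [hrad, finrank_bot, add_zero] at hsum
    have hle' := Submodule.finrank_le (W ⊔ W')
    rw [Module.finrank_pi, hcardι] at hle'
    have hsup : W ⊔ W' = ⊤ := Submodule.eq_top_of_finrank_eq (by rw [Module.finrank_pi, hcardι]; omega)
    have horth' : ∀ u' ∈ W', ∀ u ∈ W, f u' u = 0 := fun u' hu' u hu => hu' u hu
    have horth : ∀ u ∈ W, ∀ u' ∈ W', f u u' = 0 := fun u hu u' hu' => by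
      rw [hf.skew, horth' u' hu' u hu, neg_zero]
    have nd : ∀ U U' : Submodule F (Fin m ⊕ Fin m → F), U ⊔ U' = ⊤ → (∀ u ∈ U, ∀ u' ∈ U', f u u' = 0) →
        IsNondegenerateOn f U := by
      intro U U' hUU ho w hw hw0
      obtain ⟨x, hx⟩ := (hf.nondegenerate w hw0).2
      obtain ⟨a, ha, b, hb, rfl⟩ := Submodule.mem_sup.1 (hUU.symm ▸ Submodule.mem_top : x ∈ U ⊔ U')
      rw [hs.add_right, ho w hw b hb, add_zero] at hx
      exact ⟨⟨a, ha, fun e => hx (by rw [hf.skew, e, neg_zero])⟩, ⟨a, ha, hx⟩⟩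
    have hpos : 0 < Module.finrank F W := Nat.pos_of_ne_zero fun e => hW0 (Submodule.finrank_eq_zero.1 e)
    have hlt : Module.finrank F W < 2 * m := by
      have := Submodule.finrank_lt hW1
      rwa [Module.finrank_pi, hcardι] at this
    rcases Nat.lt_trichotomy (Module.finrank F W) m with h2 | h2 | h2
    · exact .inr <| .inl ⟨W, hW0, nd W W' hsup horth, h2, stab W hW⟩
    · let D : Fin 2 → Submodule F (Fin m ⊕ Fin m → F) := ![W, W']
      have hdis : Disjoint W W' := disjoint_iff.2 hrad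
      refine .inr <| .inr <| .inl ⟨2, Module.finrank F W, D,
        ⟨⟨le_rfl, hpos, fun i => ?_, ?_, ?_⟩, fun i => ?_, ?_⟩, by omega,
        even_finrank_of_nondegenerateOn (nd W W' hsup horth), fun g hg => ⟨1, fun i => ?_⟩⟩
      · fin_cases i
        · rfl
        · show Module.finrank F W' = Module.finrank F W; omega
      · exact (iSupIndep_pair (show (0 : Fin 2) ≠ 1 by decide) (fun i => by fin_cases i <;> simp)).2 hdis
      · rw [← hsup]
        exact le_antisymm (iSup_le fun i => by fin_cases i; exacts [le_sup_left, le_sup_right])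
          (sup_le (le_iSup D 0) (le_iSup D 1))
      · fin_cases i
        · exact nd W W' hsup horth
        · exact nd W' W (by rw [sup_comm]; exact hsup) horth'
      · intro i j hij
        fin_cases i <;> fin_cases j <;> first | exact absurd rfl hij | exact horth | exact horth'
      · have key : ∀ U : Submodule F (Fin m ⊕ Fin m → F), Stable (matrixSet H) U →
            U.map (Matrix.toLin' (g : Matrix (Fin m ⊕ Fin m) (Fin m ⊕ Fin m) F)) = U := fun U hU => by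
          refine le_antisymm ?_ fun v hv =>
            ⟨((g⁻¹ : GL (Fin m ⊕ Fin m) F) : Matrix (Fin m ⊕ Fin m) (Fin m ⊕ Fin m) F) *ᵥ v,
              stable_matrixSet_iff.1 hU g⁻¹ (H.inv_mem hg) v hv, ?_⟩
          · rintro _ ⟨v, hv, rfl⟩
            exact stable_matrixSet_iff.1 hU g hg v hv
          · rw [Matrix.toLin'_apply, inv_mulVec_cancel]
        fin_cases i
        exacts [key W hW, key W' hW's]
    · have hW'0 : W' ≠ ⊥ := fun e => by rw [e, finrank_bot] at hdim; omega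
      exact .inr <| .inl ⟨W', hW'0, nd W' W (by rw [sup_comm]; exact hsup) horth', by omega, stab W' hW's⟩
  have hfield : ∀ {e : ℕ} {K : Subalgebra F (Matrix (Fin m ⊕ Fin m) (Fin m ⊕ Fin m) F)}, IsFieldSubalgebra e K →
      (∀ k ∈ K, adjS k ∈ K) → e ≠ 1 → H ≤ subalgebraNormalizer K → SpHost m H := by
    intro e K hK hadj he hle
    rcases sp_field_cases hm hK hadj he with ⟨r, L, hr, hrm, hL, hLs, hLz, hn⟩ | ⟨L, hL, hLa, hLns, hn⟩
    · exact .inr <| .inr <| .inr <| .inr <| .inl ⟨r, L, hr, hrm, hL, hLs, hLz, hle.trans hn⟩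
    · by_cases h2 : (2 : F) = 0
      · obtain ⟨Q, hQ, hp, hHQ⟩ := quad_of_quadratic_field h2 hL hLa hLns hHS (hle.trans hn)
        exact hquad Q h2 hQ hp hHQ
      · exact .inr <| .inr <| .inr <| .inr <| .inr <| .inl
          ⟨L, hodd_of h2, hL, isAdjointClosedFor_of_adjS hLa, hLns, hle.trans hn⟩
  by_cases habs : ActsAbsolutelyIrreducibly (matrixSet H)
  swap
  · have hKf := centralizer_isField hirr
    set K := Subalgebra.centralizer F (matrixSet H) with hKdef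
    have hK : IsFieldSubalgebra (Module.finrank F K) K := by
      refine ⟨fun x hx y hy => congrArg Subtype.val (hKf.mul_comm ⟨x, hx⟩ ⟨y, hy⟩), fun x hx hx0 => ?_, rfl⟩
      obtain ⟨y, hy⟩ := hKf.mul_inv_cancel (a := ⟨x, hx⟩) fun e => hx0 (congrArg Subtype.val e)
      exact ⟨y, y.2, congrArg Subtype.val hy⟩
    have he : Module.finrank F K ≠ 1 := fun he => habs ⟨hirr, fun M hM => by
      obtain ⟨c, hc⟩ := (finrank_eq_one_iff_of_nonzero' (1 : K)
        (fun e0 => one_ne_zero (α := Matrix (Fin m ⊕ Fin m) (Fin m ⊕ Fin m) F) (congrArg Subtype.val e0))).1 he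
        ⟨M, (Subalgebra.mem_centralizer_iff F).2 fun s hs' => (hM s hs').symm⟩
      exact ⟨c, (congrArg Subtype.val hc).symm⟩⟩
    exact hfield hK (fun k hk => adjS_mem_centralizer hHS hk) he fun g hg => mem_subalgebraNormalizer_centralizer
      (fun x hx => H.mul_mem (H.mul_mem hg hx) (H.inv_mem hg)) fun x hx => H.mul_mem (H.mul_mem (H.inv_mem hg) hx) hg
  have hHs : ¬ H ≤ scalars (Fin m ⊕ Fin m) F := fun hle => by
    obtain ⟨x, hx, y, hy, hxy⟩ := not_abelian_of_absIrred habs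
    exact hxy (scalar_commute (hle hx) y)
  obtain ⟨N, hN⟩ := exists_minimalNormal hHs
  have hNS : N ≤ Cfsg.spGL m F := hN.le.trans hHS
  by_cases hhom : IsHomog N
  swap
  · obtain ⟨t, k, D, hD, hHD, hst, hsimp, htr⟩ := exists_decomposition hirr hN.normal hhom
    have htk : t * k = 2 * m := (card_eq_of_mDecomposition hD).trans hcardι
    have mk : ∀ {t' k' : ℕ} {E : Fin t' → Submodule F (Fin m ⊕ Fin m → F)},
        IsNondegenerateMDecomposition f k' E → t' * k' = 2 * m → H ≤ decompositionStabilizer E → SpHost m H := by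
      intro t' k' E hE htk' hHE
      refine .inr <| .inr <| .inl ⟨t', k', E, hE, htk', ?_, hHE⟩
      have ht : 0 < t' := by have := hE.decomp.two_le; omega
      simpa [hE.decomp.finrank_eq] using even_finrank_of_nondegenerateOn (hE.nondegenerate ⟨0, ht⟩)
    rcases sp_decomposition hHS hN.le hD hHD hst hsimp htr with h | ⟨rfl, hts⟩ | ⟨t', E, hE, hHE⟩
    · exact mk h htk hHD
    · obtain rfl : k = m := by omega
      by_cases h2 : (2 : F) = 0
      · obtain ⟨Q, hQ, hp, hHQ⟩ := quad_of_singular_pair h2 hD hts hHS hHD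
        exact hquad Q h2 hQ hp hHQ
      · exact .inr <| .inr <| .inr <| .inl ⟨hodd_of h2, D, hD, hts, hHD⟩
    · exact mk hE ((card_eq_of_mDecomposition hE.decomp).trans hcardι) hHE
  by_cases he : Module.finrank F (centreComm N) = 1
  swap
  · refine hfield (e := Module.finrank F (centreComm N)) ?_ (fun k hk => adjS_mem_centreComm hNS hk) he
      fun g hg => mem_normalizer_centreComm (hN.normal g hg)
        fun x hx => by simpa using hN.normal g⁻¹ (H.inv_mem hg) x hx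
    exact centreComm_field hhom
  have hscal : ∀ x ∈ centreComm N, ∃ c : F, x = c • (1 : Matrix (Fin m ⊕ Fin m) (Fin m ⊕ Fin m) F) := by
    intro x hx
    obtain ⟨c, hc⟩ := (finrank_eq_one_iff_of_nonzero' (1 : centreComm N)
      (fun e0 => one_ne_zero (α := Matrix (Fin m ⊕ Fin m) (Fin m ⊕ Fin m) F) (congrArg Subtype.val e0))).1 he ⟨x, hx⟩
    exact ⟨c, (congrArg Subtype.val hc).symm⟩
  obtain ⟨d, k, e, P, A, hc⟩ := exists_tensorCoords hhom hscal
  by_cases hk : k = 1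
  swap
  · have hk2 : 2 ≤ k := by have := hc.pos_right; omega
    have hd2 : 2 ≤ d := hc.two_le hN.not_scalar
    have hle := hc.le_tensorProductSubgroup hN.normal
    obtain ⟨X, Y, l, hG, hXu, hYu, hl, hX, hY, hfix⟩ := sp_tensor_split hNS hc
    by_cases h2 : (2 : F) = 0
    · have hl1 : l = 1 := by
        rcases mul_self_eq_one_iff.1 hl with h | h
        · exact h
        · rw [h]; linear_combination -h2
      subst hl1
      have hX' : Xᵀ = X := hX.trans (one_smul F X)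
      have hY' : Yᵀ = Y := by
        rw [hY, one_smul, ← neg_one_smul F Y, show (-1 : F) = 1 by linear_combination -h2, one_smul]
      obtain ⟨hXd, hYalt⟩ := kron_alternating h2 hd2 hk2 hHS hirr hc hle hG hXu hX' hY' hfix
      obtain ⟨Q, hQ, hp, hHQ⟩ := quad_of_kron_alt h2 e P hG hX' hXd hYalt hHS fun g hg => by
        obtain ⟨a, b, hab⟩ := (mem_tensorProductSubgroup_iff e P g).1 (hle hg)
        exact ⟨a, b, hab⟩
      exact hquad Q h2 hQ hp hHQ
    rcases mul_self_eq_one_iff.1 hl with rfl | rfl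
    · refine sp_tensor_host h2 hk2 hd2 hHS (e := e.trans (Equiv.prodComm _ _)) (P := P)
        (hle.trans (tensorProductSubgroup_swap e P)) (X := Y) (Y := X) ?_ hYu hXu (by simpa using hY) (by simpa using hX)
      have h1 : spGram (e.trans (Equiv.prodComm _ _)) P =
          (spGram e P).submatrix (Equiv.prodComm (Fin d) (Fin k)).symm (Equiv.prodComm (Fin d) (Fin k)).symm := rfl
      rw [h1, hG]
      ext a b
      simp [Matrix.kronecker_apply, mul_comm]
    · exact sp_tensor_host h2 hd2 hk2 hHS hle hG hXu hYu (by simpa using hX) (by simpa using hY)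
  subst hk
  have hNabs : ActsAbsolutelyIrreducibly (matrixSet N) := hc.absIrred_of_one hhom
  by_cases hreal : ∃ F₀ : Subfield F, F₀ ≠ ⊤ ∧ RealisableOver F₀ (matrixSet N)
  · obtain ⟨F₀, hne, B, hB⟩ := hreal
    obtain ⟨F₁, s, hle₁, hs₁, hcard⟩ := exists_prime_index hne
    obtain ⟨ζ, hζ, hrat⟩ := sp_rational_structure hm hNabs hNS (F₁ := F₁) B⁻¹ fun g hg i j => by
      rw [inv_inv]
      exact hle₁ (hB _ (mem_matrixSet hg) i j)
    exact .inr <| .inr <| .inr <| .inr <| .inr <| .inr <| .inr <| .inl ⟨F₁, s, B⁻¹, ζ, hs₁, hcard, hζ, hrat,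
      le_subfieldSubgroup_of_realised hN.normal hNabs hle₁ B hB⟩
  push Not at hreal
  by_cases hQex : (2 : F) = 0 ∧ ∃ Q : (Fin m ⊕ Fin m → F) → F, IsNondegenerateQuadraticForm Q ∧
      FixesQuadForm (matrixSet N) Q
  · obtain ⟨h2, Q₀, hQ₀, hfix₀⟩ := hQex
    obtain ⟨Q, hQ, hp, hHQ⟩ := le_quad_of_fixed hm h2 hN.normal hNabs hHS hNS hQ₀ hfix₀
    exact hquad Q h2 hQ hp hHQ
  rcases minimal_cases (by omega) hN hNabs hreal with hS | ⟨d, t, M, e, P, A, hd, hM, hFc, hle⟩ | hres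
  · obtain ⟨p, k, hst, habs', hsim, hp, hpo, hF, hcard, hz, hmin⟩ := symp_sp_data hm hS hNS hreal
    obtain ⟨r, k', z, hr, -, -, hk', -, hZ, hcard', -, -, -, -⟩ := hS.structure_thm (by omega)
    have hk2 : 2 * m = 2 ^ k := by
      rw [← hZ, hz, hcard, hcardι, pow_add, pow_one, mul_comm 2 k, pow_mul] at hcard'
      exact (Nat.pow_left_injective two_ne_zero (Nat.eq_of_mul_eq_mul_left two_pos hcard')).symm
    refine .inr <| .inr <| .inr <| .inr <| .inr <| .inr <| .inr <| .inr <| .inl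
      ⟨N, p, k, hst, habs', hsim, hp, hpo, hF, hcard, hk2, hz, hmin, hNS, fun h hh =>
        Subgroup.mem_normalizer_iff.2 fun x => ⟨hN.normal h hh x, fun hx => by
          simpa [mul_assoc] using hN.normal h⁻¹ (H.inv_mem hh) _ hx⟩⟩
  · rcases sp_power hd hHS hN.le hM hFc hle with ⟨h2, hQ⟩ | ⟨h2, htodd, hdev, P', X, c, hc0, hXu, hX, hXd, hG, hle'⟩
    · exact absurd ⟨h2, hQ⟩ hQex
    have ht2 := hM.two_le
    obtain ⟨j, hj⟩ := htodd
    refine .inr <| .inr <| .inr <| .inr <| .inr <| .inr <| .inr <| .inr <| .inr <| .inl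
      ⟨d, t, e, P', formOfGram id X, hodd_of h2, ⟨j, hj⟩, by omega, hd, hdev, ?_, ?_,
        isSymplecticForm_formOfGram hXu hX hXd, isTensorPowerFormStructure_of_spGram e P' hc0 hG, hle'⟩
    · have h := Fintype.card_congr e
      simp at h
      omega
    · rintro ⟨h3, rfl⟩
      refine hM.not_le ⟨0, by omega⟩ ?_
      rw [no_perfect_factor_two h3 hM.perfect hFc ⟨0, by omega⟩]
      exact bot_le
  refine .inr <| .inr <| .inr <| .inr <| .inr <| .inr <| .inr <| .inr <| .inr <| .inr <| .inr ⟨N, hres, ?_, ?_⟩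
  · rintro ⟨Q, hQ, hfix⟩
    by_cases h2 : (2 : F) = 0
    · exact hQex ⟨h2, Q, hQ, hfix⟩
    obtain ⟨c, hc⟩ := exists_smul_of_fixed hNabs hs (isSesqForm_of_bilinear hQ.polar_bilinear) hf.nondegenerate
      (fixesForm_of_le_spGL hNS)
      (fun s hs' u v => by simp only [QuadraticMap.polar, ← Matrix.mulVec_add, hfix s hs'])
    obtain ⟨v, hv⟩ := exists_ne (0 : Fin m ⊕ Fin m → F)
    obtain ⟨x, hx⟩ := (hQ.nondegenerate v hv).2
    apply hx
    have h1 : c * f v x = c * f x v := by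
      rw [← hc, ← hc]
      simp only [QuadraticMap.polar, add_comm v x]
      ring
    rw [hf.skew x v] at h1
    have h4 : c * f v x = 0 :=
      (mul_eq_zero.1 (show (2 : F) * (c * f v x) = 0 by linear_combination h1)).resolve_left h2
    exact (hc v x).trans h4
  · rintro ⟨σ, g, hg, hfix⟩
    exact hreal _ (fixedSubfield_ne_top' hg.ne_refl) (realisable_fixed_of_sesq hNabs (isSesqForm_of_unitary hg)
      hg.nondegenerate hfix hf.bilinear hf.nondegenerate (fixesForm_of_le_spGL hNS))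

/-- The structure theorem for subgroups of the symplectic groups. -/
theorem symp_structure (hm : 1 ≤ m) (H : Subgroup (GL (Fin m ⊕ Fin m) F)) (hH : H ≤ Cfsg.spGL m F) :
    (∃ M : Subgroup (GL (Fin m ⊕ Fin m) F), InSymplecticClass m F M ∧ H ≤ M) ∨ InSymplecticResidualClass H :=
  (symp_host hm H hH).member hH

end CfsgLib.Geo.Asch
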