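/-
The symplectic group is contained in none of its geometric subgroups.
-/
import Cfsg.Agent.Lib.Geo.Asch.UnitNotLe
import Cfsg.Agent.Lib.Geo.Asch.SpStructure
import Cfsg.Agent.Lib.Classical.Symplectic.MatrixStructure
import Cfsg.Agent.Lib.Geo.SympDecompMaximal

set_option autoImplicit false

namespace CfsgLib.Geo.Asch

open Matrix Cfsg.Geo
open scoped Kronecker
open CfsgLib.Geo.Roots (isSymplecticForm_sympForm mem_spGL_iff fvec fvec_dot)

variable {F : Type*} [Field F] [Fintype F] {m : ℕ}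

theorem fvec_smul_dot_self (t : F) (v : Fin m ⊕ Fin m → F) :
    (t • fvec (Cfsg.sympForm m F) v) ⬝ᵥ v = 0 := by
  rw [smul_dotProduct, fvec_dot (isSymplecticForm_sympForm).bilinear, (isSymplecticForm_sympForm).alternating,
    smul_zero]

/-- The symplectic transvection `x ↦ x + t f(v, x) v`. -/
def sympT (t : F) (v : Fin m ⊕ Fin m → F) : GL (Fin m ⊕ Fin m) F :=
  transvectionGL (t • fvec (Cfsg.sympForm m F) v) v (fvec_smul_dot_self t v)

theorem sympT_mem (t : F) (v : Fin m ⊕ Fin m → F) : sympT t v ∈ Cfsg.spGL m F :=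
  CfsgLib.Geo.Roots.root_mem_spGL t v _

theorem sympT_mulVec (t : F) (v x : Fin m ⊕ Fin m → F) :
    (sympT t v : Matrix (Fin m ⊕ Fin m) (Fin m ⊕ Fin m) F) *ᵥ x = x + (t * Cfsg.sympForm m F v x) • v := by
  rw [sympT, transvectionGL_mulVec, smul_dotProduct, fvec_dot (isSymplecticForm_sympForm).bilinear, smul_eq_mul]

theorem sp_single_ne_zero (i : Fin m ⊕ Fin m) : (Pi.single i 1 : Fin m ⊕ Fin m → F) ≠ 0 := fun e => by
  simpa using congrFun e i

/-- A non-trivial proper subspace is moved by some transvection. -/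
theorem exists_sympT_moves {W : Submodule F (Fin m ⊕ Fin m → F)} (h0 : W ≠ ⊥) (h1 : W ≠ ⊤) :
    ∃ v, ∃ x ∈ W, x + Cfsg.sympForm m F v x • v ∉ W := by
  have hf := isSymplecticForm_sympForm (m := m) (F := F)
  obtain ⟨x, hx, hx0⟩ := Submodule.exists_mem_ne_zero_of_ne_bot h0
  obtain ⟨v₀, hv₀⟩ := (hf.nondegenerate x hx0).1
  obtain ⟨v, hv, hvW⟩ : ∃ v, Cfsg.sympForm m F v x ≠ 0 ∧ v ∉ W := by
    by_cases hv : v₀ ∈ W
    swap
    · exact ⟨v₀, hv₀, hv⟩
    obtain ⟨u, hu⟩ : ∃ u, u ∉ W := by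
      by_contra! h
      exact h1 (Submodule.eq_top_iff'.2 h)
    by_cases hux : Cfsg.sympForm m F u x = 0
    · refine ⟨u + v₀, by rw [hf.bilinear.add_left, hux, zero_add]; exact hv₀, fun h => hu ?_⟩
      simpa using W.sub_mem h hv
    · exact ⟨u, hux, hu⟩
  exact ⟨v, x, hx, fun h => hvW ((W.smul_mem_iff hv).1 (by simpa using W.sub_mem h hx))⟩

theorem eq_bot_or_top_of_sympT {W : Submodule F (Fin m ⊕ Fin m → F)}
    (h : ∀ v : Fin m ⊕ Fin m → F, ∀ x ∈ W, (sympT (1 : F) v : Matrix (Fin m ⊕ Fin m) (Fin m ⊕ Fin m) F) *ᵥ x ∈ W) : W = ⊥ ∨ W = ⊤ := by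
  by_contra! hc
  obtain ⟨v, x, hx, hout⟩ := exists_sympT_moves hc.1 hc.2
  exact hout (by simpa [sympT_mulVec] using h v x hx)

theorem not_spGL_le_subspaceStabilizer {W : Submodule F (Fin m ⊕ Fin m → F)} (h0 : W ≠ ⊥) (h1 : W ≠ ⊤) :
    ¬ Cfsg.spGL m F ≤ subspaceStabilizer W := fun hle =>
  (eq_bot_or_top_of_sympT fun v x hx => ((mem_subspaceStabilizer_iff W _).1 (hle (sympT_mem (1 : F) v)) x).1 hx).elim h0 h1

theorem ne_top_of_sp_totallySingular (hm : 1 ≤ m) {W : Submodule F (Fin m ⊕ Fin m → F)}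
    (hW : IsTotallySingularFor (Cfsg.sympForm m F) W) : W ≠ ⊤ := by
  intro htop
  obtain ⟨x, hx⟩ := ((isSymplecticForm_sympForm (m := m) (F := F)).nondegenerate
    (Pi.single (Sum.inl ⟨0, hm⟩) 1) (sp_single_ne_zero _)).1
  exact hx (hW x (htop ▸ Submodule.mem_top) _ (htop ▸ Submodule.mem_top))

theorem not_spGL_le_decompositionStabilizer {t k : ℕ} {D : Fin t → Submodule F (Fin m ⊕ Fin m → F)}
    (hD : IsMDecomposition k D) (hk : 2 ≤ k) : ¬ Cfsg.spGL m F ≤ decompositionStabilizer D := by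
  intro hle
  have hfix : ∀ (v : Fin m ⊕ Fin m → F) i, ∀ w ∈ D i,
      (sympT (1 : F) v : Matrix (Fin m ⊕ Fin m) (Fin m ⊕ Fin m) F) *ᵥ w ∈ D i := by
    intro v i w hw
    obtain ⟨τ, hτ⟩ := hle (sympT_mem (1 : F) v)
    have hmap : ∀ x ∈ D i, (sympT (1 : F) v : Matrix (Fin m ⊕ Fin m) (Fin m ⊕ Fin m) F) *ᵥ x ∈ D (τ i) :=
      fun x hx => hτ i ▸ ⟨x, hx, Matrix.toLin'_apply _ _⟩
    by_cases hi : τ i = i
    · simpa [hi] using hmap w hw
    exfalso
    have hb := (isSymplecticForm_sympForm (m := m) (F := F)).bilinear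
    let L : D i →ₗ[F] F :=
      { toFun := fun x => Cfsg.sympForm m F v (x : Fin m ⊕ Fin m → F)
        map_add' := fun a b => hb.add_right _ _ _
        map_smul' := fun a x => hb.smul_right _ _ _ }
    have hL : Function.Injective L := by
      rw [← LinearMap.ker_eq_bot, LinearMap.ker_eq_bot']
      intro x hx
      have h1 := hmap x x.2
      rw [sympT_mulVec, show Cfsg.sympForm m F v (x : Fin m ⊕ Fin m → F) = 0 from hx, mul_zero, zero_smul,
        add_zero] at h1
      exact Subtype.ext (Submodule.disjoint_def.1 (hD.indep.pairwiseDisjoint (Ne.symm hi)) _ x.2 h1)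
    have := LinearMap.finrank_le_finrank_of_injective hL
    rw [hD.finrank_eq, Module.finrank_self] at this
    omega
  have ht := hD.two_le
  let i : Fin t := ⟨0, by omega⟩
  have hdim := card_eq_of_mDecomposition hD
  have hfr := hD.finrank_eq i
  rcases eq_bot_or_top_of_sympT (W := D i) fun v w hw => hfix v i w hw with h' | h'
  · rw [h', finrank_bot] at hfr
    omega
  · rw [h', finrank_top, Module.finrank_pi] at hfr
    nlinarith

theorem not_spGL_le_subalgebraNormalizer (hm : 2 ≤ m) {r : ℕ}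
    {K : Subalgebra F (Matrix (Fin m ⊕ Fin m) (Fin m ⊕ Fin m) F)} (hK : IsFieldSubalgebra r K) (hr : 1 < r) :
    ¬ Cfsg.spGL m F ≤ subalgebraNormalizer K := by
  intro hle
  classical
  have hf := isSymplecticForm_sympForm (m := m) (F := F)
  haveI : Nonempty (Fin m ⊕ Fin m) := ⟨Sum.inl ⟨0, by omega⟩⟩
  obtain ⟨k, hk, hns⟩ : ∃ k ∈ K, ∀ c : F, k ≠ c • 1 := by
    by_contra! h
    have hbot : K = ⊥ := by
      rw [eq_bot_iff]
      intro k hk
      obtain ⟨c, hc⟩ := h k hk
      exact Algebra.mem_bot.2 ⟨c, by rw [hc, Algebra.algebraMap_eq_smul_one]⟩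
    have := hK.finrank_eq
    rw [hbot, Subalgebra.finrank_bot] at this
    omega
  have heig : ∀ v, ∃ a : F, k *ᵥ v = a • v := by
    intro v
    by_cases hv : v = 0
    · exact ⟨0, by simp [hv]⟩
    set T := sympT (1 : F) v with hT
    have hD := K.sub_mem ((hle (sympT_mem (1 : F) v) k).1 hk) hk
    rw [← hT] at hD
    have hD0 : (T : Matrix (Fin m ⊕ Fin m) (Fin m ⊕ Fin m) F) * k *
        ((T⁻¹ : GL (Fin m ⊕ Fin m) F) : Matrix (Fin m ⊕ Fin m) (Fin m ⊕ Fin m) F) - k = 0 := by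
      by_contra hne
      obtain ⟨y, -, hy⟩ := hK.inv _ hD hne
      have hspan : ∀ z : Fin m ⊕ Fin m → F, z ∈ Submodule.span F ({v, k *ᵥ v} : Set (Fin m ⊕ Fin m → F)) := by
        intro z
        set w := ((T⁻¹ : GL (Fin m ⊕ Fin m) F) : Matrix (Fin m ⊕ Fin m) (Fin m ⊕ Fin m) F) *ᵥ (y *ᵥ z) with hw
        have hyz : y *ᵥ z = w + (1 * Cfsg.sympForm m F v w) • v := by
          rw [← sympT_mulVec, hw, ← hT, inv_mulVec_cancel]
        have e : z = (1 * Cfsg.sympForm m F v (k *ᵥ w)) • v - (1 * Cfsg.sympForm m F v w) • (k *ᵥ v) := by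
          conv_lhs => rw [← Matrix.one_mulVec z, ← hy, ← Matrix.mulVec_mulVec, Matrix.sub_mulVec,
            ← Matrix.mulVec_mulVec, ← Matrix.mulVec_mulVec, ← hw, hT, sympT_mulVec]
          rw [hyz, Matrix.mulVec_add, Matrix.mulVec_smul]
          abel
        rw [e]
        exact Submodule.sub_mem _ (Submodule.smul_mem _ _ (Submodule.subset_span (by simp)))
          (Submodule.smul_mem _ _ (Submodule.subset_span (by simp)))
      have h1 := finrank_span_finset_le_card (R := F) ({v, k *ᵥ v} : Finset (Fin m ⊕ Fin m → F))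
      have h2 : Finset.card ({v, k *ᵥ v} : Finset (Fin m ⊕ Fin m → F)) ≤ 2 := Finset.card_le_two
      rw [Finset.coe_pair, Set.finrank, Submodule.eq_top_iff'.2 hspan, finrank_top, Module.finrank_pi,
        Fintype.card_sum, Fintype.card_fin] at h1
      omega
    obtain ⟨x, hx⟩ := (hf.nondegenerate v hv).2
    have e2 : (T : Matrix (Fin m ⊕ Fin m) (Fin m ⊕ Fin m) F) * k = k * T := by
      conv_rhs => rw [← sub_eq_zero.1 hD0, mul_assoc, ← Units.val_mul, inv_mul_cancel, Units.val_one, mul_one]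
    have e3 := congrArg (fun M => M *ᵥ x) e2
    simp only [← Matrix.mulVec_mulVec] at e3
    rw [hT, sympT_mulVec, sympT_mulVec, Matrix.mulVec_add, Matrix.mulVec_smul, one_mul, one_mul] at e3
    have e4 := add_left_cancel e3
    exact ⟨(Cfsg.sympForm m F v x)⁻¹ * Cfsg.sympForm m F v (k *ᵥ x), by
      rw [mul_smul, e4, smul_smul, inv_mul_cancel₀ hx, one_smul]⟩
  choose a ha using heig
  obtain ⟨i₀⟩ := (inferInstance : Nonempty (Fin m ⊕ Fin m))
  refine hns (a (Pi.single i₀ 1)) (Matrix.toLin'.injective ((Pi.basisFun F (Fin m ⊕ Fin m)).ext fun i => ?_))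
  rw [Pi.basisFun_apply, Matrix.toLin'_apply, Matrix.toLin'_apply, Matrix.smul_mulVec, Matrix.one_mulVec, ha]
  by_cases hi : i = i₀
  · rw [hi]
  · have hsum := ha (Pi.single i 1 + Pi.single i₀ 1)
    rw [Matrix.mulVec_add, ha, ha] at hsum
    have h1 := congrFun hsum i
    have h2 := congrFun hsum i₀
    simp [Pi.single_apply, hi, Ne.symm hi] at h1 h2
    rw [h1, h2]

/-- Coordinates of a symplectic transvection. -/
theorem coord_sympT {κ : Type} [Fintype κ] [DecidableEq κ] (e : (Fin m ⊕ Fin m) ≃ κ) (P : GL (Fin m ⊕ Fin m) F)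
    {v : Fin m ⊕ Fin m → F} (hv : v ≠ 0) :
    ∃ x y : κ → F, x ≠ 0 ∧ y ≠ 0 ∧ y ⬝ᵥ x = 0 ∧
      coord e P (sympT (1 : F) v : Matrix (Fin m ⊕ Fin m) (Fin m ⊕ Fin m) F) = 1 + Matrix.vecMulVec x y := by
  have hb := (isSymplecticForm_sympForm (m := m) (F := F)).bilinear
  set p := (P : Matrix (Fin m ⊕ Fin m) (Fin m ⊕ Fin m) F) with hp
  set p' := ((P⁻¹ : GL (Fin m ⊕ Fin m) F) : Matrix (Fin m ⊕ Fin m) (Fin m ⊕ Fin m) F) with hp'
  set φ := (1 : F) • fvec (Cfsg.sympForm m F) v with hφdef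
  have hφ : φ ⬝ᵥ v = 0 := fvec_smul_dot_self 1 v
  have hval : coord e P (sympT (1 : F) v : Matrix (Fin m ⊕ Fin m) (Fin m ⊕ Fin m) F) =
      1 + Matrix.vecMulVec ((p' *ᵥ v) ∘ e.symm) ((φ ᵥ* p) ∘ e.symm) := by
    show coord e P (1 + Matrix.vecMulVec v φ) = _
    ext a b
    simp only [coord, Matrix.submatrix_apply, ← hp, ← hp', mul_add, add_mul, mul_one, Matrix.mul_vecMulVec,
      Matrix.vecMulVec_mul, Matrix.add_apply, Matrix.vecMulVec_apply, Function.comp_apply]
    rw [show p' * p = 1 from P.inv_mul]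
    simp [Matrix.one_apply]
  have hφ0 : φ ≠ 0 := fun h0 => by
    obtain ⟨x, hx⟩ := ((isSymplecticForm_sympForm (m := m) (F := F)).nondegenerate v hv).2
    apply hx
    rw [← fvec_dot hb, ← one_smul F (fvec (Cfsg.sympForm m F) v), ← hφdef, h0, zero_dotProduct]
  refine ⟨_, _, fun e0 => mulVec_ne_zero P⁻¹ hv (funext fun k => ?_), fun e0 => hφ0 ?_, ?_, hval⟩
  · have h := congrFun e0 (e k)
    rw [Function.comp_apply, Equiv.symm_apply_apply] at h
    exact h
  · have h1 : φ ᵥ* p = 0 := funext fun k => by simpa using congrFun e0 (e k)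
    have h2 := congrArg (fun v => v ᵥ* p') h1
    simpa [Matrix.vecMul_vecMul, show p * p' = 1 from P.mul_inv] using h2
  · rw [comp_equiv_symm_dotProduct, Function.comp_assoc, Equiv.symm_comp_self, Function.comp_id,
      ← Matrix.dotProduct_mulVec, Matrix.mulVec_mulVec, show p * p' = 1 from P.mul_inv, Matrix.one_mulVec, hφ]

/-- An outer product with orthogonal factors has an entry off the diagonal. -/
theorem exists_offdiag {κ : Type} [Fintype κ] [DecidableEq κ] {x y : κ → F} (hx : x ≠ 0) (hy : y ≠ 0)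
    (hyx : y ⬝ᵥ x = 0) : ∃ p r, p ≠ r ∧ x p * y r ≠ 0 := by
  by_contra! hoff
  obtain ⟨p, hp⟩ := Function.ne_iff.1 hx
  have hy' : ∀ r, r ≠ p → y r = 0 := fun r hr => (mul_eq_zero.1 (hoff p r hr.symm)).resolve_left hp
  have hyp : y p ≠ 0 := fun h0 => hy (funext fun r => by
    by_cases hr : r = p
    · rw [hr, h0]; rfl
    · exact hy' r hr)
  rw [dotProduct, Finset.sum_eq_single p (fun r _ hr => by rw [hy' r hr, zero_mul]) (by simp)] at hyx
  exact mul_ne_zero hyp hp hyx

theorem not_spGL_le_tensorProductSubgroup (hm : 1 ≤ m) {d k : ℕ} (hd : 2 ≤ d) (hk : 2 ≤ k)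
    (e : (Fin m ⊕ Fin m) ≃ Fin d × Fin k) (P : GL (Fin m ⊕ Fin m) F) :
    ¬ Cfsg.spGL m F ≤ tensorProductSubgroup d k e P := by
  classical
  intro hle
  obtain ⟨a, b, hab⟩ := (mem_tensorProductSubgroup_iff e P _).1
    (hle (sympT_mem 1 (Pi.single (Sum.inl ⟨0, hm⟩) 1 : Fin m ⊕ Fin m → F)))
  obtain ⟨x, y, hx0, hy0, hyx, hval⟩ := coord_sympT e P (sp_single_ne_zero (F := F) (Sum.inl ⟨0, hm⟩))
  rw [hval] at hab
  have hA : ∀ j j', j ≠ j' → (b : Matrix (Fin k) (Fin k) F) j j' = 0 := by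
    intro j j' hj
    by_contra hb
    obtain ⟨v, hv0, hv⟩ := exists_orth_ne_zero hd (fun i' => y (i', j'))
    refine mulVec_ne_zero a hv0 (funext fun i => ?_)
    have he : ∀ i', (b : Matrix (Fin k) (Fin k) F) j j' * (a : Matrix (Fin d) (Fin d) F) i i' = x (i, j) * y (i', j') :=
      fun i' => by
        have h1 := congrFun (congrFun hab (i, j)) (i', j')
        simpa [Matrix.one_apply, hj, Matrix.vecMulVec_apply, mul_comm] using h1.symm
    rw [Pi.zero_apply]
    refine (mul_eq_zero.1 (show (b : Matrix (Fin k) (Fin k) F) j j' * ((a : Matrix (Fin d) (Fin d) F) *ᵥ v) i = 0 from ?_)).resolve_left hb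
    have hv' : ∑ i', y (i', j') * v i' = 0 := hv
    simp only [Matrix.mulVec, dotProduct, Finset.mul_sum]
    simp only [← mul_assoc, he]
    simp only [mul_assoc, ← Finset.mul_sum, hv', mul_zero]
  have hB : ∀ i i', i ≠ i' → (a : Matrix (Fin d) (Fin d) F) i i' = 0 := by
    intro i i' hi
    by_contra ha
    obtain ⟨v, hv0, hv⟩ := exists_orth_ne_zero hk (fun j' => y (i', j'))
    refine mulVec_ne_zero b hv0 (funext fun j => ?_)
    have he : ∀ j', (a : Matrix (Fin d) (Fin d) F) i i' * (b : Matrix (Fin k) (Fin k) F) j j' = x (i, j) * y (i', j') :=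
      fun j' => by
        have h1 := congrFun (congrFun hab (i, j)) (i', j')
        simpa [Matrix.one_apply, hi, Matrix.vecMulVec_apply] using h1.symm
    rw [Pi.zero_apply]
    refine (mul_eq_zero.1 (show (a : Matrix (Fin d) (Fin d) F) i i' * ((b : Matrix (Fin k) (Fin k) F) *ᵥ v) j = 0 from ?_)).resolve_left ha
    have hv' : ∑ j', y (i', j') * v j' = 0 := hv
    simp only [Matrix.mulVec, dotProduct, Finset.mul_sum]
    simp only [← mul_assoc, he]
    simp only [mul_assoc, ← Finset.mul_sum, hv', mul_zero]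
  obtain ⟨⟨i, j⟩, ⟨i', j'⟩, hne, hxy⟩ := exists_offdiag hx0 hy0 hyx
  apply hxy
  have h1 := congrFun (congrFun hab (i, j)) (i', j')
  rw [Matrix.add_apply, Matrix.one_apply_ne hne, zero_add, Matrix.vecMulVec_apply, Matrix.kronecker_apply] at h1
  rw [h1]
  by_cases hi : i = i'
  · subst hi; rw [hA j j' fun e' => hne (by rw [e']), mul_zero]
  · rw [hB i i' hi, zero_mul]

theorem not_spGL_le_tensorWreathSubgroup (hm : 1 ≤ m) {d t : ℕ} (hd : 2 ≤ d) (ht : 3 ≤ t)
    (e : (Fin m ⊕ Fin m) ≃ (Fin t → Fin d)) (P : GL (Fin m ⊕ Fin m) F) :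
    ¬ Cfsg.spGL m F ≤ tensorWreathSubgroup d t e P := by
  classical
  intro hle
  obtain ⟨π, gs, hC⟩ := exists_coord_of_mem_tensorWreath
    (hle (sympT_mem 1 (Pi.single (Sum.inl ⟨0, hm⟩) 1 : Fin m ⊕ Fin m → F)))
  obtain ⟨x, y, hx0, hy0, hyx, hval⟩ := coord_sympT e P (sp_single_ne_zero (F := F) (Sum.inl ⟨0, hm⟩))
  have hdet : (pureT d t F gs).det ≠ 0 := by
    intro h0
    apply det_coord_ne_zero e P (sympT (1 : F) (Pi.single (Sum.inl ⟨0, hm⟩) 1))
    rw [hC, Matrix.det_mul, h0, zero_mul]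
  rw [hval] at hC
  have key : ∀ X Y : Fin t → Fin d, (if X = Y then 1 else 0) + x X * y Y = ∏ i, gs i (X i) (Y (π.symm i)) := by
    intro X Y
    have h1 := congrFun (congrFun hC X) Y
    rw [mul_permT, pureT_apply, Matrix.add_apply, Matrix.one_apply, Matrix.vecMulVec_apply] at h1
    exact h1
  have hker : ∀ i (v : Fin d → F), gs i *ᵥ v = 0 → v = 0 := fun i v hv =>
    Matrix.eq_zero_of_mulVec_eq_zero (pureT_factor_det gs hdet i) hv
  have hrow : ∀ i a, ∃ b, gs i a b ≠ 0 := by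
    intro i a
    by_contra! h0
    exact pureT_factor_det gs hdet i (Matrix.det_eq_zero_of_row_eq_zero a h0)
  -- the slice at one position
  have hblk : ∀ (i : Fin t) (X Y : Fin t → Fin d) (a b : Fin d),
      (∏ l ∈ Finset.univ.erase i, gs l (X l) (Y (π.symm l))) * gs i a b =
        (if Function.update X i a = Function.update Y (π.symm i) b then 1 else 0) +
          x (Function.update X i a) * y (Function.update Y (π.symm i) b) := by
    intro i X Y a b
    rw [key, ← Finset.prod_erase_mul Finset.univ _ (Finset.mem_univ i), Function.update_self, Function.update_self]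
    congr 1
    refine Finset.prod_congr rfl fun l hl => ?_
    rw [Function.update_of_ne (Finset.ne_of_mem_erase hl),
      Function.update_of_ne (fun e' => Finset.ne_of_mem_erase hl (π.symm.injective e'))]
  -- such a slice is killed by a non-zero vector unless its coefficient is zero
  have hslice : ∀ (i : Fin t) (X Y : Fin t → Fin d) (ψ : Fin d → F),
      (∀ v : Fin d → F, ψ ⬝ᵥ v = 0 → ∀ a, ∑ b, ((if Function.update X i a = Function.update Y (π.symm i) b then 1 else 0) +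
          x (Function.update X i a) * y (Function.update Y (π.symm i) b)) * v b = 0) →
      (∏ l ∈ Finset.univ.erase i, gs l (X l) (Y (π.symm l))) = 0 := by
    intro i X Y ψ hψ
    by_contra hc0
    obtain ⟨v, hv0, hv⟩ := exists_orth_ne_zero hd ψ
    refine hv0 (hker i v (funext fun a => ?_))
    rw [Pi.zero_apply]
    refine (mul_eq_zero.1 (show (∏ l ∈ Finset.univ.erase i, gs l (X l) (Y (π.symm l))) * (gs i *ᵥ v) a = 0 from ?_)).resolve_left hc0
    simp only [Matrix.mulVec, dotProduct, Finset.mul_sum, ← mul_assoc, hblk]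
    exact hψ v hv a
  by_cases hπ : π = 1
  · subst hπ
    obtain ⟨X, Y, hne, hxy⟩ := exists_offdiag hx0 hy0 hyx
    obtain ⟨l₀, hl₀⟩ := Function.ne_iff.1 hne
    haveI : Nontrivial (Fin t) := Fin.nontrivial_iff_two_le.2 (by omega)
    obtain ⟨i, hi⟩ := exists_ne l₀
    have hs : (1 : Equiv.Perm (Fin t)).symm i = i := rfl
    have hc0 := hslice i X Y (fun b => y (Function.update Y ((1 : Equiv.Perm (Fin t)).symm i) b)) fun v hv a => by
      have hne' : ∀ b, Function.update X i a ≠ Function.update Y ((1 : Equiv.Perm (Fin t)).symm i) b := fun b e' => hl₀ (by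
        have := congrFun e' l₀
        rwa [Function.update_of_ne hi.symm, Function.update_of_ne (hs.symm ▸ hi.symm)] at this)
      simp only [hne', if_false, zero_add, mul_assoc, ← Finset.mul_sum]
      rw [show ∑ b, y (Function.update Y ((1 : Equiv.Perm (Fin t)).symm i) b) * v b = 0 from hv, mul_zero]
    have h1 := hblk i X Y (X i) (Y i)
    rw [hc0, zero_mul, hs, Function.update_eq_self, Function.update_eq_self, if_neg hne, zero_add] at h1
    exact hxy h1.symm
  obtain ⟨i, hi⟩ : ∃ i, π.symm i ≠ i := by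
    by_contra! hall
    exact hπ (Equiv.ext fun i => by simpa using congrArg π (hall i).symm)
  obtain ⟨l, hli, hlj⟩ : ∃ l, l ≠ i ∧ l ≠ π.symm i := by
    by_contra! hall
    have h1 : (Finset.univ : Finset (Fin t)) ⊆ {i, π.symm i} := fun l _ => by
      by_cases h : l = i
      · simp [h]
      · simp [hall l h]
    have h2 := (Finset.card_le_card h1).trans Finset.card_le_two
    rw [Finset.card_univ, Fintype.card_fin] at h2
    omega
  -- no slice with non-zero coefficient separates position `l`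
  have hsep : ∀ X Y : Fin t → Fin d, (∀ l' ≠ i, gs l' (X l') (Y (π.symm l')) ≠ 0) → X l = Y l := by
    intro X Y hnz
    by_contra hne
    refine Finset.prod_ne_zero_iff.2 (fun l' hl' => hnz l' (Finset.ne_of_mem_erase hl'))
      (hslice i X Y (fun b => y (Function.update Y (π.symm i) b)) fun v hv a => ?_)
    have hne' : ∀ b, Function.update X i a ≠ Function.update Y (π.symm i) b := fun b e' => hne (by
      have := congrFun e' l
      rwa [Function.update_of_ne hli, Function.update_of_ne hlj] at this)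
    simp only [hne', if_false, zero_add, mul_assoc, ← Finset.mul_sum]
    rw [show ∑ b, y (Function.update Y (π.symm i) b) * v b = 0 from hv, mul_zero]
  choose bsel hbsel using hrow
  let o : Fin d := ⟨0, by omega⟩
  let o' : Fin d := ⟨1, by omega⟩
  have hoo : o ≠ o' := by simp [o, o']
  have hchoice : ∀ X : Fin t → Fin d, X l = bsel (π l) (X (π l)) := fun X =>
    hsep X (fun k => bsel (π k) (X (π k))) fun l' _ => by simpa using hbsel l' (X l')
  by_cases hπl : π l = l
  swap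
  · have h1 := hchoice fun _ => o
    have h2 := hchoice (Function.update (fun _ => o) l o')
    rw [Function.update_self, Function.update_of_ne hπl, ← h1] at h2
    exact hoo h2.symm
  have hπl' : π.symm l = l := (Equiv.symm_apply_eq π).2 hπl.symm
  have hdiag : ∀ a b, a ≠ b → gs l a b = 0 := by
    intro a b hab
    by_contra hne
    refine hab ?_
    have h := hsep (Function.update (fun _ => o) l a)
      (Function.update (fun k => bsel (π k) ((Function.update (fun _ => o) l a : Fin t → Fin d) (π k))) l b)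
      fun l' _ => by
        by_cases hl' : l' = l
        · subst hl'; rwa [hπl', Function.update_self, Function.update_self]
        · rw [Function.update_of_ne (fun e' => hl' (π.symm.injective (e'.trans hπl'.symm))), Equiv.apply_symm_apply]
          exact hbsel _ _
    rwa [Function.update_self, Function.update_self] at h
  obtain ⟨p, hp⟩ := Function.ne_iff.1 hx0
  obtain ⟨a₁, ha₁⟩ : ∃ a, a ≠ p l := by
    by_cases h : p l = o
    · exact ⟨o', h ▸ hoo.symm⟩
    · exact ⟨o, Ne.symm h⟩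
  have hyv : ∀ Y, Y l ≠ p l → y Y = 0 := by
    intro Y hY
    have h1 := key p Y
    rw [if_neg (fun e' => hY (by rw [e'])), zero_add, Finset.prod_eq_zero (Finset.mem_univ l)
      (by rw [hπl']; exact hdiag _ _ (Ne.symm hY))] at h1
    exact (mul_eq_zero.1 h1).resolve_left hp
  set X : Fin t → Fin d := Function.update (fun _ => o) l a₁
  set Y : Fin t → Fin d := fun k => bsel (π k) (X (π k))
  have hYl : Y l = a₁ := (hchoice X).symm.trans (Function.update_self _ _ _)
  have hc : ∀ l' ∈ Finset.univ.erase i, gs l' (X l') (Y (π.symm l')) ≠ 0 := fun l' _ => by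
    simpa [Y] using hbsel l' (X l')
  refine Finset.prod_ne_zero_iff.2 hc (hslice i X Y (Pi.single (X (π.symm i)) 1) fun v hv a => ?_)
  rw [single_one_dotProduct] at hv
  refine Finset.sum_eq_zero fun b _ => ?_
  rw [hyv _ (by rw [Function.update_of_ne hlj, hYl]; exact ha₁), mul_zero, add_zero]
  split_ifs with he
  · have := congrFun he (π.symm i)
    rw [Function.update_of_ne hi, Function.update_self] at this
    rw [← this, hv, mul_zero]
  · rw [zero_mul]

theorem not_spGL_le_subfieldSubgroup (hm : 1 ≤ m) {F₀ : Subfield F} (hF₀ : F₀ ≠ ⊤) (P : GL (Fin m ⊕ Fin m) F) :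
    ¬ Cfsg.spGL m F ≤ subfieldSubgroup F₀ P := by
  intro hle
  have hb := (isSymplecticForm_sympForm (m := m) (F := F)).bilinear
  set p := (P : Matrix (Fin m ⊕ Fin m) (Fin m ⊕ Fin m) F) with hp
  set p' := ((P⁻¹ : GL (Fin m ⊕ Fin m) F) : Matrix (Fin m ⊕ Fin m) (Fin m ⊕ Fin m) F) with hp'
  let a : Fin m ⊕ Fin m := Sum.inl ⟨0, hm⟩
  set v := p *ᵥ Pi.single a 1 with hvdef
  have hv : v ≠ 0 := mulVec_ne_zero P (sp_single_ne_zero a)
  obtain ⟨b, hb0⟩ : ∃ b, (fvec (Cfsg.sympForm m F) v ᵥ* p) b ≠ 0 := by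
    by_contra! hall
    obtain ⟨x, hx⟩ := ((isSymplecticForm_sympForm (m := m) (F := F)).nondegenerate v hv).2
    apply hx
    rw [← fvec_dot hb, ← inv_mulVec_cancel P x, ← hp, Matrix.dotProduct_mulVec,
      show fvec (Cfsg.sympForm m F) v ᵥ* p = 0 from funext hall, zero_dotProduct]
  set y := fvec (Cfsg.sympForm m F) v ᵥ* p with hy
  have hya : y a = 0 := by
    have h : y ⬝ᵥ Pi.single a 1 = 0 := by
      rw [hy, ← Matrix.dotProduct_mulVec, ← hvdef, fvec_dot hb, (isSymplecticForm_sympForm).alternating]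
    simpa using h
  have hab : b ≠ a := fun e => hb0 (e ▸ hya)
  obtain ⟨c, hc⟩ : ∃ c, c ∉ F₀ := by
    by_contra! h
    exact hF₀ (SetLike.ext fun x => iff_of_true (h x) (Subfield.mem_top x))
  obtain ⟨g, hg, e⟩ := hle (sympT_mem (c * (y b)⁻¹) v)
  obtain ⟨a', ⟨A, rfl⟩, z, hz, hprod⟩ := Subgroup.mem_sup_of_normal_right.1 (show g ∈ _ ⊔ scalars _ F from hg)
  obtain ⟨d, hd⟩ := (mem_scalars_iff z).1 hz
  have hgP : g = P⁻¹ * sympT (c * (y b)⁻¹) v * P := by
    rw [← show P * g * P⁻¹ = sympT (c * (y b)⁻¹) v from e]; group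
  have hv' : p' *ᵥ v = Pi.single a 1 := by
    rw [hvdef, Matrix.mulVec_mulVec, show p' * p = 1 from P.inv_mul, Matrix.one_mulVec]
  have hgv : (g : Matrix (Fin m ⊕ Fin m) (Fin m ⊕ Fin m) F) =
      1 + Matrix.vecMulVec (Pi.single a 1) ((c * (y b)⁻¹) • y) := by
    rw [hgP, Units.val_mul, Units.val_mul, ← hp, ← hp']
    show p' * (1 + Matrix.vecMulVec v ((c * (y b)⁻¹) • fvec (Cfsg.sympForm m F) v)) * p = _
    rw [mul_add, add_mul, mul_one, show p' * p = 1 from P.inv_mul, Matrix.mul_vecMulVec, Matrix.vecMulVec_mul, hv',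
      Matrix.smul_vecMul]
  have hval := congrArg (Units.val : GL (Fin m ⊕ Fin m) F → Matrix (Fin m ⊕ Fin m) (Fin m ⊕ Fin m) F) hprod
  rw [Units.val_mul, hd, Matrix.mul_smul, mul_one, hgv] at hval
  have hbb := congrFun (congrFun hval b) b
  have hab' := congrFun (congrFun hval a) b
  rw [Matrix.smul_apply, smul_eq_mul, Matrix.add_apply, Matrix.one_apply_eq, Matrix.vecMulVec_apply,
    Pi.single_eq_of_ne hab, zero_mul, add_zero] at hbb
  rw [Matrix.smul_apply, smul_eq_mul, Matrix.add_apply, Matrix.one_apply_ne hab.symm, zero_add, Matrix.vecMulVec_apply,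
    Pi.single_eq_same, one_mul, Pi.smul_apply, smul_eq_mul, inv_mul_cancel_right₀ hb0] at hab'
  have hd0 : (d : F) ∈ F₀ := by
    rw [← inv_inv (d : F)]
    refine inv_mem ?_
    rw [inv_eq_of_mul_eq_one_right hbb]
    exact ((A : Matrix (Fin m ⊕ Fin m) (Fin m ⊕ Fin m) F₀) b b).2
  exact hc (hab' ▸ mul_mem hd0 ((A : Matrix (Fin m ⊕ Fin m) (Fin m ⊕ Fin m) F₀) a b).2)

theorem not_spGL_le_quadSimilarityGroup (hm : 2 ≤ m) {Q : (Fin m ⊕ Fin m → F) → F}
    (hQ : IsNondegenerateQuadraticForm Q)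
    (hpol : ∀ u v, QuadraticMap.polar Q u v = Cfsg.sympForm m F u v) :
    ¬ Cfsg.spGL m F ≤ quadSimilarityGroup Q := by
  intro hle
  have hf := isSymplecticForm_sympForm (m := m) (F := F)
  have hadd : ∀ u w, Q (u + w) = Q u + Q w + Cfsg.sympForm m F u w := fun u w => by
    rw [← hpol, QuadraticMap.polar]; ring
  have hQv : ∀ v : Fin m ⊕ Fin m → F, v ≠ 0 → Q v = 1 := by
    intro v hv
    obtain ⟨x, hx⟩ := (hf.nondegenerate v hv).2
    obtain ⟨c, hc⟩ := hle (sympT_mem (1 : F) v)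
    have hc1 : (c : F) = 1 := by
      have h := (mem_spGL_iff.1 (sympT_mem (1 : F) v)) v x
      rw [← hpol, ← hpol, QuadraticMap.polar, QuadraticMap.polar, ← Matrix.mulVec_add, hc, hc, hc] at h
      have h' : (c : F) * Cfsg.sympForm m F v x = 1 * Cfsg.sympForm m F v x := by
        rw [← hpol, QuadraticMap.polar, one_mul]
        linear_combination h
      exact mul_right_cancel₀ hx h'
    set a := Cfsg.sympForm m F v x with ha
    have hsm : Q (a • v) = a ^ 2 * Q v := hQ.smul a v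
    have h := hc x
    rw [hc1, one_mul, sympT_mulVec, one_mul, ← ha, hadd, hsm, hf.bilinear.smul_right, hf.skew x v, ← ha] at h
    have : a ^ 2 * (Q v - 1) = 0 := by linear_combination h
    exact sub_eq_zero.1 ((mul_eq_zero.1 this).resolve_left (pow_ne_zero 2 hx))
  have hne : (Sum.inl ⟨0, by omega⟩ : Fin m ⊕ Fin m) ≠ Sum.inl ⟨1, by omega⟩ := by simp
  set u : Fin m ⊕ Fin m → F := Pi.single (Sum.inl ⟨0, by omega⟩) 1
  set w : Fin m ⊕ Fin m → F := Pi.single (Sum.inl ⟨1, by omega⟩) 1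
  have huw : u + w ≠ 0 := fun e => by
    have := congrFun e (Sum.inl ⟨0, by omega⟩)
    simp [u, w, hne] at this
  have h0 : Cfsg.sympForm m F u w = 0 := by
    simp [u, w, Cfsg.sympForm, Matrix.J, Matrix.fromBlocks]
  have := hadd u w
  rw [hQv _ huw, hQv u (sp_single_ne_zero _), hQv w (sp_single_ne_zero _), h0, add_zero] at this
  exact one_ne_zero (α := F) (by linear_combination -this)

/-- A non-abelian two-group inside the symplectic group is not normal in it. -/
theorem not_spGL_le_normalizer_two_group (hm : 2 ≤ m) (h2 : (2 : F) ≠ 0) {R : Subgroup (GL (Fin m ⊕ Fin m) F)}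
    (hR : IsPGroup 2 R) (hna : ∃ x ∈ R, ∃ y ∈ R, x * y ≠ y * x) (hRS : R ≤ Cfsg.spGL m F) :
    ¬ Cfsg.spGL m F ≤ subgroupNormalizer R := by
  classical
  intro hle
  haveI : Nonempty (Fin m ⊕ Fin m) := ⟨Sum.inl ⟨0, by omega⟩⟩
  haveI : Nontrivial (Fin m ⊕ Fin m) := ⟨⟨Sum.inl ⟨0, by omega⟩, Sum.inr ⟨0, by omega⟩, by simp⟩⟩
  haveI : Finite (GL (Fin m ⊕ Fin m) F) :=
    Finite.of_injective (fun g : GL (Fin m ⊕ Fin m) F => (g : Matrix (Fin m ⊕ Fin m) (Fin m ⊕ Fin m) F))
      Units.val_injective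
  haveI : IsSimpleGroup (Cfsg.PSp m F) := CfsgLib.Classical.Symp.isSimpleGroup_psp (by omega) (Or.inl ⟨hm, h2⟩)
  let φ : Cfsg.spGL m F →* Cfsg.PSp m F :=
    (QuotientGroup.mk' _).comp (CfsgLib.Classical.Symp.symplecticEquivSpGL m F).symm.toMonoidHom
  have hφ : Function.Surjective φ :=
    (QuotientGroup.mk'_surjective _).comp (CfsgLib.Classical.Symp.symplecticEquivSpGL m F).symm.surjective
  haveI hn : (R.subgroupOf (Cfsg.spGL m F)).Normal :=
    ⟨fun r hr g => (Subgroup.mem_normalizer_iff.1 (hle g.2) _).1 hr⟩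
  haveI hn' : ((R.subgroupOf (Cfsg.spGL m F)).map φ).Normal := hn.map φ hφ
  rcases hn'.eq_bot_or_eq_top with h | h
  · obtain ⟨x, hx, y, hy, hxy⟩ := hna
    refine hxy ?_
    have hker : φ ⟨x, hRS hx⟩ = 1 := by
      rw [← Subgroup.mem_bot, ← h]
      exact ⟨⟨x, hRS hx⟩, hx, rfl⟩
    have hc := Subgroup.mem_center_iff.1 ((QuotientGroup.eq_one_iff _).1 hker)
      ((CfsgLib.Classical.Symp.symplecticEquivSpGL m F).symm ⟨y, hRS hy⟩)
    have := congrArg (fun g => ((CfsgLib.Classical.Symp.symplecticEquivSpGL m F g : Cfsg.spGL m F) : GL (Fin m ⊕ Fin m) F)) hc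
    simpa using this.symm
  · have hpg : IsPGroup 2 (Cfsg.PSp m F) := by
      intro g
      obtain ⟨r, hr, rfl⟩ := (h.symm ▸ Subgroup.mem_top g : g ∈ (R.subgroupOf (Cfsg.spGL m F)).map φ)
      obtain ⟨k, hk⟩ := hR ⟨r.1, hr⟩
      refine ⟨k, ?_⟩
      rw [← map_pow, show r ^ 2 ^ k = 1 from Subtype.ext (by simpa using congrArg (fun z : R => (z : GL (Fin m ⊕ Fin m) F)) hk), map_one]
    haveI : Finite (Cfsg.PSp m F) := Finite.of_surjective φ hφ
    obtain ⟨a, ha⟩ := IsPGroup.iff_card.1 hpg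
    obtain ⟨p, hp⟩ := CharP.exists F
    haveI : Fact p.Prime := ⟨CharP.char_is_prime F p⟩
    obtain ⟨e, -, he⟩ := FiniteField.card F p
    have hp2 : p ≠ 2 := fun e' => h2 (by subst e'; exact_mod_cast CharP.cast_eq_zero F 2)
    have hdvd : p ∣ Nat.gcd 2 (Fintype.card F - 1) * Nat.card (Cfsg.PSp m F) := by
      rw [CfsgLib.Classical.Symp.gcd_mul_card_psp (by omega), he]
      exact Dvd.dvd.mul_right ((dvd_pow_self p e.pos.ne').trans (dvd_pow_self _ (pow_ne_zero 2 (by omega)))) _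
    rw [ha] at hdvd
    rcases (Fact.out (p := p.Prime)).dvd_mul.1 hdvd with h' | h'
    · exact hp2 ((Nat.prime_dvd_prime_iff_eq Fact.out Nat.prime_two).1 (h'.trans (Nat.gcd_dvd_left _ _)))
    · exact hp2 ((Nat.prime_dvd_prime_iff_eq Fact.out Nat.prime_two).1 ((Fact.out (p := p.Prime)).dvd_of_dvd_pow h'))

/-- A symplectic-type two-group inside the symplectic group is not normal in it. -/
theorem not_spGL_le_subgroupNormalizer (hm : 2 ≤ m) (h2 : (2 : F) ≠ 0) {R : Subgroup (GL (Fin m ⊕ Fin m) F)}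
    (hR : IsSymplecticTypeGroup 2 R) (habs : ActsAbsolutelyIrreducibly (matrixSet R)) (hRS : R ≤ Cfsg.spGL m F) :
    ¬ Cfsg.spGL m F ≤ subgroupNormalizer R :=
  haveI : Nonempty (Fin m ⊕ Fin m) := ⟨Sum.inl ⟨0, by omega⟩⟩
  haveI : Nontrivial (Fin m ⊕ Fin m) := ⟨⟨Sum.inl ⟨0, by omega⟩, Sum.inr ⟨0, by omega⟩, by simp⟩⟩
  not_spGL_le_normalizer_two_group hm h2 hR.pGroup (not_abelian_of_absIrred habs) hRS

end CfsgLib.Geo.Asch
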