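/-
The maximal subgroups of the symplectic groups lie in the geometric classes or are residual.
-/
import Cfsg.Agent.Lib.Geo.Asch.SpNotLe
import Cfsg.Agent.Lib.Geo.Asch.UnitMax

set_option autoImplicit false

namespace CfsgLib.Geo.Asch

open Matrix Cfsg.Geo

variable {F : Type*} [Field F] [Fintype F] {m : ℕ}

/-- The possible shapes of a maximal subgroup of the symplectic group. -/
def SpShape (m : ℕ) (H : Subgroup (GL (Fin m ⊕ Fin m) F)) : Prop :=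
  (∃ W : Submodule F (Fin m ⊕ Fin m → F), W ≠ ⊥ ∧ IsTotallySingularFor (Cfsg.sympForm m F) W ∧
    H = subspaceStabilizer W ⊓ Cfsg.spGL m F) ∨
  (∃ W : Submodule F (Fin m ⊕ Fin m → F), W ≠ ⊥ ∧ IsNondegenerateOn (Cfsg.sympForm m F) W ∧
    Module.finrank F W < m ∧ Even (Module.finrank F W) ∧ H = subspaceStabilizer W ⊓ Cfsg.spGL m F) ∨
  (∃ (t k : ℕ) (D : Fin t → Submodule F (Fin m ⊕ Fin m → F)),
    IsNondegenerateMDecomposition (Cfsg.sympForm m F) k D ∧ t * k = 2 * m ∧ Even k ∧ 2 ≤ t ∧ 2 ≤ k ∧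
    H = decompositionStabilizer D ⊓ Cfsg.spGL m F) ∨
  (Odd (Fintype.card F) ∧ ∃ D : Fin 2 → Submodule F (Fin m ⊕ Fin m → F), IsMDecomposition m D ∧
    (∀ i, IsTotallySingularFor (Cfsg.sympForm m F) (D i)) ∧ H = decompositionStabilizer D ⊓ Cfsg.spGL m F) ∨
  (∃ (r : ℕ) (K : Subalgebra F (Matrix (Fin m ⊕ Fin m) (Fin m ⊕ Fin m) F)), r.Prime ∧ r ∣ m ∧
    IsFieldSubalgebra r K ∧ IsSelfAdjointFor (Cfsg.sympForm m F) K ∧
    (∀ k ∈ K, ∀ v, Cfsg.sympForm m F (k *ᵥ v) v = 0) ∧ H = subalgebraNormalizer K ⊓ Cfsg.spGL m F) ∨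
  (∃ K : Subalgebra F (Matrix (Fin m ⊕ Fin m) (Fin m ⊕ Fin m) F), Odd (Fintype.card F) ∧ IsFieldSubalgebra 2 K ∧
    IsAdjointClosedFor (Cfsg.sympForm m F) K ∧ ¬ IsSelfAdjointFor (Cfsg.sympForm m F) K ∧
    H = subalgebraNormalizer K ⊓ Cfsg.spGL m F) ∨
  (∃ (n₁ n₂ : ℕ) (e : (Fin m ⊕ Fin m) ≃ Fin n₁ × Fin n₂) (P : GL (Fin m ⊕ Fin m) F)
    (f₁ : (Fin n₁ → F) → (Fin n₁ → F) → F) (f₂ : (Fin n₂ → F) → (Fin n₂ → F) → F),
    Odd (Fintype.card F) ∧ 2 ≤ n₁ ∧ Even n₁ ∧ 3 ≤ n₂ ∧ n₁ * n₂ = 2 * m ∧ IsSymplecticForm f₁ ∧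
    IsSymmetricForm f₂ ∧ IsTensorFormStructure id (Cfsg.sympForm m F) f₁ f₂ e P ∧
    H = tensorProductSubgroup n₁ n₂ e P ⊓ Cfsg.spGL m F) ∨
  (∃ (F₀ : Subfield F) (r : ℕ) (P : GL (Fin m ⊕ Fin m) F) (ζ : F), r.Prime ∧
    Fintype.card F = Nat.card F₀ ^ r ∧ ζ ≠ 0 ∧ IsFormRationalStructure (Cfsg.sympForm m F) F₀ ζ P ∧
    H = subfieldSubgroup F₀ P ⊓ Cfsg.spGL m F) ∨
  (∃ (R : Subgroup (GL (Fin m ⊕ Fin m) F)) (p k : ℕ), IsSymplecticTypeGroup 2 R ∧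
    ActsAbsolutelyIrreducibly (matrixSet R) ∧ R ≤ similarityGroup (Cfsg.sympForm m F) ∧ p.Prime ∧ Odd p ∧
    Fintype.card F = p ∧ Nat.card R = 2 ^ (1 + 2 * k) ∧ 2 * m = 2 ^ k ∧ Nat.card (Subgroup.center R) = 2 ∧
    IsOfMinusType k R ∧ R ≤ Cfsg.spGL m F ∧ H = subgroupNormalizer R ⊓ Cfsg.spGL m F) ∨
  (∃ (k t : ℕ) (e : (Fin m ⊕ Fin m) ≃ (Fin t → Fin k)) (P : GL (Fin m ⊕ Fin m) F)
    (f₁ : (Fin k → F) → (Fin k → F) → F),
    Odd (Fintype.card F) ∧ Odd t ∧ 3 ≤ t ∧ 2 ≤ k ∧ Even k ∧ k ^ t = 2 * m ∧ ¬ (Fintype.card F = 3 ∧ k = 2) ∧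
    IsSymplecticForm f₁ ∧ IsTensorPowerFormStructure id (Cfsg.sympForm m F) f₁ e P ∧
    H = tensorWreathSubgroup k t e P ⊓ Cfsg.spGL m F) ∨
  (∃ Q : (Fin m ⊕ Fin m → F) → F, ¬ Odd (Fintype.card F) ∧ IsNondegenerateQuadraticForm Q ∧
    (∀ u v, QuadraticMap.polar Q u v = Cfsg.sympForm m F u v) ∧ H = quadSimilarityGroup Q ⊓ Cfsg.spGL m F) ∨
  InSymplecticResidualClass H

/-- A maximal subgroup contained in a proper geometric subgroup is equal to it. -/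
theorem eq_of_maximal_le {H M : Subgroup (GL (Fin m ⊕ Fin m) F)} (hH : IsMaximalIn (Cfsg.spGL m F) H) (hle : H ≤ M)
    (hnot : ¬ Cfsg.spGL m F ≤ M) : H = M ⊓ Cfsg.spGL m F :=
  ((hH.2 _ (le_inf hle hH.1.le) inf_le_right).resolve_right fun e => hnot (inf_eq_right.1 e)).symm

theorem symp_maximal (hm : 2 ≤ m) {H : Subgroup (GL (Fin m ⊕ Fin m) F)} (hH : IsMaximalIn (Cfsg.spGL m F) H) :
    SpShape m H := by
  have hm1 : 1 ≤ m := by omega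
  rcases symp_host hm1 H hH.1.le with
    ⟨W, h0, hts, hle⟩ | ⟨W, h0, hnd, h2, hle⟩ | ⟨t, k, D, hD, htk, hk, hle⟩ | ⟨ho, D, hD, hts, hle⟩ |
    ⟨r, K, hr, hrm, hK, hs, hz, hle⟩ | ⟨K, ho, hK, ha, hns, hle⟩ |
    ⟨n₁, n₂, e, P, f₁, f₂, ho, hn₁, hev, h3, hn, hf₁, hf₂, hT, hle⟩ |
    ⟨F₀, r, P, ζ, hr, hc, hζ, hrat, hle⟩ | ⟨R, p, k, hst, habs, hsim, hp, hpo, hF, hcard, hk, hz, hmin, hRS, hle⟩ |
    ⟨k, t, e, P, f₁, ho, hto, ht, hk, hke, hn, hex, hf₁, hT, hle⟩ | ⟨Q, hev, hQ, hpol, hle⟩ | h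
  · exact .inl ⟨W, h0, hts, eq_of_maximal_le hH hle
      (not_spGL_le_subspaceStabilizer h0 (ne_top_of_sp_totallySingular hm1 hts))⟩
  · refine .inr <| .inl ⟨W, h0, hnd, h2, even_finrank_of_nondegenerateOn hnd,
      eq_of_maximal_le hH hle (not_spGL_le_subspaceStabilizer h0 fun e => ?_)⟩
    rw [e, finrank_top, Module.finrank_pi, Fintype.card_sum, Fintype.card_fin] at h2
    omega
  · have hk2 : 2 ≤ k := by obtain ⟨j, rfl⟩ := hk; have := hD.decomp.pos; omega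
    exact .inr <| .inr <| .inl ⟨t, k, D, hD, htk, hk, hD.decomp.two_le, hk2,
      eq_of_maximal_le hH hle (not_spGL_le_decompositionStabilizer hD.decomp hk2)⟩
  · exact .inr <| .inr <| .inr <| .inl ⟨ho, D, hD, hts,
      eq_of_maximal_le hH hle (not_spGL_le_decompositionStabilizer hD hm)⟩
  · exact .inr <| .inr <| .inr <| .inr <| .inl ⟨r, K, hr, hrm, hK, hs, hz,
      eq_of_maximal_le hH hle (not_spGL_le_subalgebraNormalizer hm hK hr.one_lt)⟩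
  · exact .inr <| .inr <| .inr <| .inr <| .inr <| .inl ⟨K, ho, hK, ha, hns,
      eq_of_maximal_le hH hle (not_spGL_le_subalgebraNormalizer hm hK one_lt_two)⟩
  · exact .inr <| .inr <| .inr <| .inr <| .inr <| .inr <| .inl ⟨n₁, n₂, e, P, f₁, f₂, ho, hn₁, hev, h3, hn, hf₁,
      hf₂, hT, eq_of_maximal_le hH hle (not_spGL_le_tensorProductSubgroup hm1 hn₁ (by omega) e P)⟩
  · exact .inr <| .inr <| .inr <| .inr <| .inr <| .inr <| .inr <| .inl ⟨F₀, r, P, ζ, hr, hc, hζ, hrat,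
      eq_of_maximal_le hH hle (not_spGL_le_subfieldSubgroup hm1 (ne_top_of_index hr hc) P)⟩
  · have h2 : (2 : F) ≠ 0 := sp_odd_card_iff.1 (hF ▸ hpo)
    exact .inr <| .inr <| .inr <| .inr <| .inr <| .inr <| .inr <| .inr <| .inl ⟨R, p, k, hst, habs, hsim, hp, hpo,
      hF, hcard, hk, hz, hmin, hRS, eq_of_maximal_le hH hle (not_spGL_le_subgroupNormalizer hm h2 hst habs hRS)⟩
  · exact .inr <| .inr <| .inr <| .inr <| .inr <| .inr <| .inr <| .inr <| .inr <| .inl ⟨k, t, e, P, f₁, ho, hto, ht,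
      hk, hke, hn, hex, hf₁, hT, eq_of_maximal_le hH hle (not_spGL_le_tensorWreathSubgroup hm1 hk ht e P)⟩
  · exact .inr <| .inr <| .inr <| .inr <| .inr <| .inr <| .inr <| .inr <| .inr <| .inr <| .inl ⟨Q, hev, hQ, hpol,
      eq_of_maximal_le hH hle (not_spGL_le_quadSimilarityGroup hm hQ hpol)⟩
  · exact .inr <| .inr <| .inr <| .inr <| .inr <| .inr <| .inr <| .inr <| .inr <| .inr <| .inr h

end CfsgLib.Geo.Asch
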