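/-
Coordinates for the small symplectic cases: frames, elements given by coordinates, normalisers of two-groups.
-/
import Cfsg.Agent.Lib.Geo.Asch.SpMax
import Cfsg.Agent.Lib.Geo.Asch.TwoFactors

set_option autoImplicit false

namespace CfsgLib.Geo.Asch

open Matrix Cfsg.Geo
open scoped Kronecker
open CfsgLib.Geo.Roots (isSymplecticForm_sympForm mem_spGL_iff)

variable {F : Type*} [Field F] {m : ℕ}

/-- Vectors with an invertible Gram matrix give coordinates. -/
theorem exists_spFrame {κ : Type} [Fintype κ] [DecidableEq κ] (hcard : Fintype.card κ = 2 * m)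
    {G : Matrix κ κ F} (hG : IsUnit G) (v : κ → Fin m ⊕ Fin m → F)
    (hv : ∀ a b, Cfsg.sympForm m F (v a) (v b) = G a b) :
    ∃ (e : (Fin m ⊕ Fin m) ≃ κ) (P : GL (Fin m ⊕ Fin m) F), spGram e P = G ∧
      ∀ a, (P : Matrix (Fin m ⊕ Fin m) (Fin m ⊕ Fin m) F) *ᵥ (Pi.single a 1 ∘ e) = v a := by
  let e : (Fin m ⊕ Fin m) ≃ κ := Fintype.equivOfCardEq (by rw [hcard, Fintype.card_sum, Fintype.card_fin]; omega)
  let Pm : Matrix (Fin m ⊕ Fin m) (Fin m ⊕ Fin m) F := Matrix.of fun k i => v (e i) k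
  have hcol : ∀ a, Pm *ᵥ (Pi.single a 1 ∘ e) = v a := fun a => by
    rw [show (Pi.single a (1 : F) ∘ e : Fin m ⊕ Fin m → F) = Pi.single (e.symm a) 1 from funext fun i => by
      simp [Pi.single_apply, Equiv.eq_symm_apply], Matrix.mulVec_single_one]
    ext k
    simp [Pm]
  have hgram : Pmᵀ * Matrix.J (Fin m) F * Pm = G.submatrix e e := by
    ext i j
    have h := hv (e i) (e j)
    rw [Cfsg.sympForm] at h
    rw [Matrix.submatrix_apply, ← h, Matrix.mul_assoc]
    rfl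
  have hu : IsUnit Pm := by
    rw [Matrix.isUnit_iff_isUnit_det, isUnit_iff_ne_zero]
    intro h0
    have h1 := congrArg Matrix.det hgram
    rw [Matrix.det_mul, h0, mul_zero, Matrix.det_submatrix_equiv_self] at h1
    exact ((Matrix.isUnit_iff_isUnit_det G).1 hG).ne_zero h1.symm
  refine ⟨e, hu.unit, ?_, fun a => by rw [IsUnit.unit_spec]; exact hcol a⟩
  rw [spGram, IsUnit.unit_spec, hgram]
  ext a b
  simp

/-- The element with given coordinates. -/
def glOfCoord {κ : Type} [Fintype κ] [DecidableEq κ] (e : (Fin m ⊕ Fin m) ≃ κ) (P : GL (Fin m ⊕ Fin m) F) :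
    GL κ F →* GL (Fin m ⊕ Fin m) F :=
  (MulAut.conj P).toMonoidHom.comp (glReindex (F := F) e.symm).toMonoidHom

theorem coord_glOfCoord {κ : Type} [Fintype κ] [DecidableEq κ] (e : (Fin m ⊕ Fin m) ≃ κ)
    (P : GL (Fin m ⊕ Fin m) F) (u : GL κ F) :
    coord e P (glOfCoord e P u : Matrix (Fin m ⊕ Fin m) (Fin m ⊕ Fin m) F) = (u : Matrix κ κ F) := by
  ext i j
  simp [glOfCoord, coord, glReindex, mul_assoc,
    ← mul_assoc ((P⁻¹ : GL (Fin m ⊕ Fin m) F) : Matrix (Fin m ⊕ Fin m) (Fin m ⊕ Fin m) F)]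

/-- An element preserving the Gram matrix in coordinates is symplectic. -/
theorem mem_spGL_of_coord {κ : Type} [Fintype κ] [DecidableEq κ] (e : (Fin m ⊕ Fin m) ≃ κ)
    (P : GL (Fin m ⊕ Fin m) F) {g : GL (Fin m ⊕ Fin m) F}
    (h : (coord e P (g : Matrix (Fin m ⊕ Fin m) (Fin m ⊕ Fin m) F))ᵀ * spGram e P *
      coord e P (g : Matrix (Fin m ⊕ Fin m) (Fin m ⊕ Fin m) F) = spGram e P) :
    g ∈ Cfsg.spGL m F := by
  rw [mem_spGL_iff]
  intro u v
  conv_lhs => rw [← mulVec_coordinates e P u, ← mulVec_coordinates e P v]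
  conv_rhs => rw [← mulVec_coordinates e P u, ← mulVec_coordinates e P v]
  rw [mulVec_coord, mulVec_coord, sympForm_coord, sympForm_coord, Matrix.mulVec_mulVec, Matrix.dotProduct_mulVec,
    Matrix.vecMul_mulVec, ← Matrix.dotProduct_mulVec, ← Matrix.mul_assoc, h]

theorem mem_glOfCoord_range {κ : Type} [Fintype κ] [DecidableEq κ] {e : (Fin m ⊕ Fin m) ≃ κ}
    {P g : GL (Fin m ⊕ Fin m) F} {u : GL κ F}
    (h : coord e P (g : Matrix (Fin m ⊕ Fin m) (Fin m ⊕ Fin m) F) = (u : Matrix κ κ F)) : glOfCoord e P u = g :=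
  Units.ext (coord_injective e P (by rw [coord_glOfCoord, h]))

/-- For `x² = -1` in a group whose elements commute up to sign with `x`, the element `1 + x` normalises it. -/
theorem one_add_mem_normalizer {ι : Type} [Fintype ι] [DecidableEq ι] {R : Subgroup (GL ι F)} {x u : GL ι F}
    (hx : x ∈ R) (hxx : (x : Matrix ι ι F) * x = -1) (hu : (u : Matrix ι ι F) = 1 + x)
    (hsign : ∀ r ∈ R, (x : Matrix ι ι F) * r = r * x ∨ (x : Matrix ι ι F) * r = -((r : Matrix ι ι F) * x)) :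
    u ∈ subgroupNormalizer R := by
  have key : ∀ r : GL ι F, ((x : Matrix ι ι F) * r = r * x → u * r * u⁻¹ = r) ∧
      ((x : Matrix ι ι F) * r = -((r : Matrix ι ι F) * x) → u * r * u⁻¹ = x * r) := by
    intro r
    constructor
    · intro h
      rw [mul_inv_eq_iff_eq_mul]
      apply Units.ext
      rw [Units.val_mul, Units.val_mul, hu, add_mul, one_mul, mul_add, mul_one, h]
    · intro h
      rw [mul_inv_eq_iff_eq_mul]
      apply Units.ext
      rw [Units.val_mul, Units.val_mul, Units.val_mul, hu, add_mul, one_mul, mul_add, mul_one, mul_assoc,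
        show (r : Matrix ι ι F) * x = -((x : Matrix ι ι F) * r) by rw [h, neg_neg], mul_neg, ← mul_assoc, hxx]
      simp [add_comm]
  have hxinv : ((x⁻¹ : GL ι F) : Matrix ι ι F) = -(x : Matrix ι ι F) := by
    refine Units.inv_eq_of_mul_eq_one_right ?_
    rw [mul_neg, hxx, neg_neg]
  refine Subgroup.mem_normalizer_iff.2 fun r => ⟨fun hr => ?_, fun hr => ?_⟩
  · rcases hsign r hr with h | h
    · rw [(key r).1 h]; exact hr
    · rw [(key r).2 h]; exact R.mul_mem hx hr
  · rcases hsign _ hr with h | h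
    · have e : r = u * r * u⁻¹ := by
        have := (key _).1 h
        rw [mul_inv_eq_iff_eq_mul] at this
        calc r = u⁻¹ * (u * r * u⁻¹ * u) := by group
          _ = u⁻¹ * (u * (u * r * u⁻¹)) := by rw [this]
          _ = _ := by group
      exact e ▸ hr
    · have h' : (x : Matrix ι ι F) * (x⁻¹ * (u * r * u⁻¹) : GL ι F) =
          -(((x⁻¹ * (u * r * u⁻¹) : GL ι F) : Matrix ι ι F) * x) := by
        rw [Units.val_mul, hxinv]
        generalize ((u * r * u⁻¹ : GL ι F) : Matrix ι ι F) = S at h ⊢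
        simp only [neg_mul, mul_neg, mul_assoc]
        rw [h]
        simp
      have e := (key _).2 h'
      rw [mul_inv_cancel_left] at e
      exact (show r = x⁻¹ * (u * r * u⁻¹) from (mul_left_cancel (mul_right_cancel e)).symm) ▸
        R.mul_mem (R.inv_mem hx) hr

/-- `1 + x` for a symplectic square root of minus one doubles the form. -/
theorem sympForm_one_add {x u : GL (Fin m ⊕ Fin m) F} (hx : x ∈ Cfsg.spGL m F)
    (hxx : (x : Matrix (Fin m ⊕ Fin m) (Fin m ⊕ Fin m) F) * x = -1)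
    (hu : (u : Matrix (Fin m ⊕ Fin m) (Fin m ⊕ Fin m) F) = 1 + x) (a b : Fin m ⊕ Fin m → F) :
    Cfsg.sympForm m F ((u : Matrix (Fin m ⊕ Fin m) (Fin m ⊕ Fin m) F) *ᵥ a)
      ((u : Matrix (Fin m ⊕ Fin m) (Fin m ⊕ Fin m) F) *ᵥ b) = 2 * Cfsg.sympForm m F a b := by
  have hs := sympSesq (m := m) (F := F)
  have hb := (isSymplecticForm_sympForm (m := m) (F := F)).bilinear
  set X := (x : Matrix (Fin m ⊕ Fin m) (Fin m ⊕ Fin m) F) with hX
  have h1 := mem_spGL_iff.1 hx a b
  have h2 := mem_spGL_iff.1 hx (X *ᵥ a) b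
  rw [← hX] at h1 h2
  rw [Matrix.mulVec_mulVec, hxx, Matrix.neg_mulVec, Matrix.one_mulVec,
    show -a = (-1 : F) • a by rw [neg_one_smul], hb.smul_left] at h2
  rw [hu, Matrix.add_mulVec, Matrix.add_mulVec, Matrix.one_mulVec, Matrix.one_mulVec, hb.add_left, hb.add_right,
    hb.add_right]
  linear_combination h1 - h2

/-- Over three elements the product of two such elements is symplectic. -/
theorem one_add_mul_mem_spGL (h3 : (3 : F) = 0) {x y u w : GL (Fin m ⊕ Fin m) F} (hx : x ∈ Cfsg.spGL m F)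
    (hy : y ∈ Cfsg.spGL m F) (hxx : (x : Matrix (Fin m ⊕ Fin m) (Fin m ⊕ Fin m) F) * x = -1)
    (hyy : (y : Matrix (Fin m ⊕ Fin m) (Fin m ⊕ Fin m) F) * y = -1)
    (hu : (u : Matrix (Fin m ⊕ Fin m) (Fin m ⊕ Fin m) F) = 1 + x)
    (hw : (w : Matrix (Fin m ⊕ Fin m) (Fin m ⊕ Fin m) F) = 1 + y) : u * w ∈ Cfsg.spGL m F := by
  rw [mem_spGL_iff]
  intro a b
  rw [Units.val_mul, ← Matrix.mulVec_mulVec, ← Matrix.mulVec_mulVec, sympForm_one_add hx hxx hu,
    sympForm_one_add hy hyy hw]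
  linear_combination Cfsg.sympForm m F a b * h3

/-- A matrix with square minus one and two non-zero gives a unit `1 + x`. -/
theorem exists_one_add {ι : Type} [Fintype ι] [DecidableEq ι] (h2 : (2 : F) ≠ 0) {x : Matrix ι ι F}
    (hxx : x * x = -1) : ∃ u : GL ι F, (u : Matrix ι ι F) = 1 + x := by
  refine ⟨⟨1 + x, (2 : F)⁻¹ • (1 - x), ?_, ?_⟩, rfl⟩
  · rw [Matrix.mul_smul, add_mul, mul_sub, mul_sub, hxx, one_mul, one_mul, mul_one]
    rw [show (1 : Matrix ι ι F) - x + (x - -1) = (2 : F) • 1 by rw [two_smul]; abel, smul_smul, inv_mul_cancel₀ h2,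
      one_smul]
  · rw [Matrix.smul_mul, sub_mul, mul_add, mul_add, hxx, one_mul, one_mul, mul_one]
    rw [show (1 : Matrix ι ι F) + x - (x + -1) = (2 : F) • 1 by rw [two_smul]; abel, smul_smul, inv_mul_cancel₀ h2,
      one_smul]

/-- A subgroup normalising a non-abelian two-group that is normalised by an element outside is not maximal. -/
theorem not_maximal_of_two_group [Fintype F] (hm : 2 ≤ m) (h2 : (2 : F) ≠ 0)
    {H R : Subgroup (GL (Fin m ⊕ Fin m) F)} (hH : IsMaximalIn (Cfsg.spGL m F) H) (hR : IsPGroup 2 R)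
    (hna : ∃ x ∈ R, ∃ y ∈ R, x * y ≠ y * x) (hRS : R ≤ Cfsg.spGL m F) (hHR : H ≤ subgroupNormalizer R)
    {g : GL (Fin m ⊕ Fin m) F} (hgR : g ∈ subgroupNormalizer R) (hgS : g ∈ Cfsg.spGL m F) : g ∈ H := by
  rw [eq_of_maximal_le hH hHR (not_spGL_le_normalizer_two_group hm h2 hR hna hRS)]
  exact ⟨hgR, hgS⟩

/-- Cancelling the alternating factor in a fixed Kronecker product. -/
theorem kron_symJ_fix {κ' : Type} [Fintype κ'] [DecidableEq κ'] {γ : F} (hγ : γ ≠ 0)
    {a : Matrix (Fin 2) (Fin 2) F} {b X : Matrix κ' κ' F}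
    (h : (a ⊗ₖ b)ᵀ * (γ • (symJ F ⊗ₖ X)) * (a ⊗ₖ b) = γ • (symJ F ⊗ₖ X)) : a.det • (bᵀ * X * b) = X := by
  rw [Matrix.mul_smul, Matrix.smul_mul] at h
  have h' := smul_right_injective (Matrix (Fin 2 × κ') (Fin 2 × κ') F) hγ h
  rw [← Matrix.kroneckerMap_transpose, ← Matrix.mul_kronecker_mul, ← Matrix.mul_kronecker_mul, transpose_mul_symJ,
    Matrix.smul_kronecker] at h'
  ext i j
  have := congrFun (congrFun h' (0, i)) (1, j)
  simpa [symJ] using this

end CfsgLib.Geo.Asch
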