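/-
The quaternion group and the orthogonal group of the unit form inside GL₂ over three elements.
-/
import Cfsg.Agent.Lib.Geo.Asch.SpCoords

set_option autoImplicit false

namespace CfsgLib.Geo.Asch

open Matrix Cfsg.Geo

variable {F : Type*} [Field F] [Fintype F]

/-- The prime field with three elements. -/
noncomputable def zmodThree (h3 : Fintype.card F = 3) : ZMod 3 ≃+* F := ZMod.ringEquivOfPrime F Nat.prime_three h3

theorem three_eq_zero (h3 : Fintype.card F = 3) : (3 : F) = 0 := by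
  rw [← map_ofNat (zmodThree h3) 3, show (3 : ZMod 3) = 0 from rfl, map_zero]

theorem two_ne_zero_three (h3 : Fintype.card F = 3) : (2 : F) ≠ 0 := fun h =>
  one_ne_zero (α := F) (by linear_combination three_eq_zero h3 - h)

theorem three_cases (h3 : Fintype.card F = 3) (x : F) : x = 0 ∨ x = 1 ∨ x = -1 := by
  obtain ⟨a, rfl⟩ := (zmodThree h3).surjective x
  rcases (show ∀ a : ZMod 3, a = 0 ∨ a = 1 ∨ a = -1 by decide) a with rfl | rfl | rfl
  · simp
  · simp
  · simp

theorem sq_eq_one_three (h3 : Fintype.card F = 3) {x : F} (hx : x ≠ 0) : x * x = 1 := by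
  rcases three_cases h3 x with rfl | rfl | rfl
  · exact absurd rfl hx
  · simp
  · simp

theorem quat_product (h3 : Fintype.card F = 3) {a b c x y z : F} (h : a * a + b * c = -1) (h' : x * x + y * z = -1) :
    a * x + b * z + (c * y + a * x) = 0 ∨
      (a * y - b * x = 0 ∧ c * x - a * z = 0 ∧ a * x + b * z = c * y + a * x) := by
  have key : ∀ a b c x y z : ZMod 3, a * a + b * c = -1 → x * x + y * z = -1 →
      a * x + b * z + (c * y + a * x) = 0 ∨
        (a * y - b * x = 0 ∧ c * x - a * z = 0 ∧ a * x + b * z = c * y + a * x) := by decide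
  set φ := zmodThree h3
  obtain ⟨A, rfl⟩ := φ.surjective a
  obtain ⟨B, rfl⟩ := φ.surjective b
  obtain ⟨C, rfl⟩ := φ.surjective c
  obtain ⟨X, rfl⟩ := φ.surjective x
  obtain ⟨Y, rfl⟩ := φ.surjective y
  obtain ⟨Z, rfl⟩ := φ.surjective z
  simp only [← map_mul, ← map_add, ← map_sub, ← map_one φ, ← map_neg] at h h' ⊢
  simp only [φ.injective.eq_iff, map_eq_zero_iff φ φ.injective] at h h' ⊢
  exact key A B C X Y Z h h'

omit [Fintype F] in
theorem traceless_sq {g : Matrix (Fin 2) (Fin 2) F} (ht : g.trace = 0) (hd : g.det = 1) : g * g = -1 := by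
  rw [Matrix.trace_fin_two] at ht
  rw [Matrix.det_fin_two] at hd
  have e : g 1 1 = -g 0 0 := by linear_combination ht
  ext i j
  fin_cases i <;> fin_cases j <;> simp [Matrix.mul_apply, Fin.sum_univ_two, e]
  · linear_combination -hd + g 0 0 * e
  · ring
  · ring
  · linear_combination -hd + g 0 0 * e

omit [Fintype F] in
theorem traceless_mul_add {g h : Matrix (Fin 2) (Fin 2) F} (hg : g.trace = 0) (hh : h.trace = 0) :
    g * h + h * g = (g * h).trace • (1 : Matrix (Fin 2) (Fin 2) F) := by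
  rw [Matrix.trace_fin_two] at hg hh
  have e : g 1 1 = -g 0 0 := by linear_combination hg
  have e' : h 1 1 = -h 0 0 := by linear_combination hh
  ext i j
  fin_cases i <;> fin_cases j <;>
    simp [Matrix.trace_fin_two, Matrix.mul_apply, Fin.sum_univ_two, e, e'] <;> ring

/-- The elements of the quaternion group: determinant one, and scalar or of trace zero. -/
def IsQuatElt (g : Matrix (Fin 2) (Fin 2) F) : Prop :=
  g.det = 1 ∧ (g.trace = 0 ∨ ∃ c : F, g = c • 1)

theorem IsQuatElt.mul (h3 : Fintype.card F = 3) {g h : Matrix (Fin 2) (Fin 2) F} (hg : IsQuatElt g)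
    (hh : IsQuatElt h) : IsQuatElt (g * h) := by
  refine ⟨by rw [Matrix.det_mul, hg.1, hh.1, one_mul], ?_⟩
  rcases hg.2 with hgt | ⟨c, rfl⟩
  swap
  · rcases hh.2 with hht | ⟨d, rfl⟩
    · exact Or.inl (by rw [Matrix.smul_mul, one_mul, Matrix.trace_smul, hht, smul_zero])
    · exact Or.inr ⟨c * d, by rw [Matrix.smul_mul, one_mul, smul_smul]⟩
  rcases hh.2 with hht | ⟨d, rfl⟩
  swap
  · exact Or.inl (by rw [Matrix.mul_smul, mul_one, Matrix.trace_smul, hgt, smul_zero])
  have h1 := hg.1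
  have h2 := hh.1
  rw [Matrix.trace_fin_two] at hgt hht
  rw [Matrix.det_fin_two] at h1 h2
  have e : g 1 1 = -g 0 0 := by linear_combination hgt
  have e' : h 1 1 = -h 0 0 := by linear_combination hht
  rw [e] at h1
  rw [e'] at h2
  rcases quat_product h3 (a := g 0 0) (b := g 0 1) (c := g 1 0) (x := h 0 0) (y := h 0 1) (z := h 1 0)
    (by linear_combination -h1) (by linear_combination -h2) with r | ⟨r1, r2, r3⟩
  · left
    simp [Matrix.trace_fin_two, Matrix.mul_apply, Fin.sum_univ_two, e, e']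
    linear_combination r
  · right
    refine ⟨g 0 0 * h 0 0 + g 0 1 * h 1 0, ?_⟩
    ext i j
    fin_cases i <;> fin_cases j <;> simp [Matrix.mul_apply, Fin.sum_univ_two, e, e']
    · linear_combination r1
    · linear_combination r2
    · linear_combination -r3

/-- The quaternion group inside GL₂ over three elements. -/
def quatThree (h3 : Fintype.card F = 3) : Subgroup (GL (Fin 2) F) where
  carrier := {g | IsQuatElt (g : Matrix (Fin 2) (Fin 2) F)}
  one_mem' := ⟨by simp, Or.inr ⟨1, by simp⟩⟩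
  mul_mem' {a b} ha hb := by
    show IsQuatElt _
    rw [Units.val_mul]
    exact IsQuatElt.mul h3 ha hb
  inv_mem' {a} ha := by
    have h1 : (a : Matrix (Fin 2) (Fin 2) F).det = 1 := ha.1
    have e : ((a⁻¹ : GL (Fin 2) F) : Matrix (Fin 2) (Fin 2) F) = (a : Matrix (Fin 2) (Fin 2) F).adjugate :=
      Units.inv_eq_of_mul_eq_one_right (by rw [Matrix.mul_adjugate, h1, one_smul])
    show IsQuatElt _
    rw [e]
    refine ⟨by rw [Matrix.det_adjugate, h1, one_pow], ?_⟩
    rcases ha.2 with ht | ⟨c, hc⟩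
    · left
      rw [Matrix.adjugate_fin_two, Matrix.trace_fin_two]
      rw [Matrix.trace_fin_two] at ht
      simp
      linear_combination ht
    · right
      refine ⟨c, ?_⟩
      rw [hc, Matrix.adjugate_fin_two]
      ext i j
      fin_cases i <;> fin_cases j <;> simp

theorem quatThree_conj (h3 : Fintype.card F = 3) (a : GL (Fin 2) F) {q : GL (Fin 2) F} (hq : q ∈ quatThree h3) :
    a * q * a⁻¹ ∈ quatThree h3 := by
  obtain ⟨hd, ht⟩ := hq
  refine ⟨?_, ?_⟩
  · rw [Units.val_mul, Units.val_mul, Matrix.det_units_conj, hd]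
  · rcases ht with ht | ⟨c, hc⟩
    · left
      rw [Units.val_mul, Units.val_mul, Matrix.trace_units_conj, ht]
    · right
      refine ⟨c, ?_⟩
      rw [Units.val_mul, Units.val_mul, hc, Matrix.mul_smul, mul_one, Matrix.smul_mul, Units.mul_inv]

theorem quatThree_comm (h3 : Fintype.card F = 3) {g h : GL (Fin 2) F} (hg : g ∈ quatThree h3) (hh : h ∈ quatThree h3) :
    (g : Matrix (Fin 2) (Fin 2) F) * h = (h : Matrix (Fin 2) (Fin 2) F) * g ∨
      (g : Matrix (Fin 2) (Fin 2) F) * h = -((h : Matrix (Fin 2) (Fin 2) F) * g) := by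
  rcases hg.2 with hgt | ⟨c, hc⟩
  swap
  · left; rw [hc, Matrix.smul_mul, one_mul, Matrix.mul_smul, mul_one]
  rcases hh.2 with hht | ⟨c, hc⟩
  swap
  · left; rw [hc, Matrix.smul_mul, one_mul, Matrix.mul_smul, mul_one]
  have hsum := traceless_mul_add hgt hht
  rcases ((quatThree h3).mul_mem hg hh).2 with ht | ⟨c, hc⟩
  · right
    rw [Units.val_mul] at ht
    rw [ht, zero_smul] at hsum
    exact eq_neg_of_add_eq_zero_left hsum
  · left
    have hc0 : (g * h) * g = g * (g * h) := by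
      apply Units.ext
      show ((g * h : GL (Fin 2) F) : Matrix (Fin 2) (Fin 2) F) * (g : Matrix (Fin 2) (Fin 2) F) =
        (g : Matrix (Fin 2) (Fin 2) F) * ((g * h : GL (Fin 2) F) : Matrix (Fin 2) (Fin 2) F)
      rw [hc, Matrix.smul_mul, one_mul, Matrix.mul_smul, mul_one]
    have : g * h = h * g := mul_left_cancel (show g * (g * h) = g * (h * g) by rw [← hc0, mul_assoc])
    rw [← Units.val_mul, this, Units.val_mul]

theorem quatThree_pow_four (h3 : Fintype.card F = 3) {g : GL (Fin 2) F} (hg : g ∈ quatThree h3) : g ^ 4 = 1 := by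
  apply Units.ext
  rw [Units.val_pow_eq_pow_val, Units.val_one]
  rcases hg.2 with ht | ⟨c, hc⟩
  · rw [show 4 = 2 * 2 from rfl, pow_mul, pow_two (g : Matrix (Fin 2) (Fin 2) F), traceless_sq ht hg.1, neg_one_sq]
  · have hd := hg.1
    rw [hc, Matrix.det_smul, Matrix.det_one, mul_one, Fintype.card_fin] at hd
    rw [hc, smul_pow, one_pow, show 4 = 2 * 2 from rfl, pow_mul, hd, one_pow, one_smul]

/-- The standard element of order four. -/
def quatI (F : Type*) [Field F] : GL (Fin 2) F :=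
  ⟨symJ F, -symJ F, by rw [mul_neg, symJ_sq, neg_one_smul, neg_neg], by rw [neg_mul, symJ_sq, neg_one_smul, neg_neg]⟩

theorem quatI_mem (h3 : Fintype.card F = 3) : quatI F ∈ quatThree h3 :=
  ⟨by simp [quatI, symJ, Matrix.det_fin_two], Or.inl (by simp [quatI, symJ, Matrix.trace_fin_two])⟩

/-- A second element of order four, not commuting with the first. -/
theorem exists_quatJ (h3 : Fintype.card F = 3) : ∃ j ∈ quatThree h3, quatI F * j ≠ j * quatI F := by
  let M : Matrix (Fin 2) (Fin 2) F := !![1, 1; 1, -1]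
  have hd : M.det = 1 := by
    simp [M, Matrix.det_fin_two]
    linear_combination -three_eq_zero h3
  let j : GL (Fin 2) F := Matrix.GeneralLinearGroup.mkOfDetNeZero M (by rw [hd]; exact one_ne_zero)
  refine ⟨j, ⟨hd, Or.inl (by simp [j, M, Matrix.trace_fin_two])⟩, fun e => ?_⟩
  have h := congrArg (fun u : GL (Fin 2) F => (u : Matrix (Fin 2) (Fin 2) F) 0 0) e
  simp only [Units.val_mul] at h
  simp [j, M, quatI, symJ, Matrix.mul_apply, Fin.sum_univ_two] at h
  exact two_ne_zero_three h3 (by linear_combination h)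

/-- The isometries of the unit form on the plane. -/
def orthTwo (F : Type*) [Field F] : Subgroup (GL (Fin 2) F) where
  carrier := {g | (g : Matrix (Fin 2) (Fin 2) F)ᵀ * g = 1}
  one_mem' := by simp
  mul_mem' {a b} ha hb := by
    show _ = _
    rw [Units.val_mul, Matrix.transpose_mul, Matrix.mul_assoc, ← Matrix.mul_assoc (a : Matrix (Fin 2) (Fin 2) F)ᵀ,
      show (a : Matrix (Fin 2) (Fin 2) F)ᵀ * a = 1 from ha, Matrix.one_mul]
    exact hb
  inv_mem' {a} ha := by
    show _ = _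
    have h1 : (a : Matrix (Fin 2) (Fin 2) F)ᵀ = ((a⁻¹ : GL (Fin 2) F) : Matrix (Fin 2) (Fin 2) F) :=
      calc (a : Matrix (Fin 2) (Fin 2) F)ᵀ
          = (a : Matrix (Fin 2) (Fin 2) F)ᵀ * ((a : Matrix (Fin 2) (Fin 2) F) *
              ((a⁻¹ : GL (Fin 2) F) : Matrix (Fin 2) (Fin 2) F)) := by rw [Units.mul_inv, Matrix.mul_one]
        _ = _ := by
          rw [← Matrix.mul_assoc, show (a : Matrix (Fin 2) (Fin 2) F)ᵀ * a = 1 from ha, Matrix.one_mul]
    rw [← h1, Matrix.transpose_transpose, h1, Units.mul_inv]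

theorem orthTwo_conj {b : GL (Fin 2) F} {c : F} (hb : (b : Matrix (Fin 2) (Fin 2) F)ᵀ * b = c • 1)
    {d : GL (Fin 2) F} (hd : d ∈ orthTwo F) : b * d * b⁻¹ ∈ orthTwo F := by
  show _ = _
  set B := (b : Matrix (Fin 2) (Fin 2) F)
  set B' := ((b⁻¹ : GL (Fin 2) F) : Matrix (Fin 2) (Fin 2) F)
  set D := (d : Matrix (Fin 2) (Fin 2) F)
  have hd' : Dᵀ * D = 1 := hd
  have h1 : c • (B'ᵀ * B') = 1 := by
    have e : B'ᵀ * (Bᵀ * B) * B' = 1 := by
      rw [← Matrix.mul_assoc, ← Matrix.transpose_mul, Matrix.mul_assoc, Units.mul_inv, Matrix.transpose_one,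
        Matrix.one_mul]
    rwa [hb, Matrix.mul_smul, Matrix.mul_one, Matrix.smul_mul] at e
  rw [Units.val_mul, Units.val_mul, Matrix.transpose_mul, Matrix.transpose_mul]
  calc B'ᵀ * (Dᵀ * Bᵀ) * (B * D * B') = B'ᵀ * (Dᵀ * (Bᵀ * B) * D) * B' := by simp only [Matrix.mul_assoc]
    _ = c • (B'ᵀ * B') := by rw [hb, Matrix.mul_smul, Matrix.mul_one, Matrix.smul_mul, hd', Matrix.mul_smul,
      Matrix.mul_one, Matrix.smul_mul]
    _ = 1 := h1

omit [Fintype F] in
theorem orthTwo_entries {d : GL (Fin 2) F} (hd : d ∈ orthTwo F) :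
    (d : Matrix (Fin 2) (Fin 2) F) 0 0 * d.val 0 0 + d.val 1 0 * d.val 1 0 = 1 ∧
    d.val 0 0 * d.val 0 1 + d.val 1 0 * d.val 1 1 = 0 ∧
    d.val 0 1 * d.val 0 1 + d.val 1 1 * d.val 1 1 = 1 := by
  have h : (d : Matrix (Fin 2) (Fin 2) F)ᵀ * d = 1 := hd
  refine ⟨?_, ?_, ?_⟩
  · simpa [Matrix.mul_apply, Fin.sum_univ_two] using congrFun (congrFun h 0) 0
  · simpa [Matrix.mul_apply, Fin.sum_univ_two] using congrFun (congrFun h 0) 1
  · simpa [Matrix.mul_apply, Fin.sum_univ_two] using congrFun (congrFun h 1) 1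

set_option synthInstance.maxSize 2048 in
theorem orthTwo_monomial (h3 : Fintype.card F = 3) {d : GL (Fin 2) F} (hd : d ∈ orthTwo F) :
    (d.val 0 1 = 0 ∧ d.val 1 0 = 0) ∨ (d.val 0 0 = 0 ∧ d.val 1 1 = 0) := by
  have key : ∀ a b c e : ZMod 3, a * a + c * c = 1 → a * b + c * e = 0 → b * b + e * e = 1 →
      (b = 0 ∧ c = 0) ∨ (a = 0 ∧ e = 0) := by decide
  obtain ⟨h1, h2, h4⟩ := orthTwo_entries hd
  set φ := zmodThree h3
  obtain ⟨A, hA⟩ := φ.surjective (d.val 0 0)
  obtain ⟨B, hB⟩ := φ.surjective (d.val 0 1)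
  obtain ⟨C, hC⟩ := φ.surjective (d.val 1 0)
  obtain ⟨E, hE⟩ := φ.surjective (d.val 1 1)
  simp only [← hA, ← hB, ← hC, ← hE] at h1 h2 h4 ⊢
  simp only [← map_mul, ← map_add, ← map_one φ] at h1 h2 h4
  simp only [φ.injective.eq_iff, map_eq_zero_iff φ φ.injective] at h1 h2 h4 ⊢
  exact key A B C E h1 h2 h4

theorem orthTwo_pow_four (h3 : Fintype.card F = 3) {d : GL (Fin 2) F} (hd : d ∈ orthTwo F) : d ^ 4 = 1 := by
  obtain ⟨h1, -, h4⟩ := orthTwo_entries hd
  apply Units.ext
  rw [Units.val_pow_eq_pow_val, Units.val_one, show 4 = 2 * 2 from rfl, pow_mul,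
    pow_two (d : Matrix (Fin 2) (Fin 2) F), pow_two]
  rcases orthTwo_monomial h3 hd with ⟨hb, hc⟩ | ⟨ha, he⟩
  · rw [hc] at h1
    rw [hb] at h4
    ext i j
    fin_cases i <;> fin_cases j <;> simp [Matrix.mul_apply, Fin.sum_univ_two, hb, hc]
    · linear_combination (d.val 0 0 * d.val 0 0 + 1) * h1
    · linear_combination (d.val 1 1 * d.val 1 1 + 1) * h4
  · rw [ha] at h1
    rw [he] at h4
    ext i j
    fin_cases i <;> fin_cases j <;> simp [Matrix.mul_apply, Fin.sum_univ_two, ha, he]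
    · linear_combination (d.val 1 0 * d.val 1 0) * h4 + h1
    · linear_combination (d.val 1 0 * d.val 1 0) * h4 + h1

/-- The reflection `diag(1, -1)`. -/
def reflTwo (F : Type*) [Field F] : GL (Fin 2) F :=
  ⟨!![1, 0; 0, -1], !![1, 0; 0, -1], by simp [Matrix.one_fin_two], by simp [Matrix.one_fin_two]⟩

theorem reflTwo_mem : reflTwo F ∈ orthTwo F := by
  show _ = _
  simp [reflTwo, Matrix.one_fin_two, Matrix.vecMul_transpose, ← Matrix.ext_iff, Fin.forall_fin_two, Matrix.mul_apply,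
    Fin.sum_univ_two]

theorem reflTwo_comm (h3 : Fintype.card F = 3) {d : GL (Fin 2) F} (hd : d ∈ orthTwo F) :
    (reflTwo F : Matrix (Fin 2) (Fin 2) F) * d = (d : Matrix (Fin 2) (Fin 2) F) * reflTwo F ∨
    (reflTwo F : Matrix (Fin 2) (Fin 2) F) * d = -((d : Matrix (Fin 2) (Fin 2) F) * reflTwo F) := by
  rcases orthTwo_monomial h3 hd with ⟨hb, hc⟩ | ⟨ha, he⟩
  · left
    ext i j
    fin_cases i <;> fin_cases j <;> simp [reflTwo, Matrix.mul_apply, Fin.sum_univ_two, hb, hc]
  · right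
    ext i j
    fin_cases i <;> fin_cases j <;> simp [reflTwo, Matrix.mul_apply, Fin.sum_univ_two, ha, he]

end CfsgLib.Geo.Asch
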