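/-
Dimension eight: a tensor product with a symmetric factor of plus type lies in a tensor cube, and over three
elements the stabiliser of a tensor cube is not maximal.
-/
import Cfsg.Agent.Lib.Geo.Asch.SpThree

set_option autoImplicit false

namespace CfsgLib.Geo.Asch

open Matrix Cfsg.Geo
open scoped Kronecker
open CfsgLib.Geo.Roots (isSymplecticForm_sympForm mem_spGL_iff)

variable {F : Type*} [Field F]

/-- The bracket on the plane. -/
def br2 (u v : Fin 2 → F) : F := u 0 * v 1 - u 1 * v 0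

theorem br2_eq_zero {u v : Fin 2 → F} (hu : u ≠ 0) (h : br2 u v = 0) : ∃ c : F, v = c • u := by
  rw [br2] at h
  by_cases h0 : u 0 = 0
  · have h1 : u 1 ≠ 0 := fun h1 => hu (funext fun i => by fin_cases i <;> simp [h0, h1])
    refine ⟨v 1 / u 1, funext fun i => ?_⟩
    fin_cases i
    · simp [h0] at h ⊢
      exact h.resolve_left h1
    · simp [h1]
  · refine ⟨v 0 / u 0, funext fun i => ?_⟩
    fin_cases i
    · simp [h0]
    · simp
      field_simp
      linear_combination h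

/-- The value of the form `J ⊗ J`. -/
def sqForm (x y : Fin 2 × Fin 2 → F) : F :=
  x (0, 0) * y (1, 1) - x (0, 1) * y (1, 0) - x (1, 0) * y (0, 1) + x (1, 1) * y (0, 0)

theorem dot_sqForm (x y : Fin 2 × Fin 2 → F) : x ⬝ᵥ (symJ F ⊗ₖ symJ F) *ᵥ y = sqForm x y := by
  simp [sqForm, dotProduct, Matrix.mulVec, Fintype.sum_prod_type, Fin.sum_univ_two, symJ]
  ring

theorem sqForm_pure (s t s' t' : Fin 2 → F) :
    sqForm (fun p => s p.1 * t p.2) (fun p => s' p.1 * t' p.2) = br2 s s' * br2 t t' := by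
  simp only [sqForm, br2]
  ring

theorem exists_pure_of_sqForm (h2 : (2 : F) ≠ 0) {x : Fin 2 × Fin 2 → F} (h : sqForm x x = 0) :
    ∃ s t : Fin 2 → F, x = fun p => s p.1 * t p.2 := by
  have hd : x (0, 0) * x (1, 1) = x (0, 1) * x (1, 0) := by
    refine mul_left_cancel₀ h2 ?_
    rw [sqForm] at h
    linear_combination h
  by_cases h00 : x (0, 0) = 0
  swap
  · refine ⟨fun i => x (i, 0), ![1, x (0, 1) / x (0, 0)], funext fun p => ?_⟩
    obtain ⟨i, j⟩ := p
    fin_cases i <;> fin_cases j <;> simp <;> field_simp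
    linear_combination hd
  rw [h00, zero_mul] at hd
  rcases mul_eq_zero.1 hd.symm with h01 | h10
  · refine ⟨![0, 1], fun j => x (1, j), funext fun p => ?_⟩
    obtain ⟨i, j⟩ := p
    fin_cases i <;> fin_cases j <;> simp [h00, h01]
  · refine ⟨fun i => x (i, 1), ![0, 1], funext fun p => ?_⟩
    obtain ⟨i, j⟩ := p
    fin_cases i <;> fin_cases j <;> simp [h00, h10]

/-- Exchanging the two factors. -/
def swapQ (F : Type*) [Field F] : Matrix (Fin 2 × Fin 2) (Fin 2 × Fin 2) F :=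
  Matrix.of fun p q => if q = p.swap then 1 else 0

theorem mul_swapQ (b : Matrix (Fin 2 × Fin 2) (Fin 2 × Fin 2) F) (p q : Fin 2 × Fin 2) :
    (b * swapQ F) p q = b p q.swap := by
  rw [Matrix.mul_apply, Finset.sum_eq_single q.swap]
  · simp [swapQ]
  · intro r _ hr
    rw [swapQ, Matrix.of_apply, if_neg (fun h => hr (by rw [h, Prod.swap_swap])), mul_zero]
  · simp

/-- A similitude of `J ⊗ J` is a product of the factors, up to exchanging them. -/
theorem sim_square (h2 : (2 : F) ≠ 0) {b : Matrix (Fin 2 × Fin 2) (Fin 2 × Fin 2) F} {μ : F} (hμ : μ ≠ 0)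
    (h : ∀ p q, sqForm (fun r => b r p) (fun r => b r q) = μ * (symJ F p.1 q.1 * symJ F p.2 q.2)) :
    ∃ a₁ a₂ : Matrix (Fin 2) (Fin 2) F, b = a₁ ⊗ₖ a₂ ∨ b * swapQ F = a₁ ⊗ₖ a₂ := by
  have hpure : ∀ p, ∃ s t : Fin 2 → F, (fun r => b r p) = fun r => s r.1 * t r.2 := fun p =>
    exists_pure_of_sqForm h2 (by
      rw [h]
      obtain ⟨i, j⟩ := p
      fin_cases i <;> fin_cases j <;> simp [symJ])
  choose s t hst using hpure
  have hB : ∀ p q, br2 (s p) (s q) * br2 (t p) (t q) = μ * (symJ F p.1 q.1 * symJ F p.2 q.2) := fun p q => by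
    rw [← sqForm_pure, ← hst, ← hst, h]
  have h03 : br2 (s (0, 0)) (s (1, 1)) * br2 (t (0, 0)) (t (1, 1)) = μ := by simpa [symJ] using hB (0, 0) (1, 1)
  have h12 : br2 (s (0, 1)) (s (1, 0)) * br2 (t (0, 1)) (t (1, 0)) = -μ := by simpa [symJ] using hB (0, 1) (1, 0)
  have h01 : br2 (s (0, 0)) (s (0, 1)) * br2 (t (0, 0)) (t (0, 1)) = 0 := by simpa [symJ] using hB (0, 0) (0, 1)
  have h02 : br2 (s (0, 0)) (s (1, 0)) * br2 (t (0, 0)) (t (1, 0)) = 0 := by simpa [symJ] using hB (0, 0) (1, 0)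
  have hs0 : s (0, 0) ≠ 0 := fun e => hμ (by rw [← h03, e]; simp [br2])
  have ht0 : t (0, 0) ≠ 0 := fun e => hμ (by rw [← h03, e]; simp [br2])
  have hcol : ∀ r p, b r p = s p r.1 * t p r.2 := fun r p => congrFun (hst p) r
  -- the main case
  have main : ∀ (s t : Fin 2 × Fin 2 → Fin 2 → F),
      (∀ p q, br2 (s p) (s q) * br2 (t p) (t q) = μ * (symJ F p.1 q.1 * symJ F p.2 q.2)) →
      s (0, 0) ≠ 0 → t (0, 0) ≠ 0 → br2 (s (0, 0)) (s (0, 1)) = 0 → br2 (t (0, 0)) (t (1, 0)) = 0 →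
      ∃ a₁ a₂ : Matrix (Fin 2) (Fin 2) F, ∀ r p : Fin 2 × Fin 2, s p r.1 * t p r.2 = a₁ r.1 p.1 * a₂ r.2 p.2 := by
    intro s t hB hs0 ht0 hs ht
    obtain ⟨α, hα⟩ := br2_eq_zero hs0 hs
    obtain ⟨β, hβ⟩ := br2_eq_zero ht0 ht
    set u := s (0, 0)
    set v := t (0, 0)
    set v' := α • t (0, 1) with hv'
    set u' := β • s (1, 0) with hu'
    have h03 : br2 u (s (1, 1)) * br2 v (t (1, 1)) = μ := by simpa [symJ] using hB (0, 0) (1, 1)
    have h12 : br2 (s (0, 1)) (s (1, 0)) * br2 (t (0, 1)) (t (1, 0)) = -μ := by simpa [symJ] using hB (0, 1) (1, 0)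
    have h13 : br2 (s (0, 1)) (s (1, 1)) * br2 (t (0, 1)) (t (1, 1)) = 0 := by simpa [symJ] using hB (0, 1) (1, 1)
    have h23 : br2 (s (1, 0)) (s (1, 1)) * br2 (t (1, 0)) (t (1, 1)) = 0 := by simpa [symJ] using hB (1, 0) (1, 1)
    have e12 : br2 u u' * br2 v' v = -μ := by
      rw [← h12, hα, hβ, hv', hu']
      simp only [br2, Pi.smul_apply, smul_eq_mul]
      ring
    have e13 : br2 u (s (1, 1)) * br2 v' (t (1, 1)) = 0 := by
      rw [← h13, hα, hv']
      simp only [br2, Pi.smul_apply, smul_eq_mul]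
      ring
    have e23 : br2 u' (s (1, 1)) * br2 v (t (1, 1)) = 0 := by
      rw [← h23, hβ, hu']
      simp only [br2, Pi.smul_apply, smul_eq_mul]
      ring
    have hv'0 : v' ≠ 0 := fun e => hμ (neg_eq_zero.1 (by rw [← e12, e]; simp [br2]))
    have hu'0 : u' ≠ 0 := fun e => hμ (neg_eq_zero.1 (by rw [← e12, e]; simp [br2]))
    have h03' := mul_ne_zero_iff.1 (h03.trans_ne hμ)
    obtain ⟨γ, hγ⟩ := br2_eq_zero hv'0 ((mul_eq_zero.1 e13).resolve_left h03'.1)
    obtain ⟨δ, hδ⟩ := br2_eq_zero hu'0 ((mul_eq_zero.1 e23).resolve_right h03'.2)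
    have hγδ : δ * γ = 1 := by
      have h1 : δ * γ * (br2 u u' * br2 v v') = μ := by
        rw [← h03, hγ, hδ]
        simp only [br2, Pi.smul_apply, smul_eq_mul]
        ring
      have h2' : br2 u u' * br2 v v' = μ := by
        have : br2 v' v = -br2 v v' := by simp only [br2]; ring
        rw [this] at e12
        linear_combination -e12
      rw [h2'] at h1
      exact mul_right_cancel₀ hμ (h1.trans (one_mul μ).symm)
    refine ⟨Matrix.of fun i j => ![u, u'] j i, Matrix.of fun i j => ![v, v'] j i, ?_⟩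
    rintro ⟨i, j⟩ ⟨k, l⟩
    fin_cases k <;> fin_cases l <;> simp
    · rfl
    · rw [hα, hv']; simp; ring
    · rw [hβ, hu']; simp; ring
    · rw [hγ, hδ]; simp; linear_combination (u' i * v' j) * hγδ
  rcases mul_eq_zero.1 h01 with hsA | htB
  · have htA : br2 (t (0, 0)) (t (1, 0)) = 0 := by
      refine (mul_eq_zero.1 h02).resolve_left fun hsB => hμ ?_
      obtain ⟨α, hα⟩ := br2_eq_zero hs0 hsA
      obtain ⟨β, hβ⟩ := br2_eq_zero hs0 hsB
      refine neg_eq_zero.1 (h12.symm.trans ?_)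
      rw [hα, hβ]
      simp only [br2, Pi.smul_apply, smul_eq_mul]
      ring
    obtain ⟨a₁, a₂, ha⟩ := main s t hB hs0 ht0 hsA htA
    exact ⟨a₁, a₂, Or.inl (Matrix.ext fun r p => by rw [hcol, Matrix.kronecker_apply]; exact ha r p)⟩
  · have hsB : br2 (s (0, 0)) (s (1, 0)) = 0 := by
      refine (mul_eq_zero.1 h02).resolve_right fun htA => hμ ?_
      obtain ⟨α, hα⟩ := br2_eq_zero ht0 htB
      obtain ⟨β, hβ⟩ := br2_eq_zero ht0 htA
      refine neg_eq_zero.1 (h12.symm.trans ?_)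
      rw [hα, hβ]
      simp only [br2, Pi.smul_apply, smul_eq_mul]
      ring
    obtain ⟨a₁, a₂, ha⟩ := main (fun p => s p.swap) (fun p => t p.swap) (fun p q => by
      rw [hB]
      show μ * (symJ F p.2 q.2 * symJ F p.1 q.1) = _
      ring) hs0 ht0 hsB htB
    exact ⟨a₁, a₂, Or.inr (Matrix.ext fun r p => by
      rw [mul_swapQ, hcol, Matrix.kronecker_apply]; exact ha r p)⟩

/-- A plus-type symmetric form in dimension four is `J ⊗ J` in suitable coordinates. -/
theorem exists_plus_frame (h2 : (2 : F) ≠ 0) {f : (Fin 4 → F) → (Fin 4 → F) → F} (hf : IsSymmetricForm f)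
    (hplus : IsPlusTypeOn (fun v : Fin 4 → F => f v v) ⊤) :
    ∃ v : Fin 2 × Fin 2 → Fin 4 → F, ∀ p q, f (v p) (v q) = symJ F p.1 q.1 * symJ F p.2 q.2 := by
  classical
  obtain ⟨hb, hsym, hnd⟩ := hf
  obtain ⟨U, -, hU, hdim⟩ := hplus
  rw [finrank_top, Module.finrank_pi, Fintype.card_fin] at hdim
  let bU := Module.finBasisOfFinrankEq F U (n := 2) (by omega)
  set u₁ := (bU 0 : Fin 4 → F)
  set u₂ := (bU 1 : Fin 4 → F)
  have hUU : ∀ a ∈ U, ∀ c ∈ U, f a c = 0 := by
    intro a ha c hc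
    have h1 : f a a = 0 := hU a ha
    have h3 : f c c = 0 := hU c hc
    have h4 : f (a + c) (a + c) = 0 := hU _ (U.add_mem ha hc)
    rw [hb.add_left, hb.add_right, hb.add_right, h1, h3, hsym c a] at h4
    exact (mul_eq_zero.1 (show (2 : F) * f a c = 0 by linear_combination h4)).resolve_left h2
  let L : (Fin 4 → F) →ₗ[F] F × F :=
    { toFun := fun x => (f u₁ x, f u₂ x)
      map_add' := fun a c => by simp [hb.add_right]
      map_smul' := fun r a => by simp [hb.smul_right] }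
  have hker : Module.finrank F (LinearMap.ker L) ≤ 2 := by
    -- a functional vanishing on more would kill a non-zero combination of the `u`s
    let K := LinearMap.ker L
    by_contra hbig
    let M : U →ₗ[F] Module.Dual F ((Fin 4 → F) ⧸ K) :=
      { toFun := fun a => K.liftQ
          { toFun := fun x => f a x
            map_add' := fun x y => hb.add_right _ _ _
            map_smul' := fun r x => hb.smul_right _ _ _ }
          (fun x hx => by
            rw [LinearMap.mem_ker] at hx ⊢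
            show f (a : Fin 4 → F) x = 0
            have h1 : f u₁ x = 0 := congrArg Prod.fst hx
            have h3 : f u₂ x = 0 := congrArg Prod.snd hx
            have ea := congrArg U.subtype (bU.sum_repr a)
            simp only [map_sum, map_smul, Submodule.subtype_apply, Fin.sum_univ_two, Submodule.coe_add, SetLike.val_smul] at ea
            rw [← ea, hb.add_left, hb.smul_left, hb.smul_left, h1, h3, mul_zero, mul_zero, add_zero])
        map_add' := fun a c => Submodule.linearMap_qext _ (LinearMap.ext fun x => hb.add_left _ _ _)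
        map_smul' := fun r a => Submodule.linearMap_qext _ (LinearMap.ext fun x => hb.smul_left _ _ _) }
    have hM : Function.Injective M := by
      rw [← LinearMap.ker_eq_bot, LinearMap.ker_eq_bot']
      intro a ha
      by_contra ha0
      obtain ⟨x, hx⟩ := (hnd (a : Fin 4 → F) (fun e => ha0 (Subtype.ext e))).2
      exact hx (LinearMap.congr_fun ha (K.mkQ x))
    have h1 := LinearMap.finrank_le_finrank_of_injective hM
    rw [Subspace.dual_finrank_eq, Module.finrank_eq_card_basis bU, Fintype.card_fin] at h1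
    have h3 := K.finrank_quotient_add_finrank
    have hK : Module.finrank F K = Module.finrank F (LinearMap.ker L) := rfl
    rw [Module.finrank_pi, Fintype.card_fin] at h3
    omega
  have hsurj : Function.Surjective L := by
    rw [← LinearMap.range_eq_top]
    refine Submodule.eq_top_of_finrank_eq ?_
    have h1 := LinearMap.finrank_range_add_finrank_ker L
    have h3 := Submodule.finrank_le (LinearMap.range L)
    rw [Module.finrank_prod, Module.finrank_self] at h3 ⊢
    rw [Module.finrank_pi, Fintype.card_fin] at h1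
    omega
  obtain ⟨a, ha⟩ := hsurj (1, 0)
  obtain ⟨c, hc⟩ := hsurj (0, 1)
  have ha1 : f u₁ a = 1 := congrArg Prod.fst ha
  have ha2 : f u₂ a = 0 := congrArg Prod.snd ha
  have hc1 : f u₁ c = 0 := congrArg Prod.fst hc
  have hc2 : f u₂ c = 1 := congrArg Prod.snd hc
  have h11 : f u₁ u₁ = 0 := hUU _ (bU 0).2 _ (bU 0).2
  have h12 : f u₁ u₂ = 0 := hUU _ (bU 0).2 _ (bU 1).2
  have h22 : f u₂ u₂ = 0 := hUU _ (bU 1).2 _ (bU 1).2
  set w₁ := a + (-(f a a / 2)) • u₁ with hw₁
  set c₀ := c + (-(f c w₁)) • u₁ with hc₀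
  set w₂ := c₀ + (-(f c₀ c₀ / 2)) • u₂ with hw₂
  have e11 : f u₁ w₁ = 1 := by rw [hw₁, hb.add_right, hb.smul_right, ha1, h11]; ring
  have e21 : f u₂ w₁ = 0 := by rw [hw₁, hb.add_right, hb.smul_right, ha2, hsym u₂ u₁, h12]; ring
  have hexp : ∀ (x u : Fin 4 → F) (r : F), f u u = 0 → f u x = 1 → r = -(f x x / 2) →
      f (x + r • u) (x + r • u) = 0 := by
    intro x u r hu hux hr
    rw [hb.add_left, hb.smul_left, hb.add_right, hb.smul_right, hb.add_right, hb.smul_right, hsym x u, hux, hu, hr]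
    field_simp
    ring
  have eww : f w₁ w₁ = 0 := hexp a u₁ _ h11 ha1 rfl
  have e10 : f u₁ c₀ = 0 := by rw [hc₀, hb.add_right, hb.smul_right, hc1, h11]; ring
  have e20 : f u₂ c₀ = 1 := by rw [hc₀, hb.add_right, hb.smul_right, hc2, hsym u₂ u₁, h12]; ring
  have e0w : f c₀ w₁ = 0 := by rw [hc₀, hb.add_left, hb.smul_left, e11]; ring
  have e12 : f u₁ w₂ = 0 := by rw [hw₂, hb.add_right, hb.smul_right, e10, h12]; ring
  have e22 : f u₂ w₂ = 1 := by rw [hw₂, hb.add_right, hb.smul_right, e20, h22]; ring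
  have e2w : f w₁ w₂ = 0 := by
    rw [hw₂, hb.add_right, hb.smul_right, hsym w₁ c₀, e0w, hsym w₁ u₂, e21]
    ring
  have ew2 : f w₂ w₂ = 0 := hexp c₀ u₂ _ h22 e20 rfl
  refine ⟨fun p => ![![u₁, u₂], ![(-1 : F) • w₂, w₁]] p.1 p.2, ?_⟩
  rintro ⟨i, j⟩ ⟨k, l⟩
  fin_cases i <;> fin_cases j <;> fin_cases k <;> fin_cases l <;>
    simp [symJ, -neg_smul, hb.smul_left, hb.smul_right, h11, h12, h22, e11, e21, e12, e22, eww, e2w, ew2,
      hsym u₂ u₁, hsym w₁ u₁, hsym w₁ u₂, hsym w₂ u₁, hsym w₂ u₂, hsym w₂ w₁]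

end CfsgLib.Geo.Asch
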