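/-
Dimension eight: the tensor cases of the maximal subgroup theorem.
-/
import Cfsg.Agent.Lib.Geo.Asch.SpEight

set_option autoImplicit false

namespace CfsgLib.Geo.Asch

open Matrix Cfsg.Geo
open scoped Kronecker
open CfsgLib.Geo.Roots (isSymplecticForm_sympForm mem_spGL_iff)

variable {F : Type*} [Field F] {m : ℕ}

/-- The Gram matrix of a symplectic form on the plane. -/
theorem gram_plane {f : (Fin 2 → F) → (Fin 2 → F) → F} (hf : IsSymplecticForm f) :
    ∃ α : F, α ≠ 0 ∧ gramMatrix f = α • symJ F := by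
  refine ⟨f (Pi.single 0 1) (Pi.single 1 1), fun h0 => ?_, ?_⟩
  · obtain ⟨x, hx⟩ := (hf.nondegenerate (Pi.single 0 1) (by simp)).2
    apply hx
    have e : x = x 0 • Pi.single 0 1 + x 1 • Pi.single 1 1 := by
      funext i; fin_cases i <;> simp
    rw [e, hf.bilinear.add_right, hf.bilinear.smul_right, hf.bilinear.smul_right, hf.alternating, h0]
    ring
  · ext i j
    fin_cases i <;> fin_cases j <;> simp [gramMatrix, symJ, hf.alternating]
    exact hf.skew _ _

theorem spGram_of_tensorPower {k t : ℕ} {e : (Fin m ⊕ Fin m) ≃ (Fin t → Fin k)} {P : GL (Fin m ⊕ Fin m) F}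
    {f₁ : (Fin k → F) → (Fin k → F) → F} (hT : IsTensorPowerFormStructure id (Cfsg.sympForm m F) f₁ e P) :
    ∃ c : F, c ≠ 0 ∧ spGram e P = c • pureT k t F fun _ => gramMatrix f₁ := by
  obtain ⟨c, hc, h⟩ := hT
  refine ⟨c, hc, Matrix.ext fun a b => ?_⟩
  rw [spGram_apply, h, Matrix.smul_apply, pureT_apply, smul_eq_mul]
  congr 1
  rw [Finset.sum_eq_single a, Finset.sum_eq_single b]
  · simp
  · intro r _ hr; simp [Pi.single_eq_of_ne hr]
  · simp
  · intro r _ hr; simp [Pi.single_eq_of_ne hr]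
  · simp

theorem spGram_of_tensorForm {n₁ n₂ : ℕ} {e : (Fin m ⊕ Fin m) ≃ Fin n₁ × Fin n₂} {P : GL (Fin m ⊕ Fin m) F}
    {f₁ : (Fin n₁ → F) → (Fin n₁ → F) → F} {f₂ : (Fin n₂ → F) → (Fin n₂ → F) → F}
    (hT : IsTensorFormStructure id (Cfsg.sympForm m F) f₁ f₂ e P) :
    ∃ c : F, c ≠ 0 ∧ spGram e P = c • (gramMatrix f₁ ⊗ₖ gramMatrix f₂) := by
  obtain ⟨c, hc, h⟩ := hT
  refine ⟨c, hc, Matrix.ext fun a b => ?_⟩
  rw [spGram_apply, h, Matrix.smul_apply, formOfGram_id_eq, single_one_dotProduct, Matrix.mulVec_single_one,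
    smul_eq_mul]
  rfl

theorem coord_mul_glReindex {κ : Type} [Fintype κ] [DecidableEq κ] (e : (Fin m ⊕ Fin m) ≃ κ)
    (P : GL (Fin m ⊕ Fin m) F) (K : GL κ F) (M : Matrix (Fin m ⊕ Fin m) (Fin m ⊕ Fin m) F) :
    coord e (P * glReindex (F := F) e.symm K) M =
      ((K⁻¹ : GL κ F) : Matrix κ κ F) * coord e P M * (K : Matrix κ κ F) := by
  have hval : ∀ L : GL κ F, (glReindex (F := F) e.symm L : Matrix (Fin m ⊕ Fin m) (Fin m ⊕ Fin m) F) =
      (L : Matrix κ κ F).submatrix e e := fun L => rfl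
  rw [coord, coord, _root_.mul_inv_rev, ← map_inv, Units.val_mul, Units.val_mul, hval, hval]
  set A := ((P⁻¹ : GL (Fin m ⊕ Fin m) F) : Matrix (Fin m ⊕ Fin m) (Fin m ⊕ Fin m) F) * M *
    (P : Matrix (Fin m ⊕ Fin m) (Fin m ⊕ Fin m) F) with hA
  rw [show ∀ B C : Matrix (Fin m ⊕ Fin m) (Fin m ⊕ Fin m) F,
    B * ((P⁻¹ : GL (Fin m ⊕ Fin m) F) : Matrix (Fin m ⊕ Fin m) (Fin m ⊕ Fin m) F) * M *
      ((P : Matrix (Fin m ⊕ Fin m) (Fin m ⊕ Fin m) F) * C) = B * A * C from fun B C => by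
    simp only [hA, Matrix.mul_assoc]]
  rw [← Matrix.submatrix_mul_equiv _ _ _ e.symm, ← Matrix.submatrix_mul_equiv _ _ _ e.symm]
  simp [Matrix.submatrix_submatrix]

/-- A tensor product with a plus-type symmetric factor of dimension four lies in a tensor cube. -/
theorem plus_tensor_le_wreath (h2 : (2 : F) ≠ 0) {e : (Fin m ⊕ Fin m) ≃ Fin 2 × Fin 4}
    {P : GL (Fin m ⊕ Fin m) F} {f₁ : (Fin 2 → F) → (Fin 2 → F) → F} {f₂ : (Fin 4 → F) → (Fin 4 → F) → F}
    (hf₁ : IsSymplecticForm f₁) (hf₂ : IsSymmetricForm f₂)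
    (hplus : IsPlusTypeOn (fun v : Fin 4 → F => f₂ v v) ⊤)
    (hT : IsTensorFormStructure id (Cfsg.sympForm m F) f₁ f₂ e P) :
    ∃ (e' : (Fin m ⊕ Fin m) ≃ (Fin 3 → Fin 2)) (P' : GL (Fin m ⊕ Fin m) F) (γ : F), γ ≠ 0 ∧
      spGram e' P' = γ • symPow 3 F ∧
      tensorProductSubgroup 2 4 e P ⊓ Cfsg.spGL m F ≤ tensorWreathSubgroup 2 3 e' P' := by
  classical
  obtain ⟨c, hc, hG⟩ := spGram_of_tensorForm hT
  obtain ⟨α, hα, hf₁G⟩ := gram_plane hf₁
  obtain ⟨v, hv⟩ := exists_plus_frame h2 hf₂ hplus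
  let ff : Fin 4 ≃ Fin 2 × Fin 2 := (finProdFinEquiv (m := 2) (n := 2)).symm
  let C : Matrix (Fin 4) (Fin 4) F := Matrix.of fun r l => v (ff l) r
  set S := symJ F with hS
  set X' := (S ⊗ₖ S).submatrix ff ff with hX'
  have hf₂g : ∀ x y, f₂ x y = x ⬝ᵥ gramMatrix f₂ *ᵥ y := fun x y => by
    have hs := isSesqForm_of_bilinear hf₂.bilinear
    conv_lhs => rw [← Matrix.one_mulVec x, ← Matrix.one_mulVec y, form_eq_gram hs]
    simp only [dotProduct, Matrix.mulVec, gramIn, gramMatrix, Matrix.one_mulVec, RingEquiv.refl_apply, Finset.mul_sum]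
  have hCX : Cᵀ * gramMatrix f₂ * C = X' := by
    ext a b
    rw [Matrix.mul_assoc]
    show (fun r => C r a) ⬝ᵥ gramMatrix f₂ *ᵥ (fun r => C r b) = _
    rw [← hf₂g]
    exact hv _ _
  have hSu : IsUnit S := ⟨quatI F, rfl⟩
  have hCu : IsUnit C := by
    rw [Matrix.isUnit_iff_isUnit_det, isUnit_iff_ne_zero]
    intro h0
    have h1 := congrArg Matrix.det hCX
    rw [Matrix.det_mul, h0, mul_zero, hX', Matrix.det_submatrix_equiv_self, Matrix.det_kronecker] at h1
    have hd : S.det = 1 := by simp [hS, symJ, Matrix.det_fin_two]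
    rw [hd] at h1
    simp at h1
  let K : GL (Fin 2 × Fin 4) F := ⟨1 ⊗ₖ C, 1 ⊗ₖ ((hCu.unit⁻¹ : GL (Fin 4) F) : Matrix (Fin 4) (Fin 4) F), by
    rw [← Matrix.mul_kronecker_mul, one_mul, hCu.mul_val_inv, Matrix.one_kronecker_one], by
    rw [← Matrix.mul_kronecker_mul, one_mul, hCu.val_inv_mul, Matrix.one_kronecker_one]⟩
  set P' := P * glReindex (F := F) e.symm K with hP'
  set γ := c * α
  have hγ : γ ≠ 0 := mul_ne_zero hc hα
  have hG' : spGram e P' = γ • (S ⊗ₖ X') := by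
    rw [hP', spGram_mul_reindex, hG, hf₁G, Matrix.smul_kronecker, smul_smul, Matrix.mul_smul, Matrix.smul_mul]
    show _ • ((1 ⊗ₖ C)ᵀ * (S ⊗ₖ gramMatrix f₂) * (1 ⊗ₖ C)) = _
    rw [← Matrix.kroneckerMap_transpose, ← Matrix.mul_kronecker_mul, ← Matrix.mul_kronecker_mul,
      Matrix.transpose_one, one_mul, mul_one, hCX]
  let φ : Fin 2 × Fin 4 ≃ (Fin 3 → Fin 2) :=
    { toFun := fun p => ![p.1, (ff p.2).1, (ff p.2).2]
      invFun := fun X => (X 0, ff.symm (X 1, X 2))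
      left_inv := fun p => by simp
      right_inv := fun X => by funext i; fin_cases i <;> simp }
  refine ⟨e.trans φ, P', γ, hγ, ?_, ?_⟩
  · have h1 : spGram (e.trans φ) P' = (spGram e P').submatrix φ.symm φ.symm := rfl
    rw [h1, hG']
    ext X Y
    simp [φ, symPow, pureT_apply, Fin.prod_univ_three, X', hS, mul_assoc]
  rintro g ⟨hgT, hgS⟩
  obtain ⟨a, b, hab⟩ := (mem_tensorProductSubgroup_iff e P g).1 hgT
  set b' := ((hCu.unit⁻¹ : GL (Fin 4) F) : Matrix (Fin 4) (Fin 4) F) * (b : Matrix (Fin 4) (Fin 4) F) * C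
  have hco : coord e P' (g : Matrix (Fin m ⊕ Fin m) (Fin m ⊕ Fin m) F) = (a : Matrix (Fin 2) (Fin 2) F) ⊗ₖ b' := by
    rw [hP', coord_mul_glReindex, hab]
    show (1 ⊗ₖ _) * _ * (1 ⊗ₖ C) = _
    rw [← Matrix.mul_kronecker_mul, ← Matrix.mul_kronecker_mul, one_mul, mul_one]
  have hfix := spGram_fix e P' hgS
  rw [hco, hG'] at hfix
  have hb := kron_symJ_fix hγ hfix
  have hda : (a : Matrix (Fin 2) (Fin 2) F).det ≠ 0 := (Matrix.GeneralLinearGroup.det a).ne_zero
  set b'' := b'.submatrix ff.symm ff.symm with hb''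
  have hb2 : b''ᵀ * (S ⊗ₖ S) * b'' = (a : Matrix (Fin 2) (Fin 2) F).det⁻¹ • (S ⊗ₖ S) := by
    have h1 : b'ᵀ * X' * b' = (a : Matrix (Fin 2) (Fin 2) F).det⁻¹ • X' := by
      conv_rhs => rw [← hb, smul_smul, inv_mul_cancel₀ hda, one_smul]
    have h2' := congrArg (fun M => M.submatrix ff.symm ff.symm) h1
    rw [← Matrix.submatrix_mul_equiv _ _ _ ff.symm, ← Matrix.submatrix_mul_equiv _ _ _ ff.symm,
      ← Matrix.transpose_submatrix] at h2'
    rw [hX'] at h2'
    rw [hb'', Matrix.transpose_submatrix]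
    simpa [Matrix.submatrix_smul, Matrix.submatrix_submatrix] using h2'
  obtain ⟨a₁, a₂, ha⟩ := sim_square h2 (inv_ne_zero hda) (b := b'') fun p q => by
    rw [← dot_sqForm]
    have h3 := congrFun (congrFun hb2 p) q
    rw [Matrix.mul_assoc] at h3
    exact h3
  have key : ∀ X Y : Fin 3 → Fin 2, coord (e.trans φ) P' (g : Matrix (Fin m ⊕ Fin m) (Fin m ⊕ Fin m) F) X Y =
      (a : Matrix (Fin 2) (Fin 2) F) (X 0) (Y 0) * b'' (X 1, X 2) (Y 1, Y 2) := by
    intro X Y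
    have h1 : coord (e.trans φ) P' (g : Matrix (Fin m ⊕ Fin m) (Fin m ⊕ Fin m) F) =
        (coord e P' (g : Matrix (Fin m ⊕ Fin m) (Fin m ⊕ Fin m) F)).submatrix φ.symm φ.symm := rfl
    rw [h1, hco]
    rfl
  obtain ⟨π, hC⟩ : ∃ π : Equiv.Perm (Fin 3),
      coord (e.trans φ) P' (g : Matrix (Fin m ⊕ Fin m) (Fin m ⊕ Fin m) F) =
        pureT 2 3 F ![(a : Matrix (Fin 2) (Fin 2) F), a₁, a₂] * permT 2 F π := by
    rcases ha with ha | ha
    · refine ⟨1, Matrix.ext fun X Y => ?_⟩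
      rw [key, mul_permT, pureT_apply, Fin.prod_univ_three, ha, Matrix.kronecker_apply]
      simp [mul_assoc, show (1 : Equiv.Perm (Fin 3)).symm = 1 from rfl]
    · refine ⟨Equiv.swap 1 2, Matrix.ext fun X Y => ?_⟩
      have h1 : b'' (X 1, X 2) (Y 1, Y 2) = (b'' * swapQ F) (X 1, X 2) (Y 2, Y 1) := by
        rw [mul_swapQ]; rfl
      rw [key, mul_permT, pureT_apply, Fin.prod_univ_three, h1, ha, Matrix.kronecker_apply]
      simp [mul_assoc, Equiv.swap_apply_def]
  have hdet : (pureT 2 3 F ![(a : Matrix (Fin 2) (Fin 2) F), a₁, a₂]).det ≠ 0 := by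
    intro h0
    apply det_coord_ne_zero (e.trans φ) P' g
    rw [hC, Matrix.det_mul, h0, zero_mul]
  refine mem_tensorWreathSubgroup_of_coord π
    (fun i => Matrix.GeneralLinearGroup.mkOfDetNeZero _ (pureT_factor_det _ hdet i)) ?_
  rw [hC]
  rfl

/-- Over three elements the stabiliser of a tensor cube is not maximal. -/
theorem wreath_three_not_maximal [Fintype F] (h3 : Fintype.card F = 3) (hm : 2 ≤ m)
    {e : (Fin m ⊕ Fin m) ≃ (Fin 3 → Fin 2)} {P : GL (Fin m ⊕ Fin m) F} {γ : F}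
    (hG : spGram e P = γ • symPow 3 F) {H : Subgroup (GL (Fin m ⊕ Fin m) F)}
    (hH : IsMaximalIn (Cfsg.spGL m F) H) : ¬ H ≤ tensorWreathSubgroup 2 3 e P := by
  classical
  intro hle
  have h2 := two_ne_zero_three h3
  have heq := eq_of_maximal_le hH hle (not_spGL_le_tensorWreathSubgroup (by omega) le_rfl le_rfl e P)
  let ψ : (Fin 3 → GL (Fin 2) F) →* GL (Fin m ⊕ Fin m) F :=
    (glOfCoord e P).comp ((Units.map (pureT 2 3 F)).comp MulEquiv.piUnits.symm.toMonoidHom)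
  have hψ : ∀ q, coord e P (ψ q : Matrix (Fin m ⊕ Fin m) (Fin m ⊕ Fin m) F) =
      pureT 2 3 F fun i => (q i : Matrix (Fin 2) (Fin 2) F) := fun q => coord_glOfCoord e P _
  set R := (Subgroup.pi Set.univ fun _ : Fin 3 => quatThree h3).map ψ
  have hmem : ∀ q : Fin 3 → GL (Fin 2) F, (∀ i, q i ∈ quatThree h3) → ψ q ∈ R := fun q hq =>
    ⟨q, fun i _ => hq i, rfl⟩
  have hRS : R ≤ Cfsg.spGL m F := by
    rintro _ ⟨q, hq, rfl⟩
    refine mem_spGL_of_coord e P ?_
    rw [hψ, hG, Matrix.mul_smul, Matrix.smul_mul, symPow, pureT_transpose, ← map_mul, ← map_mul]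
    congr 2
    funext i
    show (q i : Matrix (Fin 2) (Fin 2) F)ᵀ * symJ F * (q i : Matrix (Fin 2) (Fin 2) F) = symJ F
    rw [transpose_mul_symJ, (hq i trivial).1, one_smul]
  have hR : IsPGroup 2 R := by
    rintro ⟨_, q, hq, rfl⟩
    refine ⟨2, Subtype.ext ?_⟩
    show (ψ q) ^ 2 ^ 2 = 1
    rw [← map_pow, show q ^ 2 ^ 2 = 1 from funext fun i => quatThree_pow_four h3 (hq i trivial), map_one]
  -- the two square roots of minus one
  let qx : Fin 3 → GL (Fin 2) F := fun _ => quatI F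
  let qy : Fin 3 → GL (Fin 2) F := ![quatI F, 1, 1]
  have hqx : ∀ i, qx i ∈ quatThree h3 := fun _ => quatI_mem h3
  have hqy : ∀ i, qy i ∈ quatThree h3 := fun i => by
    fin_cases i
    · exact quatI_mem h3
    · exact one_mem _
    · exact one_mem _
  have hsq : ∀ i, (qx i : Matrix (Fin 2) (Fin 2) F) * qx i = (-1 : F) • 1 := fun _ => symJ_sq
  have hxx : (ψ qx : Matrix (Fin m ⊕ Fin m) (Fin m ⊕ Fin m) F) * ψ qx = -1 := by
    apply coord_injective e P
    rw [coord_mul, hψ, ← map_mul, show ((fun i => (qx i : Matrix (Fin 2) (Fin 2) F)) *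
      fun i => (qx i : Matrix (Fin 2) (Fin 2) F)) = fun _ => (-1 : F) • 1 from funext hsq, pureT_smul,
      ← neg_one_smul F (1 : Matrix (Fin m ⊕ Fin m) (Fin m ⊕ Fin m) F), coord_smul, coord_one,
      show (pureT 2 3 F fun _ => (1 : Matrix (Fin 2) (Fin 2) F)) = 1 from map_one (pureT 2 3 F)]
    congr 1
    simp [Odd.neg_one_pow (show Odd 3 by decide)]
  have hyy : (ψ qy : Matrix (Fin m ⊕ Fin m) (Fin m ⊕ Fin m) F) * ψ qy = -1 := by
    apply coord_injective e P
    rw [coord_mul, hψ, ← map_mul, show ((fun i => (qy i : Matrix (Fin 2) (Fin 2) F)) *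
      fun i => (qy i : Matrix (Fin 2) (Fin 2) F)) = fun i => (![-1, 1, 1] : Fin 3 → F) i • 1 from funext fun i => by
        fin_cases i
        · simpa [qy, quatI] using symJ_sq (F := F)
        · simp [qy]
        · simp [qy], pureT_smul,
      ← neg_one_smul F (1 : Matrix (Fin m ⊕ Fin m) (Fin m ⊕ Fin m) F), coord_smul, coord_one,
      show (pureT 2 3 F fun _ => (1 : Matrix (Fin 2) (Fin 2) F)) = 1 from map_one (pureT 2 3 F)]
    simp [Fin.prod_univ_three]
  have hsign : ∀ q, (∀ i, q i ∈ quatThree h3) → ∀ r ∈ R,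
      (ψ q : Matrix (Fin m ⊕ Fin m) (Fin m ⊕ Fin m) F) * r = r * ψ q ∨
      (ψ q : Matrix (Fin m ⊕ Fin m) (Fin m ⊕ Fin m) F) * r =
        -((r : Matrix (Fin m ⊕ Fin m) (Fin m ⊕ Fin m) F) * ψ q) := by
    rintro q hq _ ⟨r, hr, rfl⟩
    have hε : ∀ i, ∃ ε : F, ε * ε = 1 ∧ (q i : Matrix (Fin 2) (Fin 2) F) * r i =
        ε • ((r i : Matrix (Fin 2) (Fin 2) F) * q i) := fun i => by
      rcases quatThree_comm h3 (hq i) (hr i trivial) with h | h
      · exact ⟨1, one_mul 1, by rw [one_smul, h]⟩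
      · exact ⟨-1, by ring, by rw [neg_one_smul, h]⟩
    choose ε hε1 hε2 using hε
    have hcomm : (ψ q : Matrix (Fin m ⊕ Fin m) (Fin m ⊕ Fin m) F) * ψ r =
        (∏ i, ε i) • ((ψ r : Matrix (Fin m ⊕ Fin m) (Fin m ⊕ Fin m) F) * ψ q) := by
      apply coord_injective e P
      rw [coord_smul, coord_mul, coord_mul, hψ, hψ, ← map_mul, ← map_mul, ← pureT_smul]
      congr 1
      exact funext hε2
    rcases mul_self_eq_one_iff.1 (show (∏ i, ε i) * (∏ i, ε i) = 1 by
      rw [← Finset.prod_mul_distrib, Finset.prod_congr rfl fun i _ => hε1 i, Finset.prod_const_one]) with h | h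
    · left; rw [hcomm, h, one_smul]
    · right; rw [hcomm, h, neg_one_smul]
  -- the wreath normalises `R`
  have hnorm : ∀ g ∈ tensorWreathSubgroup 2 3 e P, ∀ r ∈ R, g * r * g⁻¹ ∈ R := by
    rintro g hg _ ⟨q, hq, rfl⟩
    obtain ⟨π, gs, hC⟩ := exists_coord_of_mem_tensorWreath hg
    have hdet : (pureT 2 3 F gs).det ≠ 0 := by
      intro h0
      apply det_coord_ne_zero e P g
      rw [hC, Matrix.det_mul, h0, zero_mul]
    let u : Fin 3 → GL (Fin 2) F := fun i => Matrix.GeneralLinearGroup.mkOfDetNeZero (gs i) (pureT_factor_det gs hdet i)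
    let q' : Fin 3 → GL (Fin 2) F := fun i => u i * q (π.symm i) * (u i)⁻¹
    refine (show g * ψ q * g⁻¹ = ψ q' from ?_) ▸ hmem q' fun i => quatThree_conj h3 (u i) (hq (π.symm i) trivial)
    rw [mul_inv_eq_iff_eq_mul]
    refine Units.ext (coord_injective e P ?_)
    rw [Units.val_mul, Units.val_mul, coord_mul, coord_mul, hψ, hψ, hC]
    have hperm : permT 2 F π * pureT 2 3 F (fun i => (q i : Matrix (Fin 2) (Fin 2) F)) =
        pureT 2 3 F (fun i => (q (π.symm i) : Matrix (Fin 2) (Fin 2) F)) * permT 2 F π := by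
      ext x y
      rw [permT_mul, mul_permT, pureT_apply, pureT_apply]
      refine Fintype.prod_equiv π _ _ fun i => ?_
      simp
    rw [mul_assoc, hperm, ← mul_assoc, ← map_mul, ← mul_assoc, ← map_mul]
    congr 2
    funext i
    show gs i * (q (π.symm i) : Matrix (Fin 2) (Fin 2) F) = (q' i : Matrix (Fin 2) (Fin 2) F) * gs i
    have e1 : q' i * u i = u i * q (π.symm i) := by simp [q']
    exact (congrArg Units.val e1).symm
  have hHR : H ≤ subgroupNormalizer R := fun g hg => Subgroup.mem_normalizer_iff.2 fun r =>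
    ⟨hnorm g (hle hg) r, fun hr => by simpa [mul_assoc] using hnorm g⁻¹ (inv_mem (hle hg)) _ hr⟩
  obtain ⟨u, hu⟩ := exists_one_add h2 hxx
  obtain ⟨w, hw⟩ := exists_one_add h2 hyy
  have huN := one_add_mem_normalizer (hmem qx hqx) hxx hu (hsign qx hqx)
  have hwN := one_add_mem_normalizer (hmem qy hqy) hyy hw (hsign qy hqy)
  obtain ⟨j, hj, hij⟩ := exists_quatJ h3
  let qj : Fin 3 → GL (Fin 2) F := ![j, 1, 1]
  have hqj : ∀ i, qj i ∈ quatThree h3 := fun i => by
    fin_cases i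
    · exact hj
    · exact one_mem _
    · exact one_mem _
  have hna : ∃ a ∈ R, ∃ b ∈ R, a * b ≠ b * a := by
    refine ⟨_, hmem qy hqy, _, hmem qj hqj, fun he => hij (Units.ext ?_)⟩
    have h1 := congrArg (fun g : GL (Fin m ⊕ Fin m) F => coord e P (g : Matrix (Fin m ⊕ Fin m) (Fin m ⊕ Fin m) F)) he
    simp only [Units.val_mul, coord_mul, hψ, ← map_mul] at h1
    ext i k
    have h5 := congrFun (congrFun h1 (Function.update (fun _ => 0) 0 i)) (Function.update (fun _ => 0) 0 k)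
    rw [pureT_apply, pureT_apply, Fin.prod_univ_three, Fin.prod_univ_three] at h5
    simpa [qy, qj] using h5
  have hmemH := not_maximal_of_two_group hm h2 hH hR hna hRS hHR (Subgroup.mul_mem _ huN hwN)
    (one_add_mul_mem_spGL (three_eq_zero h3) (hRS (hmem qx hqx)) (hRS (hmem qy hqy)) hxx hyy hu hw)
  -- the second factor lies in the wreath
  have hwW : w ∈ tensorWreathSubgroup 2 3 e P := by
    obtain ⟨i', hi'⟩ := exists_one_add h2 (x := symJ F) (by rw [symJ_sq, neg_one_smul])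
    refine mem_tensorWreathSubgroup_of_coord 1 ![i', 1, 1] ?_
    rw [hw]
    ext x y
    rw [coord, Matrix.mul_add, Matrix.add_mul, Matrix.mul_one, Units.inv_mul, Matrix.submatrix_add, Pi.add_apply,
      Pi.add_apply, Matrix.submatrix_one_equiv, Matrix.add_apply]
    have h1 := congrFun (congrFun (hψ qy) x) y
    rw [coord] at h1
    rw [h1, mul_permT, pureT_apply, pureT_apply, Fin.prod_univ_three, Fin.prod_univ_three]
    have hxy : (x = y) ↔ (x 0 = y 0 ∧ x 1 = y 1 ∧ x 2 = y 2) := by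
      rw [funext_iff, Fin.forall_fin_succ, Fin.forall_fin_succ, Fin.forall_fin_succ]
      simp
    simp [qy, quatI, hi', Matrix.one_apply, hxy, show (1 : Equiv.Perm (Fin 3)).symm = 1 from rfl]
    by_cases hb : x 1 = y 1 <;> by_cases hc : x 2 = y 2 <;> simp [hb, hc]
  rw [heq] at hmemH
  have huW : u ∈ tensorWreathSubgroup 2 3 e P := by
    have h := Subgroup.mul_mem _ hmemH.1 (inv_mem hwW)
    rwa [mul_inv_cancel_right] at h
  obtain ⟨π, gs, hC⟩ := exists_coord_of_mem_tensorWreath huW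
  have hval : ∀ x y : Fin 3 → Fin 2, (if x = y then (1 : F) else 0) + (∏ i, symJ F (x i) (y i)) =
      ∏ i, gs i (x i) (y (π.symm i)) := by
    intro x y
    have h1 := congrFun (congrFun hC x) y
    rw [mul_permT, pureT_apply, hu] at h1
    refine Eq.trans ?_ h1
    rw [coord, Matrix.mul_add, Matrix.add_mul, Matrix.mul_one, Units.inv_mul, Matrix.submatrix_apply,
      Matrix.add_apply]
    have h4 := congrFun (congrFun (hψ qx) x) y
    rw [coord, Matrix.submatrix_apply, pureT_apply] at h4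
    rw [h4]
    simp [qx, quatI, Matrix.one_apply]
  let X : Fin 3 → Fin 2 := fun _ => 0
  let Y : Fin 3 → Fin 2 := fun _ => 1
  have hXY : X ≠ Y := fun e' => by simpa [X, Y] using congrFun e' 0
  have hXX : ∀ i, gs i 0 0 ≠ 0 := by
    have h1 := hval X X
    simp [X, symJ, Fin.prod_univ_three] at h1
    intro i hi
    have h0 : ∏ i, gs i (X i) (X (π.symm i)) = 0 := Finset.prod_eq_zero (Finset.mem_univ i) hi
    simp [X, Fin.prod_univ_three] at h0
    rcases h0 with (h' | h') | h' <;> simp [h'] at h1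
  have hXY' : ∀ i, gs i 0 1 ≠ 0 := by
    have h1 := hval X Y
    simp [X, Y, hXY, symJ, Fin.prod_univ_three] at h1
    intro i hi
    have h0 : ∏ i, gs i (X i) (Y (π.symm i)) = 0 := Finset.prod_eq_zero (Finset.mem_univ i) hi
    simp [X, Y, Fin.prod_univ_three] at h0
    rcases h0 with (h' | h') | h' <;> simp [h'] at h1
  let Z : Fin 3 → Fin 2 := ![1, 0, 0]
  have hXZ : X ≠ Z := fun e' => by simpa [X, Z] using congrFun e' 0
  have h1 := hval X Z
  rw [if_neg hXZ, zero_add, Finset.prod_eq_zero (i := (1 : Fin 3)) (Finset.mem_univ _) (by simp [X, Z, symJ])] at h1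
  refine Finset.prod_ne_zero_iff.2 (fun i _ => ?_) h1.symm
  show gs i 0 (Z (π.symm i)) ≠ 0
  generalize Z (π.symm i) = z
  fin_cases z
  · exact hXX i
  · exact hXY' i

end CfsgLib.Geo.Asch
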