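/-
Dimension four over three elements: pairs of totally singular planes and quadratic fields of unitary type.
-/
import Cfsg.Agent.Lib.Geo.Asch.SpThree

set_option autoImplicit false

namespace CfsgLib.Geo.Asch

open Matrix Cfsg.Geo
open scoped Kronecker
open CfsgLib.Geo.Roots (isSymplecticForm_sympForm mem_spGL_iff)

variable {F : Type*} [Field F]

/-- A column of the coordinates of a matrix. -/
theorem coord_col {m : ℕ} {κ : Type} [Fintype κ] [DecidableEq κ] (e : (Fin m ⊕ Fin m) ≃ κ)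
    (P : GL (Fin m ⊕ Fin m) F) {X : Matrix (Fin m ⊕ Fin m) (Fin m ⊕ Fin m) F} {a : κ} {y : κ → F}
    (h : X *ᵥ ((P : Matrix (Fin m ⊕ Fin m) (Fin m ⊕ Fin m) F) *ᵥ (Pi.single a 1 ∘ e)) =
      (P : Matrix (Fin m ⊕ Fin m) (Fin m ⊕ Fin m) F) *ᵥ (y ∘ e)) (b : κ) : coord e P X b a = y b := by
  rw [mulVec_coord] at h
  have h' := congrArg (fun z => ((P⁻¹ : GL (Fin m ⊕ Fin m) F) : Matrix (Fin m ⊕ Fin m) (Fin m ⊕ Fin m) F) *ᵥ z) h
  simp only [Matrix.mulVec_mulVec, Units.inv_mul, Matrix.one_mulVec] at h'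
  have h'' := congrFun h' (e.symm b)
  simpa [Matrix.mulVec_single_one] using h''

/-- The bracket of two columns in the coordinates of `J ⊗ 1`. -/
theorem fix_entry {C : Matrix (Fin 2 × Fin 2) (Fin 2 × Fin 2) F}
    (h : Cᵀ * (symJ F ⊗ₖ (1 : Matrix (Fin 2) (Fin 2) F)) * C = symJ F ⊗ₖ 1) (p q : Fin 2 × Fin 2) :
    C (0, 0) p * C (1, 0) q + C (0, 1) p * C (1, 1) q - C (1, 0) p * C (0, 0) q - C (1, 1) p * C (0, 1) q =
      symJ F p.1 q.1 * (1 : Matrix (Fin 2) (Fin 2) F) p.2 q.2 := by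
  show _ = (symJ F ⊗ₖ (1 : Matrix (Fin 2) (Fin 2) F)) p q
  conv_rhs => rw [← h]
  simp [Matrix.mul_apply, Fintype.sum_prod_type, Fin.sum_univ_two, symJ]
  ring

/-- An element commuting with `1 ⊗ J` and preserving `J ⊗ 1` is a Kronecker product. -/
theorem kron_of_commute (h2 : (2 : F) ≠ 0) {C : Matrix (Fin 2 × Fin 2) (Fin 2 × Fin 2) F}
    (hc : C * ((1 : Matrix (Fin 2) (Fin 2) F) ⊗ₖ symJ F) = ((1 : Matrix (Fin 2) (Fin 2) F) ⊗ₖ symJ F) * C)
    (hfix : Cᵀ * (symJ F ⊗ₖ (1 : Matrix (Fin 2) (Fin 2) F)) * C = symJ F ⊗ₖ 1) :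
    ∃ a b : Matrix (Fin 2) (Fin 2) F, C = a ⊗ₖ b := by
  let A : Matrix (Fin 2) (Fin 2) F := Matrix.of fun i k => C (i, 0) (k, 0)
  let B : Matrix (Fin 2) (Fin 2) F := Matrix.of fun i k => C (i, 1) (k, 0)
  have h11 : ∀ i k, C (i, 1) (k, 1) = A i k := fun i k => by
    have h := congrFun (congrFun hc (i, 0)) (k, 1)
    simp [Matrix.mul_apply, Fintype.sum_prod_type, Fin.sum_univ_two, symJ, Matrix.one_apply] at h
    fin_cases i <;> fin_cases k <;> simp [A] at h ⊢ <;> exact h.symm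
  have h01 : ∀ i k, C (i, 0) (k, 1) = -B i k := fun i k => by
    have h := congrFun (congrFun hc (i, 0)) (k, 0)
    simp [Matrix.mul_apply, Fintype.sum_prod_type, Fin.sum_univ_two, symJ, Matrix.one_apply] at h
    fin_cases i <;> fin_cases k <;> simp [B] at h ⊢ <;> rw [← h] <;> simp
  have e1 := fix_entry hfix (0, 0) (1, 0)
  have e2 := fix_entry hfix (0, 0) (0, 1)
  have e3 := fix_entry hfix (1, 0) (1, 1)
  have e4 := fix_entry hfix (0, 0) (1, 1)
  simp only [h11, h01] at e2 e3 e4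
  simp [symJ] at e1 e2 e3 e4
  change A 0 0 * A 1 1 + B 0 0 * B 1 1 - A 1 0 * A 0 1 - B 1 0 * B 0 1 = 1 at e1
  have hA : A.det + B.det = 1 := by
    rw [Matrix.det_fin_two, Matrix.det_fin_two]
    linear_combination e1
  have f2 : B 1 0 * A 0 0 = B 0 0 * A 1 0 := by
    refine mul_left_cancel₀ h2 ?_
    change -(A 0 0 * B 1 0) + B 0 0 * A 1 0 + A 1 0 * B 0 0 - B 1 0 * A 0 0 = 0 at e2
    linear_combination -e2
  have f3 : B 1 1 * A 0 1 = B 0 1 * A 1 1 := by
    refine mul_left_cancel₀ h2 ?_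
    change -(A 0 1 * B 1 1) + B 0 1 * A 1 1 + A 1 1 * B 0 1 - B 1 1 * A 0 1 = 0 at e3
    linear_combination -e3
  have f4 : B 0 0 * A 1 1 + A 1 0 * B 0 1 = B 1 0 * A 0 1 + A 0 0 * B 1 1 := by
    change -(A 0 0 * B 1 1) + B 0 0 * A 1 1 + A 1 0 * B 0 1 - B 1 0 * A 0 1 = 0 at e4
    linear_combination e4
  by_cases hd : A.det = 0
  · rw [hd, zero_add] at hA
    rw [Matrix.det_fin_two] at hA
    have hAB : ∀ i k, A i k = (A 0 0 * B 1 1 - A 1 0 * B 0 1) * B i k := by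
      intro i k
      fin_cases i <;> fin_cases k <;> simp
      · linear_combination -A 0 0 * hA - B 0 1 * f2
      · linear_combination -A 0 1 * hA + B 0 0 * f3 + B 0 1 * f4
      · linear_combination -A 1 0 * hA - B 1 1 * f2
      · linear_combination -A 1 1 * hA + B 1 0 * f3 + B 1 1 * f4
    set s := A 0 0 * B 1 1 - A 1 0 * B 0 1
    refine ⟨B, !![s, -1; 1, s], Matrix.ext fun p q => ?_⟩
    obtain ⟨i, j⟩ := p
    obtain ⟨k, l⟩ := q
    rw [Matrix.kronecker_apply]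
    fin_cases j <;> fin_cases l <;> simp
    · exact (hAB i k).trans (mul_comm _ _)
    · exact h01 i k
    · rfl
    · exact (h11 i k).trans ((hAB i k).trans (mul_comm _ _))
  · have hd' := hd
    rw [Matrix.det_fin_two] at hd'
    set s := (B 0 0 * A 1 1 - B 1 0 * A 0 1) / (A 0 0 * A 1 1 - A 0 1 * A 1 0)
    have hs : s * (A 0 0 * A 1 1 - A 0 1 * A 1 0) = B 0 0 * A 1 1 - B 1 0 * A 0 1 := div_mul_cancel₀ _ hd'
    have b00 : B 0 0 = s * A 0 0 := mul_right_cancel₀ hd' (by linear_combination -A 0 0 * hs + A 0 1 * f2)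
    have b01 : B 0 1 = s * A 0 1 := mul_right_cancel₀ hd' (by linear_combination -A 0 1 * hs - A 0 1 * f4 - A 0 0 * f3)
    have b10 : B 1 0 = s * A 1 0 := mul_right_cancel₀ hd' (by linear_combination -A 1 0 * hs + A 1 1 * f2)
    have b11 : B 1 1 = s * A 1 1 := mul_right_cancel₀ hd' (by linear_combination -A 1 1 * hs - A 1 1 * f4 - A 1 0 * f3)
    have hBA : ∀ i k, B i k = s * A i k := by
      intro i k
      fin_cases i <;> fin_cases k <;> assumption
    refine ⟨A, !![1, -s; s, 1], Matrix.ext fun p q => ?_⟩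
    obtain ⟨i, j⟩ := p
    obtain ⟨k, l⟩ := q
    rw [Matrix.kronecker_apply]
    fin_cases j <;> fin_cases l <;> simp
    · rfl
    · rw [h01, hBA]; ring
    · exact (hBA i k).trans (mul_comm _ _)
    · exact h11 i k

variable [Fintype F]

/-- Over three elements the normaliser of a unitary structure in dimension four is not maximal. -/
theorem unitary_three_not_maximal (h3 : Fintype.card F = 3) {Z : Matrix (Fin 2 ⊕ Fin 2) (Fin 2 ⊕ Fin 2) F}
    (hZ : Z * Z = -1)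
    (hZf : ∀ u v, Cfsg.sympForm 2 F (Z *ᵥ u) (Z *ᵥ v) = Cfsg.sympForm 2 F u v)
    {H : Subgroup (GL (Fin 2 ⊕ Fin 2) F)} (hH : IsMaximalIn (Cfsg.spGL 2 F) H)
    (hsign : ∀ h ∈ H, (h : Matrix (Fin 2 ⊕ Fin 2) (Fin 2 ⊕ Fin 2) F) * Z = Z * h ∨
      (h : Matrix (Fin 2 ⊕ Fin 2) (Fin 2 ⊕ Fin 2) F) * Z = -(Z * h)) : False := by
  classical
  have h2 := two_ne_zero_three h3
  have hf := isSymplecticForm_sympForm (m := 2) (F := F)
  have hb := hf.bilinear
  set f := Cfsg.sympForm 2 F with hfdef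
  have hZZ : ∀ u, Z *ᵥ (Z *ᵥ u) = (-1 : F) • u := fun u => by
    rw [Matrix.mulVec_mulVec, hZ, Matrix.neg_mulVec, Matrix.one_mulVec, neg_one_smul]
  have hsym : ∀ u v, f u (Z *ᵥ v) = f v (Z *ᵥ u) := fun u v => by
    rw [← hZf u (Z *ᵥ v), hZZ, hb.smul_right, hf.skew (Z *ᵥ u) v]; ring
  have hanti : ∀ u v, f (Z *ᵥ u) v = -f u (Z *ᵥ v) := fun u v => by
    rw [hf.skew, hsym v u]
  -- an isotropic vector
  obtain ⟨v₁, hv₁, hv₁i⟩ : ∃ v, v ≠ 0 ∧ f v (Z *ᵥ v) = 0 := by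
    by_contra! hcon
    set w₁ : Fin 2 ⊕ Fin 2 → F := Pi.single (Sum.inl 0) 1
    have hw₁ : w₁ ≠ 0 := sp_single_ne_zero _
    let L : (Fin 2 ⊕ Fin 2 → F) →ₗ[F] F × F :=
      { toFun := fun x => (f w₁ (Z *ᵥ x), f (Z *ᵥ w₁) (Z *ᵥ x))
        map_add' := fun a c => by simp [Matrix.mulVec_add, hb.add_right]
        map_smul' := fun r a => by simp [Matrix.mulVec_smul, hb.smul_right] }
    have hker : LinearMap.ker L ≠ ⊥ := fun e => by
      have h1 := LinearMap.finrank_le_finrank_of_injective (LinearMap.ker_eq_bot.1 e)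
      rw [Module.finrank_prod, Module.finrank_self, Module.finrank_pi, Fintype.card_sum, Fintype.card_fin] at h1
      omega
    obtain ⟨w₂, hw₂, hw₂0⟩ := Submodule.exists_mem_ne_zero_of_ne_bot hker
    have h12 : f w₁ (Z *ᵥ w₂) = 0 := congrArg Prod.fst (LinearMap.mem_ker.1 hw₂)
    have hz12 : f (Z *ᵥ w₁) (Z *ᵥ w₂) = 0 := congrArg Prod.snd (LinearMap.mem_ker.1 hw₂)
    have h11 : f w₁ (Z *ᵥ (Z *ᵥ w₁)) = 0 := by rw [hZZ, hb.smul_right, hf.alternating, mul_zero]
    have hzz : f (Z *ᵥ w₁) (Z *ᵥ (Z *ᵥ w₁)) = f w₁ (Z *ᵥ w₁) := hZf _ _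
    have ha := hcon w₁ hw₁
    have hb' := hcon w₂ hw₂0
    rcases three_cases h3 (f w₂ (Z *ᵥ w₂) * f w₁ (Z *ᵥ w₁)) with h | h | h
    · exact mul_ne_zero hb' ha h
    · have heq : f w₂ (Z *ᵥ w₂) = f w₁ (Z *ᵥ w₁) := by
        linear_combination f w₁ (Z *ᵥ w₁) * h - f w₂ (Z *ᵥ w₂) * sq_eq_one_three h3 ha
      refine hcon (w₁ + Z *ᵥ w₁ + w₂) (fun e => ?_) ?_
      · have h5 : f (w₁ + Z *ᵥ w₁ + w₂) (Z *ᵥ w₁) = 0 := by
          rw [e]; simpa using hb.smul_left 0 0 (Z *ᵥ w₁)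
        exact absurd h5 (by
          rw [hb.add_left, hb.add_left, hf.alternating, hsym w₂ w₁, h12, add_zero, add_zero]; exact ha)
      · simp only [Matrix.mulVec_add, hb.add_left, hb.add_right, h12, hz12, h11, hzz, hsym w₂ w₁, hsym w₂ (Z *ᵥ w₁),
          hsym (Z *ᵥ w₁) w₁]
        rw [heq]
        linear_combination f w₁ (Z *ᵥ w₁) * three_eq_zero h3
    · have heq : f w₂ (Z *ᵥ w₂) = -f w₁ (Z *ᵥ w₁) := by
        linear_combination f w₁ (Z *ᵥ w₁) * h - f w₂ (Z *ᵥ w₂) * sq_eq_one_three h3 ha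
      refine hcon (w₁ + w₂) (fun e => ha ?_) ?_
      · rw [eq_neg_of_add_eq_zero_right e, Matrix.mulVec_neg, ← neg_one_smul F (Z *ᵥ w₁), hb.smul_right] at h12
        linear_combination -h12
      · simp only [Matrix.mulVec_add, hb.add_left, hb.add_right, h12, hsym w₂ w₁]
        rw [heq]; ring
  -- the frame
  let L : (Fin 2 ⊕ Fin 2 → F) →ₗ[F] F × F :=
    { toFun := fun x => (f v₁ x, f (Z *ᵥ v₁) x)
      map_add' := fun a c => by simp [hb.add_right]
      map_smul' := fun r a => by simp [hb.smul_right] }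
  obtain ⟨w, hw⟩ : ∃ w, L w = (1, 0) := by
    obtain ⟨x, hx⟩ := (hf.nondegenerate v₁ hv₁).2
    set r := f v₁ x
    set s := f (Z *ᵥ v₁) x
    have hz : f v₁ (Z *ᵥ x) = -s := by rw [← neg_neg (f v₁ (Z *ᵥ x)), ← hanti]
    have hz' : f (Z *ᵥ v₁) (Z *ᵥ x) = r := hZf _ _
    have hnorm : r * r + s * s ≠ 0 := by
      rcases eq_or_ne s 0 with h | h
      · rw [h, mul_zero, add_zero]; exact mul_ne_zero hx hx
      · rw [sq_eq_one_three h3 hx, sq_eq_one_three h3 h]
        intro e; exact h2 (by linear_combination e)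
    refine ⟨((r * r + s * s)⁻¹ * r) • x + ((r * r + s * s)⁻¹ * -s) • (Z *ᵥ x), ?_⟩
    apply Prod.ext
    · show f v₁ _ = 1
      rw [hb.add_right, hb.smul_right, hb.smul_right, hz]
      calc _ = (r * r + s * s)⁻¹ * (r * r + s * s) := by ring
        _ = 1 := inv_mul_cancel₀ hnorm
    · show f (Z *ᵥ v₁) _ = 0
      rw [hb.add_right, hb.smul_right, hb.smul_right, hz']
      ring
  have hw1 : f v₁ w = 1 := congrArg Prod.fst hw
  have hw0 : f (Z *ᵥ v₁) w = 0 := congrArg Prod.snd hw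
  set v₂ := w + (-(f w (Z *ᵥ w) / 2)) • (Z *ᵥ v₁) with hv₂
  have g12 : f v₁ v₂ = 1 := by rw [hv₂, hb.add_right, hb.smul_right, hv₁i, hw1]; ring
  have gz2 : f (Z *ᵥ v₁) v₂ = 0 := by rw [hv₂, hb.add_right, hb.smul_right, hf.alternating, hw0]; ring
  have g1z2 : f v₁ (Z *ᵥ v₂) = 0 := by rw [← neg_neg (f v₁ (Z *ᵥ v₂)), ← hanti, gz2, neg_zero]
  have g22 : f v₂ (Z *ᵥ v₂) = 0 := by
    have e : Z *ᵥ v₂ = Z *ᵥ w + (f w (Z *ᵥ w) / 2) • v₁ := by
      rw [hv₂, Matrix.mulVec_add, Matrix.mulVec_smul, hZZ, smul_smul]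
      congr 1
      ring_nf
    rw [e, hv₂]
    simp only [hb.add_left, hb.smul_left, hb.add_right, hb.smul_right, hf.skew (Z *ᵥ v₁) v₁, hv₁i,
      hZf v₁ w, hw1, hf.skew w v₁]
    field_simp
    ring
  let v : Fin 2 × Fin 2 → Fin 2 ⊕ Fin 2 → F := fun p => ![![v₁, Z *ᵥ v₁], ![v₂, Z *ᵥ v₂]] p.1 p.2
  obtain ⟨e, P, hG, hP⟩ := exists_spFrame (m := 2) (by simp) (G := symJ F ⊗ₖ (1 : Matrix (Fin 2) (Fin 2) F))
    (⟨⟨symJ F ⊗ₖ 1, (-symJ F) ⊗ₖ 1, by rw [← Matrix.mul_kronecker_mul, mul_one, mul_neg, symJ_sq, neg_one_smul,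
      neg_neg, Matrix.one_kronecker_one], by rw [← Matrix.mul_kronecker_mul, mul_one, neg_mul, symJ_sq, neg_one_smul,
      neg_neg, Matrix.one_kronecker_one]⟩, rfl⟩) v (by
    rintro ⟨i, j⟩ ⟨k, l⟩
    fin_cases i <;> fin_cases j <;> fin_cases k <;> fin_cases l <;>
      simp [v, symJ, ← hfdef, hf.alternating, hv₁i, g12, gz2, g1z2, g22, hZf, hf.skew v₂ v₁, hf.skew (Z *ᵥ v₁) v₁,
        hf.skew v₂ (Z *ᵥ v₁), hf.skew (Z *ᵥ v₂) v₁, hf.skew (Z *ᵥ v₂) v₂, hf.skew (Z *ᵥ v₂) (Z *ᵥ v₁)])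
  set W := (1 : Matrix (Fin 2) (Fin 2) F) ⊗ₖ symJ F with hW
  have hCZ : coord e P Z = -W := by
    have c1 : ∀ i j, Z *ᵥ v (i, j) = (if j = 0 then (1 : F) else -1) • v (i, if j = 0 then 1 else 0) := by
      intro i j
      fin_cases i <;> fin_cases j <;> simp [v, hZZ]
    ext p ⟨i, j⟩
    rw [coord_col e P (y := (if j = 0 then (1 : F) else -1) • Pi.single (i, if j = 0 then 1 else 0) 1) (by
      rw [hP, c1, ← hP]
      rw [show ((if j = 0 then (1 : F) else -1) • Pi.single (i, if j = 0 then (1 : Fin 2) else 0) (1 : F)) ∘ e =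
        (if j = 0 then (1 : F) else -1) • (Pi.single (i, if j = 0 then (1 : Fin 2) else 0) (1 : F) ∘ e) from rfl,
        Matrix.mulVec_smul]) p]
    obtain ⟨k, l⟩ := p
    fin_cases i <;> fin_cases j <;> fin_cases k <;> fin_cases l <;> simp [W, symJ, Pi.single_apply]
  let ψ : GL (Fin 2) F × GL (Fin 2) F →* GL (Fin 2 ⊕ Fin 2) F := (glOfCoord e P).comp
    { toFun := fun p => ⟨(p.1 : Matrix (Fin 2) (Fin 2) F) ⊗ₖ (p.2 : Matrix (Fin 2) (Fin 2) F),
          ((p.1⁻¹ : GL (Fin 2) F) : Matrix (Fin 2) (Fin 2) F) ⊗ₖ ((p.2⁻¹ : GL (Fin 2) F) : Matrix (Fin 2) (Fin 2) F),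
          by rw [← Matrix.mul_kronecker_mul, Units.mul_inv, Units.mul_inv, Matrix.one_kronecker_one],
          by rw [← Matrix.mul_kronecker_mul, Units.inv_mul, Units.inv_mul, Matrix.one_kronecker_one]⟩
      map_one' := Units.ext Matrix.one_kronecker_one
      map_mul' := fun p q => Units.ext (Matrix.mul_kronecker_mul _ _ _ _) }
  have hψ : ∀ p, coord e P (ψ p : Matrix (Fin 2 ⊕ Fin 2) (Fin 2 ⊕ Fin 2) F) =
      (p.1 : Matrix (Fin 2) (Fin 2) F) ⊗ₖ (p.2 : Matrix (Fin 2) (Fin 2) F) := fun p => coord_glOfCoord e P _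
  set R := ((quatThree h3).prod (orthTwo F)).map ψ
  have hRS : R ≤ Cfsg.spGL 2 F := by
    rintro _ ⟨⟨q, d⟩, ⟨hq, hd⟩, rfl⟩
    refine mem_spGL_of_coord e P ?_
    rw [hψ, hG, ← Matrix.kroneckerMap_transpose, ← Matrix.mul_kronecker_mul, ← Matrix.mul_kronecker_mul,
      transpose_mul_symJ, show (q : Matrix (Fin 2) (Fin 2) F).det = 1 from hq.1, one_smul, Matrix.mul_one,
      show (d : Matrix (Fin 2) (Fin 2) F)ᵀ * d = 1 from hd]
  have hR : IsPGroup 2 R := by
    rintro ⟨_, ⟨q, d⟩, ⟨hq, hd⟩, rfl⟩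
    refine ⟨2, Subtype.ext ?_⟩
    show (ψ (q, d)) ^ 2 ^ 2 = 1
    rw [← map_pow, show (q, d) ^ 2 ^ 2 = 1 from
      Prod.ext (quatThree_pow_four h3 hq) (orthTwo_pow_four h3 hd), map_one]
  have hmem : ∀ q d, q ∈ quatThree h3 → d ∈ orthTwo F → ψ (q, d) ∈ R := fun q d hq hd => ⟨_, ⟨hq, hd⟩, rfl⟩
  -- the normaliser of the structure normalises `R`
  have hnorm : ∀ g ∈ H, ∀ r ∈ R, g * r * g⁻¹ ∈ R := by
    rintro g hg _ ⟨⟨q, d⟩, ⟨hq, hd⟩, rfl⟩
    set C := coord e P (g : Matrix (Fin 2 ⊕ Fin 2) (Fin 2 ⊕ Fin 2) F) with hC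
    have hfix : Cᵀ * (symJ F ⊗ₖ (1 : Matrix (Fin 2) (Fin 2) F)) * C = symJ F ⊗ₖ 1 :=
      hG ▸ spGram_fix e P (hH.1.le hg)
    obtain ⟨a, b, hab⟩ : ∃ a b : Matrix (Fin 2) (Fin 2) F, C = a ⊗ₖ b := by
      rcases hsign g hg with h | h
      · have h' := congrArg (coord e P) h
        rw [coord_mul, coord_mul, hCZ, mul_neg, neg_mul, neg_inj] at h'
        exact kron_of_commute h2 h' hfix
      · have h' := congrArg (coord e P) h
        rw [← neg_one_smul F (Z * _), coord_smul, coord_mul, coord_mul, hCZ, mul_neg, neg_mul, smul_neg,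
          neg_one_smul, neg_inj] at h'
        set E := (1 : Matrix (Fin 2) (Fin 2) F) ⊗ₖ (reflTwo F : Matrix (Fin 2) (Fin 2) F) with hE
        have hEW : E * W = -(W * E) := by
          ext ⟨i, j⟩ ⟨k, l⟩
          fin_cases i <;> fin_cases j <;> fin_cases k <;> fin_cases l <;>
            simp [hE, W, reflTwo, symJ, Matrix.mul_apply, Fintype.sum_prod_type, Fin.sum_univ_two]
        have hEE : E * E = 1 := by
          rw [hE, ← Matrix.mul_kronecker_mul, mul_one, show (reflTwo F : Matrix (Fin 2) (Fin 2) F) * reflTwo F = 1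
            from (reflTwo F).val_inv, Matrix.one_kronecker_one]
        have hEfix : Eᵀ * (symJ F ⊗ₖ (1 : Matrix (Fin 2) (Fin 2) F)) * E = symJ F ⊗ₖ 1 := by
          rw [hE, ← Matrix.kroneckerMap_transpose, ← Matrix.mul_kronecker_mul, ← Matrix.mul_kronecker_mul,
            Matrix.transpose_one, one_mul, mul_one, mul_one,
            show (reflTwo F : Matrix (Fin 2) (Fin 2) F)ᵀ * reflTwo F = 1 from reflTwo_mem]
        obtain ⟨a, b, hab⟩ := kron_of_commute h2 (C := C * E)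
          (by rw [mul_assoc, hEW, mul_neg, ← mul_assoc, h', neg_mul, neg_neg, mul_assoc])
          (by
            rw [Matrix.transpose_mul, show Eᵀ * Cᵀ * (symJ F ⊗ₖ (1 : Matrix (Fin 2) (Fin 2) F)) * (C * E) =
              Eᵀ * (Cᵀ * (symJ F ⊗ₖ (1 : Matrix (Fin 2) (Fin 2) F)) * C) * E by simp only [Matrix.mul_assoc],
              hfix, hEfix])
        refine ⟨a, b * (reflTwo F : Matrix (Fin 2) (Fin 2) F), ?_⟩
        have e1 : C = C * E * E := by rw [mul_assoc, hEE, mul_one]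
        rw [e1, hab, hE, ← Matrix.mul_kronecker_mul, mul_one]
    have hb1 := kron_symJ_fix (γ := (1 : F)) one_ne_zero (a := a) (b := b) (X := 1)
      (by rw [one_smul, ← hab]; exact hfix)
    rw [Matrix.mul_one] at hb1
    have hda : a.det ≠ 0 := fun e0 => by rw [e0, zero_smul] at hb1; exact zero_ne_one hb1
    have hdb : b.det ≠ 0 := fun e0 => by
      have h5 := congrArg Matrix.det hb1
      rw [Matrix.det_smul, Matrix.det_mul, e0, mul_zero, mul_zero, Matrix.det_one] at h5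
      exact zero_ne_one h5
    set au := Matrix.GeneralLinearGroup.mkOfDetNeZero a hda
    set bu := Matrix.GeneralLinearGroup.mkOfDetNeZero b hdb
    have hgψ : g = ψ (au, bu) := Units.ext (coord_injective e P (by rw [hψ]; exact hab))
    rw [hgψ, ← map_inv, ← map_mul, ← map_mul]
    refine hmem _ _ (quatThree_conj h3 au hq) (orthTwo_conj (c := a.det⁻¹) ?_ hd)
    show bᵀ * b = a.det⁻¹ • 1
    conv_rhs => rw [← hb1, smul_smul, inv_mul_cancel₀ hda, one_smul]
  have hHR : H ≤ subgroupNormalizer R := fun g hg => Subgroup.mem_normalizer_iff.2 fun r =>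
    ⟨hnorm g hg r, fun hr => by simpa [mul_assoc] using hnorm g⁻¹ (H.inv_mem hg) _ hr⟩
  set x := ψ (quatI F, reflTwo F) with hx
  set y := ψ (quatI F, 1) with hy
  have hxR : x ∈ R := hmem _ _ (quatI_mem h3) reflTwo_mem
  have hyR : y ∈ R := hmem _ _ (quatI_mem h3) (one_mem _)
  have sq : ∀ d : GL (Fin 2) F, d * d = 1 →
      (ψ (quatI F, d) : Matrix (Fin 2 ⊕ Fin 2) (Fin 2 ⊕ Fin 2) F) * ψ (quatI F, d) = -1 := fun d hd => by
    apply coord_injective e P
    rw [coord_mul, hψ, ← Matrix.mul_kronecker_mul, show (quatI F : Matrix (Fin 2) (Fin 2) F) = symJ F from rfl, symJ_sq,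
      ← Units.val_mul, hd, Units.val_one, Matrix.smul_kronecker, Matrix.one_kronecker_one,
      ← neg_one_smul F (1 : Matrix (Fin 2 ⊕ Fin 2) (Fin 2 ⊕ Fin 2) F), coord_smul, coord_one]
  have hxx := sq (reflTwo F) (Units.ext (reflTwo F).val_inv)
  have hyy := sq 1 (one_mul 1)
  have hsgn : ∀ d : GL (Fin 2) F, (∀ d' ∈ orthTwo F, (d : Matrix (Fin 2) (Fin 2) F) * (d' : GL (Fin 2) F) = (d' : Matrix (Fin 2) (Fin 2) F) * d ∨
      (d : Matrix (Fin 2) (Fin 2) F) * (d' : GL (Fin 2) F) = -((d' : Matrix (Fin 2) (Fin 2) F) * (d : GL (Fin 2) F))) →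
      ∀ r ∈ R, (ψ (quatI F, d) : Matrix (Fin 2 ⊕ Fin 2) (Fin 2 ⊕ Fin 2) F) * r = r * ψ (quatI F, d) ∨
        (ψ (quatI F, d) : Matrix (Fin 2 ⊕ Fin 2) (Fin 2 ⊕ Fin 2) F) * r =
          -((r : Matrix (Fin 2 ⊕ Fin 2) (Fin 2 ⊕ Fin 2) F) * ψ (quatI F, d)) := by
    rintro d hd _ ⟨⟨q, d'⟩, ⟨hq, hd'⟩, rfl⟩
    have hco : ∀ a b : GL (Fin 2) F × GL (Fin 2) F, coord e P ((ψ a : Matrix (Fin 2 ⊕ Fin 2) (Fin 2 ⊕ Fin 2) F) * ψ b) =
        ((a.1 : Matrix (Fin 2) (Fin 2) F) * (b.1 : Matrix (Fin 2) (Fin 2) F)) ⊗ₖ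
          ((a.2 : Matrix (Fin 2) (Fin 2) F) * (b.2 : Matrix (Fin 2) (Fin 2) F)) := fun a b => by
      rw [coord_mul, hψ, hψ, ← Matrix.mul_kronecker_mul]
    have hneg : ∀ M : Matrix (Fin 2 ⊕ Fin 2) (Fin 2 ⊕ Fin 2) F, coord e P (-M) = -coord e P M := fun M => by
      rw [← neg_one_smul F M, coord_smul, neg_one_smul]
    have hnl : ∀ A B : Matrix (Fin 2) (Fin 2) F, (-A) ⊗ₖ B = -(A ⊗ₖ B) := fun A B => by ext; simp
    have hnr : ∀ A B : Matrix (Fin 2) (Fin 2) F, A ⊗ₖ (-B) = -(A ⊗ₖ B) := fun A B => by ext; simp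
    rcases quatThree_comm h3 (quatI_mem h3) hq with hc | hc <;> rcases hd d' hd' with hc' | hc'
    · left; apply coord_injective e P; rw [hco, hco, hc, hc']
    · right; apply coord_injective e P; rw [hneg, hco, hco, hc, hc', hnr]
    · right; apply coord_injective e P; rw [hneg, hco, hco, hc, hc', hnl]
    · left; apply coord_injective e P; rw [hco, hco, hc, hc', hnl, hnr, neg_neg]
  obtain ⟨u, hu⟩ := exists_one_add h2 hxx
  obtain ⟨w', hw'⟩ := exists_one_add h2 hyy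
  have huN := one_add_mem_normalizer hxR hxx hu (hsgn (reflTwo F) fun d' hd' => reflTwo_comm h3 hd')
  have hwN := one_add_mem_normalizer hyR hyy hw' (hsgn 1 fun d' _ => Or.inl (by simp))
  obtain ⟨j, hj, hij⟩ := exists_quatJ h3
  have hna : ∃ a ∈ R, ∃ b ∈ R, a * b ≠ b * a := by
    refine ⟨y, hyR, _, hmem j 1 hj (one_mem _), fun he => hij (Units.ext ?_)⟩
    have h1 := congrArg (fun g : GL (Fin 2 ⊕ Fin 2) F => coord e P (g : Matrix (Fin 2 ⊕ Fin 2) (Fin 2 ⊕ Fin 2) F)) he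
    simp only [hy, Units.val_mul, coord_mul, hψ, ← Matrix.mul_kronecker_mul, Units.val_one, Matrix.mul_one] at h1
    exact kron_one_injective (k := 2) two_pos h1
  have hmemH := not_maximal_of_two_group le_rfl h2 hH hR hna hRS hHR (Subgroup.mul_mem _ huN hwN)
    (one_add_mul_mem_spGL (three_eq_zero h3) (hRS hxR) (hRS hyR) hxx hyy hu hw')
  -- but it moves the structure
  have hcu : coord e P (u : Matrix (Fin 2 ⊕ Fin 2) (Fin 2 ⊕ Fin 2) F) =
      1 + symJ F ⊗ₖ (reflTwo F : Matrix (Fin 2) (Fin 2) F) := by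
    rw [hu, show (1 : Matrix (Fin 2 ⊕ Fin 2) (Fin 2 ⊕ Fin 2) F) + (x : Matrix (Fin 2 ⊕ Fin 2) (Fin 2 ⊕ Fin 2) F) =
      1 + (x : Matrix (Fin 2 ⊕ Fin 2) (Fin 2 ⊕ Fin 2) F) from rfl, coord, Matrix.mul_add, Matrix.add_mul, Matrix.mul_one,
      Units.inv_mul, Matrix.submatrix_add, Pi.add_apply, Pi.add_apply, Matrix.submatrix_one_equiv]
    exact congrArg _ (hψ _)
  have hcw : coord e P (w' : Matrix (Fin 2 ⊕ Fin 2) (Fin 2 ⊕ Fin 2) F) = 1 + symJ F ⊗ₖ 1 := by
    rw [hw', coord, Matrix.mul_add, Matrix.add_mul, Matrix.mul_one,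
      Units.inv_mul, Matrix.submatrix_add, Pi.add_apply, Pi.add_apply, Matrix.submatrix_one_equiv]
    refine congrArg _ ((hψ _).trans ?_)
    rw [Units.val_one]
    rfl
  rcases hsign _ hmemH with h | h
  · have h' := congrArg (coord e P) h
    rw [coord_mul, coord_mul, Units.val_mul, coord_mul, hcu, hcw, hCZ] at h'
    have e00 := congrFun (congrFun h' (0, 0)) (0, 1)
    have e10 := congrFun (congrFun h' (0, 0)) (1, 1)
    simp [W, symJ, reflTwo, Matrix.mul_apply, Fintype.sum_prod_type, Fin.sum_univ_two, Matrix.add_apply,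
      Matrix.one_apply] at e00 e10
    exact h2 (by linear_combination e00)
  · have h' := congrArg (coord e P) h
    rw [← neg_one_smul F (Z * _), coord_smul, coord_mul, coord_mul, Units.val_mul, coord_mul, hcu, hcw, hCZ] at h'
    have e00 := congrFun (congrFun h' (0, 0)) (0, 1)
    have e10 := congrFun (congrFun h' (0, 0)) (1, 1)
    simp [W, symJ, reflTwo, Matrix.mul_apply, Fintype.sum_prod_type, Fin.sum_univ_two, Matrix.add_apply,
      Matrix.one_apply] at e00 e10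
    exact h2 (by linear_combination -e00)

/-- Over three elements the normaliser of a quadratic field of unitary type is not maximal. -/
theorem unitary_field_three (h3 : Fintype.card F = 3) {K : Subalgebra F (Matrix (Fin 2 ⊕ Fin 2) (Fin 2 ⊕ Fin 2) F)}
    (hK : IsFieldSubalgebra 2 K) (ha : IsAdjointClosedFor (Cfsg.sympForm 2 F) K)
    (hns : ¬ IsSelfAdjointFor (Cfsg.sympForm 2 F) K) {H : Subgroup (GL (Fin 2 ⊕ Fin 2) F)}
    (hH : IsMaximalIn (Cfsg.spGL 2 F) H) (hle : H ≤ subalgebraNormalizer K) : False := by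
  classical
  have h2 := two_ne_zero_three h3
  have hb := (isSymplecticForm_sympForm (m := 2) (F := F)).bilinear
  have hcl : ∀ k ∈ K, adjS k ∈ K := fun k hk => by
    obtain ⟨k', hk', h⟩ := ha k hk
    rwa [adjS_unique h]
  have hzd : ∀ x ∈ K, ∀ y ∈ K, x * y = 0 → x = 0 ∨ y = 0 := fun x hx y hy hxy => by
    by_contra! hcon
    obtain ⟨z, hz, hxz⟩ := hK.inv x hx hcon.1
    apply hcon.2
    calc y = z * x * y := by rw [hK.comm z hz x hx, hxz, one_mul]
      _ = 0 := by rw [mul_assoc, hxy, mul_zero]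
  obtain ⟨k, hk, hkne⟩ : ∃ k ∈ K, adjS k ≠ k := by
    by_contra! h
    exact hns (isSelfAdjointFor_iff.2 h)
  set Z := k + (-1 : F) • adjS k with hZdef
  have hZK : Z ∈ K := K.add_mem hk (K.smul_mem (hcl k hk) _)
  have hZ0 : Z ≠ 0 := fun e => hkne (by
    rw [hZdef, neg_one_smul, add_neg_eq_zero] at e
    exact e.symm)
  have hZa : adjS Z = -Z := by
    rw [hZdef, adjS_add, adjS_smul, adjS_adjS, neg_one_smul, neg_one_smul]
    abel
  clear_value Z
  have hneg : -Z ≠ Z := fun e => hZ0 (by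
    have h1 : (2 : F) • Z = 0 := by rw [two_smul]; nth_rw 1 [← e]; exact neg_add_cancel Z
    exact (smul_eq_zero.1 h1).resolve_left h2)
  have hli : LinearIndependent F ![(⟨1, K.one_mem⟩ : K), ⟨Z, hZK⟩] := by
    rw [LinearIndependent.pair_iff]
    intro a b hab
    have h1 : a • (1 : Matrix (Fin 2 ⊕ Fin 2) (Fin 2 ⊕ Fin 2) F) + b • Z = 0 := congrArg Subtype.val hab
    have h1' : a • (1 : Matrix (Fin 2 ⊕ Fin 2) (Fin 2 ⊕ Fin 2) F) = -(b • Z) := eq_neg_of_add_eq_zero_left h1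
    have h4 := congrArg adjS h1'
    rw [← neg_smul, adjS_smul, adjS_smul, adjS_one, hZa, neg_smul_neg, h1'] at h4
    have hb0 : b = 0 := by
      by_contra hb
      refine hneg (smul_right_injective (Matrix (Fin 2 ⊕ Fin 2) (Fin 2 ⊕ Fin 2) F) hb ?_)
      show b • -Z = b • Z
      rw [smul_neg]
      exact h4
    rw [hb0, zero_smul, neg_zero] at h1'
    exact ⟨(smul_eq_zero.1 h1').resolve_right one_ne_zero, hb0⟩
  have hsp := hli.span_eq_top_of_card_eq_finrank (by rw [hK.finrank_eq, Fintype.card_fin])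
  rw [Matrix.range_cons, Matrix.range_cons, Matrix.range_empty, Set.union_empty, Set.singleton_union] at hsp
  obtain ⟨c, b, hcb⟩ := Submodule.mem_span_pair.1
    (show (⟨Z * Z, K.mul_mem hZK hZK⟩ : K) ∈ Submodule.span F {⟨1, K.one_mem⟩, ⟨Z, hZK⟩} by
      rw [hsp]; exact Submodule.mem_top)
  have hZZ : c • (1 : Matrix (Fin 2 ⊕ Fin 2) (Fin 2 ⊕ Fin 2) F) + b • Z = Z * Z := congrArg Subtype.val hcb
  have hb0 : b = 0 := by
    by_contra hb
    have h4 := congrArg adjS hZZ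
    rw [adjS_add, adjS_smul, adjS_smul, adjS_one, adjS_mul, hZa, neg_mul_neg, ← hZZ] at h4
    exact hneg (smul_right_injective (Matrix (Fin 2 ⊕ Fin 2) (Fin 2 ⊕ Fin 2) F) hb (add_left_cancel h4))
  rw [hb0, zero_smul, add_zero] at hZZ
  have hc : c = -1 := by
    rcases three_cases h3 c with rfl | rfl | rfl
    · rw [zero_smul] at hZZ
      rcases hzd Z hZK Z hZK hZZ.symm with e | e <;> exact absurd e hZ0
    · rw [one_smul] at hZZ
      have h4 : (Z + -1) * (Z + 1) = 0 := by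
        rw [mul_add, add_mul, add_mul, mul_one, mul_one, neg_mul, one_mul, ← hZZ]
        abel
      rcases hzd _ (K.add_mem hZK (K.neg_mem K.one_mem)) _ (K.add_mem hZK K.one_mem) h4 with e | e
      · rw [add_neg_eq_zero] at e
        refine absurd ?_ hneg
        rw [← hZa, e, adjS_one]
      · rw [eq_neg_of_add_eq_zero_left e] at hZa hneg
        rw [← neg_one_smul F (1 : Matrix (Fin 2 ⊕ Fin 2) (Fin 2 ⊕ Fin 2) F), adjS_smul, adjS_one] at hZa
        exact absurd hZa.symm (by rw [neg_one_smul]; exact hneg)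
    · rfl
  rw [hc, neg_one_smul] at hZZ
  refine unitary_three_not_maximal h3 hZZ.symm (fun u v => ?_) hH fun h hh => ?_
  · rw [sympForm_adjS, hZa, Matrix.mulVec_mulVec, neg_mul, ← hZZ, neg_neg, Matrix.one_mulVec]
  have hZ'K : (h : Matrix (Fin 2 ⊕ Fin 2) (Fin 2 ⊕ Fin 2) F) * Z *
      ((h⁻¹ : GL (Fin 2 ⊕ Fin 2) F) : Matrix (Fin 2 ⊕ Fin 2) (Fin 2 ⊕ Fin 2) F) ∈ K := (hle hh Z).1 hZK
  set Z' := (h : Matrix (Fin 2 ⊕ Fin 2) (Fin 2 ⊕ Fin 2) F) * Z *
      ((h⁻¹ : GL (Fin 2 ⊕ Fin 2) F) : Matrix (Fin 2 ⊕ Fin 2) (Fin 2 ⊕ Fin 2) F) with hZ'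
  have hsq : Z' * Z' = Z * Z := by
    calc Z' * Z' = (h : Matrix (Fin 2 ⊕ Fin 2) (Fin 2 ⊕ Fin 2) F) * (Z * Z) *
          ((h⁻¹ : GL (Fin 2 ⊕ Fin 2) F) : Matrix (Fin 2 ⊕ Fin 2) (Fin 2 ⊕ Fin 2) F) := by
            simp [hZ', mul_assoc]
      _ = _ := by rw [← hZZ, mul_neg, mul_one, neg_mul, Units.mul_inv]
  have h4 : (Z' - Z) * (Z' + Z) = 0 := by
    rw [mul_add, sub_mul, sub_mul, hsq, hK.comm _ hZ'K _ hZK]
    abel
  rcases hzd _ (K.sub_mem hZ'K hZK) _ (K.add_mem hZ'K hZK) h4 with e | e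
  · left
    exact (Units.mul_inv_eq_iff_eq_mul h).1 (sub_eq_zero.1 e)
  · right
    rw [← neg_mul]
    exact (Units.mul_inv_eq_iff_eq_mul h).1 (eq_neg_of_add_eq_zero_left e)

omit [Fintype F] in
/-- Inverse-transpose pairs of planes meet the alternating form up to a scalar. -/
theorem pair_mul_symJ {A B : Matrix (Fin 2) (Fin 2) F} {c : F} (h : Aᵀ * B = c • 1) :
    c • (A * symJ F) = A.det • (symJ F * B) := by
  have h1 : A * symJ F * Aᵀ = A.det • symJ F := by
    have := transpose_mul_symJ Aᵀ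
    rwa [Matrix.transpose_transpose, Matrix.det_transpose] at this
  calc c • (A * symJ F) = A * symJ F * (Aᵀ * B) := by rw [h, Matrix.mul_smul, Matrix.mul_one]
    _ = A.det • (symJ F * B) := by rw [← Matrix.mul_assoc, h1, Matrix.smul_mul]

/-- Over three elements the stabiliser of a pair of totally singular planes stabilises two orthogonal planes. -/
theorem ts_pair_three (h3 : Fintype.card F = 3) {D : Fin 2 → Submodule F (Fin 2 ⊕ Fin 2 → F)}
    (hD : IsMDecomposition 2 D) (hts : ∀ i, IsTotallySingularFor (Cfsg.sympForm 2 F) (D i))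
    {H : Subgroup (GL (Fin 2 ⊕ Fin 2) F)} (hH : IsMaximalIn (Cfsg.spGL 2 F) H) (hle : H ≤ decompositionStabilizer D) :
    ∃ E : Fin 2 → Submodule F (Fin 2 ⊕ Fin 2 → F), IsNondegenerateMDecomposition (Cfsg.sympForm 2 F) 2 E ∧
      H = decompositionStabilizer E ⊓ Cfsg.spGL 2 F := by
  classical
  have h2 := two_ne_zero_three h3
  have hf := isSymplecticForm_sympForm (m := 2) (F := F)
  have hb := hf.bilinear
  set f := Cfsg.sympForm 2 F with hfdef
  set S := symJ F with hS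
  -- a frame adapted to the planes
  let u := Module.finBasisOfFinrankEq F (D 0) (hD.finrank_eq 0)
  let L : D 1 →ₗ[F] (Fin 2 → F) :=
    { toFun := fun x i => f (u i : Fin 2 ⊕ Fin 2 → F) x
      map_add' := fun a c => by funext i; simp [hb.add_right]
      map_smul' := fun r a => by funext i; simp [hb.smul_right] }
  have hsup : D 0 ⊔ D 1 = ⊤ := by
    rw [← hD.iSup_eq_top]
    refine le_antisymm (sup_le (le_iSup D 0) (le_iSup D 1)) (iSup_le fun i => ?_)
    fin_cases i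
    · exact le_sup_left
    · exact le_sup_right
  have hLinj : Function.Injective L := by
    rw [← LinearMap.ker_eq_bot, LinearMap.ker_eq_bot']
    intro x hx
    by_contra hx0
    obtain ⟨⟨z, hz⟩, -⟩ := hf.nondegenerate (x : Fin 2 ⊕ Fin 2 → F) (fun e => hx0 (Subtype.ext e))
    refine hz ?_
    obtain ⟨a, haD, c, hc, rfl⟩ := Submodule.mem_sup.1 (show z ∈ D 0 ⊔ D 1 from hsup ▸ Submodule.mem_top)
    rw [hb.add_left, hts 1 c hc x x.2, add_zero]
    have hx' : ∀ i, f (u i : Fin 2 ⊕ Fin 2 → F) x = 0 := fun i => congrFun hx i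
    have ha2 := congrArg Subtype.val (u.sum_repr ⟨a, haD⟩)
    simp only [Fin.sum_univ_two, Submodule.coe_add, Submodule.coe_smul] at ha2
    rw [← ha2, hb.add_left, hb.smul_left, hb.smul_left, hx', hx']
    ring
  have hLsurj : Function.Surjective L :=
    (LinearMap.injective_iff_surjective_of_finrank_eq_finrank (by
      rw [hD.finrank_eq, Module.finrank_pi, Fintype.card_fin])).1 hLinj
  choose w hw using fun j : Fin 2 => hLsurj (Pi.single j 1)
  have huw : ∀ i j, f (u i : Fin 2 ⊕ Fin 2 → F) (w j) = (Pi.single j 1 : Fin 2 → F) i := fun i j => congrFun (hw j) i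
  let v : Fin 2 × Fin 2 → Fin 2 ⊕ Fin 2 → F := fun p => ![(u p.2 : Fin 2 ⊕ Fin 2 → F), (w p.2 : Fin 2 ⊕ Fin 2 → F)] p.1
  have hvD : ∀ i j, v (i, j) ∈ D i := fun i j => by
    fin_cases i
    · exact (u j).2
    · exact (w j).2
  have hwu : ∀ i j, f (w j : Fin 2 ⊕ Fin 2 → F) (u i) = -(Pi.single j 1 : Fin 2 → F) i := fun i j => by
    rw [hf.skew, huw]
  obtain ⟨e, P, hG, hP⟩ := exists_spFrame (m := 2) (by simp) (G := S ⊗ₖ (1 : Matrix (Fin 2) (Fin 2) F))
    (⟨⟨S ⊗ₖ 1, (-S) ⊗ₖ 1, by rw [← Matrix.mul_kronecker_mul, mul_one, mul_neg, hS, symJ_sq, neg_one_smul,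
      neg_neg, Matrix.one_kronecker_one], by rw [← Matrix.mul_kronecker_mul, mul_one, neg_mul, hS, symJ_sq,
      neg_one_smul, neg_neg, Matrix.one_kronecker_one]⟩, rfl⟩) v (by
    rintro ⟨i, j⟩ ⟨k, l⟩
    fin_cases i <;> fin_cases k
    · show f (u j : Fin 2 ⊕ Fin 2 → F) (u l) = _
      rw [hts 0 _ (u j).2 _ (u l).2]
      simp [hS, symJ]
    · show f (u j : Fin 2 ⊕ Fin 2 → F) (w l) = _
      rw [huw]
      simp [hS, symJ, Pi.single_apply, Matrix.one_apply]
    · show f (w j : Fin 2 ⊕ Fin 2 → F) (u l) = _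
      rw [hwu]
      simp [hS, symJ, Pi.single_apply, Matrix.one_apply, eq_comm]
      split_ifs <;> simp
    · show f (w j : Fin 2 ⊕ Fin 2 → F) (w l) = _
      rw [hts 1 _ (w j).2 _ (w l).2]
      simp [hS, symJ])
  set W := S ⊗ₖ S with hW
  have hWW : W * W = 1 := by
    rw [hW, ← Matrix.mul_kronecker_mul, hS, symJ_sq, Matrix.smul_kronecker, Matrix.kronecker_smul, smul_smul,
      neg_one_mul, neg_neg, one_smul, Matrix.one_kronecker_one]
  let z := glOfCoord e P (⟨W, W, hWW, hWW⟩ : GL (Fin 2 × Fin 2) F)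
  set Z := (z : Matrix (Fin 2 ⊕ Fin 2) (Fin 2 ⊕ Fin 2) F) with hZdef
  have hCZ : coord e P Z = W := coord_glOfCoord e P _
  have hdS : S.det = 1 := by simp [hS, symJ, Matrix.det_fin_two]
  have hzS : z ∈ Cfsg.spGL 2 F := by
    refine mem_spGL_of_coord e P ?_
    rw [← hZdef, hCZ, hG, hW, ← Matrix.kroneckerMap_transpose, ← Matrix.mul_kronecker_mul,
      ← Matrix.mul_kronecker_mul, Matrix.mul_one]
    have h5 : Sᵀ * S * S = S := by rw [hS, transpose_mul_symJ, ← hS, hdS, one_smul]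
    have h6 : Sᵀ * S = 1 := by ext i j; fin_cases i <;> fin_cases j <;> simp [hS, symJ, Matrix.mul_apply, Fin.sum_univ_two]
    rw [h5, h6]
  have hZZ : ∀ x, Z *ᵥ (Z *ᵥ x) = x := fun x => by
    rw [Matrix.mulVec_mulVec, coord_injective e P (show coord e P (Z * Z) = coord e P 1 by
      rw [coord_mul, hCZ, hWW, coord_one]), Matrix.one_mulVec]
  have hZf : ∀ x y, f (Z *ᵥ x) (Z *ᵥ y) = f x y := mem_spGL_iff.1 hzS
  -- elements of `H` commute with `Z` up to sign
  have hsign : ∀ h ∈ H, ∃ δ : F, (δ = 1 ∨ δ = -1) ∧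
      (h : Matrix (Fin 2 ⊕ Fin 2) (Fin 2 ⊕ Fin 2) F) * Z = δ • (Z * h) := by
    intro h hh
    obtain ⟨σ, hσ⟩ := hle hh
    set C := coord e P (h : Matrix (Fin 2 ⊕ Fin 2) (Fin 2 ⊕ Fin 2) F) with hC
    have hzero : ∀ i a k b, i ≠ σ k → C (i, a) (k, b) = 0 := by
      intro i a k b hik
      have hmem : (h : Matrix (Fin 2 ⊕ Fin 2) (Fin 2 ⊕ Fin 2) F) *ᵥ v (k, b) ∈
          Submodule.span F (Set.range fun j => v (σ k, j)) := by
        have hspan : ∀ i, Submodule.span F (Set.range fun j => v (i, j)) = D i := by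
          intro i
          refine Submodule.eq_of_le_of_finrank_le ?_ ?_
          · rw [Submodule.span_le]
            rintro _ ⟨j, rfl⟩
            exact hvD i j
          · have h7 := (Pi.basisFun F (Fin 2 ⊕ Fin 2)).linearIndependent.map'
              (Matrix.toLin' (P : Matrix (Fin 2 ⊕ Fin 2) (Fin 2 ⊕ Fin 2) F))
              (LinearMap.ker_eq_bot.2 (Matrix.mulVec_injective_of_isUnit P.isUnit))
            have heq : v = (Matrix.toLin' (P : Matrix (Fin 2 ⊕ Fin 2) (Fin 2 ⊕ Fin 2) F) ∘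
                Pi.basisFun F (Fin 2 ⊕ Fin 2)) ∘ e.symm := by
              funext a
              rw [Function.comp_apply, Function.comp_apply, Pi.basisFun_apply, Matrix.toLin'_apply, ← hP]
              congr 1
              funext x
              simp [Pi.single_apply, Equiv.eq_symm_apply]
            have hli : LinearIndependent F v := heq ▸ h7.comp e.symm e.symm.injective
            have hli' : LinearIndependent F (fun j => v (i, j)) :=
              hli.comp (fun j => (i, j)) fun a b hab => (Prod.ext_iff.1 hab).2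
            rw [hD.finrank_eq, finrank_span_eq_card hli', Fintype.card_fin]
        rw [hspan, ← hσ k]
        exact Submodule.mem_map_of_mem (f := Matrix.toLin' (h : Matrix (Fin 2 ⊕ Fin 2) (Fin 2 ⊕ Fin 2) F)) (hvD k b)
      obtain ⟨t, ht⟩ := (Submodule.mem_span_range_iff_exists_fun F).1 hmem
      rw [hC, coord_col e P (y := ∑ j, t j • Pi.single (σ k, j) (1 : F)) (by
        rw [hP, ← ht]
        simp only [Fin.sum_univ_two, ← hP, ← Matrix.mulVec_smul, ← Matrix.mulVec_add]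
        rfl) (i, a)]
      simp [Fin.sum_univ_two, Prod.ext_iff, hik]
    have hfix : Cᵀ * (S ⊗ₖ (1 : Matrix (Fin 2) (Fin 2) F)) * C = S ⊗ₖ 1 := hG ▸ spGram_fix e P (hH.1.le hh)
    let blk : Fin 2 → Fin 2 → Matrix (Fin 2) (Fin 2) F := fun i k => Matrix.of fun a b => C (i, a) (k, b)
    have hblk : ∀ i k, i ≠ σ k → blk i k = 0 := fun i k hik => by ext a b; exact hzero i a k b hik
    set A := blk (σ 0) 0
    set B := blk (σ 1) 1
    obtain ⟨c, hc, hAB⟩ : ∃ c : F, ((c = 1 ∧ σ 0 = 0 ∧ σ 1 = 1) ∨ (c = -1 ∧ σ 0 = 1 ∧ σ 1 = 0)) ∧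
        Aᵀ * B = c • 1 := by
      rcases (show ∀ τ : Equiv.Perm (Fin 2), (τ 0 = 0 ∧ τ 1 = 1) ∨ (τ 0 = 1 ∧ τ 1 = 0) by decide) σ with
        ⟨s0, s1⟩ | ⟨s0, s1⟩
      · refine ⟨1, Or.inl ⟨rfl, s0, s1⟩, Matrix.ext fun a b => ?_⟩
        have h8 := fix_entry hfix (0, a) (1, b)
        rw [hzero 1 _ 0 _ (by rw [s0]; decide), hzero 1 _ 0 _ (by rw [s0]; decide)] at h8
        simp [hS, symJ] at h8
        simp [A, B, blk, s0, s1, Matrix.mul_apply, Fin.sum_univ_two, h8]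
      · refine ⟨-1, Or.inr ⟨rfl, s0, s1⟩, Matrix.ext fun a b => ?_⟩
        have h8 := fix_entry hfix (0, a) (1, b)
        rw [hzero 0 _ 0 _ (by rw [s0]; decide), hzero 0 _ 0 _ (by rw [s0]; decide)] at h8
        simp [hS, symJ] at h8
        simp [A, B, blk, s0, s1, Matrix.mul_apply, Fin.sum_univ_two]
        linear_combination -h8
    have hBA : Bᵀ * A = c • 1 := by
      have := congrArg Matrix.transpose hAB
      rwa [Matrix.transpose_mul, Matrix.transpose_transpose, Matrix.transpose_smul, Matrix.transpose_one] at this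
    have hcc : c * c = 1 := by rcases hc with ⟨rfl, -⟩ | ⟨rfl, -⟩ <;> ring
    have hdd : A.det * B.det = 1 := by
      have := congrArg Matrix.det hAB
      rwa [Matrix.det_mul, Matrix.det_transpose, Matrix.det_smul, Matrix.det_one, mul_one, Fintype.card_fin,
        pow_two, hcc] at this
    have hd : A.det = 1 ∨ A.det = -1 :=
      (three_cases h3 A.det).resolve_left fun e0 => by rw [e0, zero_mul] at hdd; exact zero_ne_one hdd
    have hdB : B.det = A.det := by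
      rcases hd with e0 | e0 <;> rw [e0] at hdd ⊢
      · rwa [one_mul] at hdd
      · linear_combination -hdd
    refine ⟨A.det, hd, ?_⟩
    have hAS : A * S = (c * A.det) • (S * B) := by
      have := congrArg (fun M => c • M) (pair_mul_symJ hAB)
      simpa only [smul_smul, hcc, one_smul, ← hS] using this
    have hBS : B * S = (c * A.det) • (S * A) := by
      have := congrArg (fun M => c • M) (pair_mul_symJ hBA)
      simpa only [smul_smul, hcc, one_smul, ← hS, hdB] using this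
    apply coord_injective e P
    rw [coord_mul, coord_smul, coord_mul, hCZ, ← hC]
    have hl : ∀ i k a b, (C * W) (i, a) (k, b) = ∑ j, S j k * (blk i j * S) a b := fun i k a b => by
      simp [hW, blk, Matrix.mul_apply, Fintype.sum_prod_type, Fin.sum_univ_two]
      ring
    have hr : ∀ i k a b, (W * C) (i, a) (k, b) = ∑ j, S i j * (S * blk j k) a b := fun i k a b => by
      simp [hW, blk, Matrix.mul_apply, Fintype.sum_prod_type, Fin.sum_univ_two]
      ring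
    ext ⟨i, a⟩ ⟨k, b⟩
    generalize A.det = δ at hAS hBS ⊢
    rw [Matrix.smul_apply, hl, hr, smul_eq_mul, Fin.sum_univ_two, Fin.sum_univ_two]
    have s00 : S 0 0 = 0 := by simp [hS, symJ]
    have s01 : S 0 1 = 1 := by simp [hS, symJ]
    have s10 : S 1 0 = -1 := by simp [hS, symJ]
    have s11 : S 1 1 = 0 := by simp [hS, symJ]
    rcases hc with ⟨rfl, s0, s1⟩ | ⟨rfl, s0, s1⟩
    · rw [show A = blk 0 0 by simp only [A, s0], show B = blk 1 1 by simp only [B, s1]] at hAS hBS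
      have z01 : blk 1 0 = 0 := hblk _ _ (by rw [s0]; decide)
      have z10 : blk 0 1 = 0 := hblk _ _ (by rw [s1]; decide)
      fin_cases i <;> fin_cases k <;> simp [z01, z10, s00, s01, s10, s11, hAS, hBS, Matrix.smul_apply]
    · rw [show A = blk 1 0 by simp only [A, s0], show B = blk 0 1 by simp only [B, s1]] at hAS hBS
      have z00 : blk 0 0 = 0 := hblk _ _ (by rw [s0]; decide)
      have z11 : blk 1 1 = 0 := hblk _ _ (by rw [s1]; decide)
      fin_cases i <;> fin_cases k <;> simp [z00, z11, s00, s01, s10, s11, hAS, hBS, Matrix.smul_apply]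
  -- the eigenspaces
  let Ev : F → Submodule F (Fin 2 ⊕ Fin 2 → F) := fun s =>
    LinearMap.ker (Matrix.toLin' Z - s • LinearMap.id)
  have hEv : ∀ s x, x ∈ Ev s ↔ Z *ᵥ x = s • x := fun s x => by
    simp [Ev, LinearMap.mem_ker, sub_eq_zero]
  have horth : ∀ a ∈ Ev 1, ∀ c ∈ Ev (-1), f a c = 0 := by
    intro a haE c hcE
    rw [hEv, one_smul] at haE
    rw [hEv] at hcE
    have h9 := hZf a c
    rw [haE, hcE, hb.smul_right] at h9
    exact (mul_eq_zero.1 (show (2 : F) * f a c = 0 by linear_combination -h9)).resolve_left h2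
  have hsplit : ∀ x : Fin 2 ⊕ Fin 2 → F, ∃ a ∈ Ev 1, ∃ c ∈ Ev (-1), a + c = x := fun x => by
    refine ⟨(2 : F)⁻¹ • (x + Z *ᵥ x), ?_, (2 : F)⁻¹ • (x + (-1 : F) • (Z *ᵥ x)), ?_, ?_⟩
    · rw [hEv, Matrix.mulVec_smul, Matrix.mulVec_add, hZZ, one_smul, add_comm]
    · rw [hEv, Matrix.mulVec_smul, Matrix.mulVec_add, Matrix.mulVec_smul, hZZ]
      simp only [smul_add, smul_smul]
      rw [add_comm]
      congr 1 <;> ring_nf
    · have e9 : x + Z *ᵥ x + (x + (-1 : F) • (Z *ᵥ x)) = (2 : F) • x := by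
        rw [neg_one_smul, two_smul]; abel
      rw [← smul_add, e9, smul_smul, inv_mul_cancel₀ h2, one_smul]
  let E : Fin 2 → Submodule F (Fin 2 ⊕ Fin 2 → F) := fun i => Ev (![1, -1] i)
  have hEsup : E 0 ⊔ E 1 = ⊤ := eq_top_iff.2 fun x _ => by
    obtain ⟨a, haE, c, hcE, rfl⟩ := hsplit x
    exact Submodule.add_mem_sup haE hcE
  have hdis : Disjoint (E 0) (E 1) := by
    rw [Submodule.disjoint_def]
    intro x hx1 hx2
    change x ∈ Ev 1 at hx1
    change x ∈ Ev (-1) at hx2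
    rw [hEv] at hx1 hx2
    rw [hx1, one_smul, neg_one_smul] at hx2
    have h9 : (2 : F) • x = 0 := by rw [two_smul]; nth_rw 1 [hx2]; exact neg_add_cancel x
    exact (smul_eq_zero.1 h9).resolve_left h2
  have hnd : ∀ i, IsNondegenerateOn f (E i) := by
    intro i x hx hx0
    suffices h9 : ∃ y ∈ E i, f y x ≠ 0 by
      obtain ⟨y, hy, hyx⟩ := h9
      exact ⟨⟨y, hy, hyx⟩, y, hy, fun e0 => hyx (by rw [hf.skew, e0, neg_zero])⟩
    obtain ⟨⟨y, hy⟩, -⟩ := hf.nondegenerate x hx0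
    obtain ⟨a, haE, c, hcE, rfl⟩ := hsplit y
    rw [hb.add_left] at hy
    fin_cases i
    · exact ⟨a, haE, by rwa [hf.skew c x, horth x hx c hcE, neg_zero, add_zero] at hy⟩
    · exact ⟨c, hcE, by rwa [horth a haE x hx, zero_add] at hy⟩
  have hne : ∀ s : F, (s = 1 ∨ s = -1) → Ev (-s) ≠ ⊥ := by
    intro s hs e0
    have hall : ∀ x, Z *ᵥ x = s • x := fun x => by
      obtain ⟨a, haE, c, hcE, rfl⟩ := hsplit x
      rcases hs with rfl | rfl
      · rw [e0, Submodule.mem_bot] at hcE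
        rw [hcE, add_zero]
        exact (hEv 1 a).1 haE
      · rw [neg_neg] at e0
        rw [e0, Submodule.mem_bot] at haE
        rw [haE, zero_add]
        exact (hEv (-1) c).1 hcE
    have hZs : Z = s • 1 := Matrix.toLin'.injective (LinearMap.ext fun x => by
      rw [Matrix.toLin'_apply, hall, Matrix.toLin'_apply, Matrix.smul_mulVec, Matrix.one_mulVec])
    rw [hZs, coord_smul, coord_one] at hCZ
    have h9 := congrFun (congrFun hCZ (0, 0)) (1, 1)
    simp [hW, hS, symJ, Matrix.one_apply] at h9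
  have hrank : ∀ i, Module.finrank F (E i) = 2 := by
    have h10 := Submodule.finrank_sup_add_finrank_inf_eq (E 0) (E 1)
    rw [hEsup, hdis.eq_bot, finrank_top, finrank_bot, Module.finrank_pi, Fintype.card_sum, Fintype.card_fin] at h10
    have p0 : 1 ≤ Module.finrank F (E 0) :=
      Submodule.one_le_finrank_iff.2 (by simpa [E] using hne (-1) (Or.inr rfl))
    have p1 : 1 ≤ Module.finrank F (E 1) :=
      Submodule.one_le_finrank_iff.2 (by simpa [E] using hne 1 (Or.inl rfl))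
    obtain ⟨j0, q0⟩ := even_finrank_of_nondegenerateOn (hnd 0)
    obtain ⟨j1, q1⟩ := even_finrank_of_nondegenerateOn (hnd 1)
    intro i
    fin_cases i
    · show Module.finrank F (E 0) = 2
      omega
    · show Module.finrank F (E 1) = 2
      omega
  have hE : IsNondegenerateMDecomposition f 2 E := by
    refine ⟨⟨le_rfl, two_pos, hrank, ?_, ?_⟩, hnd, ?_⟩
    · exact (iSupIndep_pair (show (0 : Fin 2) ≠ 1 by decide) (fun i => by fin_cases i <;> simp)).2 hdis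
    · rw [eq_top_iff, ← hEsup]
      exact sup_le (le_iSup E 0) (le_iSup E 1)
    · intro i j hij x hx y hy
      fin_cases i <;> fin_cases j
      · exact absurd rfl hij
      · exact horth x hx y hy
      · rw [hf.skew, horth y hy x hx, neg_zero]
      · exact absurd rfl hij
  refine ⟨E, hE, eq_of_maximal_le hH (fun h hh => ?_) (not_spGL_le_decompositionStabilizer hE.decomp le_rfl)⟩
  obtain ⟨δ, hδ, hhZ⟩ := hsign h hh
  have hmap : ∀ s : F, ∀ x ∈ Ev s, (h : Matrix (Fin 2 ⊕ Fin 2) (Fin 2 ⊕ Fin 2) F) *ᵥ x ∈ Ev (δ * s) := by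
    intro s x hx
    rw [hEv] at hx ⊢
    have h11 : (Z * h) = δ • ((h : Matrix (Fin 2 ⊕ Fin 2) (Fin 2 ⊕ Fin 2) F) * Z) := by
      rw [hhZ, smul_smul]
      rcases hδ with rfl | rfl <;> simp
    rw [Matrix.mulVec_mulVec, h11, Matrix.smul_mulVec, ← Matrix.mulVec_mulVec, hx, Matrix.mulVec_smul, smul_smul]
  have hinj : Function.Injective (Matrix.toLin' (h : Matrix (Fin 2 ⊕ Fin 2) (Fin 2 ⊕ Fin 2) F)) :=
    Matrix.mulVec_injective_of_isUnit h.isUnit
  refine ⟨if δ = 1 then 1 else Equiv.swap 0 1, fun i => Submodule.eq_of_le_of_finrank_eq ?_ ?_⟩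
  · rintro _ ⟨x, hx, rfl⟩
    have h12 := hmap _ x hx
    rw [Matrix.toLin'_apply]
    convert h12 using 2
    rcases hδ with rfl | rfl
    · simp [E]
    · rw [if_neg (fun e0 => h2 (by linear_combination -e0))]
      fin_cases i <;> simp [E]
  · rw [← LinearEquiv.finrank_eq (Submodule.equivMapOfInjective _ hinj (E i)), hrank, hrank]

end CfsgLib.Geo.Asch
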