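/-
Small cases of the maximal subgroup theorem for the symplectic groups.
-/
import Cfsg.Agent.Lib.Geo.Asch.SpMax
import Cfsg.Agent.Lib.Geo.SympTensorThree

set_option autoImplicit false

namespace CfsgLib.Geo.Asch

open Matrix Cfsg.Geo

variable {F : Type*} [Field F] [Fintype F] {m : ℕ}

/-- Over two elements a maximal stabiliser of a decomposition into planes is an orthogonal group. -/
theorem quad_of_planes_maximal (hm : 2 ≤ m) (hF : Fintype.card F = 2) {H : Subgroup (GL (Fin m ⊕ Fin m) F)}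
    (hH : IsMaximalIn (Cfsg.spGL m F) H) {t : ℕ} {D : Fin t → Submodule F (Fin m ⊕ Fin m → F)}
    (hD : IsNondegenerateMDecomposition (Cfsg.sympForm m F) 2 D)
    (hle : H = decompositionStabilizer D ⊓ Cfsg.spGL m F) :
    ∃ Q : (Fin m ⊕ Fin m → F) → F, ¬ Odd (Fintype.card F) ∧ IsNondegenerateQuadraticForm Q ∧
      (∀ u v, QuadraticMap.polar Q u v = Cfsg.sympForm m F u v) ∧ H = quadSimilarityGroup Q ⊓ Cfsg.spGL m F := by
  obtain ⟨Q, hQ, hpol, hHQ⟩ := quad_of_planes hF hD hH.1.le (hle.le.trans inf_le_left)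
  exact ⟨Q, by rw [hF]; decide, hQ, hpol, eq_of_maximal_le hH hHQ (not_spGL_le_quadSimilarityGroup hm hQ hpol)⟩

/-- Over three elements a tensor product with a three-dimensional symmetric factor is not maximal. -/
theorem not_maximal_tensor_three (hq : Fintype.card F = 3) {n₁ : ℕ} (hn₁ : 2 ≤ n₁)
    {e : (Fin m ⊕ Fin m) ≃ Fin n₁ × Fin 3} {P : GL (Fin m ⊕ Fin m) F}
    {f₁ : (Fin n₁ → F) → (Fin n₁ → F) → F} {f₂ : (Fin 3 → F) → (Fin 3 → F) → F}
    (hf₁ : IsSymplecticForm f₁) (hf₂ : IsSymmetricForm f₂)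
    (hT : IsTensorFormStructure id (Cfsg.sympForm m F) f₁ f₂ e P) {H : Subgroup (GL (Fin m ⊕ Fin m) F)}
    (hH : IsMaximalIn (Cfsg.spGL m F) H) : H ≠ tensorProductSubgroup n₁ 3 e P ⊓ Cfsg.spGL m F := by
  intro he
  obtain ⟨K, hK₁, hK₂⟩ := CfsgLib.Geo.symp_tensor_three_not_maximal hq hn₁ e P f₁ f₂ hf₁ hf₂ hT
  rw [← he] at hK₁
  rcases hH.2 K hK₁.le hK₂.le with h | h
  · exact hK₁.ne' h
  · exact hK₂.ne h

theorem five_le_of_odd (ho : Odd (Fintype.card F)) (h3 : Fintype.card F ≠ 3) : 5 ≤ Fintype.card F := by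
  have := Fintype.one_lt_card (α := F)
  obtain ⟨j, hj⟩ := ho
  omega

theorem three_le_or_two : 3 ≤ Fintype.card F ∨ Fintype.card F = 2 := by
  have := Fintype.one_lt_card (α := F)
  omega

end CfsgLib.Geo.Asch
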