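/-
The small field of order four: planes split into lines, tensor products with a two-dimensional factor into halves.
-/
import Cfsg.Agent.Lib.Geo.Asch.UnitMax

set_option autoImplicit false

namespace CfsgLib.Geo.Asch

open Matrix Cfsg.Geo
open scoped Kronecker

variable {F : Type*} [Field F] [Fintype F] {σ : F ≃+* F} {n : ℕ}

theorem eq_inf_of_maximal {q : ℕ} {H M : Subgroup (GL (Fin n) F)} (hH : IsMaximalIn (SUg n F q) H) (hle : H ≤ M)
    (hnot : ¬ SUg n F q ≤ M) : H = M ⊓ SUg n F q :=
  ((hH.2 _ (le_inf hle hH.1.le) inf_le_right).resolve_right fun e => hnot (inf_eq_right.1 e)).symm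

/-- The lines of an orthogonal basis. -/
theorem isNondegenerateMDecomposition_lines {q : ℕ} (hq : IsQPow σ q) (hn : 2 ≤ n) {b : Fin n → Fin n → F}
    (horth : ∀ i j, i ≠ j → Cfsg.hermForm n F q (b i) (b j) = 0) (hnorm : ∀ i, Cfsg.hermForm n F q (b i) (b i) ≠ 0) :
    IsNondegenerateMDecomposition (Cfsg.hermForm n F q) 1 (fun i => Submodule.span F {b i}) := by
  classical
  have hs := isSesqForm_of_unitary (isUnitaryForm_hermForm (n := n) hq)
  have hb0 : ∀ i, b i ≠ 0 := fun i e => hnorm i (by rw [e, hs.map_zero_left])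
  have hli : LinearIndependent F b := by
    rw [Fintype.linearIndependent_iff]
    intro g hg i
    have h1 : Cfsg.hermForm n F q (∑ j, g j • b j) (b i) = g i * Cfsg.hermForm n F q (b i) (b i) := by
      rw [apply_sum_left hs, Finset.sum_eq_single i (fun j _ hj => by rw [hs.smul_left, horth j i hj, mul_zero])
        (by simp), hs.smul_left]
    rw [hg, hs.map_zero_left] at h1
    exact (mul_eq_zero.1 h1.symm).resolve_right (hnorm i)
  have horth' : ∀ i j, i ≠ j → ∀ u ∈ Submodule.span F {b i}, ∀ v ∈ Submodule.span F {b j},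
      Cfsg.hermForm n F q u v = 0 := by
    intro i j hij u hu v hv
    obtain ⟨c, rfl⟩ := Submodule.mem_span_singleton.1 hu
    obtain ⟨d, rfl⟩ := Submodule.mem_span_singleton.1 hv
    rw [hs.smul_left, hs.smul_right, horth i j hij, mul_zero, mul_zero]
  refine ⟨⟨hn, Nat.one_pos, fun i => finrank_span_singleton (hb0 i), hli.iSupIndep_span_singleton, ?_⟩,
    fun i w hw hw0 => ?_, horth'⟩
  · rw [← Submodule.span_range_eq_iSup]
    exact hli.span_eq_top_of_card_eq_finrank' (by rw [Module.finrank_pi])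
  · obtain ⟨c, rfl⟩ := Submodule.mem_span_singleton.1 hw
    have hc : c ≠ 0 := fun e => hw0 (by rw [e, zero_smul])
    exact ⟨⟨b i, Submodule.mem_span_singleton_self _, by
        rw [hs.smul_right]; exact mul_ne_zero (by simpa using hc) (hnorm i)⟩,
      ⟨b i, Submodule.mem_span_singleton_self _, by rw [hs.smul_left]; exact mul_ne_zero hc (hnorm i)⟩⟩

theorem norm_eq_zero_or_one (hq : IsQPow σ 2) (hF : Fintype.card F = 2 ^ 2) (a : F) :
    (a = 0 ∧ a * σ a = 0) ∨ (a ≠ 0 ∧ a * σ a = 1) := by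
  by_cases ha : a = 0
  · exact Or.inl ⟨ha, by rw [ha, zero_mul]⟩
  · exact Or.inr ⟨ha, sq_conj_one hq hF ha⟩

theorem two_eq_zero (hF : Fintype.card F = 2 ^ 2) : (2 : F) = 0 := by
  obtain ⟨ω, -, -, -, -, h3, -⟩ := exists_omega hF
  linear_combination h3

/-- Over F₄ a decomposition into non-degenerate planes refines to one into lines. -/
theorem planes_to_lines (hF : Fintype.card F = 2 ^ 2) {t : ℕ} (hn : t * 2 = n)
    {D : Fin t → Submodule F (Fin n → F)} (hD : IsNondegenerateMDecomposition (Cfsg.hermForm n F 2) 2 D) :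
    ∃ E : Fin n → Submodule F (Fin n → F), IsNondegenerateMDecomposition (Cfsg.hermForm n F 2) 1 E ∧
      ∀ H : Subgroup (GL (Fin n) F), H ≤ Cfsg.GU n F 2 → H ≤ decompositionStabilizer D →
        H ≤ decompositionStabilizer E := by
  classical
  obtain ⟨σ, hq⟩ := exists_isQPow (q := 2) hF
  have h2 := two_eq_zero hF
  have hf := isUnitaryForm_hermForm (n := n) hq
  have hs := isSesqForm_of_unitary hf
  set f := Cfsg.hermForm n F 2 with hfdef
  have hne01 : ∀ a : F, a * σ a = 0 → a = 0 := fun a h => by simpa using h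
  have hfix : ∀ x, f x x * σ (f x x) = f x x * f x x := fun x => by rw [← hf.herm x x]
  have hnorm : ∀ x, f x x ≠ 0 → f x x = 1 := fun x hx => by
    have h1 := sq_conj_one hq hF hx
    have h3 : f x x * f x x = 1 := (hfix x).symm.trans h1
    exact (mul_self_eq_one_iff.1 h3).elim id fun h => h.trans (by linear_combination -h2)
  have hplane : ∀ i, ∃ v w : Fin n → F, v ∈ D i ∧ w ∈ D i ∧ f v v = 1 ∧ f w w = 1 ∧ f v w = 0 ∧
      (∀ x ∈ D i, ∃ a b : F, x = a • v + b • w) ∧
      ∀ x ∈ D i, f x x ≠ 0 → x ∈ Submodule.span F {v} ∨ x ∈ Submodule.span F {w} := by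
    intro i
    obtain ⟨v, hv, hvv⟩ : ∃ v ∈ D i, f v v ≠ 0 := by
      by_contra! hall
      obtain ⟨u, hu, hu0⟩ := Submodule.exists_mem_ne_zero_of_ne_bot (p := D i) (fun e => by
        have := hD.decomp.finrank_eq i
        rw [e, finrank_bot] at this
        omega)
      obtain ⟨-, x, hx, hux⟩ := hD.nondegenerate i u hu hu0
      obtain ⟨ω, hω⟩ := hq.moved
      have key : ∀ c : F, c * f u x + σ (c * f u x) = 0 := fun c => by
        have h1 := hall _ ((D i).add_mem ((D i).smul_mem c hu) hx)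
        simp only [hs.add_left, hs.add_right, hs.smul_left, hs.smul_right, hall u hu, hall x hx, mul_zero, zero_add,
          add_zero] at h1
        rw [map_mul, ← hf.herm x u]
        linear_combination h1
      have k1 := key 1
      have k2 := key ω
      rw [one_mul] at k1
      rw [map_mul] at k2
      exact hω (mul_right_cancel₀ (show σ (f u x) ≠ 0 by simpa using hux)
        (by linear_combination k2 - ω * k1))
    have hv1 := hnorm v hvv
    obtain ⟨z, hz, hzv⟩ : ∃ z ∈ D i, z ∉ Submodule.span F {v} := by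
      by_contra! hall
      have := Submodule.finrank_mono (show D i ≤ Submodule.span F {v} from hall)
      rw [hD.decomp.finrank_eq, finrank_span_singleton (fun e => hvv (by rw [e, hs.map_zero_left]))] at this
      omega
    set w := z + (f z v) • v with hw
    have hwi : w ∈ D i := (D i).add_mem hz ((D i).smul_mem _ hv)
    have hwv : f w v = 0 := by
      rw [hw, hs.add_left, hs.smul_left, hv1]
      linear_combination f z v * h2
    have hvw : f v w = 0 := by rw [hf.herm, hwv, map_zero]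
    have hw0 : w ≠ 0 := fun e => hzv (Submodule.mem_span_singleton.2 ⟨-f z v, by
      rw [neg_smul]; exact (eq_neg_of_add_eq_zero_left e).symm⟩)
    have hspan : ∀ x ∈ D i, ∃ a b : F, x = a • v + b • w := by
      have hli : LinearIndependent F ![v, w] := by
        rw [LinearIndependent.pair_iff]
        intro a b e
        have ha : a = 0 := by
          have h1 := congrArg (fun y => f y v) e
          simpa [hs.add_left, hs.smul_left, hv1, hwv, hs.map_zero_left] using h1
        rw [ha, zero_smul, zero_add, smul_eq_zero] at e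
        exact ⟨ha, e.resolve_right hw0⟩
      have hle : Submodule.span F (Set.range ![v, w]) ≤ D i := by
        rw [Submodule.span_le]
        rintro _ ⟨k, rfl⟩
        fin_cases k <;> assumption
      have heq := Submodule.eq_of_le_of_finrank_eq hle (by
        rw [finrank_span_eq_card hli, hD.decomp.finrank_eq, Fintype.card_fin])
      intro x hx
      rw [← heq, show Set.range ![v, w] = {v, w} by simp [Matrix.range_cons, Matrix.range_empty, Set.pair_comm],
        Submodule.mem_span_pair] at hx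
      obtain ⟨a, b, h⟩ := hx
      exact ⟨a, b, h.symm⟩
    have hww : f w w = 1 := by
      refine hnorm w fun h0 => ?_
      obtain ⟨⟨x, hx, hxw⟩, -⟩ := hD.nondegenerate i w hwi hw0
      obtain ⟨a, b, rfl⟩ := hspan x hx
      rw [hs.add_left, hs.smul_left, hs.smul_left, hvw, h0, mul_zero, mul_zero, add_zero] at hxw
      exact hxw rfl
    refine ⟨v, w, hv, hwi, hv1, hww, hvw, hspan, fun x hx hxx => ?_⟩
    obtain ⟨a, b, rfl⟩ := hspan x hx
    simp only [hs.add_left, hs.add_right, hs.smul_left, hs.smul_right, hv1, hww, hvw, hwv, mul_zero, mul_one,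
      add_zero, zero_add] at hxx
    rcases norm_eq_zero_or_one hq hF a with ⟨ha, -⟩ | ⟨-, ha⟩
    · exact Or.inr (Submodule.mem_span_singleton.2 ⟨b, by rw [ha, zero_smul, zero_add]⟩)
    · rcases norm_eq_zero_or_one hq hF b with ⟨hb, -⟩ | ⟨-, hb⟩
      · exact Or.inl (Submodule.mem_span_singleton.2 ⟨a, by rw [hb, zero_smul, add_zero]⟩)
      · exact absurd (by rw [ha, hb]; linear_combination h2) hxx
  choose v w hv hw hvv hww hvw hspan hlines using hplane
  have hd : 2 ≤ n := by have := hD.decomp.two_le; omega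
  let ε : Fin n ≃ Fin t × Fin 2 := (finCongr hn.symm).trans finProdFinEquiv.symm
  let pick : Fin t × Fin 2 → Fin n → F := fun p => if p.2 = 0 then v p.1 else w p.1
  have hpick : ∀ p, pick p ∈ D p.1 ∧ f (pick p) (pick p) = 1 := fun p => by
    by_cases h : p.2 = 0 <;> simp [pick, h, hv, hw, hvv, hww]
  have hwv : ∀ i, f (w i) (v i) = 0 := fun i => by rw [hf.herm, hvw, map_zero]
  have horth : ∀ p r, p ≠ r → f (pick p) (pick r) = 0 := by
    rintro ⟨i, a⟩ ⟨j, b⟩ hne
    by_cases hij : i = j
    · subst hij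
      fin_cases a <;> fin_cases b <;> simp_all [pick]
    · exact hD.orthogonal i j hij _ (hpick (i, a)).1 _ (hpick (j, b)).1
  refine ⟨_, isNondegenerateMDecomposition_lines hq hd (b := fun i => pick (ε i))
    (fun i j hij => horth _ _ (ε.injective.ne hij)) (fun i => (hpick _).2.trans_ne one_ne_zero), ?_⟩
  intro H hHU hHD g hg
  obtain ⟨τ, hτ⟩ := hHD hg
  have himg : ∀ i, ∃ j, (g : Matrix (Fin n) (Fin n) F) *ᵥ pick (ε i) ∈ Submodule.span F {pick (ε j)} := by
    intro i
    have hmem : (g : Matrix (Fin n) (Fin n) F) *ᵥ pick (ε i) ∈ D (τ (ε i).1) :=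
      hτ _ ▸ ⟨_, (hpick _).1, Matrix.toLin'_apply _ _⟩
    rcases hlines _ _ hmem (by
      rw [show f ((g : Matrix (Fin n) (Fin n) F) *ᵥ pick (ε i)) ((g : Matrix (Fin n) (Fin n) F) *ᵥ pick (ε i)) =
        f (pick (ε i)) (pick (ε i)) from hHU hg _ _, (hpick _).2]
      exact one_ne_zero) with h | h
    · exact ⟨ε.symm (τ (ε i).1, 0), by simpa [pick] using h⟩
    · exact ⟨ε.symm (τ (ε i).1, 1), by simpa [pick] using h⟩
  choose π hπ using himg
  have hπinj : Function.Injective π := by
    intro i j e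
    by_contra hij
    obtain ⟨a, ha⟩ := Submodule.mem_span_singleton.1 (hπ i)
    obtain ⟨b, hb⟩ := Submodule.mem_span_singleton.1 (e ▸ hπ j)
    have h1 : f ((g : Matrix (Fin n) (Fin n) F) *ᵥ pick (ε i)) ((g : Matrix (Fin n) (Fin n) F) *ᵥ pick (ε j)) = 0 :=
      (hHU hg _ _).trans (horth _ _ (ε.injective.ne hij))
    rw [← ha, ← hb, hs.smul_left, hs.smul_right, (hpick _).2, mul_one, mul_eq_zero] at h1
    rcases h1 with h1 | h1
    · rw [h1, zero_smul] at ha
      exact mulVec_ne_zero g (fun e' => by simpa [e', hs.map_zero_left] using (hpick (ε i)).2) ha.symm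
    · rw [show b = 0 by simpa using h1, zero_smul] at hb
      exact mulVec_ne_zero g (fun e' => by simpa [e', hs.map_zero_left] using (hpick (ε j)).2) hb.symm
  refine ⟨Equiv.ofBijective π ⟨hπinj, Finite.injective_iff_surjective.1 hπinj⟩, fun i => ?_⟩
  rw [Submodule.map_span, Set.image_singleton, Matrix.toLin'_apply]
  show Submodule.span F {_} = Submodule.span F {pick (ε (π i))}
  obtain ⟨a, ha⟩ := Submodule.mem_span_singleton.1 (hπ i)
  rw [← ha]
  refine Submodule.span_singleton_smul_eq (IsUnit.mk0 a fun e => ?_) _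
  rw [e, zero_smul] at ha
  exact mulVec_ne_zero g (fun e' => by simpa [e', hs.map_zero_left] using (hpick (ε i)).2) ha.symm

/-- Over F₄ a tensor product with a two-dimensional factor fixes two orthogonal halves. -/
theorem tensor_two_to_halves (hF : Fintype.card F = 2 ^ 2) {k : ℕ} (hk : 0 < k) (e : Fin n ≃ Fin 2 × Fin k)
    (P : GL (Fin n) F)
    (hT : IsTensorFormStructure (fun x : F => x ^ 2) (Cfsg.hermForm n F 2) (Cfsg.hermForm 2 F 2) (Cfsg.hermForm k F 2) e P) :
    ∃ D : Fin 2 → Submodule F (Fin n → F), IsNondegenerateMDecomposition (Cfsg.hermForm n F 2) k D ∧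
      ∀ H : Subgroup (GL (Fin n) F), H ≤ Cfsg.GU n F 2 → H ≤ tensorProductSubgroup 2 k e P →
        H ≤ decompositionStabilizer D := by
  classical
  obtain ⟨σ, hq⟩ := exists_isQPow (q := 2) hF
  obtain ⟨c, hc0, hT⟩ := hT
  have hf := isUnitaryForm_hermForm (n := n) hq
  have hg : ∀ m : ℕ, gramMatrix (Cfsg.hermForm m F 2) = 1 := fun m => by
    ext a b
    rw [gramMatrix, hermForm_eq hq, Finset.sum_eq_single a]
    · by_cases hab : a = b <;> simp [Pi.single_apply, hab, Matrix.one_apply]
    · intro i _ hi; simp [Pi.single_eq_of_ne hi]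
    · simp
  have hform : ∀ x y : Fin 2 × Fin k → F,
      Cfsg.hermForm n F 2 ((P : Matrix (Fin n) (Fin n) F) *ᵥ (x ∘ e)) ((P : Matrix (Fin n) (Fin n) F) *ᵥ (y ∘ e)) =
        c * ∑ p, x p * σ (y p) := by
    intro x y
    rw [hT x y, formOfGram, hg, hg, Matrix.one_kronecker_one]
    congr 1
    refine Finset.sum_congr rfl fun a _ => ?_
    rw [Finset.sum_eq_single a (fun b _ hb => by simp [hb.symm]) (by simp), Matrix.one_apply_eq, mul_one, hq.eq_pow]
  let L : (Fin 2 × Fin k → F) ≃ₗ[F] (Fin n → F) :=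
    (LinearEquiv.funCongrLeft F F e).trans (linEquiv P)
  have hL : ∀ x, L x = (P : Matrix (Fin n) (Fin n) F) *ᵥ (x ∘ e) := fun x => rfl
  let half : Fin 2 → Submodule F (Fin 2 × Fin k → F) := fun s =>
    { carrier := {x | ∀ p, p.1 ≠ s → x p = 0}
      add_mem' := fun {a b} ha hb p hp => by rw [Pi.add_apply, ha p hp, hb p hp, add_zero]
      zero_mem' := fun p _ => rfl
      smul_mem' := fun r a ha p hp => by rw [Pi.smul_apply, ha p hp, smul_zero] }
  let D : Fin 2 → Submodule F (Fin n → F) := fun s => (half s).map L.toLinearMap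
  have horth : ∀ s r, s ≠ r → ∀ u ∈ D s, ∀ v ∈ D r, Cfsg.hermForm n F 2 u v = 0 := by
    rintro s r hsr _ ⟨x, hx, rfl⟩ _ ⟨y, hy, rfl⟩
    show Cfsg.hermForm n F 2 (L x) (L y) = 0
    rw [hL, hL, hform, Finset.sum_eq_zero, mul_zero]
    intro p _
    by_cases hp : p.1 = s
    · rw [hy p (hp ▸ hsr), map_zero, mul_zero]
    · rw [hx p hp, zero_mul]
  have hfin : ∀ s, Module.finrank F (D s) = k := fun s => by
    rw [← (Submodule.equivMapOfInjective _ L.injective (half s)).finrank_eq]
    let φ : (half s) ≃ₗ[F] (Fin k → F) :=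
      { toFun := fun x j => (x : Fin 2 × Fin k → F) (s, j)
        map_add' := fun a b => rfl
        map_smul' := fun a b => rfl
        invFun := fun y => ⟨fun p => if p.1 = s then y p.2 else 0, fun p hp => if_neg hp⟩
        left_inv := fun x => by
          refine Subtype.ext (funext fun p => ?_)
          show (if p.1 = s then (x : Fin 2 × Fin k → F) (s, p.2) else 0) = (x : Fin 2 × Fin k → F) p
          split_ifs with h
          · exact congrArg _ (Prod.ext h.symm rfl)
          · exact (x.2 p h).symm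
        right_inv := fun y => funext fun j => by simp }
    rw [φ.finrank_eq, Module.finrank_pi, Fintype.card_fin]
  refine ⟨D, ⟨⟨le_rfl, hk, hfin, ?_, ?_⟩, fun s w hw hw0 => ?_, horth⟩, fun H hHU hH h hh => ?_⟩
  · refine (iSupIndep_pair (show (0 : Fin 2) ≠ 1 by decide) (fun i => by fin_cases i <;> simp)).2 ?_
    rw [Submodule.disjoint_def]
    rintro v ⟨x, hx, rfl⟩ ⟨y, hy, hxy⟩
    rw [show x = 0 from funext fun p => ?_, map_zero]
    have hxy' : y = x := L.injective hxy
    subst hxy'
    by_cases hp : p.1 = 0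
    · exact hy p (by rw [hp]; decide)
    · exact hx p hp
  · rw [eq_top_iff]
    intro v _
    obtain ⟨x, rfl⟩ := L.surjective v
    have hx : x = (fun p => if p.1 = 0 then x p else 0) + (fun p => if p.1 = 0 then 0 else x p) :=
      funext fun p => by by_cases hp : p.1 = 0 <;> simp [hp]
    rw [hx, map_add]
    refine add_mem (le_iSup D 0 ⟨_, fun p hp => if_neg hp, rfl⟩) (le_iSup D 1 ⟨_, fun p hp => if_pos ?_, rfl⟩)
    omega
  · obtain ⟨x, hx, rfl⟩ := hw
    obtain ⟨p, hp⟩ : ∃ p, x p ≠ 0 := by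
      by_contra! h0
      exact hw0 (by rw [show x = 0 from funext h0, map_zero])
    have hps : p.1 = s := by_contra fun h => hp (hx p h)
    have hmem : L (Pi.single p 1) ∈ D s := ⟨_, fun r hr => Pi.single_eq_of_ne (fun e' => hr (by rw [e', hps])) _, rfl⟩
    have h1 : Cfsg.hermForm n F 2 (L x) (L (Pi.single p 1)) ≠ 0 := by
      rw [hL, hL, hform, Finset.sum_eq_single p (fun r _ hr => by rw [Pi.single_eq_of_ne hr, map_zero, mul_zero])
        (by simp), Pi.single_eq_same, map_one, mul_one]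
      exact mul_ne_zero hc0 hp
    exact ⟨⟨_, hmem, fun e' => h1 (by rw [hf.herm]; exact (congrArg σ e').trans (map_zero σ))⟩, ⟨_, hmem, h1⟩⟩
  -- the factor `a` is monomial
  obtain ⟨a, b, hab⟩ := (mem_tensorProductSubgroup_iff e P h).1 (hH hh)
  have hact : ∀ x, (h : Matrix (Fin n) (Fin n) F) *ᵥ L x = L (coord e P (h : Matrix (Fin n) (Fin n) F) *ᵥ x) := by
    intro x
    rw [hL, hL, coord, Matrix.submatrix_mulVec_equiv, Equiv.symm_symm, Function.comp_assoc, Equiv.symm_comp_self,
      Function.comp_id, ← Matrix.mulVec_mulVec, ← Matrix.mulVec_mulVec, inv_mulVec_cancel]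
  have h2 := two_eq_zero hF
  have hrow : ∀ i, (∑ i', (a : Matrix (Fin 2) (Fin 2) F) i i' * σ ((a : Matrix (Fin 2) (Fin 2) F) i i')) ≠ 0 := by
    intro i hzero
    set A := coord e P (h : Matrix (Fin n) (Fin n) F) with hA
    have hAU : Aᵀ * A.map σ = 1 := by
      ext p r
      have h1 := hHU hh (L (Pi.single p 1)) (L (Pi.single r 1))
      simp only [Units.coeHom_apply] at h1
      rw [hact, hact, hL, hL, hL, hL, hform, hform] at h1
      have h3 := mul_left_cancel₀ hc0 h1
      rw [Matrix.mul_apply]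
      simp only [Matrix.mulVec_single_one, Matrix.col_apply] at h3
      simp only [Matrix.transpose_apply, Matrix.map_apply]
      rw [h3]
      simp [Pi.single_apply, Matrix.one_apply, eq_comm]
    have hAA : A.map σ * Aᵀ = 1 := mul_eq_one_comm.1 hAU
    have h4 := congrFun (congrFun hAA (i, ⟨0, hk⟩)) (i, ⟨0, hk⟩)
    rw [Matrix.mul_apply, Fintype.sum_prod_type, Matrix.one_apply_eq, hab] at h4
    simp only [Matrix.map_apply, Matrix.transpose_apply, Matrix.kronecker_apply, map_mul] at h4
    rw [show (∑ x, ∑ y, σ ((a : Matrix (Fin 2) (Fin 2) F) i x) * σ ((b : Matrix (Fin k) (Fin k) F) ⟨0, hk⟩ y) *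
        ((a : Matrix (Fin 2) (Fin 2) F) i x * (b : Matrix (Fin k) (Fin k) F) ⟨0, hk⟩ y)) =
        (∑ i', (a : Matrix (Fin 2) (Fin 2) F) i i' * σ ((a : Matrix (Fin 2) (Fin 2) F) i i')) *
          ∑ y, σ ((b : Matrix (Fin k) (Fin k) F) ⟨0, hk⟩ y) * (b : Matrix (Fin k) (Fin k) F) ⟨0, hk⟩ y by
      rw [Finset.sum_mul_sum]
      exact Finset.sum_congr rfl fun x _ => Finset.sum_congr rfl fun y _ => by ring, hzero, zero_mul] at h4
    exact zero_ne_one h4
  have hone : ∀ i, (a : Matrix (Fin 2) (Fin 2) F) i 0 = 0 ∨ (a : Matrix (Fin 2) (Fin 2) F) i 1 = 0 := by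
    intro i
    by_contra! hne
    refine hrow i ?_
    rw [Fin.sum_univ_two, sq_conj_one hq hF hne.1, sq_conj_one hq hF hne.2]
    linear_combination h2
  obtain ⟨π, hπ⟩ : ∃ π : Equiv.Perm (Fin 2), ∀ i s, i ≠ π s → (a : Matrix (Fin 2) (Fin 2) F) i s = 0 := by
    have hdet := (a.isUnit.map Matrix.detMonoidHom).ne_zero
    change (a : Matrix (Fin 2) (Fin 2) F).det ≠ 0 at hdet
    rw [Matrix.det_fin_two] at hdet
    by_cases h00 : (a : Matrix (Fin 2) (Fin 2) F) 0 0 = 0
    · have h10 : (a : Matrix (Fin 2) (Fin 2) F) 1 0 ≠ 0 := fun e0 => hdet (by rw [h00, e0]; ring)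
      have h11 := (hone 1).resolve_left h10
      refine ⟨Equiv.swap 0 1, fun i s his => ?_⟩
      fin_cases i <;> fin_cases s <;> simp_all
    · have h01 := (hone 0).resolve_left h00
      have h11 : (a : Matrix (Fin 2) (Fin 2) F) 1 1 ≠ 0 := fun e0 => hdet (by rw [h01, e0]; ring)
      have h10 := (hone 1).resolve_right h11
      refine ⟨Equiv.refl _, fun i s his => ?_⟩
      fin_cases i <;> fin_cases s <;> simp_all
  refine ⟨π, fun s => ?_⟩
  have hinj : Function.Injective (Matrix.toLin' (h : Matrix (Fin n) (Fin n) F)) := (linEquiv h).injective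
  refine Submodule.eq_of_le_of_finrank_eq ?_ (by
    rw [← (Submodule.equivMapOfInjective _ hinj (D s)).finrank_eq, hfin, hfin])
  rintro _ ⟨_, ⟨x, hx, rfl⟩, rfl⟩
  refine ⟨coord e P (h : Matrix (Fin n) (Fin n) F) *ᵥ x, fun p hp => ?_, ?_⟩
  · rw [hab, Matrix.mulVec, dotProduct]
    refine Finset.sum_eq_zero fun r _ => ?_
    by_cases hr : r.1 = s
    · rw [Matrix.kronecker_apply, hπ p.1 r.1 (hr ▸ hp), zero_mul, zero_mul]
    · rw [hx r hr, mul_zero]
  · rw [Matrix.toLin'_apply]
    exact (hact x).symm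

end CfsgLib.Geo.Asch
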