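/-
The four-dimensional unitary groups: the small-field exceptions and the sixth class.
-/
import Cfsg.Agent.Lib.Geo.Asch.UnitTwo
import Cfsg.Agent.Lib.Geo.Asch.LinesFive

set_option autoImplicit false

namespace CfsgLib.Geo.Asch

open Matrix Cfsg.Geo
open scoped Kronecker

variable {F : Type*} [Field F] [Fintype F] {σ : F ≃+* F} {n q : ℕ}

/-- An orthonormal basis on which the stabiliser of orthogonal lines acts by monomial unitary matrices. -/
theorem exists_orthonormal_monomial (hq : IsQPow σ q) (hF : Fintype.card F = q ^ 2)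
    {D : Fin n → Submodule F (Fin n → F)} (hD : IsNondegenerateMDecomposition (Cfsg.hermForm n F q) 1 D) :
    ∃ B ∈ Cfsg.GU n F q, ∀ g ∈ Cfsg.GU n F q, g ∈ decompositionStabilizer D →
      ∃ (τ : Equiv.Perm (Fin n)) (c : Fin n → F), (∀ i, c i * σ (c i) = 1) ∧
        ∀ i j, ((B⁻¹ * g * B : GL (Fin n) F) : Matrix (Fin n) (Fin n) F) (τ i) j = if i = j then c i else 0 := by
  classical
  have hf := isUnitaryForm_hermForm (n := n) hq
  have hs := isSesqForm_of_unitary hf
  set f := Cfsg.hermForm n F q with hfdef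
  have hline : ∀ i, ∃ v ∈ D i, f v v = 1 ∧ ∀ w ∈ D i, ∃ c : F, w = c • v := by
    intro i
    obtain ⟨⟨b, hb⟩, hb0, hspan⟩ := finrank_eq_one_iff'.1 (hD.decomp.finrank_eq i)
    have hb0' : b ≠ 0 := fun e => hb0 (Subtype.ext e)
    have hsp : ∀ w ∈ D i, ∃ c : F, c • b = w := fun w hw => by
      obtain ⟨c, hc⟩ := hspan ⟨w, hw⟩
      exact ⟨c, congrArg Subtype.val hc⟩
    have hbb : f b b ≠ 0 := by
      intro h0
      obtain ⟨⟨x, hx, hx0⟩, -⟩ := hD.nondegenerate i b hb hb0'
      obtain ⟨c, rfl⟩ := hsp x hx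
      rw [hs.smul_left, h0, mul_zero] at hx0
      exact hx0 rfl
    obtain ⟨l, hl⟩ := hq.exists_norm hF (b := (f b b)⁻¹) (by rw [map_inv₀, ← hf.herm])
    have hl0 : l ≠ 0 := fun e => by
      rw [e, zero_mul, eq_comm, inv_eq_zero] at hl
      exact hbb hl
    refine ⟨l • b, (D i).smul_mem _ hb, ?_, fun w hw => ?_⟩
    · rw [hs.smul_left, hs.smul_right, ← mul_assoc, hl, inv_mul_cancel₀ hbb]
    · obtain ⟨c, rfl⟩ := hsp w hw
      exact ⟨c * l⁻¹, by rw [smul_smul, mul_assoc, inv_mul_cancel₀ hl0, mul_one]⟩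
  choose v hv hvv hvs using hline
  set M : Matrix (Fin n) (Fin n) F := Matrix.of fun i j => v j i with hM
  have horth : ∀ i j, f (v i) (v j) = if i = j then 1 else 0 := by
    intro i j
    split_ifs with h
    · subst h; exact hvv i
    · exact hD.orthogonal i j h _ (hv i) _ (hv j)
  have hMM : Mᵀ * M.map σ = 1 := by
    ext i j
    rw [Matrix.mul_apply, Matrix.one_apply, ← horth i j, hfdef, hermForm_eq hq]
    simp [hM]
  have hdet : M.det ≠ 0 := fun h => by
    have := congrArg Matrix.det hMM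
    rw [Matrix.det_mul, Matrix.det_transpose, h, zero_mul, Matrix.det_one] at this
    exact zero_ne_one this
  set B := Matrix.GeneralLinearGroup.mkOfDetNeZero M hdet with hB
  have hBU : B ∈ Cfsg.GU n F q := mem_GU_of_mul hq hMM
  refine ⟨B, hBU, fun g hg hgD => ?_⟩
  obtain ⟨τ, hτ⟩ := hgD
  have hcoef : ∀ j, ∃ c : F, (g : Matrix (Fin n) (Fin n) F) *ᵥ v j = c • v (τ j) := fun j =>
    hvs _ _ (hτ j ▸ ⟨_, hv j, Matrix.toLin'_apply _ _⟩)
  choose c hc using hcoef
  refine ⟨τ, c, fun i => ?_, fun i j => ?_⟩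
  · have h1 : f ((g : Matrix (Fin n) (Fin n) F) *ᵥ v i) ((g : Matrix (Fin n) (Fin n) F) *ᵥ v i) = f (v i) (v i) :=
      hg _ _
    rw [hc, hs.smul_left, hs.smul_right, hvv, hvv, mul_one] at h1
    exact h1
  · have hcol : (B : Matrix (Fin n) (Fin n) F) *ᵥ Pi.single j 1 = v j := by
      show M *ᵥ Pi.single j 1 = v j
      ext k
      simp [hM]
    have e : ((B⁻¹ * g * B : GL (Fin n) F) : Matrix (Fin n) (Fin n) F) *ᵥ Pi.single j 1 = c j • Pi.single (τ j) 1 := by
      have hcol' : (B : Matrix (Fin n) (Fin n) F) *ᵥ Pi.single (τ j) 1 = v (τ j) := by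
        show M *ᵥ Pi.single (τ j) 1 = v (τ j)
        ext k
        simp [hM]
      rw [Units.val_mul, Units.val_mul, ← Matrix.mulVec_mulVec, ← Matrix.mulVec_mulVec, hcol, hc, Matrix.mulVec_smul,
        ← hcol', mulVec_inv_cancel]
    have h1 := congrFun e (τ i)
    rw [Matrix.mulVec_single_one, Matrix.col_apply, Pi.smul_apply, smul_eq_mul, Pi.single_apply] at h1
    rw [h1]
    by_cases hij : i = j
    · subst hij; simp
    · simp [hij]

/-- The stabiliser of four orthogonal lines in SU₄(3) is not maximal. -/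
theorem lines_three_not_maximal (hF : Fintype.card F = 3 ^ 2) {D : Fin 4 → Submodule F (Fin 4 → F)}
    (hD : IsNondegenerateMDecomposition (Cfsg.hermForm 4 F 3) 1 D) {H : Subgroup (GL (Fin 4) F)}
    (hH : IsMaximalIn (SUg 4 F 3) H) (h : H = decompositionStabilizer D ⊓ SUg 4 F 3) : False := by
  classical
  obtain ⟨σ, hq⟩ := exists_isQPow (q := 3) hF
  have h3 : (3 : F) = 0 := by
    have := Nat.cast_card_eq_zero F
    rw [hF] at this
    push_cast at this
    exact mul_self_eq_zero.1 (show (3 : F) * 3 = 0 by linear_combination this)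
  have h2 : (2 : F) ≠ 0 := fun h => one_ne_zero (α := F) (by linear_combination h3 - h)
  obtain ⟨B, hBU, hB⟩ := exists_orthonormal_monomial hq hF hD
  let K := (pairFormStabilizer F).map (MulAut.conj B).toMonoidHom
  have hdetB : ∀ k : GL (Fin 4) F, k ∈ specialLinear (Fin 4) F → B * k * B⁻¹ ∈ specialLinear (Fin 4) F := by
    intro k hk
    have hk' : Matrix.GeneralLinearGroup.det k = 1 := hk
    show Matrix.GeneralLinearGroup.det (B * k * B⁻¹) = 1
    rw [map_mul, map_mul, hk', mul_one, ← map_mul, mul_inv_cancel, map_one]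
  have hmon : ∀ k ∈ H, ∀ J, IsPairForm J → IsPairForm (((B⁻¹ * k * B : GL (Fin 4) F) : Matrix (Fin 4) (Fin 4) F) * J *
      ((B⁻¹ * k * B : GL (Fin 4) F) : Matrix (Fin 4) (Fin 4) F)ᵀ) := by
    intro k hk J hJ
    rw [h] at hk
    obtain ⟨τ, c, hcn, hc⟩ := hB k hk.2.1 hk.1
    refine pairForm_monomial h2 τ c (fun i e => by simpa [e] using hcn i) (fun i => ?_) hc ?_ hJ
    · rw [show c i ^ 4 = c i * c i ^ 3 by ring, ← hq.eq_pow]
      exact hcn i
    · rw [Units.val_mul, Units.val_mul, Matrix.det_units_conj']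
      exact congrArg Units.val (show Matrix.GeneralLinearGroup.det k = 1 from hk.2.2)
  have hle : H ≤ K := by
    intro g hg
    refine ⟨B⁻¹ * g * B, fun J => ⟨hmon g hg J, fun hJ => ?_⟩, by show B * (B⁻¹ * g * B) * B⁻¹ = g; group⟩
    have := hmon g⁻¹ (H.inv_mem hg) _ hJ
    rw [show B⁻¹ * g⁻¹ * B = (B⁻¹ * g * B)⁻¹ by group] at this
    rw [← mul_assoc, ← mul_assoc, Units.inv_mul, one_mul, mul_assoc, ← Matrix.transpose_mul, Units.inv_mul,
      Matrix.transpose_one, mul_one] at this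
    exact this
  -- the Hadamard matrix
  let W : Matrix (Fin 4) (Fin 4) F := !![1, 1, 1, 1; 1, -1, 1, -1; 1, 1, -1, -1; 1, -1, -1, 1]
  have hWdet : W.det = 1 := by
    simp [W, Matrix.det_succ_row_zero, Fin.sum_univ_succ, Fin.succAbove]
    linear_combination (5 : F) * h3
  have hWT : Wᵀ = W := by
    ext i j
    fin_cases i <;> fin_cases j <;> simp [W]
  have hWσ : W.map σ = W := by
    ext i j
    fin_cases i <;> fin_cases j <;> simp [W]
  have hWW : W * W = 1 := by
    ext i j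
    fin_cases i <;> fin_cases j <;> simp [W, Matrix.mul_apply, Fin.sum_univ_four] <;> linear_combination h3
  let w : GL (Fin 4) F := ⟨W, W, hWW, hWW⟩
  have hwU : w ∈ SUg 4 F 3 := ⟨mem_GU_of_mul hq (by show Wᵀ * W.map σ = 1; rw [hWT, hWσ, hWW]), Units.ext hWdet⟩
  have hwK : B * w * B⁻¹ ∈ K ⊓ SUg 4 F 3 := by
    refine ⟨⟨w, fun J => ⟨fun hJ => pairForm_hadamard h2 hJ, fun hJ => ?_⟩, rfl⟩,
      (Cfsg.GU 4 F 3).mul_mem ((Cfsg.GU 4 F 3).mul_mem hBU hwU.1) ((Cfsg.GU 4 F 3).inv_mem hBU), hdetB w hwU.2⟩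
    have h1 := pairForm_hadamard h2 hJ
    change IsPairForm (W * (W * J * Wᵀ) * Wᵀ) at h1
    rwa [hWT, show W * (W * J * W) * W = (W * W) * J * (W * W) by noncomm_ring, hWW, one_mul, mul_one] at h1
  rcases hH.2 (K ⊓ SUg 4 F 3) (le_inf hle hH.1.le) inf_le_right with e | e
  · rw [e, h] at hwK
    obtain ⟨τ, c, -, hc⟩ := hB _ hwK.2.1 hwK.1
    have e' : B⁻¹ * (B * w * B⁻¹) * B = w := by group
    rw [e'] at hc
    have h1 := hc 1 0
    change W (τ 1) 0 = _ at h1
    generalize τ 1 = x at h1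
    fin_cases x <;> simp [W] at h1
  · obtain ⟨a, ha0, ha⟩ := hq.exists_trace_zero
    set u : Fin 4 → F := ![1, 1, 1, 0] with hu'
    have hu : Cfsg.hermForm 4 F 3 u u = 0 := by
      rw [hermForm_eq hq, Fin.sum_univ_four]
      simp [hu']
      linear_combination h3
    obtain ⟨φ, hφ, hmem, hφx⟩ := exists_SU_transvection hq hu ha
    set t := transvectionGL φ u hφ
    have hm : B * t * B⁻¹ ∈ K ⊓ SUg 4 F 3 :=
      e.symm ▸ ⟨(Cfsg.GU 4 F 3).mul_mem ((Cfsg.GU 4 F 3).mul_mem hBU hmem.1) ((Cfsg.GU 4 F 3).inv_mem hBU), hdetB t hmem.2⟩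
    obtain ⟨z, hz, ez⟩ := hm.1
    have : z = t := by
      have eu' : B * z * B⁻¹ = B * t * B⁻¹ := ez
      exact mul_left_cancel (mul_right_cancel eu')
    subst this
    have hP : IsPairForm (!![0, 1, 0, 0; -1, 0, 0, 0; 0, 0, 0, 1; 0, 0, -1, 0] : Matrix (Fin 4) (Fin 4) F) := by
      simp [IsPairForm, ← Matrix.ext_iff, Fin.forall_fin_succ, Fin.exists_fin_succ]
    obtain ⟨-, -, h3', -⟩ := (hz _).1 hP
    have hφv : ∀ j, φ j = a * (![1, 1, 1, 0] : Fin 4 → F) j := by
      intro j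
      have h1 := hφx (Pi.single j 1)
      rw [dotProduct_single_one, hermForm_eq hq, Finset.sum_eq_single j (fun i _ hi => by simp [Pi.single_eq_of_ne hi])
        (by simp), Pi.single_eq_same, one_mul] at h1
      rw [h1, hu']
      fin_cases j <;> simp
    have hte : ∀ i j, (t : Matrix (Fin 4) (Fin 4) F) i j = (if i = j then 1 else 0) + u i * φ j := fun i j => by
      show (1 + Matrix.vecMulVec u φ : Matrix (Fin 4) (Fin 4) F) i j = _
      rw [Matrix.add_apply, Matrix.one_apply, Matrix.vecMulVec_apply]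
    refine absurd (h3' 0 1 3 ?_ ?_) (by decide)
    · simp [Matrix.mul_apply, Fin.sum_univ_four, hte, hφv, hu']
      intro hx
      have h12 : a = 1 := by linear_combination -hx + a * h3
      rw [h12, map_one] at ha
      exact h2 (by linear_combination ha)
    · simp [Matrix.mul_apply, Fin.sum_univ_four, hte, hφv, hu']
      exact ha0

/-- A subgroup similar on an alternating form compatible with the hermitian one lies in a symplectic subfield group. -/
theorem exists_symplectic_subfield {κ : Type} [Fintype κ] [DecidableEq κ] [Nonempty κ] (hq : IsQPow σ q)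
    (hF : Fintype.card F = q ^ 2) (e : Fin n ≃ κ) (P : GL (Fin n) F) {Bf C : Matrix κ κ F}
    (hG : hermGram σ e P * C = Bf) (hCC : C * C = 1) (hCσ : C.map σ = C) (hBσ : Bf.map σ = Bf)
    (hBt : Bfᵀ = -Bf) (hBd : ∀ a, Bf a a = 0) {H : Subgroup (GL (Fin n) F)} (hHU : H ≤ Cfsg.GU n F q)
    (hsim : ∀ h ∈ H, ∃ δ : F, δ ≠ 0 ∧ (coord e P (h : Matrix (Fin n) (Fin n) F))ᵀ * Bf *
      coord e P (h : Matrix (Fin n) (Fin n) F) = δ • Bf) :
    ∃ (F₀ : Subfield F) (P' : GL (Fin n) F) (ζ : F), Fintype.card F = Nat.card F₀ ^ 2 ∧ ζ ≠ 0 ∧ ζ + ζ ^ q = 0 ∧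
      IsFormRationalStructure (Cfsg.hermForm n F q) F₀ ζ P' ∧
      (∀ u : Fin n → F, (∀ i, u i ∈ F₀) → Cfsg.hermForm n F q ((P' : Matrix (Fin n) (Fin n) F) *ᵥ u)
        ((P' : Matrix (Fin n) (Fin n) F) *ᵥ u) = 0) ∧
      H ≤ subfieldSubgroup F₀ P' := by
  classical
  obtain ⟨ω, hω⟩ := hq.moved
  obtain ⟨M, hM⟩ := exists_fixed_basis hq.involutive hω (show C * C.map σ = 1 by rw [hCσ, hCC])
  set Mm := (M : Matrix κ κ F) with hMm
  set Mi := ((M⁻¹ : GL κ F) : Matrix κ κ F)
  have hMM : Mm * Mi = 1 := M.mul_inv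
  have hσM : Mm.map σ = C * Mm := by
    conv_rhs => rw [← hM, ← mul_assoc, hCC, one_mul]
  set G := hermGram σ e P with hGdef
  have hGu : IsUnit G := hermGram_isUnit e P
  have hGBC : G = Bf * C := by rw [← hG, mul_assoc, hCC, mul_one]
  have hBu : IsUnit Bf := by
    rw [← hG]; exact hGu.mul (⟨⟨C, C, hCC, hCC⟩, rfl⟩ : IsUnit C)
  set F₀ := fixedSubfield σ with hF₀
  have hcard : Fintype.card F = Nat.card F₀ ^ 2 := by
    let σ' : F ≃ₐ[F₀] F := AlgEquiv.ofRingEquiv (f := σ) fun a => a.2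
    have ho : orderOf σ' = 2 := by
      refine orderOf_eq_prime (AlgEquiv.ext fun a => hq.involutive a) ?_
      intro h1
      exact hω (AlgEquiv.congr_fun h1 ω)
    have hfix : IntermediateField.fixedField (Subgroup.zpowers σ') = ⊥ := by
      rw [eq_bot_iff]
      intro x hx
      refine IntermediateField.mem_bot.2 ⟨⟨x, ?_⟩, rfl⟩
      exact hx ⟨σ', Subgroup.mem_zpowers _⟩
    have h := IntermediateField.finrank_fixedField_eq_card (F := F₀) (E := F) (Subgroup.zpowers σ')
    rw [hfix, Nat.card_zpowers, ho, IntermediateField.finrank_bot'] at h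
    rw [← Nat.card_eq_fintype_card, Module.natCard_eq_pow_finrank (K := F₀) (V := F), h]
  set P' : GL (Fin n) F := P * glReindex (F := F) e.symm M with hP'
  set G' := Mmᵀ * Bf * Mm with hG'
  have hCBC : Cᵀ * Bf * C = -Bf := by
    have h1 : Gᵀ = G.map σ := by
      have := congrArg (fun X : Matrix κ κ F => Xᵀ) (hermGram_conj hq e P)
      simpa using this.symm
    have h2 : Cᵀ * Bfᵀ = G.map σ := by rw [← Matrix.transpose_mul, ← hGBC, h1]
    rw [hBt, Matrix.mul_neg, hGBC, Matrix.map_mul, hBσ, hCσ] at h2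
    rw [show Cᵀ * Bf = -(Bf * C) by rw [← h2, neg_neg], Matrix.neg_mul, mul_assoc, hCC, mul_one]
  have hG'σ : G'.map σ = -G' := by
    rw [hG', Matrix.map_mul, Matrix.map_mul, Matrix.transpose_map, hσM, hBσ, Matrix.transpose_mul,
      show Mmᵀ * Cᵀ * Bf * (C * Mm) = Mmᵀ * (Cᵀ * Bf * C) * Mm by simp only [mul_assoc], hCBC, Matrix.mul_neg,
      Matrix.neg_mul]
  obtain ⟨ζ, hζ0, hζ⟩ := hq.exists_trace_zero
  have hgram : hermGram σ e P' = G' := by
    rw [hP', hermGram_mul_reindex, ← hGdef, ← hMm, hσM, hG', ← mul_assoc, mul_assoc _ G C, hG]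
  have hs := isSesqForm_of_unitary (isUnitaryForm_hermForm (n := n) hq)
  have hform : ∀ u v : Fin n → F, (∀ i, v i ∈ F₀) →
      Cfsg.hermForm n F q ((P' : Matrix (Fin n) (Fin n) F) *ᵥ u) ((P' : Matrix (Fin n) (Fin n) F) *ᵥ v) =
        ∑ i, ∑ j, u i * G' (e i) (e j) * v j := by
    intro u v hv
    rw [form_eq_gram hs]
    refine Finset.sum_congr rfl fun i _ => Finset.sum_congr rfl fun j _ => ?_
    rw [show σ (v j) = v j from hv j, mul_assoc]
    congr 2
    have h4 := congrFun (congrFun hgram (e i)) (e j)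
    simp only [hermGram, Matrix.submatrix_apply, Equiv.symm_apply_apply] at h4
    rw [gramIn, hermForm_eq hq]
    simp only [Matrix.mulVec_single_one, Matrix.col_apply]
    rw [Matrix.mul_apply] at h4
    simp only [Matrix.transpose_apply, Matrix.map_apply] at h4
    exact h4
  have hskew : G'ᵀ = -G' := by
    rw [hG', Matrix.transpose_mul, Matrix.transpose_mul, Matrix.transpose_transpose, hBt, Matrix.neg_mul,
      Matrix.mul_neg, mul_assoc]
  have hdiag : ∀ a, G' a a = 0 := by
    intro a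
    have h1 : G' a a = ∑ p : κ × κ, Mm p.1 a * Bf p.1 p.2 * Mm p.2 a := by
      rw [hG', Matrix.mul_apply, Fintype.sum_prod_type, Finset.sum_comm]
      simp [Matrix.mul_apply, Finset.sum_mul]
    rw [h1]
    refine Finset.sum_ninvolution (g := fun p => (p.2, p.1)) (fun p => ?_) (fun p hp => ?_) (fun p => Finset.mem_univ _)
      (fun p => rfl)
    · have := congrFun (congrFun hBt p.1) p.2
      simp only [Matrix.transpose_apply, Matrix.neg_apply] at this
      simp only [this]; ring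
    · intro hfix
      refine hp ?_
      rw [show p.1 = p.2 from (congrArg Prod.fst hfix).symm, hBd]; ring
  refine ⟨F₀, P', ζ, hcard, hζ0, by rw [← hq.eq_pow]; exact hζ, fun u v hu hv => ?_, fun u hu => ?_, fun h hh => ?_⟩
  · show ζ * _ ∈ F₀
    rw [hform u v hv, Finset.mul_sum]
    refine sum_mem fun i _ => ?_
    rw [Finset.mul_sum]
    refine sum_mem fun j _ => ?_
    rw [show ζ * (u i * G' (e i) (e j) * v j) = u i * (ζ * G' (e i) (e j)) * v j by ring]
    refine mul_mem (mul_mem (hu i) ?_) (hv j)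
    show σ (ζ * G' (e i) (e j)) = ζ * G' (e i) (e j)
    have h1 := congrFun (congrFun hG'σ (e i)) (e j)
    rw [Matrix.map_apply, Matrix.neg_apply] at h1
    rw [map_mul, h1]
    linear_combination -(G' (e i) (e j)) * hζ
  · rw [hform u u hu, ← Fintype.sum_prod_type']
    refine Finset.sum_ninvolution (g := fun p => (p.2, p.1)) (fun p => ?_) (fun p hp => ?_) (fun p => Finset.mem_univ _)
      (fun p => rfl)
    · have := congrFun (congrFun hskew (e p.1)) (e p.2)
      simp only [Matrix.transpose_apply, Matrix.neg_apply] at this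
      simp only [this]; ring
    · intro hfix
      refine hp ?_
      rw [show p.1 = p.2 from (congrArg Prod.fst hfix).symm, hdiag]; ring
  · obtain ⟨δ, hδ, hAB⟩ := hsim h hh
    set A := coord e P (h : Matrix (Fin n) (Fin n) F) with hA
    have hAU := hermGram_fix hq e P (hHU hh)
    rw [← hA, ← hGdef] at hAU
    have hAu : IsUnit A := by
      rw [Matrix.isUnit_iff_isUnit_det, isUnit_iff_ne_zero]
      exact det_coord_ne_zero e P h
    have hAtu : IsUnit Aᵀ := by
      rwa [Matrix.isUnit_iff_isUnit_det, Matrix.det_transpose, ← Matrix.isUnit_iff_isUnit_det]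
    have hσA : δ • A.map σ = C * A * C := by
      refine (IsUnit.mul_right_inj (hAtu.mul hGu)).1 ?_
      rw [Matrix.mul_smul, hAU, ← mul_assoc, ← mul_assoc, mul_assoc Aᵀ G C, hG, hAB, Matrix.smul_mul, hGBC]
    set A' := Mi * A * Mm with hA'
    have h1 : Mm * A' = A * Mm := by rw [hA', ← mul_assoc, ← mul_assoc, hMM, one_mul]
    have hσA' : δ • A'.map σ = A' := by
      have h2 : δ • (C * Mm * A'.map σ) = C * Mm * A' := by
        rw [← hσM, ← Matrix.map_mul, h1, Matrix.map_mul, hσM, ← Matrix.smul_mul, hσA, mul_assoc _ Mm A', h1]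
        simp only [mul_assoc]
        rw [← mul_assoc C C, hCC, one_mul]
      rw [← Matrix.mul_smul] at h2
      exact (IsUnit.mul (⟨⟨C, C, hCC, hCC⟩, rfl⟩ : IsUnit C) M.isUnit).mul_right_inj.1 h2
    obtain ⟨i₀, j₀, hne⟩ : ∃ i j, A' i j ≠ 0 := by
      by_contra! h0
      refine (hAu.mul M.isUnit).ne_zero ?_
      rw [← hMm, ← h1, show A' = 0 from Matrix.ext h0, mul_zero]
    set γ := A' i₀ j₀
    have hent : ∀ i j, δ * σ (A' i j) = A' i j := fun i j => by simpa using congrFun (congrFun hσA' i) j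
    have hγ' : δ * σ γ = γ := hent i₀ j₀
    let K : GL (Fin n) F := glReindex (F := F) e.symm M
    set g0 := P'⁻¹ * h * P' with hg0
    have hg0v : ∀ i j, (g0 : Matrix (Fin n) (Fin n) F) i j = A' (e i) (e j) := by
      intro i j
      have hKv : (K : Matrix (Fin n) (Fin n) F) = Mm.submatrix e e := by ext a b; simp [K, glReindex, Mm]
      have hKi : ((K⁻¹ : GL (Fin n) F) : Matrix (Fin n) (Fin n) F) = Mi.submatrix e e := by
        rw [show K⁻¹ = glReindex (F := F) e.symm M⁻¹ from (map_inv _ _).symm]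
        ext a b; simp [glReindex, Mi]
      have hAv : ((P⁻¹ : GL (Fin n) F) : Matrix (Fin n) (Fin n) F) * (h : Matrix (Fin n) (Fin n) F) *
          (P : Matrix (Fin n) (Fin n) F) = A.submatrix e e := by
        rw [hA, coord]; ext a b; simp
      rw [hg0, hP', show (P * K)⁻¹ * h * (P * K) = K⁻¹ * (P⁻¹ * h * P) * K by group, Units.val_mul, Units.val_mul,
        Units.val_mul, Units.val_mul, hKv, hKi, hAv, Matrix.submatrix_mul_equiv, Matrix.submatrix_mul_equiv, ← hA']
      rfl
    refine subfieldSubgroup_mem (g := g0 * (Units.map (Matrix.scalar (Fin n)).toMonoidHom (Units.mk0 γ hne))⁻¹)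
      (c := Units.mk0 γ hne) (fun i j => ?_) (by rw [inv_mul_cancel_right])
    rw [← map_inv, Units.val_mul, Units.coe_map, RingHom.toMonoidHom_eq_coe, MonoidHom.coe_coe, Matrix.scalar_apply,
      Matrix.mul_diagonal, hg0v, Units.val_inv_eq_inv_val, Units.val_mk0]
    show σ (A' (e i) (e j) * γ⁻¹) = A' (e i) (e j) * γ⁻¹
    rw [map_mul, map_inv₀]
    conv_rhs => rw [← hent, ← hγ']
    rw [mul_inv]
    field_simp

/-- Two totally isotropic planes in the smallest unitary groups give a symplectic subfield group. -/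
theorem pairs_to_symplectic (hF : Fintype.card F = q ^ 2) (hq3 : q ≤ 3) {D : Fin 2 → Submodule F (Fin 4 → F)}
    (hD : IsMDecomposition 2 D) (hts : ∀ i, IsTotallySingularFor (Cfsg.hermForm 4 F q) (D i))
    {H : Subgroup (GL (Fin 4) F)} (hle : H ≤ SUg 4 F q) (hHD : H ≤ decompositionStabilizer D) :
    ∃ (F₀ : Subfield F) (P : GL (Fin 4) F) (ζ : F), Fintype.card F = Nat.card F₀ ^ 2 ∧ ζ ≠ 0 ∧ ζ + ζ ^ q = 0 ∧
      IsFormRationalStructure (Cfsg.hermForm 4 F q) F₀ ζ P ∧
      (∀ u : Fin 4 → F, (∀ i, u i ∈ F₀) → Cfsg.hermForm 4 F q ((P : Matrix (Fin 4) (Fin 4) F) *ᵥ u)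
        ((P : Matrix (Fin 4) (Fin 4) F) *ᵥ u) = 0) ∧
      H ≤ subfieldSubgroup F₀ P := by
  classical
  obtain ⟨σ, hq⟩ := exists_isQPow hF
  have hf := isUnitaryForm_hermForm (n := 4) hq
  have hs := isSesqForm_of_unitary hf
  set f := Cfsg.hermForm 4 F q with hfdef
  let bv := Module.finBasisOfFinrankEq F (D 0) (hD.finrank_eq 0)
  let v : Fin 2 → Fin 4 → F := fun i => (bv i : Fin 4 → F)
  have hv : ∀ i, v i ∈ D 0 := fun i => (bv i).2
  have hsup : D 0 ⊔ D 1 = ⊤ := by
    rw [eq_top_iff, ← hD.iSup_eq_top]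
    exact iSup_le fun i => by fin_cases i; exacts [le_sup_left, le_sup_right]
  let L : D 1 →ₗ[F] (Fin 2 → F) :=
    { toFun := fun w i => f (w : Fin 4 → F) (v i)
      map_add' := fun a b => funext fun i => hs.add_left _ _ _
      map_smul' := fun a b => funext fun i => hs.smul_left _ _ _ }
  have hLinj : Function.Injective L := by
    rw [← LinearMap.ker_eq_bot, LinearMap.ker_eq_bot']
    intro w hw
    by_contra hw0
    obtain ⟨x, hx⟩ := (hf.nondegenerate (w : Fin 4 → F) (fun e => hw0 (Subtype.ext e))).2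
    apply hx
    obtain ⟨a, ha, b, hb, rfl⟩ := Submodule.mem_sup.1 (hsup.symm ▸ Submodule.mem_top : x ∈ D 0 ⊔ D 1)
    rw [hs.add_right, hts 1 _ w.2 b hb, add_zero]
    have : (⟨a, ha⟩ : D 0) ∈ Submodule.span F (Set.range bv) := bv.span_eq.symm ▸ Submodule.mem_top
    refine Submodule.span_induction (p := fun (z : D 0) _ => f (w : Fin 4 → F) (z : Fin 4 → F) = 0) ?_ ?_ ?_ ?_ this
    · rintro _ ⟨i, rfl⟩
      exact congrFun hw i
    · exact hs.map_zero_right _
    · intro y z _ _ hy hz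
      rw [Submodule.coe_add, hs.add_right, hy, hz, add_zero]
    · intro r z _ hz
      rw [Submodule.coe_smul, hs.smul_right, hz, mul_zero]
  let L' := LinearMap.linearEquivOfInjective L hLinj (by rw [hD.finrank_eq, Module.finrank_pi, Fintype.card_fin])
  let w : Fin 2 → Fin 4 → F := fun j => (L'.symm (Pi.single j 1) : Fin 4 → F)
  have hw : ∀ j, w j ∈ D 1 := fun j => (L'.symm _).2
  have hwv : ∀ j i, f (w j) (v i) = if i = j then 1 else 0 := fun j i => by
    have h1 := congrFun (L'.apply_symm_apply (Pi.single j 1)) i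
    rw [Pi.single_apply] at h1
    exact h1
  have hvw : ∀ i j, f (v i) (w j) = if i = j then 1 else 0 := fun i j => by
    rw [hf.herm, hwv]; split_ifs <;> simp
  let e : Fin 4 ≃ Fin 2 ⊕ Fin 2 := (finSumFinEquiv (m := 2) (n := 2)).symm
  let col : Fin 2 ⊕ Fin 2 → Fin 4 → F := Sum.elim v w
  set M : Matrix (Fin 4) (Fin 4) F := Matrix.of fun i j => col (e j) i with hMdef
  set G : Matrix (Fin 2 ⊕ Fin 2) (Fin 2 ⊕ Fin 2) F := Matrix.fromBlocks 0 1 1 0 with hGdef
  have hMG : Mᵀ * M.map σ = G.submatrix e e := by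
    ext i j
    have h1 : (Mᵀ * M.map σ) i j = f (col (e i)) (col (e j)) := by
      rw [hfdef, hermForm_eq hq, Matrix.mul_apply]; rfl
    rw [h1, Matrix.submatrix_apply]
    generalize e i = a
    generalize e j = b
    rcases a with a | a <;> rcases b with b | b
    · exact (hts 0 _ (hv a) _ (hv b)).trans (by simp [G])
    · exact (hvw a b).trans (by simp [G, Matrix.one_apply])
    · exact (hwv a b).trans (by simp [G, Matrix.one_apply, eq_comm])
    · exact (hts 1 _ (hw a) _ (hw b)).trans (by simp [G])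
  have hMdet : M.det ≠ 0 := fun h0 => by
    have h1 := congrArg Matrix.det hMG
    rw [Matrix.det_mul, Matrix.det_transpose, h0, zero_mul, Matrix.det_submatrix_equiv_self] at h1
    have hGG : G * G = 1 := by simp [hGdef, Matrix.fromBlocks_multiply]
    have := congrArg Matrix.det hGG
    rw [Matrix.det_mul, ← h1, zero_mul, Matrix.det_one] at this
    exact zero_ne_one this
  set P := Matrix.GeneralLinearGroup.mkOfDetNeZero M hMdet with hP
  have hgram : hermGram σ e P = G := by
    show (Mᵀ * M.map σ).submatrix e.symm e.symm = G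
    rw [hMG]; ext a b; simp
  set J := symJ F with hJ
  set Bf : Matrix (Fin 2 ⊕ Fin 2) (Fin 2 ⊕ Fin 2) F := Matrix.fromBlocks J 0 0 (-J) with hBf
  set C : Matrix (Fin 2 ⊕ Fin 2) (Fin 2 ⊕ Fin 2) F := Matrix.fromBlocks 0 (-J) J 0 with hC
  have hJσ : J.map σ = J := by ext i j; fin_cases i <;> fin_cases j <;> simp [J, symJ]
  have hJd : ∀ a, J a a = 0 := fun a => by fin_cases a <;> simp [J, symJ]
  have hJt : Jᵀ = -J := by ext i j; fin_cases i <;> fin_cases j <;> simp [J, symJ]
  have hJe : ∀ a b, σ (J a b) = J a b := fun a b => congrFun (congrFun hJσ a) b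
  refine exists_symplectic_subfield hq hF e P (Bf := Bf) (C := C) ?_ ?_ ?_ ?_ ?_ ?_ (hle.trans inf_le_left) ?_
  · rw [hgram, hGdef, hC, Matrix.fromBlocks_multiply, hBf]; simp
  · rw [hC, Matrix.fromBlocks_multiply]
    simp [J, symJ_sq, ← Matrix.fromBlocks_one]
  · ext a b
    rcases a with a | a <;> rcases b with b | b <;> simp [hC, hJe]
  · ext a b
    rcases a with a | a <;> rcases b with b | b <;> simp [hBf, hJe]
  · rw [hBf, Matrix.fromBlocks_transpose, Matrix.fromBlocks_neg, hJt, Matrix.transpose_neg, hJt]; simp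
  · rintro (a | a) <;> simp [hBf, hJd]
  intro h hh
  set A := coord e P (h : Matrix (Fin 4) (Fin 4) F) with hA
  have hAU := hermGram_fix hq e P (show h ∈ Cfsg.GU 4 F q from (hle hh).1)
  rw [← hA, hgram] at hAU
  have hdetA : A.det = 1 := by
    rw [hA, coord, Matrix.det_submatrix_equiv_self, Matrix.det_units_conj']
    exact congrArg Units.val (show Matrix.GeneralLinearGroup.det h = 1 from (hle hh).2)
  obtain ⟨τ, hτ⟩ := hHD hh
  have hact : ∀ b, (h : Matrix (Fin 4) (Fin 4) F) *ᵥ col b = ∑ a, A a b • col a := by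
    intro b
    have hc : ∀ a, col a = M *ᵥ Pi.single (e.symm a) 1 := fun a => by
      ext k
      simp [hMdef]
    have h2 : (M : Matrix (Fin 4) (Fin 4) F) *ᵥ ((A.submatrix e e) *ᵥ Pi.single (e.symm b) 1) =
        (h : Matrix (Fin 4) (Fin 4) F) *ᵥ (M *ᵥ Pi.single (e.symm b) 1) := by
      have : A.submatrix e e = ((P⁻¹ : GL (Fin 4) F) : Matrix (Fin 4) (Fin 4) F) * (h : Matrix (Fin 4) (Fin 4) F) * M := by
        rw [hA, coord]; ext i j; simp [hP]
      rw [this, ← Matrix.mulVec_mulVec, ← Matrix.mulVec_mulVec]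
      exact inv_mulVec_cancel P _
    rw [hc b, ← h2]
    ext k
    simp only [Matrix.mulVec, dotProduct, Finset.sum_apply, Pi.smul_apply, smul_eq_mul, Matrix.submatrix_apply,
      hMdef, Matrix.of_apply]
    rw [← Equiv.sum_comp e.symm]
    refine Finset.sum_congr rfl fun a _ => ?_
    rw [Finset.sum_eq_single (e.symm b) (fun j _ hj => by simp [Pi.single_eq_of_ne hj]) (by simp)]
    simp [mul_comm]
  have hli : ∀ z : Fin 2 ⊕ Fin 2 → F, ∑ a, z a • col a = 0 → z = 0 := by
    intro z hz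
    have : M *ᵥ (z ∘ e) = 0 := by
      rw [← hz]
      ext k
      simp only [Matrix.mulVec, dotProduct, hMdef, Matrix.of_apply, Function.comp_apply, Finset.sum_apply,
        Pi.smul_apply, smul_eq_mul]
      rw [← Equiv.sum_comp e.symm]
      simp [mul_comm]
    have h2 : z ∘ e = 0 := by
      by_contra hne
      exact mulVec_ne_zero P hne this
    funext a
    simpa using congrFun h2 (e.symm a)
  -- the blocks
  have hblock : ∀ s : Fin 2, ∀ a b, (if s = 0 then a.isLeft else a.isRight) = true →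
      (if τ s = 0 then b.isRight else b.isLeft) = true → A b a = 0 := by
    intro s a b ha hb
    have hmem : (h : Matrix (Fin 4) (Fin 4) F) *ᵥ col a ∈ D (τ s) := by
      rw [← hτ s]
      refine ⟨col a, ?_, Matrix.toLin'_apply _ _⟩
      rcases a with a | a <;> fin_cases s <;> simp [col] at ha ⊢
      all_goals first | exact hv _ | exact hw _
    rw [hact, Fintype.sum_sum_type] at hmem
    have hA0 : ∑ i, A (Sum.inl i) a • v i ∈ D 0 := sum_mem fun i _ => (D 0).smul_mem _ (hv i)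
    have hA1 : ∑ i, A (Sum.inr i) a • w i ∈ D 1 := sum_mem fun i _ => (D 1).smul_mem _ (hw i)
    have hdis : Disjoint (D 0) (D 1) := hD.indep.pairwiseDisjoint (by decide)
    rcases b with b | b
    · have ht : τ s = 1 := by
        by_contra hne
        rw [show τ s = 0 by omega] at hb
        simp at hb
      rw [ht] at hmem
      have h0 : ∑ i, A (Sum.inl i) a • v i = 0 :=
        Submodule.disjoint_def.1 hdis _ hA0 (((D 1).add_mem_iff_left hA1).1 hmem)
      have := congrFun (hli (Sum.elim (fun i => A (Sum.inl i) a) 0) (by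
        rw [Fintype.sum_sum_type]; simpa [col] using h0)) (Sum.inl b)
      simpa using this
    · have ht : τ s = 0 := by
        by_contra hne
        rw [if_neg hne] at hb
        simp at hb
      rw [ht] at hmem
      have h0 : ∑ i, A (Sum.inr i) a • w i = 0 :=
        Submodule.disjoint_def.1 hdis _ (((D 0).add_mem_iff_right hA0).1 hmem) hA1
      have := congrFun (hli (Sum.elim 0 fun i => A (Sum.inr i) a) (by
        rw [Fintype.sum_sum_type]; simpa [col] using h0)) (Sum.inr b)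
      simpa using this
  set a := A.toBlocks₁₁ with ha'
  set b := A.toBlocks₁₂ with hb'
  set c := A.toBlocks₂₁ with hc'
  set d := A.toBlocks₂₂ with hd'
  have hAab : A = Matrix.fromBlocks a b c d := (Matrix.fromBlocks_toBlocks A).symm
  have hq1 := IsQPow.one_lt hF
  have hconj : ∀ X Y : Matrix (Fin 2) (Fin 2) F, Xᵀ * Y.map σ = 1 → X.det * σ Y.det = 1 := fun X Y e' => by
    have h1 := congrArg Matrix.det e'
    rw [Matrix.det_mul, Matrix.det_transpose, Matrix.det_one,
      ← show σ Y.det = (Y.map σ).det from RingHom.map_det (σ : F →+* F) Y] at h1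
    exact h1
  -- in small fields a norm-fixed unit squares to one
  have hpm : ∀ x y : F, x * σ y = 1 → x * y = 1 → x * x = 1 := by
    intro x y h1 h2
    have hy : σ y = y := mul_left_cancel₀ (left_ne_zero_of_mul_eq_one h2) (h1.trans h2.symm)
    have hx : x = y⁻¹ := eq_inv_of_mul_eq_one_left h2
    have hx0 : x ≠ 0 := left_ne_zero_of_mul_eq_one h2
    have hxσ : σ x = x := by rw [hx, map_inv₀, hy]
    rw [hq.eq_pow] at hxσ
    have hpow : x ^ (q - 1) = 1 := mul_right_cancel₀ hx0 (by rw [← pow_succ, Nat.sub_add_cancel hq1.le, hxσ, one_mul])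
    interval_cases q
    · rw [pow_one] at hpow; rw [hpow, one_mul]
    · rw [← pow_two]; exact hpow
  by_cases ht : τ 0 = 0
  · have ht1 : τ 1 = 1 := by
      by_contra hne
      exact absurd (τ.injective (show τ 1 = τ 0 by omega)) (by decide)
    have hb0 : b = 0 := by
      ext i j
      exact hblock 1 (Sum.inr j) (Sum.inl i) (by simp) (by simp [ht1])
    have hc0 : c = 0 := by
      ext i j
      exact hblock 0 (Sum.inl j) (Sum.inr i) (by simp) (by simp [ht])
    rw [hAab, hb0, hc0] at hAU hdetA ⊢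
    simp only [hGdef, Matrix.fromBlocks_transpose, Matrix.fromBlocks_map, Matrix.fromBlocks_multiply,
      Matrix.transpose_zero, Matrix.map_zero σ (map_zero σ), mul_zero, zero_mul, mul_one, add_zero, zero_add] at hAU
    obtain ⟨-, had, -, -⟩ := Matrix.fromBlocks_inj.1 hAU
    rw [Matrix.det_fromBlocks_zero₂₁] at hdetA
    refine ⟨a.det, left_ne_zero_of_mul_eq_one hdetA, ?_⟩
    have hda : d.det = a.det := mul_left_cancel₀ (left_ne_zero_of_mul_eq_one hdetA)
      (hdetA.trans (hpm a.det d.det (hconj a d had) hdetA).symm)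
    rw [hBf, Matrix.fromBlocks_transpose, Matrix.fromBlocks_multiply, Matrix.fromBlocks_multiply,
      Matrix.fromBlocks_smul]
    simp only [Matrix.transpose_zero, mul_zero, zero_mul, add_zero, zero_add, smul_zero, Matrix.mul_neg, Matrix.neg_mul,
      hJ, transpose_mul_symJ, hda, smul_neg]
  · have ht0 : τ 0 = 1 := by omega
    have ht1 : τ 1 = 0 := by
      by_contra hne
      exact absurd (τ.injective (show τ 1 = τ 0 by omega)) (by decide)
    have ha0 : a = 0 := by
      ext i j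
      exact hblock 0 (Sum.inl j) (Sum.inl i) (by simp) (by simp [ht0])
    have hd0 : d = 0 := by
      ext i j
      exact hblock 1 (Sum.inr j) (Sum.inr i) (by simp) (by simp [ht1])
    rw [hAab, ha0, hd0] at hAU hdetA ⊢
    simp only [hGdef, Matrix.fromBlocks_transpose, Matrix.fromBlocks_map, Matrix.fromBlocks_multiply,
      Matrix.transpose_zero, Matrix.map_zero σ (map_zero σ), mul_zero, zero_mul, mul_one, add_zero, zero_add] at hAU
    obtain ⟨-, hbc, -, -⟩ := Matrix.fromBlocks_inj.1 hAU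
    have hsw : (Matrix.fromBlocks (0 : Matrix (Fin 2) (Fin 2) F) b c 0) * G = Matrix.fromBlocks b 0 0 c := by
      rw [hGdef, Matrix.fromBlocks_multiply]; simp
    have hGdet : G.det = 1 := by
      rw [show G.det = (G.submatrix e e).det from (Matrix.det_submatrix_equiv_self e G).symm]
      simp [hGdef, e, Matrix.det_succ_row_zero, Fin.sum_univ_succ, finSumFinEquiv, Fin.addCases, Fin.succAbove]
      all_goals rfl
    have hdet2 : b.det * c.det = 1 := by
      have h1 := congrArg Matrix.det hsw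
      rw [Matrix.det_mul, hdetA, hGdet, Matrix.det_fromBlocks_zero₂₁, one_mul] at h1
      exact h1.symm
    have hcb : c.det * σ b.det = 1 := hconj c b hbc
    have hcdet : c.det = b.det := mul_left_cancel₀ (left_ne_zero_of_mul_eq_one hdet2)
      (hdet2.trans (by
        have := hpm c.det b.det hcb (by rw [mul_comm]; exact hdet2)
        have hb2 : b.det * b.det = 1 := by linear_combination (b.det * b.det) * (this.symm) + (b.det * c.det + 1) * hdet2
        exact hb2.symm))
    refine ⟨-b.det, neg_ne_zero.2 (left_ne_zero_of_mul_eq_one hdet2), ?_⟩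
    rw [hBf, Matrix.fromBlocks_transpose, Matrix.fromBlocks_multiply, Matrix.fromBlocks_multiply,
      Matrix.fromBlocks_smul]
    simp only [Matrix.transpose_zero, mul_zero, zero_mul, add_zero, zero_add, smul_zero, Matrix.mul_neg, Matrix.neg_mul,
      hJ, transpose_mul_symJ, hcdet, neg_smul, smul_neg, neg_neg]

/-- SU₄ normalises no group of symplectic type. -/
theorem not_SU_four_le_subgroupNormalizer (hq : IsQPow σ q) (hF : Fintype.card F = q ^ 2) {r : ℕ}
    {R : Subgroup (GL (Fin 4) F)} (hR : IsUnitarySympData 4 q r R) : ¬ SUg 4 F q ≤ subgroupNormalizer R := by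
  classical
  intro hle
  haveI : Nontrivial (Fin 4) := Fin.nontrivial_iff_two_le.2 (by norm_num)
  obtain ⟨p, a, k, hp, hchar, -, hrp, -, hrk, hst, -, hRU, ⟨H, hS⟩, -⟩ := hR
  haveI := hchar
  haveI : Fact p.Prime := ⟨hp⟩
  obtain rfl : r = 2 := (Nat.prime_dvd_prime_iff_eq hst.prime Nat.prime_two).1
    (hst.prime.dvd_of_dvd_pow (n := 2) (by
      rw [show 2 ^ 2 = r ^ k by rw [← hrk]; norm_num]
      exact dvd_pow_self r (by intro h0; rw [h0, pow_zero] at hrk; omega)))
  have h2 : (2 : F) ≠ 0 := fun h0 => hrp ((Nat.prime_dvd_prime_iff_eq hp Nat.prime_two).1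
    ((CharP.cast_eq_zero_iff F p 2).1 (by exact_mod_cast h0))).symm
  have hf := isUnitaryForm_hermForm (n := 4) hq
  have hs := isSesqForm_of_unitary hf
  -- an element with two eigenplanes
  obtain ⟨x, hx, y, hy, hxy⟩ := not_abelian_of_absIrred hS.absIrred
  have hcomm_of : ∀ {φ u : Fin 4 → F} {hφ : φ ⬝ᵥ u = 0}, transvectionGL φ u hφ ∈ SUg 4 F q → ∀ {z}, z ∈ R →
      z * transvectionGL φ u hφ * z⁻¹ * (transvectionGL φ u hφ)⁻¹ ∈ R := by
    intro φ u hφ hmem z hz
    have h1 := (Subgroup.mem_normalizer_iff.1 (hle hmem) z⁻¹).1 (R.inv_mem hz)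
    simpa [mul_assoc] using R.mul_mem hz h1
  obtain ⟨c, hc, Z, Z', hZ, hZ', hdis, hsup⟩ : ∃ c ∈ R, ∃ Z Z' : Submodule F (Fin 4 → F),
      (∀ w ∈ Z, (c : Matrix (Fin 4) (Fin 4) F) *ᵥ w = w) ∧
      (∀ w ∈ Z', (c : Matrix (Fin 4) (Fin 4) F) *ᵥ w = -w) ∧ (2 ≤ Module.finrank F Z ∧ 2 ≤ Module.finrank F Z') ∧
      Z ⊔ Z' = ⊤ := by
    by_contra hno
    obtain ⟨d, hd⟩ := scalar_of_commute_transvections hq hF (by norm_num) (k := (x : Matrix (Fin 4) (Fin 4) F))
      fun φ u hφ hmem => by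
        set t := transvectionGL φ u hφ
        have hcR : x * t * x⁻¹ * t⁻¹ ∈ R := hcomm_of hmem hx
        suffices hc1 : x * t * x⁻¹ * t⁻¹ = 1 by
          rw [mul_inv_eq_one, mul_inv_eq_iff_eq_mul] at hc1
          exact (congrArg Units.val hc1).symm
        obtain ⟨Z, hZ, hfix⟩ := transvection_commutator_fix (x := x) (hφ := hφ)
        by_cases hs' : x * t * x⁻¹ * t⁻¹ ∈ scalars (Fin 4) F
        · obtain ⟨s, hs''⟩ := (mem_scalars_iff _).1 hs'
          obtain ⟨w, hw, hw0⟩ := Submodule.exists_mem_ne_zero_of_ne_bot (p := Z)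
            (fun e => by rw [e, finrank_bot] at hZ; omega)
          have := hfix w hw
          rw [hs'', Matrix.smul_mulVec, Matrix.one_mulVec] at this
          exact Units.ext (by rw [hs'', smul_left_injective F hw0 (this.trans (one_smul F w).symm), one_smul, Units.val_one])
        exfalso
        obtain ⟨z, -, ζ, hζ, he⟩ := exists_twist hS hcR hs'
        set c := x * t * x⁻¹ * t⁻¹
        let Z' := Z.map (Matrix.toLin' (z : Matrix (Fin 4) (Fin 4) F))
        have hinj : Function.Injective (Matrix.toLin' (z : Matrix (Fin 4) (Fin 4) F)) := (linEquiv z).injective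
        have hdim : Module.finrank F Z' = Module.finrank F Z :=
          (Submodule.equivMapOfInjective _ hinj Z).finrank_eq.symm
        have hcZ' : ∀ v ∈ Z', (c : Matrix (Fin 4) (Fin 4) F) *ᵥ v = ζ • v := by
          rintro _ ⟨w, hw, rfl⟩
          rw [Matrix.toLin'_apply, Matrix.mulVec_mulVec, he, Matrix.smul_mulVec, ← Matrix.mulVec_mulVec, hfix w hw]
        have hdis : Disjoint Z Z' := by
          rw [Submodule.disjoint_def]
          intro v hv hv'
          by_contra hv0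
          exact hζ (smul_left_injective F hv0 (((hcZ' v hv').symm.trans (hfix v hv)).trans (one_smul F v).symm))
        have h1 := Submodule.finrank_sup_add_finrank_inf_eq Z Z'
        rw [hdis.eq_bot, finrank_bot] at h1
        have h2' := Submodule.finrank_le (Z ⊔ Z')
        rw [Module.finrank_pi, Fintype.card_fin] at h2'
        have hsup : Z ⊔ Z' = ⊤ := Submodule.eq_top_of_finrank_eq (by rw [Module.finrank_pi, Fintype.card_fin]; omega)
        -- the eigenvalue is `-1`
        obtain ⟨w, hw, hw0⟩ := Submodule.exists_mem_ne_zero_of_ne_bot (p := Z')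
          (fun e => by rw [e, finrank_bot] at hdim; omega)
        have h3 : (c : Matrix (Fin 4) (Fin 4) F) *ᵥ ((z : Matrix (Fin 4) (Fin 4) F) *ᵥ w) =
            (ζ * ζ) • ((z : Matrix (Fin 4) (Fin 4) F) *ᵥ w) := by
          rw [Matrix.mulVec_mulVec, he, Matrix.smul_mulVec, ← Matrix.mulVec_mulVec, hcZ' w hw, Matrix.mulVec_smul,
            smul_smul]
        obtain ⟨a₁, ha₁, a₂, ha₂, hsum⟩ := Submodule.mem_sup.1
          (hsup.symm ▸ Submodule.mem_top : (z : Matrix (Fin 4) (Fin 4) F) *ᵥ w ∈ Z ⊔ Z')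
        rw [← hsum, Matrix.mulVec_add, hfix a₁ ha₁, hcZ' a₂ ha₂] at h3
        have h4 : (1 - ζ * ζ) • a₁ + (ζ - ζ * ζ) • a₂ = 0 := by
          rw [sub_smul, sub_smul, one_smul]
          rw [smul_add] at h3
          rw [show a₁ - (ζ * ζ) • a₁ + (ζ • a₂ - (ζ * ζ) • a₂) = a₁ + ζ • a₂ - ((ζ * ζ) • a₁ + (ζ * ζ) • a₂) by abel, h3,
            sub_self]
        have h5 : (1 - ζ * ζ) • a₁ = 0 := Submodule.disjoint_def.1 hdis _ (Z.smul_mem _ ha₁)
          (eq_neg_of_add_eq_zero_left h4 ▸ Z'.neg_mem (Z'.smul_mem _ ha₂))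
        have hζ1 : ζ * ζ = 1 := by
          by_contra hne
          have ha10 : a₁ = 0 := (smul_eq_zero.1 h5).resolve_left (sub_ne_zero.2 (Ne.symm hne))
          rw [ha10, smul_zero, zero_add, smul_eq_zero, sub_eq_zero] at h4
          rcases h4 with h4 | h4
          · have hζ0 : ζ ≠ 0 := by
              intro h0
              have hw1 := hcZ' w hw
              rw [h0, zero_smul] at hw1
              exact mulVec_ne_zero c hw0 hw1
            exact hζ (mul_left_cancel₀ hζ0 (h4.symm.trans (mul_one ζ).symm))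
          · rw [ha10, h4, add_zero] at hsum
            exact mulVec_ne_zero z hw0 hsum.symm
        have hm1 : ζ = -1 := (mul_self_eq_one_iff.1 hζ1).resolve_left hζ
        exact hno ⟨c, hcR, Z, Z', hfix, fun v hv => by rw [hcZ' v hv, hm1, neg_one_smul], ⟨by omega, by omega⟩, hsup⟩
    refine hxy (Units.ext ?_)
    rw [Units.val_mul, Units.val_mul, hd, Matrix.smul_mul, Matrix.mul_smul, one_mul, mul_one]
  have hcU := hRU hc
  have horth : ∀ w ∈ Z, ∀ w' ∈ Z', Cfsg.hermForm 4 F q w w' = 0 := by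
    intro w hw w' hw'
    have h1 : Cfsg.hermForm 4 F q ((c : Matrix (Fin 4) (Fin 4) F) *ᵥ w) ((c : Matrix (Fin 4) (Fin 4) F) *ᵥ w') =
        Cfsg.hermForm 4 F q w w' := hcU w w'
    rw [hZ w hw, hZ' w' hw', ← neg_one_smul F w', hs.smul_right, map_neg, map_one] at h1
    exact (mul_eq_zero.1 (show (2 : F) * Cfsg.hermForm 4 F q w w' = 0 by linear_combination -h1)).resolve_left h2
  have hiso : ∀ U : Submodule F (Fin 4 → F), 2 ≤ Module.finrank F U →
      ∃ z ∈ U, z ≠ 0 ∧ Cfsg.hermForm 4 F q z z = 0 := by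
    intro U hU
    obtain ⟨v, hv, hv0⟩ := Submodule.exists_mem_ne_zero_of_ne_bot (p := U)
      (fun e => by rw [e, finrank_bot] at hU; omega)
    by_cases hvv : Cfsg.hermForm 4 F q v v = 0
    · exact ⟨v, hv, hv0, hvv⟩
    obtain ⟨u, hu, huv⟩ : ∃ u ∈ U, u ∉ Submodule.span F {v} := by
      by_contra! hall
      have := Submodule.finrank_mono (show U ≤ Submodule.span F {v} from hall)
      rw [finrank_span_singleton hv0] at this
      omega
    set w := u + (-(Cfsg.hermForm 4 F q u v) / Cfsg.hermForm 4 F q v v) • v with hw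
    have hwU : w ∈ U := U.add_mem hu (U.smul_mem _ hv)
    have hwv : Cfsg.hermForm 4 F q w v = 0 := by
      rw [hw, hs.add_left, hs.smul_left, div_mul_cancel₀ _ hvv, add_neg_cancel]
    have hvw : Cfsg.hermForm 4 F q v w = 0 := by rw [hf.herm, hwv, map_zero]
    obtain ⟨l, hl⟩ := hq.exists_norm hF (b := -(Cfsg.hermForm 4 F q w w) / Cfsg.hermForm 4 F q v v)
      (by rw [map_div₀, map_neg, ← hf.herm, ← hf.herm])
    refine ⟨w + l • v, U.add_mem hwU (U.smul_mem _ hv), fun e => huv (Submodule.mem_span_singleton.2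
      ⟨-l - (-(Cfsg.hermForm 4 F q u v) / Cfsg.hermForm 4 F q v v), ?_⟩), ?_⟩
    · rw [hw] at e
      rw [sub_smul, neg_smul]
      linear_combination (norm := module) -(1 : F) • e
    · simp only [hs.add_left, hs.add_right, hs.smul_left, hs.smul_right, hwv, hvw, mul_zero, add_zero, zero_add]
      rw [← mul_assoc, hl, div_mul_cancel₀ _ hvv, add_neg_cancel]
  obtain ⟨z₁, hz₁, hz₁0, hz₁i⟩ := hiso Z hdis.1
  obtain ⟨z₂, hz₂, hz₂0, hz₂i⟩ := hiso Z' hdis.2
  set u := z₁ + z₂ with hu'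
  have hzz : Cfsg.hermForm 4 F q z₂ z₁ = 0 := by rw [hf.herm, horth z₁ hz₁ z₂ hz₂, map_zero]
  have hu : Cfsg.hermForm 4 F q u u = 0 := by
    simp only [hu', hs.add_left, hs.add_right, hz₁i, hz₂i, hzz, horth z₁ hz₁ z₂ hz₂, add_zero]
  have hcu : (c : Matrix (Fin 4) (Fin 4) F) *ᵥ u = z₁ + (-1 : F) • z₂ := by
    rw [hu', Matrix.mulVec_add, hZ z₁ hz₁, hZ' z₂ hz₂, neg_one_smul]
  set cu := (c : Matrix (Fin 4) (Fin 4) F) *ᵥ u with hcu'
  have hcuu : Cfsg.hermForm 4 F q cu u = 0 := by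
    simp only [hcu, hu', hs.add_left, hs.add_right, hs.smul_left, hz₁i, hz₂i, hzz, horth z₁ hz₁ z₂ hz₂, mul_zero,
      add_zero]
  obtain ⟨α, hα0, hα⟩ := hq.exists_trace_zero
  obtain ⟨φ, hφ, hmem, hφx⟩ := exists_SU_transvection hq hu hα
  set t := transvectionGL φ u hφ with ht
  set φ' := φ ᵥ* ((c⁻¹ : GL (Fin 4) F) : Matrix (Fin 4) (Fin 4) F) with hφ'
  have hφ'x : ∀ v, φ' ⬝ᵥ v = α * Cfsg.hermForm 4 F q v cu := by
    intro v
    rw [hφ', ← Matrix.dotProduct_mulVec, hφx]
    congr 1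
    conv_rhs => rw [← inv_mulVec_cancel c v]
    exact (hcU _ u).symm
  set N := Matrix.vecMulVec u φ with hN
  set M := Matrix.vecMulVec cu φ' with hM
  have hxM : (c : Matrix (Fin 4) (Fin 4) F) * N * ((c⁻¹ : GL (Fin 4) F) : Matrix (Fin 4) (Fin 4) F) = M := by
    rw [hN, hM, hcu', hφ', Matrix.mul_vecMulVec, Matrix.vecMulVec_mul]
  have hNN : N * N = 0 := by rw [hN, Matrix.vecMulVec_mul_vecMulVec, hφ, zero_smul, Matrix.vecMulVec_zero]
  have hNM : N * M = 0 := by
    rw [hN, hM, Matrix.vecMulVec_mul_vecMulVec, hφx, hcuu, mul_zero, zero_smul, Matrix.vecMulVec_zero]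
  have hMN : M * N = 0 := by
    rw [hN, hM, Matrix.vecMulVec_mul_vecMulVec, hφ'x, hf.herm, hcuu, map_zero, mul_zero, zero_smul,
      Matrix.vecMulVec_zero]
  have hMM : M * M = 0 := by
    rw [← hxM, show (c : Matrix (Fin 4) (Fin 4) F) * N * ((c⁻¹ : GL (Fin 4) F) : Matrix (Fin 4) (Fin 4) F) *
      ((c : Matrix (Fin 4) (Fin 4) F) * N * ((c⁻¹ : GL (Fin 4) F) : Matrix (Fin 4) (Fin 4) F)) =
      (c : Matrix (Fin 4) (Fin 4) F) * (N * (((c⁻¹ : GL (Fin 4) F) : Matrix (Fin 4) (Fin 4) F) *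
        (c : Matrix (Fin 4) (Fin 4) F)) * N) * ((c⁻¹ : GL (Fin 4) F) : Matrix (Fin 4) (Fin 4) F) by
      simp only [mul_assoc], Units.inv_mul, mul_one, hNN, mul_zero, zero_mul]
  have hd := hcomm_of hmem hc
  have hval : ((c * t * c⁻¹ * t⁻¹ : GL (Fin 4) F) : Matrix (Fin 4) (Fin 4) F) = 1 + (M - N) := by
    rw [Units.val_mul, Units.val_mul, Units.val_mul,
      show (t : Matrix (Fin 4) (Fin 4) F) = 1 + N from rfl, show ((t⁻¹ : GL (Fin 4) F) : Matrix (Fin 4) (Fin 4) F) = 1 - N from rfl,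
      mul_add, mul_one, add_mul, Units.mul_inv, hxM, mul_sub, mul_one, add_mul, one_mul, hMN, add_zero]
    abel
  obtain ⟨m, hm⟩ := hst.pGroup ⟨_, hd⟩
  have hm' : (c * t * c⁻¹ * t⁻¹) ^ 2 ^ m = 1 := congrArg Subtype.val hm
  have hp2 : (c * t * c⁻¹ * t⁻¹) ^ p = 1 := by
    apply Units.ext
    haveI : CharP (Matrix (Fin 4) (Fin 4) F) p := Matrix.charP p
    rw [Units.val_pow_eq_pow_val, hval, Units.val_one, add_pow_char_of_commute (p := p) (h := Commute.one_left _),
      one_pow, pow_eq_zero_of_le hp.two_le (by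
        rw [pow_two, sub_mul, mul_sub, mul_sub, hMM, hMN, hNM, hNN]; simp), add_zero]
  have hone := pow_gcd_eq_one.2 ⟨hm', hp2⟩
  have hcop : Nat.Coprime (2 ^ m) p := (Nat.coprime_primes Nat.prime_two hp).2 hrp |>.pow_left m
  rw [hcop, pow_one] at hone
  have hMN' : M = N := by
    have h1 := congrArg (fun g : GL (Fin 4) F => (g : Matrix (Fin 4) (Fin 4) F)) hone
    simp only [hval, Units.val_one, add_eq_left, sub_eq_zero] at h1
    exact h1
  obtain ⟨v, hv⟩ := (hf.nondegenerate u (fun e => hz₁0 (by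
    have h1 : z₁ = -z₂ := eq_neg_of_add_eq_zero_left e
    have h3 := hZ z₁ hz₁
    have h4 : (c : Matrix (Fin 4) (Fin 4) F) *ᵥ z₁ = z₂ := by rw [h1, Matrix.mulVec_neg, hZ' z₂ hz₂, neg_neg]
    have h5 : (2 : F) • z₁ = 0 := by
      rw [two_smul]
      conv_lhs => arg 2; rw [← h3, h4]
      rw [h1]; simp
    exact (smul_eq_zero.1 h5).resolve_left h2))).1
  have h1 := congrArg (fun X => X *ᵥ v) hMN'
  simp only [hM, hN, Matrix.vecMulVec_mulVec, op_smul_eq_smul, hφ'x, hφx] at h1
  set A₀ := α * Cfsg.hermForm 4 F q v cu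
  set B₀ := α * Cfsg.hermForm 4 F q v u
  have hB₀ : B₀ ≠ 0 := mul_ne_zero hα0 hv
  rw [hcu, hu'] at h1
  have h2' : (A₀ - B₀) • z₁ = (A₀ + B₀) • z₂ := by
    rw [sub_smul, add_smul]
    rw [smul_add, smul_add, smul_smul] at h1
    linear_combination (norm := module) h1
  have h6 : (A₀ - B₀) • z₁ = 0 := by
    have hmZ' : (A₀ - B₀) • z₁ ∈ Z' := h2' ▸ Z'.smul_mem _ hz₂
    have hcz := hZ' _ hmZ'
    rw [hZ _ (Z.smul_mem _ hz₁)] at hcz
    have h7 : (2 : F) • ((A₀ - B₀) • z₁) = 0 := by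
      rw [two_smul]
      conv_lhs => arg 2; rw [hcz]
      rw [add_neg_cancel]
    exact (smul_eq_zero.1 h7).resolve_left h2
  rw [h6] at h2'
  have e1 : A₀ - B₀ = 0 := (smul_eq_zero.1 h6).resolve_right hz₁0
  have e2 : A₀ + B₀ = 0 := (smul_eq_zero.1 h2'.symm).resolve_right hz₂0
  exact hB₀ ((mul_eq_zero.1 (show (2 : F) * B₀ = 0 by linear_combination e2 - e1)).resolve_left h2)

end CfsgLib.Geo.Asch
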