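/-
In SU₆(2) the stabiliser of six orthogonal lines is not maximal: it keeps a set of 126 isotropic points.
-/
import Cfsg.Agent.Lib.Geo.Asch.UnitFour

set_option autoImplicit false

namespace CfsgLib.Geo.Asch

open Matrix Cfsg.Geo

/-- Addition on codes for the four-element field. -/
def fourAdd : Fin 4 → Fin 4 → Fin 4 := ![![0, 1, 2, 3], ![1, 0, 3, 2], ![2, 3, 0, 1], ![3, 2, 1, 0]]

/-- Multiplication on codes for the four-element field. -/
def fourMul : Fin 4 → Fin 4 → Fin 4 := ![![0, 0, 0, 0], ![0, 1, 2, 3], ![0, 2, 3, 1], ![0, 3, 1, 2]]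

variable {F : Type*} [Field F] [Fintype F] {n : ℕ}

/-- The field with four elements as codes. -/
theorem exists_fourCode (hF : Fintype.card F = 2 ^ 2) : ∃ cd : Fin 4 → F, Function.Bijective cd ∧
    cd 0 = 0 ∧ cd 1 = 1 ∧ (∀ a b, cd (fourAdd a b) = cd a + cd b) ∧ (∀ a b, cd (fourMul a b) = cd a * cd b) := by
  obtain ⟨ω, hω0, hω1, hω3, hω, h3, -⟩ := exists_omega hF
  have h2 : (2 : F) = 0 := two_eq_zero hF
  have hne : ω + 1 ≠ 0 := fun h => hω1 (by linear_combination h - h2)
  refine ⟨![0, 1, ω, ω + 1], (Fintype.bijective_iff_injective_and_card _).2 ⟨fun a b => ?_, by simp [hF]⟩,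
    rfl, rfl, fun a b => ?_, fun a b => ?_⟩
  · fin_cases a <;> fin_cases b <;> simp <;> intro h
    all_goals first
      | exact hω0 h | exact hω0 h.symm | exact hω1 h | exact hω1 h.symm | exact hne h | exact hne h.symm
      | exact one_ne_zero h | exact zero_ne_one h
      | exact hω0 (by linear_combination h) | exact hω0 (by linear_combination -h)
      | exact one_ne_zero (α := F) (by linear_combination h) | exact one_ne_zero (α := F) (by linear_combination -h)
  · fin_cases a <;> fin_cases b <;> simp [fourAdd]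
    all_goals first
      | ring1 | linear_combination h2 | linear_combination -h2
      | linear_combination ω * h2 | linear_combination -ω * h2
      | linear_combination (ω + 1) * h2 | linear_combination -(ω + 1) * h2
  · fin_cases a <;> fin_cases b <;> simp [fourMul]
    all_goals first
      | ring1 | linear_combination hω - (ω + 1) * h2 | linear_combination -hω + (ω + 1) * h2
      | linear_combination hω - h2 | linear_combination -hω + h2
      | linear_combination hω - ω * h2 | linear_combination -hω + ω * h2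
      | linear_combination hω | linear_combination -hω

/-- The linear maps keeping a predicate on vectors. -/
def keepSubgroup {ι : Type} [Fintype ι] [DecidableEq ι] (P : (ι → F) → Prop) : Subgroup (GL ι F) where
  carrier := {g | ∀ x, P ((g : Matrix ι ι F) *ᵥ x) ↔ P x}
  mul_mem' {a b} ha hb x := by rw [Units.val_mul, ← Matrix.mulVec_mulVec, ha, hb]
  one_mem' x := by simp
  inv_mem' {a} ha x := by rw [← ha, inv_mulVec_cancel]

/-- A root: a vector of weight two, or with product of coordinates one. -/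
def IsRootVec [DecidableEq F] (x : Fin 6 → F) : Prop :=
  ((if x 0 = 0 then 0 else 1) + (if x 1 = 0 then 0 else 1) + (if x 2 = 0 then 0 else 1) +
    (if x 3 = 0 then 0 else 1) + (if x 4 = 0 then 0 else 1) + (if x 5 = 0 then 0 else (1 : ℕ))) = 2 ∨
  x 0 * x 1 * x 2 * x 3 * x 4 * x 5 = 1

/-- The coded test for a root. -/
def isRootCode (a b c d e f : Fin 4) : Bool :=
  decide (((if a = 0 then 0 else 1) + (if b = 0 then 0 else 1) + (if c = 0 then 0 else 1) +
    (if d = 0 then 0 else 1) + (if e = 0 then 0 else 1) + (if f = 0 then 0 else (1 : ℕ))) = 2) ||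
  decide (fourMul (fourMul (fourMul (fourMul (fourMul a b) c) d) e) f = 1)

theorem isRootCode_transvection : ∀ a b c d e f : Fin 4, isRootCode a b c d e f = true →
    let s := fourAdd (fourAdd (fourAdd (fourAdd (fourAdd a b) c) d) e) f
    isRootCode (fourAdd a s) (fourAdd b s) (fourAdd c s) (fourAdd d s) (fourAdd e s) (fourAdd f s) = true := by
  decide +kernel

/-- The all-ones transvection keeps the roots. -/
theorem isRootVec_transvection [DecidableEq F] (hF : Fintype.card F = 2 ^ 2) (x : Fin 6 → F) (hx : IsRootVec x) :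
    IsRootVec (fun i => x i + ∑ j, x j) := by
  obtain ⟨cd, hcd, h0, h1, hadd, hmul⟩ := exists_fourCode hF
  choose k hk using fun i => hcd.2 (x i)
  have hz : ∀ a, cd a = 0 ↔ a = 0 := fun a => ⟨fun h => hcd.1 (h.trans h0.symm), fun h => h ▸ h0⟩
  have hcode : ∀ a b c d e f, IsRootVec ![cd a, cd b, cd c, cd d, cd e, cd f] ↔ isRootCode a b c d e f = true := by
    intro a b c d e f
    rw [isRootCode, Bool.or_eq_true, decide_eq_true_iff, decide_eq_true_iff]
    refine or_congr (Iff.of_eq ?_) ?_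
    · simp [hz]
    · show cd a * cd b * cd c * cd d * cd e * cd f = 1 ↔ _
      rw [← hmul, ← hmul, ← hmul, ← hmul, ← hmul, ← h1]
      exact hcd.1.eq_iff
  have hxk : x = ![cd (k 0), cd (k 1), cd (k 2), cd (k 3), cd (k 4), cd (k 5)] := by
    funext i
    fin_cases i <;> simp [hk]
  rw [hxk] at hx ⊢
  have h := isRootCode_transvection _ _ _ _ _ _ ((hcode _ _ _ _ _ _).1 hx)
  rw [← hcode] at h
  convert h using 1
  funext i
  fin_cases i <;> simp [hadd, Fin.sum_univ_six]

/-- Monomial matrices of determinant one keep the roots. -/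
theorem isRootVec_monomial [DecidableEq F] (h2 : (2 : F) = 0) {G : Matrix (Fin 6) (Fin 6) F} (τ : Equiv.Perm (Fin 6))
    (c : Fin 6 → F) (h : ∀ i j, G (τ i) j = if i = j then c i else 0) (hdet : G.det = 1) {x : Fin 6 → F}
    (hx : IsRootVec x) : IsRootVec (G *ᵥ x) := by
  have hsub : G.submatrix τ id = Matrix.diagonal c := by
    ext i j
    rw [Matrix.submatrix_apply, id_eq, h, Matrix.diagonal_apply]
  have hprod : ∏ i, c i = 1 := by
    have h1 := Matrix.det_permute τ G
    rw [hsub, Matrix.det_diagonal, hdet, mul_one] at h1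
    rw [h1]
    rcases Int.units_eq_one_or (Equiv.Perm.sign τ) with e | e <;> rw [e] <;> simp
    linear_combination -h2
  have hc : ∀ i, c i ≠ 0 := fun i e => by
    rw [Finset.prod_eq_zero (Finset.mem_univ i) e] at hprod
    exact zero_ne_one hprod
  have hGx : ∀ i, (G *ᵥ x) (τ i) = c i * x i := fun i => by
    simp [Matrix.mulVec, dotProduct, h]
  unfold IsRootVec at hx ⊢
  refine hx.imp (fun h6 => ?_) fun h6 => ?_
  · rw [← h6]
    have e : ∑ i, (if (G *ᵥ x) i = 0 then 0 else 1) = ∑ i, (if x i = 0 then 0 else (1 : ℕ)) := by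
      rw [← Equiv.sum_comp τ]
      exact Finset.sum_congr rfl fun i _ => by simp [hGx, hc i]
    simpa [Fin.sum_univ_six] using e
  · have e : ∏ i, (G *ᵥ x) i = ∏ i, x i := by
      rw [← Equiv.prod_comp τ, Finset.prod_congr rfl fun i _ => hGx i, Finset.prod_mul_distrib, hprod, one_mul]
    simp only [Fin.prod_univ_six] at e
    rw [e, h6]

/-- The stabiliser of six orthogonal lines in SU₆(2) is not maximal. -/
theorem lines_two_six_not_maximal (hF : Fintype.card F = 2 ^ 2) {D : Fin 6 → Submodule F (Fin 6 → F)}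
    (hD : IsNondegenerateMDecomposition (Cfsg.hermForm 6 F 2) 1 D) {H : Subgroup (GL (Fin 6) F)}
    (hH : IsMaximalIn (SUg 6 F 2) H) (h : H = decompositionStabilizer D ⊓ SUg 6 F 2) : False := by
  classical
  obtain ⟨σ, hq⟩ := exists_isQPow (q := 2) hF
  have h2 := two_eq_zero hF
  have h11 : (1 : F) + σ 1 = 0 := by rw [map_one]; linear_combination h2
  obtain ⟨B, hBU, hB⟩ := exists_orthonormal_monomial hq hF hD
  let S := keepSubgroup (F := F) (fun x : Fin 6 → F => IsRootVec x)
  let K := S.map (MulAut.conj B).toMonoidHom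
  have hdetB : ∀ k : GL (Fin 6) F, k ∈ specialLinear (Fin 6) F → B * k * B⁻¹ ∈ specialLinear (Fin 6) F := by
    intro k hk
    have hk' : Matrix.GeneralLinearGroup.det k = 1 := hk
    show Matrix.GeneralLinearGroup.det (B * k * B⁻¹) = 1
    rw [map_mul, map_mul, hk', mul_one, ← map_mul, mul_inv_cancel, map_one]
  have hmon : ∀ k ∈ H, ∀ x, IsRootVec x →
      IsRootVec (((B⁻¹ * k * B : GL (Fin 6) F) : Matrix (Fin 6) (Fin 6) F) *ᵥ x) := by
    intro k hk x hx
    rw [h] at hk
    obtain ⟨τ, c, -, hc⟩ := hB k hk.2.1 hk.1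
    refine isRootVec_monomial h2 τ c hc ?_ hx
    refine (Matrix.det_units_conj' B (k : Matrix (Fin 6) (Fin 6) F)).trans ?_
    have hk1 := congrArg Units.val (show Matrix.GeneralLinearGroup.det k = 1 from hk.2.2)
    rw [Matrix.GeneralLinearGroup.val_det_apply, Units.val_one] at hk1
    exact hk1
  have hle : H ≤ K := by
    intro g hg
    refine ⟨B⁻¹ * g * B, fun x => ⟨fun hx => ?_, hmon g hg x⟩, by show B * (B⁻¹ * g * B) * B⁻¹ = g; group⟩
    show IsRootVec x
    have := hmon g⁻¹ (H.inv_mem hg) _ hx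
    rw [show B⁻¹ * g⁻¹ * B = (B⁻¹ * g * B)⁻¹ by group, mulVec_inv_cancel] at this
    exact this
  have htr : ∀ u : Fin 6 → F, ∀ {φ : Fin 6 → F} {hφ : φ ⬝ᵥ u = 0},
      (∀ x, φ ⬝ᵥ x = 1 * Cfsg.hermForm 6 F 2 x u) → ∀ x,
      (transvectionGL φ u hφ : Matrix (Fin 6) (Fin 6) F) *ᵥ x = x + (∑ j, x j * σ (u j)) • u := by
    intro u φ hφ hφx x
    rw [show (transvectionGL φ u hφ : Matrix (Fin 6) (Fin 6) F) = 1 + Matrix.vecMulVec u φ from rfl,
      Matrix.add_mulVec, Matrix.one_mulVec, Matrix.vecMulVec_mulVec, op_smul_eq_smul, hφx, one_mul, hermForm_eq hq]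
  -- the transvection along the all-ones vector
  obtain ⟨φ₁, hφ₁, ht₁, hφ₁x⟩ := exists_SU_transvection hq (u := fun _ : Fin 6 => (1 : F))
    (by rw [hermForm_eq hq]; simp; linear_combination (3 : F) * h2) h11
  set t₁ := transvectionGL φ₁ _ hφ₁
  have ht₁x : ∀ x, (t₁ : Matrix (Fin 6) (Fin 6) F) *ᵥ x = fun i => x i + ∑ j, x j := fun x => by
    rw [htr _ hφ₁x]
    funext i
    simp
  have ht₁S : t₁ ∈ S := fun x => ⟨fun hx => ?_, fun hx => ht₁x x ▸ isRootVec_transvection hF x hx⟩
  swap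
  · have h1 := isRootVec_transvection hF _ hx
    convert h1 using 1
    rw [ht₁x]
    funext i
    simp only [Finset.sum_add_distrib, Finset.sum_const, Finset.card_univ, Fintype.card_fin, nsmul_eq_mul]
    linear_combination -(4 * ∑ j, x j) * h2
  rcases hH.2 (K ⊓ SUg 6 F 2) (le_inf hle hH.1.le) inf_le_right with e | e
  · have hm : B * t₁ * B⁻¹ ∈ K ⊓ SUg 6 F 2 := ⟨⟨t₁, ht₁S, rfl⟩,
      (Cfsg.GU 6 F 2).mul_mem ((Cfsg.GU 6 F 2).mul_mem hBU ht₁.1) ((Cfsg.GU 6 F 2).inv_mem hBU), hdetB _ ht₁.2⟩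
    rw [e, h] at hm
    obtain ⟨τ, c, -, hc⟩ := hB _ hm.2.1 hm.1
    rw [show B⁻¹ * (B * t₁ * B⁻¹) * B = t₁ by group] at hc
    have hcol : ∀ i : Fin 6, i ≠ 0 → (t₁ : Matrix (Fin 6) (Fin 6) F) i 0 = 1 := fun i hi => by
      have h1 := congrFun (ht₁x (Pi.single 0 1)) i
      rw [Matrix.mulVec_single_one] at h1
      simpa [hi] using h1
    obtain ⟨i, hi⟩ : ∃ i : Fin 6, i ≠ 0 ∧ τ i ≠ 0 := by
      by_cases h' : τ 1 = 0
      · exact ⟨2, by decide, fun e' => absurd (τ.injective (e'.trans h'.symm)) (by decide)⟩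
      · exact ⟨1, by decide, h'⟩
    have h1 := hc i 0
    rw [hcol _ hi.2, if_neg hi.1] at h1
    exact one_ne_zero h1
  · obtain ⟨ω, hω0, hω1, hω3, hω, h3, -⟩ := exists_omega hF
    set u : Fin 6 → F := ![1, 1, 1, ω, 0, 0] with hu
    have hσω : σ ω = ω ^ 2 := hq.eq_pow ω
    obtain ⟨φ₂, hφ₂, ht₂, hφ₂x⟩ := exists_SU_transvection hq (u := u)
      (by rw [hermForm_eq hq, Fin.sum_univ_six]; simp [hu, hσω]; linear_combination hω3 + 2 * h2) h11
    set t₂ := transvectionGL φ₂ u hφ₂
    have hm : B * t₂ * B⁻¹ ∈ K ⊓ SUg 6 F 2 := e.symm ▸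
      ⟨(Cfsg.GU 6 F 2).mul_mem ((Cfsg.GU 6 F 2).mul_mem hBU ht₂.1) ((Cfsg.GU 6 F 2).inv_mem hBU), hdetB _ ht₂.2⟩
    obtain ⟨z, hz, ez⟩ := hm.1
    obtain rfl : z = t₂ := mul_left_cancel (mul_right_cancel (show B * z * B⁻¹ = B * t₂ * B⁻¹ from ez))
    have h1 := (hz (![1, 0, 0, 0, 1, 0])).2 (Or.inl (by simp))
    rw [htr u hφ₂x] at h1
    have h11' : (1 : F) + 1 = 0 := by linear_combination h2
    simp [IsRootVec, Fin.sum_univ_six, hu, h11', hω0] at h1

end CfsgLib.Geo.Asch
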