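/-
In SU₅(2) the normaliser of a field subalgebra of degree five is not maximal: it keeps a set of 55 isotropic points.
-/
import Cfsg.Agent.Lib.Geo.Asch.UnitSixLines

set_option autoImplicit false
set_option maxRecDepth 8000

namespace CfsgLib.Geo.Asch

open Matrix Cfsg.Geo

variable {F : Type*} [Field F] {R : Type*}

/-- The matrices commuting with multiplication by a root of `X⁵+X⁴+X²+X+1` in a self-dual normal basis. -/
def quinticMat [AddCommMonoid R] (a b c d e : R) : Matrix (Fin 5) (Fin 5) R :=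
  !![a, b, c, d, e; b, a + d, d + e, b + c, c + e; c, d + e, a + c + d + e, b + c + e, b + c + d + e;
    d, b + c, b + c + e, a + d + e, c + d + e; e, c + e, b + c + d + e, c + d + e, a + b + c + d + e]

theorem eq_quinticMat_of_commute (h2 : (2 : F) = 0) {A : Matrix (Fin 5) (Fin 5) F}
    (h : A * quinticMat 0 1 0 0 0 = quinticMat 0 1 0 0 0 * A) :
    A = quinticMat (A 0 0) (A 1 0) (A 2 0) (A 3 0) (A 4 0) := by
  have e := fun i j => congrFun (congrFun h i) j
  have e00 := e 0 0; have e10 := e 1 0; have e20 := e 2 0; have e30 := e 3 0; have e40 := e 4 0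
  have e01 := e 0 1; have e11 := e 1 1; have e21 := e 2 1; have e31 := e 3 1; have e41 := e 4 1
  have e03 := e 0 3; have e13 := e 1 3; have e23 := e 2 3; have e33 := e 3 3; have e43 := e 4 3
  have e02 := e 0 2; have e12 := e 1 2; have e22 := e 2 2; have e32 := e 3 2; have e42 := e 4 2
  simp [quinticMat, Matrix.mul_apply, Fin.sum_univ_five] at e00 e10 e20 e30 e40 e01 e11 e21 e31 e41 e03 e13 e23 e33 e43 e02 e12 e22 e32 e42
  have k01 : A 0 1 = A 1 0 := by grind
  have k11 : A 1 1 = A 0 0 + A 3 0 := by grind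
  have k21 : A 2 1 = A 3 0 + A 4 0 := by grind
  have k31 : A 3 1 = A 1 0 + A 2 0 := by grind
  have k41 : A 4 1 = A 2 0 + A 4 0 := by grind
  have k03 : A 0 3 = A 3 0 := by grind
  have k13 : A 1 3 = A 1 0 + A 2 0 := by grind
  have k23 : A 2 3 = A 1 0 + A 2 0 + A 4 0 := by grind
  have k33 : A 3 3 = A 0 0 + A 3 0 + A 4 0 := by grind
  have k43 : A 4 3 = A 2 0 + A 3 0 + A 4 0 := by grind
  have k02 : A 0 2 = A 2 0 := by grind
  have k12 : A 1 2 = A 3 0 + A 4 0 := by grind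
  have k22 : A 2 2 = A 0 0 + A 2 0 + A 3 0 + A 4 0 := by grind
  have k32 : A 3 2 = A 1 0 + A 2 0 + A 4 0 := by grind
  have k42 : A 4 2 = A 1 0 + A 2 0 + A 3 0 + A 4 0 := by grind
  have k04 : A 0 4 = A 4 0 := by grind
  have k14 : A 1 4 = A 2 0 + A 4 0 := by grind
  have k24 : A 2 4 = A 1 0 + A 2 0 + A 3 0 + A 4 0 := by grind
  have k34 : A 3 4 = A 2 0 + A 3 0 + A 4 0 := by grind
  have k44 : A 4 4 = A 0 0 + A 1 0 + A 2 0 + A 3 0 + A 4 0 := by grind
  ext i j
  fin_cases i <;> fin_cases j <;> simp [quinticMat, k01, k11, k21, k31, k41, k02, k12, k22, k32, k42, k03, k13, k23,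
    k33, k43, k04, k14, k24, k34, k44]

/-- The cyclic shift of five coordinates. -/
def shiftFive (R : Type*) [Zero R] [One R] : Matrix (Fin 5) (Fin 5) R :=
  !![0, 1, 0, 0, 0; 0, 0, 1, 0, 0; 0, 0, 0, 1, 0; 0, 0, 0, 0, 1; 1, 0, 0, 0, 0]

/-- The extra involution. -/
def extraFive (R : Type*) [Zero R] [One R] : Matrix (Fin 5) (Fin 5) R :=
  !![0, 1, 0, 0, 0; 1, 0, 0, 0, 0; 0, 0, 0, 0, 1; 0, 0, 0, 1, 0; 0, 0, 1, 0, 0]

/-- The 165 coded vectors of the invariant set, as bits of a number. -/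
def pentaSet : ℕ := 11257526840303630335169102712535588601065240265101753920756617255788138289126323035992064300264637593613687902265132942990110151063263267282018972055118575580636173966689341617095588594346275706424823871090302221890929608864703353369954320231260320954677604525638617897319377672443128484771174442596671974080

/-- The coded test for the invariant set. -/
def isPentaCode (k : Fin 5 → Fin 4) : Bool :=
  pentaSet.testBit ((k 0).1 + 4 * (k 1).1 + 16 * (k 2).1 + 64 * (k 3).1 + 256 * (k 4).1)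

/-- The coded quintic matrix applied to a coded vector. -/
def quinticCode (a b c d e : Fin 4) (v : Fin 5 → Fin 4) : Fin 5 → Fin 4 :=
  let row := fun p q r s t => fourAdd (fourAdd (fourAdd (fourAdd (fourMul p (v 0)) (fourMul q (v 1))) (fourMul r (v 2)))
    (fourMul s (v 3))) (fourMul t (v 4))
  ![row a b c d e,
    row b (fourAdd a d) (fourAdd d e) (fourAdd b c) (fourAdd c e),
    row c (fourAdd d e) (fourAdd (fourAdd (fourAdd a c) d) e) (fourAdd (fourAdd b c) e) (fourAdd (fourAdd (fourAdd b c) d) e),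
    row d (fourAdd b c) (fourAdd (fourAdd b c) e) (fourAdd (fourAdd a d) e) (fourAdd (fourAdd c d) e),
    row e (fourAdd c e) (fourAdd (fourAdd (fourAdd b c) d) e) (fourAdd (fourAdd c d) e)
      (fourAdd (fourAdd (fourAdd (fourAdd a b) c) d) e)]

theorem quinticCode_keeps : ∀ a b c d e : Fin 4,
    let w := quinticCode a b c d e ![fourMul a a, fourMul b b, fourMul c c, fourMul d d, fourMul e e]
    w 0 = 1 → w 1 = 0 → w 2 = 0 → w 3 = 0 → w 4 = 0 →
    ∀ p q r s t : Fin 4, isPentaCode ![p, q, r, s, t] = true →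
      isPentaCode (quinticCode a b c d e ![p, q, r, s, t]) = true := by
  decide +kernel

theorem pentaCode_shift : ∀ p q r s t : Fin 4, isPentaCode ![p, q, r, s, t] = true →
    isPentaCode ![q, r, s, t, p] = true := by
  decide +kernel

theorem pentaCode_extra : ∀ p q r s t : Fin 4, isPentaCode ![p, q, r, s, t] = true →
    isPentaCode ![q, p, t, s, r] = true := by
  decide +kernel

/-- The sequence with recurrence `X⁵+X⁴+X²+X+1` over the field with two elements. -/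
def quinticSeq : ℕ → Bool × Bool × Bool × Bool × Bool → Bool
  | 0, s => s.1
  | m + 1, (a, b, c, d, e) => quinticSeq m (b, c, d, e, (((e ^^ c) ^^ b) ^^ a))

theorem quinticSeq_shift : ∀ b c d e : Bool, ∃ i : Fin 31, ∀ j : Fin 5,
    quinticSeq (2 * i.1 + j.1) (true, b, c, d, e) = quinticSeq j.1 (true, true, true, false, true) := by
  decide +kernel

theorem quinticSeq_trace : ∀ k l : Fin 5,
    quinticSeq (2 ^ k.1 + 2 ^ l.1) (true, true, true, false, true) = decide (k = l) := by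
  decide +kernel

theorem quintic_four_pow : ∀ k : Fin 5, 4 ^ k.1 % 31 = 1 → k = 0 := by decide

/-- Membership in the invariant set. -/
def IsPentaVec (cd : Fin 4 → F) (x : Fin 5 → F) : Prop :=
  ∃ k : Fin 5 → Fin 4, isPentaCode k = true ∧ x = fun i => cd (k i)

theorem vec_five {α : Type*} (k : Fin 5 → α) : k = ![k 0, k 1, k 2, k 3, k 4] := by
  funext i
  fin_cases i <;> rfl

variable [Fintype F]

/-- A twisted commuting unitary matrix keeps the invariant set. -/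
theorem penta_twist {σ : F ≃+* F} (hF : Fintype.card F = 2 ^ 2) (hq : IsQPow σ 2) {cd : Fin 4 → F}
    (hcd : Function.Bijective cd) (c0 : cd 0 = 0) (c1 : cd 1 = 1) (hadd : ∀ a b, cd (fourAdd a b) = cd a + cd b)
    (hmul : ∀ a b, cd (fourMul a b) = cd a * cd b) (k : ℕ) {A : Matrix (Fin 5) (Fin 5) F}
    (hA : A * quinticMat 0 1 0 0 0 = quinticMat 0 1 0 0 0 ^ 2 ^ k * A) (hU : Aᵀ * A.map σ = 1)
    {x : Fin 5 → F} (hx : IsPentaVec cd x) : IsPentaVec cd (A *ᵥ x) := by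
  have h2 := two_eq_zero hF
  induction k generalizing A with
  | zero =>
    rw [pow_zero, pow_one] at hA
    have hAe := eq_quinticMat_of_commute h2 hA
    obtain ⟨a, ha⟩ := hcd.2 (A 0 0); obtain ⟨b, hb⟩ := hcd.2 (A 1 0); obtain ⟨c, hc⟩ := hcd.2 (A 2 0)
    obtain ⟨d, hd⟩ := hcd.2 (A 3 0); obtain ⟨e, he⟩ := hcd.2 (A 4 0)
    rw [← ha, ← hb, ← hc, ← hd, ← he] at hAe
    have hσ : ∀ t, σ (cd t) = cd (fourMul t t) := fun t => by rw [hq.eq_pow, pow_two, hmul]
    have hcode : ∀ v : Fin 5 → Fin 4, A *ᵥ (fun i => cd (v i)) = fun i => cd (quinticCode a b c d e v i) := by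
      intro v
      rw [hAe]
      funext i
      fin_cases i <;> simp [quinticMat, quinticCode, Matrix.mulVec, dotProduct, Fin.sum_univ_five, hadd, hmul]
    set v0 : Fin 5 → Fin 4 := ![fourMul a a, fourMul b b, fourMul c c, fourMul d d, fourMul e e] with hv0
    have hw : ∀ i, cd (quinticCode a b c d e v0 i) = (1 : Matrix (Fin 5) (Fin 5) F) i 0 := by
      intro i
      rw [← congrFun (hcode v0) i, ← hU, hAe]
      fin_cases i <;> simp [quinticMat, hv0, Matrix.mulVec, dotProduct, Matrix.mul_apply, Fin.sum_univ_five, hσ]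
    have h10 : ∀ i : Fin 5, i ≠ 0 → quinticCode a b c d e v0 i = 0 := fun i hi =>
      hcd.1 ((hw i).trans (by rw [Matrix.one_apply_ne hi, c0]))
    obtain ⟨v, hv, rfl⟩ := hx
    refine ⟨quinticCode a b c d e v, ?_, hcode v⟩
    rw [vec_five v] at hv ⊢
    exact quinticCode_keeps a b c d e (hcd.1 ((hw 0).trans (by rw [Matrix.one_apply_eq, c1])))
      (h10 1 (by decide)) (h10 2 (by decide)) (h10 3 (by decide)) (h10 4 (by decide)) _ _ _ _ _ hv
  | succ k ih =>
    set T := shiftFive F with hT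
    have hTT : T * Tᵀ = 1 ∧ Tᵀ * T = 1 := by
      constructor <;> ext i j <;> fin_cases i <;> fin_cases j <;> simp [hT, shiftFive, Matrix.mul_apply, Fin.sum_univ_five]
    have hTσ : T.map σ = T := by
      ext i j
      fin_cases i <;> fin_cases j <;> simp [hT, shiftFive]
    have hsemi : SemiconjBy T (quinticMat (0 : F) 1 0 0 0 ^ 2) (quinticMat 0 1 0 0 0) := by
      show T * quinticMat (0 : F) 1 0 0 0 ^ 2 = quinticMat 0 1 0 0 0 * T
      rw [pow_two]
      ext i j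
      fin_cases i <;> fin_cases j <;> simp [hT, shiftFive, quinticMat, Matrix.mul_apply, Fin.sum_univ_five] <;> grind
    have hA' : T * A * quinticMat 0 1 0 0 0 = quinticMat 0 1 0 0 0 ^ 2 ^ k * (T * A) := by
      rw [mul_assoc, hA, ← mul_assoc, ← mul_assoc]
      congr 1
      have h1 := hsemi.pow_right (2 ^ k)
      rwa [← pow_mul, ← pow_succ'] at h1
    have hU' : (T * A)ᵀ * (T * A).map σ = 1 := by
      rw [Matrix.transpose_mul, Matrix.map_mul, hTσ, mul_assoc, ← mul_assoc Tᵀ, hTT.2, one_mul, hU]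
    obtain ⟨v, hv, e⟩ := ih hA' hU'
    refine ⟨fun i => v (i - 1), ?_, ?_⟩
    · rw [vec_five v] at hv
      rw [vec_five (fun i => v (i - 1))]
      exact pentaCode_shift _ _ _ _ _ (pentaCode_shift _ _ _ _ _ (pentaCode_shift _ _ _ _ _ (pentaCode_shift _ _ _ _ _ hv)))
    · rw [show A = Tᵀ * (T * A) by rw [← mul_assoc, hTT.2, one_mul], ← Matrix.mulVec_mulVec, e]
      funext i
      fin_cases i <;> simp [hT, shiftFive, Matrix.mulVec, dotProduct, Fin.sum_univ_five]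
      all_goals rfl

/-- A vector whose quintic orbit is orthonormal. -/
theorem exists_quintic_frame {σ : F ≃+* F} (hF : Fintype.card F = 2 ^ 2) (hq : IsQPow σ 2)
    {z : Matrix (Fin 5) (Fin 5) F} (hz : ∀ m, z ^ (m + 5) = z ^ (m + 4) + z ^ (m + 2) + z ^ (m + 1) + z ^ m)
    (hadj : adj σ z = z) :
    ∃ v : Fin 5 → F, ∀ k l : Fin 5, Cfsg.hermForm 5 F 2 (z ^ 2 ^ (k : ℕ) *ᵥ v) (z ^ 2 ^ (l : ℕ) *ᵥ v) =
      if k = l then 1 else 0 := by
  have h2 := two_eq_zero hF
  have hf := isUnitaryForm_hermForm (n := 5) hq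
  have hs := isSesqForm_of_unitary hf
  set x : Fin 5 → F := Pi.single 0 1
  set s : ℕ → F := fun m => Cfsg.hermForm 5 F 2 (z ^ m *ᵥ x) x with hs'
  have hpair : ∀ a b, Cfsg.hermForm 5 F 2 (z ^ a *ᵥ x) (z ^ b *ᵥ x) = s (b + a) := fun a b => by
    have h1 := herm_adj hq (z ^ b) (z ^ a *ᵥ x) x
    rw [adj_pow, hadj, Matrix.mulVec_mulVec, ← pow_add] at h1
    exact h1.symm
  have hrec : ∀ m, s (m + 5) = s (m + 4) + s (m + 2) + s (m + 1) + s m := fun m => by
    simp only [hs', hz, Matrix.add_mulVec, hs.add_left]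
  have h01 : ∀ m, ∃ b : Bool, s m = if b then 1 else 0 := fun m => by
    have hfix : σ (s m) = s m := by
      show σ (Cfsg.hermForm 5 F 2 (z ^ m *ᵥ x) x) = _
      rw [← hf.herm, show s m = Cfsg.hermForm 5 F 2 (z ^ m *ᵥ x) x from rfl, herm_adj hq, adj_pow, hadj]
    rw [hq.eq_pow] at hfix
    by_cases h0 : s m = 0
    · exact ⟨false, h0⟩
    · exact ⟨true, mul_left_cancel₀ h0 (by rw [← pow_two, hfix]; simp)⟩
  have h11 : (1 : F) + 1 = 0 := by linear_combination h2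
  have hseq : ∀ (m N : ℕ) (a b c d e : Bool), s N = (if a then 1 else 0) → s (N + 1) = (if b then 1 else 0) →
      s (N + 2) = (if c then 1 else 0) → s (N + 3) = (if d then 1 else 0) → s (N + 4) = (if e then 1 else 0) →
      s (N + m) = if quinticSeq m (a, b, c, d, e) then 1 else 0 := by
    intro m
    induction m with
    | zero => intro N a b c d e ha _ _ _ _; exact ha
    | succ m ih =>
      intro N a b c d e ha hb hc hd he
      rw [show N + (m + 1) = N + 1 + m by ring, quinticSeq]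
      refine ih (N + 1) b c d e _ hb hc hd he ?_
      rw [show N + 1 + 4 = N + 5 by ring, hrec, ha, hb, hc, he]
      cases a <;> cases b <;> cases c <;> cases e <;> simp [h11]
  have h0 : s 0 = if true then 1 else 0 := by
    simp only [hs', pow_zero, Matrix.one_mulVec, if_true]
    rw [hermForm_eq hq, Finset.sum_eq_single (0 : Fin 5) (fun m _ hm => by simp [x, Pi.single_eq_of_ne hm]) (by simp)]
    simp [x]
  obtain ⟨b, hb⟩ := h01 1; obtain ⟨c, hc⟩ := h01 2; obtain ⟨d, hd⟩ := h01 3; obtain ⟨e, he⟩ := h01 4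
  obtain ⟨i, hi⟩ := quinticSeq_shift b c d e
  refine ⟨z ^ i.1 *ᵥ x, fun k l => ?_⟩
  rw [Matrix.mulVec_mulVec, Matrix.mulVec_mulVec, ← pow_add, ← pow_add, hpair,
    show 2 ^ (l : ℕ) + i.1 + (2 ^ (k : ℕ) + i.1) = 2 * i.1 + (2 ^ (k : ℕ) + 2 ^ (l : ℕ)) by ring]
  have hj : ∀ j : Fin 5, s (2 * i.1 + j.1) = if quinticSeq j.1 (true, true, true, false, true) then 1 else 0 := by
    intro j
    have h1 := hseq (2 * i.1 + j.1) 0 true b c d e h0 hb hc hd he
    rw [zero_add, hi] at h1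
    exact h1
  rw [hseq _ (2 * i.1) true true true false true (hj 0) (hj 1) (hj 2) (hj 3) (hj 4), quinticSeq_trace]
  by_cases hkl : k = l <;> simp [hkl]

/-- A field containing an element of order 31 contains a root of the quintic. -/
theorem exists_quintic_root {K : Type*} [Field K] (h2K : (2 : K) = 0) {z0 : K} (h31 : z0 ^ 31 = 1) (hne : z0 ≠ 1) :
    ∃ z : K, z ^ 5 + z ^ 4 + z ^ 2 + z + 1 = 0 := by
  haveI : Fact (Nat.Prime 31) := ⟨by norm_num⟩
  have ho : orderOf z0 = 31 := orderOf_eq_prime h31 hne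
  by_contra! hno
  open Polynomial in
  let Q : K[X] := X ^ 26 + X ^ 25 + X ^ 24 + X ^ 21 + X ^ 20 + X ^ 18 + X ^ 17 + X ^ 16 + X ^ 15 + X ^ 14 + X ^ 12 +
    X ^ 8 + X ^ 5 + X ^ 3 + X + 1
  have hQd : Q.natDegree ≤ 26 := by
    simp only [Q]
    compute_degree!
  have hroot : ∀ i : Fin 31, Q.IsRoot (z0 ^ i.1) := by
    intro i
    have hy : (z0 ^ i.1) ^ 31 = 1 := by rw [← pow_mul, mul_comm, pow_mul, h31, one_pow]
    refine (mul_eq_zero.1 (show ((z0 ^ i.1) ^ 5 + (z0 ^ i.1) ^ 4 + (z0 ^ i.1) ^ 2 + z0 ^ i.1 + 1) *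
      Q.eval (z0 ^ i.1) = 0 from ?_)).resolve_left (hno _)
    simp only [Q, Polynomial.eval_add, Polynomial.eval_pow, Polynomial.eval_X, Polynomial.eval_one]
    generalize z0 ^ i.1 = y at hy ⊢
    linear_combination hy + (y ^ 1 + y ^ 2 + y ^ 3 + y ^ 4 + 2 * y ^ 5 + y ^ 6 + y ^ 7 + y ^ 8 + y ^ 9 + y ^ 10 +
      y ^ 12 + y ^ 13 + y ^ 14 + y ^ 15 + 2 * y ^ 16 + 2 * y ^ 17 + 2 * y ^ 18 + 2 * y ^ 19 + 2 * y ^ 20 +
      2 * y ^ 21 + 2 * y ^ 22 + y ^ 23 + y ^ 24 + 2 * y ^ 25 + 2 * y ^ 26 + y ^ 27 + y ^ 28 + y ^ 29 + y ^ 30 + 1) * h2K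
  have hinj : Function.Injective fun i : Fin 31 => z0 ^ i.1 := fun i j e =>
    Fin.ext (pow_injOn_Iio_orderOf (by simp [ho]) (by simp [ho]) e)
  have hQ0 : Q ≠ 0 := fun e => by
    have h1 : Q.eval 0 = 1 := by simp [Q]
    rw [e, Polynomial.eval_zero] at h1
    exact zero_ne_one h1
  have h31' := Polynomial.card_le_degree_of_subset_roots (p := Q)
    (Z := Finset.univ.map ⟨_, hinj⟩) (fun y hy => by
      obtain ⟨i, -, rfl⟩ := Finset.mem_map.1 (Finset.mem_def.2 hy)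
      exact (Polynomial.mem_roots hQ0).2 (hroot i))
  rw [Finset.card_map, Finset.card_univ, Fintype.card_fin] at h31'
  omega

/-- The roots of the quintic. -/
theorem quintic_facts {K : Type*} [Field K] (h2K : (2 : K) = 0) {z : K} (hz : z ^ 5 + z ^ 4 + z ^ 2 + z + 1 = 0) :
    orderOf z = 31 ∧ (∀ r : K, r ^ 5 + r ^ 4 + r ^ 2 + r + 1 = 0 → ∃ k : Fin 5, r = z ^ 2 ^ (k : ℕ)) ∧
    (∀ m, z ^ (m + 5) = z ^ (m + 4) + z ^ (m + 2) + z ^ (m + 1) + z ^ m) ∧ z * z ^ 2 = z + z ^ 8 ∧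
    z * z ^ 4 = z ^ 8 + z ^ 16 ∧ z * z ^ 8 = z ^ 2 + z ^ 4 ∧ z * z ^ 16 = z ^ 4 + z ^ 16 := by
  classical
  haveI : Fact (Nat.Prime 31) := ⟨by norm_num⟩
  have hz0 : z ≠ 0 := fun e => by rw [e] at hz; simp at hz
  have hz1 : z ≠ 1 := fun e => one_ne_zero (α := K) (by rw [e] at hz; linear_combination hz - 2 * h2K)
  have hz31 : z ^ 31 = 1 := by
    linear_combination (z ^ 26 + z ^ 25 + z ^ 24 + z ^ 21 + z ^ 20 + z ^ 18 + z ^ 17 + z ^ 16 + z ^ 15 + z ^ 14 +
      z ^ 12 + z ^ 8 + z ^ 5 + z ^ 3 + z + 1) * hz - (z ^ 1 + z ^ 2 + z ^ 3 + z ^ 4 + 2 * z ^ 5 + z ^ 6 + z ^ 7 +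
      z ^ 8 + z ^ 9 + z ^ 10 + z ^ 12 + z ^ 13 + z ^ 14 + z ^ 15 + 2 * z ^ 16 + 2 * z ^ 17 + 2 * z ^ 18 + 2 * z ^ 19 +
      2 * z ^ 20 + 2 * z ^ 21 + 2 * z ^ 22 + z ^ 23 + z ^ 24 + 2 * z ^ 25 + 2 * z ^ 26 + z ^ 27 + z ^ 28 + z ^ 29 +
      z ^ 30 + 1) * h2K
  have hzo : orderOf z = 31 := orderOf_eq_prime hz31 hz1
  have hroots : ∀ r : K, r ^ 5 + r ^ 4 + r ^ 2 + r + 1 = 0 → ∃ k : Fin 5, r = z ^ 2 ^ (k : ℕ) := by
    intro r hr
    by_contra! hno
    have hconj : ∀ k : ℕ, (z ^ 2 ^ k) ^ 5 + (z ^ 2 ^ k) ^ 4 + (z ^ 2 ^ k) ^ 2 + z ^ 2 ^ k + 1 = 0 := by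
      intro k
      induction k with
      | zero => simpa using hz
      | succ k ih =>
        rw [pow_succ 2 k, pow_mul]
        generalize z ^ 2 ^ k = y at ih ⊢
        linear_combination (y ^ 5 + y ^ 4 + y ^ 2 + y + 1) * ih -
          (y ^ 9 + y ^ 7 + 2 * y ^ 6 + 2 * y ^ 5 + y ^ 4 + y ^ 3 + y ^ 2 + y) * h2K
    open Polynomial in
    let p : K[X] := X ^ 5 + X ^ 4 + X ^ 2 + X + 1
    have hpd : p.natDegree ≤ 5 := by
      simp only [p]
      compute_degree!
    have hp0 : p ≠ 0 := fun e => by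
      have h1 : p.eval 0 = 1 := by simp [p]
      rw [e, Polynomial.eval_zero] at h1
      exact zero_ne_one h1
    have hev : ∀ y : K, y ^ 5 + y ^ 4 + y ^ 2 + y + 1 = 0 → y ∈ p.roots := fun y hy =>
      (Polynomial.mem_roots hp0).2 (by simpa [p, Polynomial.IsRoot] using hy)
    have hinj : Function.Injective fun k : Fin 5 => z ^ 2 ^ (k : ℕ) := fun i j e => by
      have h1 : (2 : ℕ) ^ i.1 = 2 ^ j.1 := pow_injOn_Iio_orderOf
        (by simp [hzo]; fin_cases i <;> norm_num) (by simp [hzo]; fin_cases j <;> norm_num) e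
      exact Fin.ext (Nat.pow_right_injective (le_refl 2) h1)
    have h6 := Polynomial.card_le_degree_of_subset_roots (p := p)
      (Z := insert r (Finset.univ.map ⟨_, hinj⟩)) (fun y hy => by
        rcases Finset.mem_insert.1 (Finset.mem_def.2 hy) with rfl | hy
        · exact hev _ hr
        · obtain ⟨i, -, rfl⟩ := Finset.mem_map.1 hy
          exact hev _ (hconj i))
    rw [Finset.card_insert_of_notMem (by
      simp only [Finset.mem_map, Finset.mem_univ, true_and, Function.Embedding.coeFn_mk, not_exists]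
      exact fun i e => hno i e.symm), Finset.card_map, Finset.card_univ, Fintype.card_fin] at h6
    omega
  have hrecK : ∀ m, z ^ (m + 5) = z ^ (m + 4) + z ^ (m + 2) + z ^ (m + 1) + z ^ m := fun m => by
    linear_combination z ^ m * hz - (z ^ (m + 4) + z ^ (m + 2) + z ^ (m + 1) + z ^ m) * h2K
  have k1 : z * z ^ 2 = z + z ^ 8 := by
    linear_combination (z + z ^ 2 + z ^ 3) * hz - (z ^ 2 + z ^ 3 + z ^ 4 + z ^ 5 + z ^ 6 + z ^ 7 + z ^ 8 + z) * h2K
  have k2 : z * z ^ 4 = z ^ 8 + z ^ 16 := by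
    linear_combination (z ^ 5 + z ^ 6 + z ^ 9 + z ^ 10 + z ^ 11) * hz - (z ^ 6 + z ^ 7 + z ^ 9 + 2 * z ^ 10 +
      2 * z ^ 11 + z ^ 12 + z ^ 13 + z ^ 14 + z ^ 15 + z ^ 8 + z ^ 16) * h2K
  have k3 : z * z ^ 8 = z ^ 2 + z ^ 4 := by
    linear_combination (z ^ 2 + z ^ 3 + z ^ 4) * hz - (z ^ 3 + z ^ 4 + z ^ 5 + z ^ 6 + z ^ 7 + z ^ 8 + z ^ 2 + z ^ 4) * h2K
  have k4 : z * z ^ 16 = z ^ 4 + z ^ 16 := by
    linear_combination (z ^ 4 + z ^ 5 + z ^ 7 + z ^ 9 + z ^ 12) * hz - (z ^ 5 + z ^ 6 + z ^ 7 + z ^ 8 + 2 * z ^ 9 +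
      z ^ 10 + z ^ 11 + z ^ 12 + z ^ 13 + z ^ 14 + z ^ 4 + z ^ 16) * h2K
  exact ⟨hzo, hroots, hrecK, k1, k2, k3, k4⟩

/-- The normaliser of an adjoint-closed field of degree five in SU₅(2) is not maximal. -/
theorem field_two_five_not_maximal (hF : Fintype.card F = 2 ^ 2) {K : Subalgebra F (Matrix (Fin 5) (Fin 5) F)}
    (hK : IsFieldSubalgebra 5 K) (hKa : IsAdjointClosedFor (Cfsg.hermForm 5 F 2) K)
    {H : Subgroup (GL (Fin 5) F)} (hH : IsMaximalIn (SUg 5 F 2) H) (h : H = subalgebraNormalizer K ⊓ SUg 5 F 2) :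
    False := by
  classical
  obtain ⟨σ, hq⟩ := exists_isQPow (q := 2) hF
  have h2 := two_eq_zero hF
  obtain ⟨cd, hcd, c0, c1, hadd, hmul⟩ := exists_fourCode hF
  have hadjK : ∀ k ∈ K, adj σ k ∈ K := by
    intro k hk
    obtain ⟨k', hk', hkk⟩ := hKa k hk
    suffices hkk' : k' = adj σ k by rwa [← hkk']
    ext i j
    have h1 := (hkk (Pi.single i 1) (Pi.single j 1)).symm.trans (herm_adj hq k _ _)
    rw [hermForm_eq hq, hermForm_eq hq, Finset.sum_eq_single i (fun m _ hm => by simp [Pi.single_eq_of_ne hm]) (by simp),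
      Finset.sum_eq_single i (fun m _ hm => by simp [Pi.single_eq_of_ne hm]) (by simp)] at h1
    simpa using h1
  -- the quintic element
  have hKf : IsField K :=
    { exists_pair_ne := ⟨0, 1, fun h => zero_ne_one (congrArg Subtype.val h)⟩
      mul_comm := fun a b => Subtype.ext (hK.comm _ a.2 _ b.2)
      mul_inv_cancel := fun {a} ha => by
        obtain ⟨y, hy, hy'⟩ := hK.inv a a.2 fun h => ha (Subtype.ext h)
        exact ⟨⟨y, hy⟩, Subtype.ext hy'⟩ }
  letI : Field K := hKf.toField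
  haveI : Finite K := inferInstance
  have h2K : (2 : K) = 0 := by
    rw [show (2 : K) = algebraMap F K 2 from (map_ofNat _ 2).symm, h2, map_zero]
  have hcardK : Nat.card K = 1024 := by
    rw [Module.natCard_eq_pow_finrank (K := F) (V := K), hK.finrank_eq, Nat.card_eq_fintype_card, hF]
    norm_num
  obtain ⟨g, hg⟩ := IsCyclic.exists_generator (α := Kˣ)
  have hgo : orderOf g = 1023 := by
    rw [orderOf_eq_card_of_forall_mem_zpowers hg, Nat.card_units, hcardK]
  haveI : Fact (Nat.Prime 31) := ⟨by norm_num⟩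
  obtain ⟨z, hz⟩ : ∃ z : K, z ^ 5 + z ^ 4 + z ^ 2 + z + 1 = 0 := by
    set z0 : K := ((g ^ 33 : Kˣ) : K)
    have h31 : z0 ^ 31 = 1 := by
      rw [← Units.val_pow_eq_pow_val, ← pow_mul, show 33 * 31 = orderOf g by rw [hgo], pow_orderOf_eq_one, Units.val_one]
    have hne : z0 ≠ 1 := fun e => by
      have := Nat.le_of_dvd (by norm_num) (orderOf_dvd_of_pow_eq_one (Units.ext e : g ^ 33 = 1))
      omega
    exact exists_quintic_root h2K h31 hne
  obtain ⟨hzo, hroots, hrecK, k1, k2, k3, k4⟩ := quintic_facts h2K hz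
  set zm : Matrix (Fin 5) (Fin 5) F := z.1 with hzmdef
  have hzM : zm ^ 5 + zm ^ 4 + zm ^ 2 + zm + 1 = 0 := congrArg Subtype.val hz
  have hadjz : adj σ zm = zm := by
    set r : K := ⟨adj σ zm, hadjK _ z.2⟩ with hrdef
    have hr : r ^ 5 + r ^ 4 + r ^ 2 + r + 1 = 0 := Subtype.ext (by
      show adj σ zm ^ 5 + adj σ zm ^ 4 + adj σ zm ^ 2 + adj σ zm + 1 = 0
      have h0 := congrArg (adj σ) hzM
      rw [adj_add, adj_add, adj_add, adj_add, adj_pow, adj_pow, adj_pow, adj_one] at h0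
      rw [h0]
      ext a b; simp [adj])
    obtain ⟨k, e⟩ := hroots r hr
    have hback : r ^ 2 ^ (k : ℕ) = z := Subtype.ext (by
      show adj σ zm ^ 2 ^ (k : ℕ) = zm
      rw [← adj_pow, show zm ^ 2 ^ (k : ℕ) = adj σ zm from (congrArg Subtype.val e).symm, adj_adj hq])
    rw [e, ← pow_mul, ← mul_pow] at hback
    norm_num at hback
    have h4 : 4 ^ (k : ℕ) % 31 = 1 := by
      refine pow_injOn_Iio_orderOf (x := z) (by simp only [Set.mem_Iio, hzo]; exact Nat.mod_lt _ (by norm_num))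
        (by simp [hzo]) ?_
      show z ^ (4 ^ (k : ℕ) % 31) = z ^ 1
      rw [← hzo, pow_mod_orderOf, pow_one]
      exact hback
    have hk := quintic_four_pow k h4
    rw [hk] at e
    rw [Fin.val_zero, pow_zero, pow_one] at e
    exact congrArg Subtype.val e
  obtain ⟨v, hv⟩ := exists_quintic_frame hF hq (z := zm) (fun m => congrArg Subtype.val (hrecK m)) hadjz
  set col : Fin 5 → Fin 5 → F := fun k => zm ^ 2 ^ (k : ℕ) *ᵥ v with hcol'
  set M : Matrix (Fin 5) (Fin 5) F := Matrix.of fun i j => col j i with hMdef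
  have hMM : Mᵀ * M.map σ = 1 := by
    ext i j
    rw [Matrix.one_apply, ← hv i j, hermForm_eq hq, Matrix.mul_apply]
    rfl
  have hMdet : M.det ≠ 0 := fun h0 => by
    have h1 := congrArg Matrix.det hMM
    rw [Matrix.det_mul, Matrix.det_transpose, h0, zero_mul, Matrix.det_one] at h1
    exact zero_ne_one h1
  set P := Matrix.GeneralLinearGroup.mkOfDetNeZero M hMdet with hP
  have hPv : (P : Matrix (Fin 5) (Fin 5) F) = M := rfl
  have hPU : P ∈ Cfsg.GU 5 F 2 := mem_GU_of_mul hq hMM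
  have hcolz : zm * M = M * quinticMat 0 1 0 0 0 := by
    have m1 : zm * zm ^ 2 = zm + zm ^ 8 := congrArg Subtype.val k1
    have m2 : zm * zm ^ 4 = zm ^ 8 + zm ^ 16 := congrArg Subtype.val k2
    have m3 : zm * zm ^ 8 = zm ^ 2 + zm ^ 4 := congrArg Subtype.val k3
    have m4 : zm * zm ^ 16 = zm ^ 4 + zm ^ 16 := congrArg Subtype.val k4
    ext a j
    have h1 : (zm * M) a j = (zm *ᵥ col j) a := rfl
    rw [h1, hcol', Matrix.mul_apply, Fin.sum_univ_five]
    fin_cases j <;> simp [Matrix.mulVec_mulVec, ← pow_two, m1, m2, m3, m4, hMdef, hcol', quinticMat, Matrix.add_mulVec]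
  let S := keepSubgroup (F := F) (fun x : Fin 5 → F => IsPentaVec cd x)
  let K' := S.map (MulAut.conj P).toMonoidHom
  have hdetB : ∀ k : GL (Fin 5) F, k ∈ specialLinear (Fin 5) F → P * k * P⁻¹ ∈ specialLinear (Fin 5) F := by
    intro k hk
    have hk' : Matrix.GeneralLinearGroup.det k = 1 := hk
    show Matrix.GeneralLinearGroup.det (P * k * P⁻¹) = 1
    rw [map_mul, map_mul, hk', mul_one, ← map_mul, mul_inv_cancel, map_one]
  have hZ : ∀ N : ℕ, ((P⁻¹ : GL (Fin 5) F) : Matrix (Fin 5) (Fin 5) F) * zm ^ N * M = quinticMat 0 1 0 0 0 ^ N := by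
    intro N
    have h1 : zm ^ N * M = M * quinticMat 0 1 0 0 0 ^ N :=
      ((show SemiconjBy M (quinticMat 0 1 0 0 0) zm from hcolz.symm).pow_right N).eq.symm
    rw [mul_assoc, h1, ← mul_assoc, ← hPv, Units.inv_mul, one_mul]
  have hshape : ∀ k ∈ H, ∃ N : ℕ,
      ((P⁻¹ * k * P : GL (Fin 5) F) : Matrix (Fin 5) (Fin 5) F) * quinticMat 0 1 0 0 0 =
      quinticMat 0 1 0 0 0 ^ 2 ^ N * ((P⁻¹ * k * P : GL (Fin 5) F) : Matrix (Fin 5) (Fin 5) F) := by
    intro k hk
    rw [h] at hk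
    set c : K := ⟨_, (hk.1 zm).1 z.2⟩ with hcdef
    have hc : c ^ 5 + c ^ 4 + c ^ 2 + c + 1 = 0 := Subtype.ext (by
      show ((k : Matrix (Fin 5) (Fin 5) F) * zm * ((k⁻¹ : GL (Fin 5) F) : Matrix (Fin 5) (Fin 5) F)) ^ 5 +
        ((k : Matrix (Fin 5) (Fin 5) F) * zm * ((k⁻¹ : GL (Fin 5) F) : Matrix (Fin 5) (Fin 5) F)) ^ 4 +
        ((k : Matrix (Fin 5) (Fin 5) F) * zm * ((k⁻¹ : GL (Fin 5) F) : Matrix (Fin 5) (Fin 5) F)) ^ 2 +
        (k : Matrix (Fin 5) (Fin 5) F) * zm * ((k⁻¹ : GL (Fin 5) F) : Matrix (Fin 5) (Fin 5) F) + 1 = 0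
      rw [Units.conj_pow, Units.conj_pow, Units.conj_pow,
        show (1 : Matrix (Fin 5) (Fin 5) F) = (k : Matrix (Fin 5) (Fin 5) F) * 1 *
          ((k⁻¹ : GL (Fin 5) F) : Matrix (Fin 5) (Fin 5) F) by rw [mul_one, Units.mul_inv],
        ← add_mul, ← mul_add, ← add_mul, ← mul_add, ← add_mul, ← mul_add, ← add_mul, ← mul_add, hzM, mul_zero, zero_mul])
    obtain ⟨N, e⟩ := hroots c hc
    refine ⟨N.1, ?_⟩
    have h1 : (k : Matrix (Fin 5) (Fin 5) F) * zm = zm ^ 2 ^ N.1 * (k : Matrix (Fin 5) (Fin 5) F) := by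
      rw [← show _ = zm ^ 2 ^ N.1 from congrArg Subtype.val e, mul_assoc, Units.inv_mul, mul_one]
    set Mi := ((P⁻¹ : GL (Fin 5) F) : Matrix (Fin 5) (Fin 5) F)
    have hMi : M * Mi = 1 := P.mul_inv
    set A := (k : Matrix (Fin 5) (Fin 5) F)
    show Mi * A * M * _ = _ * (Mi * A * M)
    rw [← hZ, mul_assoc (Mi * A), ← hcolz, ← mul_assoc, mul_assoc Mi A zm, h1]
    simp only [mul_assoc]
    rw [← mul_assoc M Mi, hMi, one_mul]
  have hmon : ∀ k ∈ H, ∀ x, IsPentaVec cd x →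
      IsPentaVec cd (((P⁻¹ * k * P : GL (Fin 5) F) : Matrix (Fin 5) (Fin 5) F) *ᵥ x) := by
    intro k hk x hx
    obtain ⟨N, hN⟩ := hshape k hk
    refine penta_twist hF hq hcd c0 c1 hadd hmul N hN ?_ hx
    rw [h] at hk
    exact mul_eq_one_of_mem_GU hq ((Cfsg.GU 5 F 2).mul_mem ((Cfsg.GU 5 F 2).mul_mem ((Cfsg.GU 5 F 2).inv_mem hPU) hk.2.1) hPU)
  have hle : H ≤ K' := by
    intro g hg
    refine ⟨P⁻¹ * g * P, fun x => ⟨fun hx => ?_, hmon g hg x⟩, by show P * (P⁻¹ * g * P) * P⁻¹ = g; group⟩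
    show IsPentaVec cd x
    have := hmon g⁻¹ (H.inv_mem hg) _ hx
    rw [show P⁻¹ * g⁻¹ * P = (P⁻¹ * g * P)⁻¹ by group, mulVec_inv_cancel] at this
    exact this
  -- the extra element
  set E := extraFive F with hE
  have hEE : E * E = 1 := by
    ext i j
    fin_cases i <;> fin_cases j <;> simp [hE, extraFive, Matrix.mul_apply, Fin.sum_univ_five]
  let w : GL (Fin 5) F := ⟨E, E, hEE, hEE⟩
  have hwU : w ∈ SUg 5 F 2 := by
    refine ⟨mem_GU_of_mul hq ?_, Units.ext ?_⟩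
    · show Eᵀ * E.map σ = 1
      rw [show Eᵀ = E by ext i j; fin_cases i <;> fin_cases j <;> simp [hE, extraFive],
        show E.map σ = E by ext i j; fin_cases i <;> fin_cases j <;> simp [hE, extraFive], hEE]
    · show E.det = 1
      simp [hE, extraFive, Matrix.det_succ_row_zero, Fin.sum_univ_succ, Fin.succAbove]
  have hwS : w ∈ S := by
    have hfwd : ∀ x, IsPentaVec cd x → IsPentaVec cd (E *ᵥ x) := by
      rintro _ ⟨k, hk, rfl⟩
      refine ⟨![k 1, k 0, k 4, k 3, k 2], pentaCode_extra _ _ _ _ _ (by rw [← vec_five]; exact hk), ?_⟩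
      funext i
      fin_cases i <;> simp [hE, extraFive, Matrix.mulVec, dotProduct, Fin.sum_univ_five]
    exact fun x => ⟨fun hx => by simpa [Matrix.mulVec_mulVec, hEE, w] using hfwd _ hx, hfwd x⟩
  rcases hH.2 (K' ⊓ SUg 5 F 2) (le_inf hle hH.1.le) inf_le_right with e | e
  · have hm : P * w * P⁻¹ ∈ K' ⊓ SUg 5 F 2 := ⟨⟨w, hwS, rfl⟩,
      (Cfsg.GU 5 F 2).mul_mem ((Cfsg.GU 5 F 2).mul_mem hPU hwU.1) ((Cfsg.GU 5 F 2).inv_mem hPU), hdetB _ hwU.2⟩
    rw [e] at hm
    obtain ⟨N, hN⟩ := hshape _ hm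
    rw [show P⁻¹ * (P * w * P⁻¹) * P = w by group] at hN
    change E * _ = _ * E at hN
    -- unfold the twist into a commuting matrix
    have key : ∀ N : ℕ, quinticMat (0 : F) 1 0 0 0 ^ 2 ^ N * E = E * quinticMat 0 1 0 0 0 →
        (shiftFive F ^ N * E) * quinticMat 0 1 0 0 0 = quinticMat 0 1 0 0 0 * (shiftFive F ^ N * E) := by
      intro N hN
      have hsemi : SemiconjBy (shiftFive F) (quinticMat (0 : F) 1 0 0 0 ^ 2) (quinticMat 0 1 0 0 0) := by
        show shiftFive F * quinticMat (0 : F) 1 0 0 0 ^ 2 = quinticMat 0 1 0 0 0 * shiftFive F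
        rw [pow_two]
        ext i j
        fin_cases i <;> fin_cases j <;> simp [shiftFive, quinticMat, Matrix.mul_apply, Fin.sum_univ_five] <;> grind
      have hN' : SemiconjBy (shiftFive F ^ N) (quinticMat (0 : F) 1 0 0 0 ^ 2 ^ N) (quinticMat 0 1 0 0 0) := by
        clear hN
        induction N with
        | zero => simp
        | succ N ih =>
          rw [pow_succ' (shiftFive F), pow_succ 2, pow_mul]
          exact hsemi.mul_left (ih.pow_right 2)
      rw [mul_assoc, ← hN, ← mul_assoc, hN'.eq, mul_assoc]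
    have hper : ∀ r : Fin 5, ¬ (shiftFive F ^ (r : ℕ) * E) * quinticMat 0 1 0 0 0 =
        quinticMat 0 1 0 0 0 * (shiftFive F ^ (r : ℕ) * E) := by
      intro r hr
      have h1 := eq_quinticMat_of_commute h2 hr
      have e01 := congrFun (congrFun h1 0) 1
      have e11 := congrFun (congrFun h1 1) 1
      have e22 := congrFun (congrFun h1 2) 2
      have e13 := congrFun (congrFun h1 1) 3
      have e12 := congrFun (congrFun h1 1) 2
      fin_cases r <;> simp [hE, extraFive, shiftFive, quinticMat, pow_succ, Matrix.mul_apply, Fin.sum_univ_five] at e01 e11 e22 e13 e12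
    refine hper ⟨N % 5, Nat.mod_lt _ (by norm_num)⟩ ?_
    have h5 : shiftFive F ^ 5 = 1 := by
      ext i j
      fin_cases i <;> fin_cases j <;> simp [shiftFive, pow_succ, Matrix.mul_apply, Fin.sum_univ_five]
    have h1 := key N hN.symm
    rwa [show shiftFive F ^ N = shiftFive F ^ (N % 5) by
      conv_lhs => rw [← Nat.mod_add_div N 5, pow_add, pow_mul, h5, one_pow, mul_one]] at h1
  · have h11 : (1 : F) + σ 1 = 0 := by rw [map_one]; linear_combination h2
    set u : Fin 5 → F := ![0, 0, 0, 1, 1] with hu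
    obtain ⟨φ, hφ, ht, hφx⟩ := exists_SU_transvection hq (u := u)
      (by rw [hermForm_eq hq, Fin.sum_univ_five]; simp [hu]; linear_combination h2) h11
    set t := transvectionGL φ u hφ
    have hm : P * t * P⁻¹ ∈ K' ⊓ SUg 5 F 2 := e.symm ▸
      ⟨(Cfsg.GU 5 F 2).mul_mem ((Cfsg.GU 5 F 2).mul_mem hPU ht.1) ((Cfsg.GU 5 F 2).inv_mem hPU), hdetB _ ht.2⟩
    obtain ⟨t', hz', ez⟩ := hm.1
    obtain rfl : t' = t := mul_left_cancel (mul_right_cancel (show P * t' * P⁻¹ = P * t * P⁻¹ from ez))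
    obtain ⟨k, hk, ek⟩ := (hz' (fun i => cd (![0, 0, 1, 2, 0] i))).2 ⟨![0, 0, 1, 2, 0], by decide +kernel, rfl⟩
    have himg : k = ![0, 0, 1, 0, 2] := by
      funext i
      apply hcd.1
      refine (congrFun ek i).symm.trans ?_
      rw [show (t : Matrix (Fin 5) (Fin 5) F) = 1 + Matrix.vecMulVec u φ from rfl, Matrix.add_mulVec, Matrix.one_mulVec,
        Matrix.vecMulVec_mulVec, op_smul_eq_smul, hφx, hermForm_eq hq, Fin.sum_univ_five]
      have hdbl : cd 2 + cd 2 = 0 := by linear_combination cd 2 * h2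
      fin_cases i <;> simp [hu, c0, c1, hdbl]
    rw [himg] at hk
    exact absurd hk (by decide +kernel)

end CfsgLib.Geo.Asch
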