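/-
In SU₆(2) the normaliser of a cubic field subalgebra lies in a symplectic subfield group.
-/
import Cfsg.Agent.Lib.Geo.Asch.UnitSixLines

set_option autoImplicit false

namespace CfsgLib.Geo.Asch

open Matrix Cfsg.Geo
open scoped Kronecker

variable {F : Type*} [Field F]

/-- The matrices commuting with multiplication by a root of `X³+X²+1`. -/
def cubicMat (x y w : F) : Matrix (Fin 3) (Fin 3) F := !![x, y, w; y, x + w, y + w; w, y + w, x + y + w]

theorem eq_cubicMat_of_commute (h2 : (2 : F) = 0) {a : Matrix (Fin 3) (Fin 3) F}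
    (h : a * cubicMat 0 1 0 = cubicMat 0 1 0 * a) : a = cubicMat (a 0 0) (a 1 0) (a 2 0) := by
  have e := fun i j => congrFun (congrFun h i) j
  have e00 := e 0 0; have e01 := e 0 1; have e02 := e 0 2
  have e10 := e 1 0; have e11 := e 1 1; have e12 := e 1 2
  have e20 := e 2 0; have e21 := e 2 1; have e22 := e 2 2
  simp [cubicMat, Matrix.mul_apply, Fin.sum_univ_three] at e00 e01 e02 e10 e11 e12 e20 e21 e22
  have k01 : a 0 1 = a 1 0 := e00
  have k11 : a 1 1 = a 0 0 + a 2 0 := e10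
  have k21 : a 2 1 = a 1 0 + a 2 0 := e20
  have k02 : a 0 2 = a 2 0 := by grind
  have k12 : a 1 2 = a 1 0 + a 2 0 := by grind
  have k22 : a 2 2 = a 0 0 + a 1 0 + a 2 0 := by grind
  ext i j
  fin_cases i <;> fin_cases j <;> simp [cubicMat, k01, k11, k21, k02, k12, k22]

theorem cubicMat_mul (h2 : (2 : F) = 0) (x y w X Y W : F) :
    cubicMat x y w * cubicMat X Y W = cubicMat (x * X + y * Y + w * W) (y * X + (x + w) * Y + (y + w) * W)
      (w * X + (y + w) * Y + (x + y + w) * W) := by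
  ext i j
  fin_cases i <;> fin_cases j <;> simp [cubicMat, Matrix.mul_apply, Fin.sum_univ_three] <;> grind

theorem cubicMat_transpose (x y w : F) : (cubicMat x y w)ᵀ = cubicMat x y w := by
  ext i j
  fin_cases i <;> fin_cases j <;> simp [cubicMat]

theorem cubicMat_det (h2 : (2 : F) = 0) (x y w : F) : (cubicMat x y w).det =
    x * ((x + w) * (x + y + w) + (y + w) * (y + w)) + y * (y * (x + y + w) + (y + w) * w) +
      w * (y * (y + w) + (x + w) * w) := by
  rw [Matrix.det_fin_three]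
  simp [cubicMat]
  linear_combination -(x * (y + w) ^ 2 + y ^ 2 * (x + y + w) + w ^ 2 * (x + w)) * h2

theorem cubicMat_map (σ : F ≃+* F) (x y w : F) : (cubicMat x y w).map σ = cubicMat (σ x) (σ y) (σ w) := by
  ext i j
  fin_cases i <;> fin_cases j <;> simp [cubicMat]

theorem cubicMat_norm_code : ∀ x y w : Fin 4,
    let X := fourMul x x
    let Y := fourMul y y
    let W := fourMul w w
    let yw := fourAdd y w
    let xw := fourAdd x w
    let xyw := fourAdd (fourAdd x y) w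
    fourAdd (fourAdd (fourMul x X) (fourMul y Y)) (fourMul w W) = 1 →
    fourAdd (fourAdd (fourMul y X) (fourMul xw Y)) (fourMul yw W) = 0 →
    fourAdd (fourAdd (fourMul w X) (fourMul yw Y)) (fourMul xyw W) = 0 →
    fourAdd (fourAdd (fourMul x (fourAdd (fourMul xw xyw) (fourMul yw yw)))
      (fourMul y (fourAdd (fourMul y xyw) (fourMul yw w))))
      (fourMul w (fourAdd (fourMul y yw) (fourMul xw w))) = 1 →
    y = 0 ∧ w = 0 := by
  decide +kernel

variable [Fintype F]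

/-- A norm-one element of the cubic extension with determinant one is a scalar. -/
theorem cubicMat_scalar {σ : F ≃+* F} (hF : Fintype.card F = 2 ^ 2) (hq : IsQPow σ 2) {x y w : F}
    (h1 : cubicMat x y w * (cubicMat x y w).map σ = 1) (hd : (cubicMat x y w).det = 1) : y = 0 ∧ w = 0 := by
  have h2 := two_eq_zero hF
  obtain ⟨cd, hcd, c0, c1, hadd, hmul⟩ := exists_fourCode hF
  obtain ⟨a, rfl⟩ := hcd.2 x
  obtain ⟨b, rfl⟩ := hcd.2 y
  obtain ⟨c, rfl⟩ := hcd.2 w
  rw [cubicMat_map, cubicMat_mul h2] at h1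
  rw [cubicMat_det h2] at hd
  have hσ : ∀ t, σ (cd t) = cd (fourMul t t) := fun t => by rw [hq.eq_pow, pow_two, hmul]
  have e0 := congrFun (congrFun h1 0) 0
  have e1 := congrFun (congrFun h1 1) 0
  have e2 := congrFun (congrFun h1 2) 0
  simp [cubicMat, hσ, ← hadd, ← hmul] at e0 e1 e2
  simp only [← hadd, ← hmul] at hd
  have := cubicMat_norm_code a b c (hcd.1 (e0.trans c1.symm)) (hcd.1 (e1.trans c0.symm))
    (hcd.1 (e2.trans c0.symm)) (hcd.1 (hd.trans c1.symm))
  rw [this.1, this.2, c0]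
  exact ⟨rfl, rfl⟩

/-- A unitary matrix of determinant one commuting with the cubic element is a similarity of the alternating form. -/
theorem cubic_core {σ : F ≃+* F} (hF : Fintype.card F = 2 ^ 2) (hq : IsQPow σ 2)
    {A : Matrix (Fin 2 × Fin 3) (Fin 2 × Fin 3) F}
    (hA : A * ((1 : Matrix (Fin 2) (Fin 2) F) ⊗ₖ cubicMat 0 1 0) = ((1 : Matrix (Fin 2) (Fin 2) F) ⊗ₖ cubicMat 0 1 0) * A)
    (hU : Aᵀ * A.map σ = 1) (hdet : A.det = 1) :
    ∃ δ : F, δ ≠ 0 ∧ Aᵀ * ((!![0, 1; 1, 0] : Matrix (Fin 2) (Fin 2) F) ⊗ₖ (1 : Matrix (Fin 3) (Fin 3) F)) * A =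
      δ • ((!![0, 1; 1, 0] : Matrix (Fin 2) (Fin 2) F) ⊗ₖ (1 : Matrix (Fin 3) (Fin 3) F)) := by
  classical
  have h2 := two_eq_zero hF
  let C : Subalgebra F (Matrix (Fin 3) (Fin 3) F) := Subalgebra.centralizer F {cubicMat 0 1 0}
  have hC : ∀ a : Matrix (Fin 3) (Fin 3) F, a ∈ C ↔ a * cubicMat 0 1 0 = cubicMat 0 1 0 * a := fun a => by
    rw [Subalgebra.mem_centralizer_iff]
    exact ⟨fun h => (h _ rfl).symm, fun h g hg => by rw [Set.mem_singleton_iff.1 hg]; exact h.symm⟩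
  have hsym : ∀ a ∈ C, aᵀ = a := fun a ha => by
    rw [eq_cubicMat_of_commute h2 ((hC a).1 ha), cubicMat_transpose]
  have hcomm : ∀ a b : C, a * b = b * a := fun a b => by
    have ha := hsym _ a.2
    have hb := hsym _ b.2
    have hab := hsym _ (a * b).2
    refine Subtype.ext ?_
    push_cast at hab ⊢
    rw [← hab, Matrix.transpose_mul, ha, hb]
  letI : CommRing C := { (inferInstance : Ring C) with mul_comm := hcomm }
  let f : C →+* Matrix (Fin 3) (Fin 3) F := C.val.toRingHom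
  have hfinj : Function.Injective f := Subtype.val_injective
  have hmapZ : (cubicMat (0 : F) 1 0).map σ = cubicMat 0 1 0 := by rw [cubicMat_map, map_zero, map_one]
  let sC : C →+* C := RingHom.codRestrict (σ.toRingHom.mapMatrix.comp f) C fun a => by
    rw [hC]
    show a.1.map σ * _ = _ * a.1.map σ
    rw [← hmapZ, ← Matrix.map_mul, ← Matrix.map_mul, (hC a.1).1 a.2]
  have hblk : ∀ i j, Matrix.of (fun k l => A (i, k) (j, l)) ∈ C := by
    intro i j
    rw [hC]
    ext k l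
    have h1 := congrFun (congrFun hA (i, k)) (j, l)
    simp only [Matrix.mul_apply, Fintype.sum_prod_type, Matrix.kronecker_apply, Matrix.one_apply, ite_mul, one_mul,
      zero_mul, mul_ite, mul_zero, Finset.sum_ite_irrel, Finset.sum_const_zero, Finset.sum_ite_eq,
      Finset.sum_ite_eq', Finset.mem_univ, if_true] at h1
    simpa [Matrix.mul_apply] using h1
  let M : Matrix (Fin 2) (Fin 2) C := Matrix.of fun i j => ⟨_, hblk i j⟩
  let cmp := Matrix.compRingEquiv (Fin 2) (Fin 3) F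
  let Φ : Matrix (Fin 2) (Fin 2) C →+* Matrix (Fin 2 × Fin 3) (Fin 2 × Fin 3) F := cmp.toRingHom.comp f.mapMatrix
  have hΦinj : Function.Injective Φ := fun X Y h => by
    ext i j : 1
    exact hfinj (congrFun (congrFun (cmp.injective h : f.mapMatrix X = f.mapMatrix Y) i) j)
  have hΦA : Φ M = A := rfl
  have hΦT : Φ Mᵀ = Aᵀ := by
    ext ⟨i, k⟩ ⟨j, l⟩
    show (f (M j i)) k l = A (j, l) (i, k)
    exact (congrFun (congrFun (hsym _ (M j i).2) k) l).symm
  have hΦσ : Φ (M.map sC) = A.map σ := rfl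
  have hΦS : Φ (!![0, 1; 1, 0]) =
      (!![0, 1; 1, 0] : Matrix (Fin 2) (Fin 2) F) ⊗ₖ (1 : Matrix (Fin 3) (Fin 3) F) := by
    ext ⟨i, k⟩ ⟨j, l⟩
    show (f ((!![0, 1; 1, 0] : Matrix (Fin 2) (Fin 2) C) i j)) k l = _
    fin_cases i <;> fin_cases j <;> simp [Matrix.kronecker_apply]
  have hu : Mᵀ * M.map sC = 1 := hΦinj (by rw [map_mul, hΦT, hΦσ, hU, map_one])
  set D := M.det with hD
  have hDD : D * sC D = 1 := by
    have h1 := congrArg Matrix.det hu
    rw [Matrix.det_mul, Matrix.det_transpose, Matrix.det_one,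
      ← show sC D = (M.map sC).det from RingHom.map_det sC M] at h1
    exact h1
  have hdetD : (f D).det = 1 := by
    rw [hD, Matrix.det_det M f]
    exact hdet
  have hfD := eq_cubicMat_of_commute h2 ((hC D.1).1 D.2)
  have h3 : f D * (f D).map σ = 1 := congrArg Subtype.val hDD
  change D.1 * D.1.map σ = 1 at h3
  change D.1.det = 1 at hdetD
  rw [hfD] at h3 hdetD
  obtain ⟨hy, hw⟩ := cubicMat_scalar hF hq h3 hdetD
  set δ := D.1 0 0 with hδ
  have hDs : D.1 = δ • 1 := by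
    rw [hfD, hy, hw]
    ext i j
    fin_cases i <;> fin_cases j <;> simp [cubicMat]
  refine ⟨δ, fun e => ?_, ?_⟩
  · rw [hy, hw, e, cubicMat_det h2] at hdetD
    simp at hdetD
  have h2C : ∀ c : C, c + c = 0 := fun c => Subtype.ext (by
    push_cast
    rw [← two_smul F (c : Matrix (Fin 3) (Fin 3) F), h2, zero_smul])
  have hkey : Mᵀ * !![0, 1; 1, 0] * M = Matrix.scalar (Fin 2) D * !![0, 1; 1, 0] := by
    ext i j : 1
    fin_cases i <;> fin_cases j <;>
      simp [Matrix.mul_apply, Fin.sum_univ_two, hD, Matrix.det_fin_two, sub_eq_add_neg,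
        neg_eq_of_add_eq_zero_right (h2C _)]
    all_goals first | ring1 | (rw [mul_comm]; exact h2C _)
  have hΦD : Φ (Matrix.scalar (Fin 2) D) = δ • 1 := by
    ext ⟨i, k⟩ ⟨j, l⟩
    show (f (Matrix.scalar (Fin 2) D i j)) k l = _
    rw [Matrix.scalar_apply, Matrix.diagonal_apply]
    split_ifs with hij
    · show D.1 k l = _
      rw [hDs, hij]
      simp [Matrix.one_apply]
    · simp [Matrix.one_apply, hij]
  have h4 := congrArg Φ hkey
  rw [map_mul, map_mul, map_mul, hΦT, hΦS, hΦA, hΦD, Matrix.smul_mul, one_mul] at h4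
  exact h4

/-- A vector whose cubic orbit is orthonormal. -/
theorem exists_cubic_frame {σ : F ≃+* F} (hF : Fintype.card F = 2 ^ 2) (hq : IsQPow σ 2)
    {z : Matrix (Fin 6) (Fin 6) F} (hz : z ^ 3 = z ^ 2 + 1) (hadj : adj σ z = z) {x : Fin 6 → F}
    (hx : Cfsg.hermForm 6 F 2 x x ≠ 0) :
    ∃ i : ℕ, ∀ k l : Fin 3, Cfsg.hermForm 6 F 2 (z ^ 2 ^ (k : ℕ) *ᵥ (z ^ i *ᵥ x))
      (z ^ 2 ^ (l : ℕ) *ᵥ (z ^ i *ᵥ x)) = if k = l then 1 else 0 := by
  have h2 := two_eq_zero hF
  have hf := isUnitaryForm_hermForm (n := 6) hq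
  have hs := isSesqForm_of_unitary hf
  set s : ℕ → F := fun m => Cfsg.hermForm 6 F 2 (z ^ m *ᵥ x) x with hs'
  have hpair : ∀ a b, Cfsg.hermForm 6 F 2 (z ^ a *ᵥ x) (z ^ b *ᵥ x) = s (b + a) := fun a b => by
    have h1 := herm_adj hq (z ^ b) (z ^ a *ᵥ x) x
    rw [adj_pow, hadj, Matrix.mulVec_mulVec, ← pow_add] at h1
    exact h1.symm
  have hrec : ∀ m, s (m + 3) = s (m + 2) + s m := fun m => by
    simp only [hs']
    rw [pow_add, hz, mul_add, mul_one, ← pow_add, Matrix.add_mulVec, hs.add_left]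
  have h01 : ∀ m, s m = 0 ∨ s m = 1 := fun m => by
    have hfix : σ (s m) = s m := by
      show σ (Cfsg.hermForm 6 F 2 (z ^ m *ᵥ x) x) = _
      rw [← hf.herm, show s m = Cfsg.hermForm 6 F 2 (z ^ m *ᵥ x) x from rfl, herm_adj hq, adj_pow, hadj]
    rw [hq.eq_pow] at hfix
    by_cases h0 : s m = 0
    · exact Or.inl h0
    · exact Or.inr (mul_left_cancel₀ h0 (by rw [mul_one, ← pow_two, hfix]))
  have h11 : (1 : F) + 1 = 0 := by linear_combination h2
  suffices ∃ i, s (2 * i) = 1 ∧ s (2 * i + 1) = 1 ∧ s (2 * i + 2) = 1 by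
    obtain ⟨i, t0, t1, t2⟩ := this
    refine ⟨i, fun k l => ?_⟩
    rw [Matrix.mulVec_mulVec, Matrix.mulVec_mulVec, ← pow_add, ← pow_add, hpair,
      show 2 ^ (l : ℕ) + i + (2 ^ (k : ℕ) + i) = 2 * i + (2 ^ (k : ℕ) + 2 ^ (l : ℕ)) by ring]
    set u : ℕ → F := fun m => s (2 * i + m) with hu
    show u _ = _
    have hr : ∀ m, u (m + 3) = u (m + 2) + u m := fun m => hrec (2 * i + m)
    have u0 : u 0 = 1 := t0
    have u1 : u 1 = 1 := t1
    have u2 : u 2 = 1 := t2
    have u3 : u 3 = 0 := by rw [hr 0, u2, u0, h11]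
    have u4 : u 4 = 1 := by rw [hr 1, u3, u1, zero_add]
    have u5 : u 5 = 0 := by rw [hr 2, u4, u2, h11]
    have u6 : u 6 = 0 := by rw [hr 3, u5, u3, add_zero]
    have u7 : u 7 = 1 := by rw [hr 4, u6, u4, zero_add]
    have u8 : u 8 = 1 := by rw [hr 5, u7, u5, add_zero]
    fin_cases k <;> fin_cases l <;> simp [u2, u3, u4, u5, u6, u8]
  have s0 : s 0 = 1 := (h01 0).resolve_left (by simpa [hs'] using hx)
  have s3 := hrec 0; have s4 := hrec 1; have s5 := hrec 2; have s6 := hrec 3; have s7 := hrec 4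
  have s8 := hrec 5; have s9 := hrec 6; have s10 := hrec 7; have s11 := hrec 8; have s12 := hrec 9
  have s13 := hrec 10; have s14 := hrec 11
  simp only [Nat.reduceAdd] at s3 s4 s5 s6 s7 s8 s9 s10 s11 s12 s13 s14
  rcases h01 1 with s1 | s1 <;> rcases h01 2 with s2 | s2
  · exact ⟨5, by simp_all, by simp_all, by simp_all⟩
  · exact ⟨6, by simp_all, by simp_all, by simp_all⟩
  · exact ⟨3, by simp_all, by simp_all, by simp_all⟩
  · exact ⟨0, s0, s1, s2⟩

/-- In SU₆(2) the normaliser of an adjoint-closed cubic field lies in a symplectic subfield group. -/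
theorem field_two_six_to_symplectic (hF : Fintype.card F = 2 ^ 2) {K : Subalgebra F (Matrix (Fin 6) (Fin 6) F)}
    (hK : IsFieldSubalgebra 3 K) (hKa : IsAdjointClosedFor (Cfsg.hermForm 6 F 2) K)
    {H : Subgroup (GL (Fin 6) F)} (hle : H ≤ SUg 6 F 2) (hHK : H ≤ subalgebraNormalizer K) :
    ∃ (F₀ : Subfield F) (P : GL (Fin 6) F) (ζ : F), Fintype.card F = Nat.card F₀ ^ 2 ∧ ζ ≠ 0 ∧ ζ + ζ ^ 2 = 0 ∧
      IsFormRationalStructure (Cfsg.hermForm 6 F 2) F₀ ζ P ∧
      (∀ u : Fin 6 → F, (∀ i, u i ∈ F₀) → Cfsg.hermForm 6 F 2 ((P : Matrix (Fin 6) (Fin 6) F) *ᵥ u)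
        ((P : Matrix (Fin 6) (Fin 6) F) *ᵥ u) = 0) ∧
      H ≤ subfieldSubgroup F₀ P := by
  classical
  obtain ⟨σ, hq⟩ := exists_isQPow (q := 2) hF
  have h2 := two_eq_zero hF
  have hf := isUnitaryForm_hermForm (n := 6) hq
  have hs := isSesqForm_of_unitary hf
  have hadjK : ∀ k ∈ K, adj σ k ∈ K := by
    intro k hk
    obtain ⟨k', hk', hkk⟩ := hKa k hk
    suffices hkk' : k' = adj σ k by rwa [← hkk']
    ext i j
    have h1 := (hkk (Pi.single i 1) (Pi.single j 1)).symm.trans (herm_adj hq k _ _)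
    rw [hermForm_eq hq, hermForm_eq hq, Finset.sum_eq_single i (fun m _ hm => by simp [Pi.single_eq_of_ne hm]) (by simp),
      Finset.sum_eq_single i (fun m _ hm => by simp [Pi.single_eq_of_ne hm]) (by simp)] at h1
    simpa using h1
  -- the cubic element
  have hKf : IsField K :=
    { exists_pair_ne := ⟨0, 1, fun h => zero_ne_one (congrArg Subtype.val h)⟩
      mul_comm := fun a b => Subtype.ext (hK.comm _ a.2 _ b.2)
      mul_inv_cancel := fun {a} ha => by
        obtain ⟨y, hy, hy'⟩ := hK.inv a a.2 fun h => ha (Subtype.ext h)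
        exact ⟨⟨y, hy⟩, Subtype.ext hy'⟩ }
  letI : Field K := hKf.toField
  haveI : Finite K := inferInstance
  have h2K : (2 : K) = 0 := by
    rw [show (2 : K) = algebraMap F K 2 from (map_ofNat _ 2).symm, h2, map_zero]
  have hcardK : Nat.card K = 64 := by
    rw [Module.natCard_eq_pow_finrank (K := F) (V := K), hK.finrank_eq, Nat.card_eq_fintype_card, hF]
    norm_num
  obtain ⟨g, hg⟩ := IsCyclic.exists_generator (α := Kˣ)
  have hg63 : orderOf g = 63 := by
    rw [orderOf_eq_card_of_forall_mem_zpowers hg, Nat.card_units, hcardK]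
  obtain ⟨z, hz⟩ : ∃ z : K, z ^ 3 + z ^ 2 + 1 = 0 := by
    set z0 : K := ((g ^ 9 : Kˣ) : K)
    have h7 : z0 ^ 7 = 1 := by
      rw [← Units.val_pow_eq_pow_val, ← pow_mul, show 9 * 7 = orderOf g by rw [hg63], pow_orderOf_eq_one, Units.val_one]
    have hne : z0 ≠ 1 := fun e => by
      have := Nat.le_of_dvd (by norm_num) (orderOf_dvd_of_pow_eq_one (Units.ext e : g ^ 9 = 1))
      omega
    have hp : (z0 - 1) * ((z0 ^ 3 + z0 + 1) * (z0 ^ 3 + z0 ^ 2 + 1)) = 0 := by
      linear_combination h7 + (z0 ^ 4 - z0 ^ 3) * h2K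
    rcases mul_eq_zero.1 ((mul_eq_zero.1 hp).resolve_left (sub_ne_zero.2 hne)) with hc | hc
    · refine ⟨z0 ^ 6, ?_⟩
      linear_combination (z0 ^ 11 + z0 ^ 4 + z0 ^ 5) * h7 + (z0 ^ 2 + z0 + 1) * hc - (z0 ^ 3 + z0 ^ 2 + z0) * h2K
    · exact ⟨z0, hc⟩
  have hroots : ∀ r : K, r ^ 3 + r ^ 2 + 1 = 0 → r = z ∨ r = z ^ 2 ∨ r = z ^ 4 := fun r hr => by
    have hp : (r - z) * (r - z ^ 2) * (r - z ^ 4) = 0 := by
      linear_combination hr + (-(z + 1) * r ^ 2 + z ^ 3 * r - (z ^ 4 + z ^ 3 + z ^ 2 + 1)) * hz +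
        (z ^ 3 * r ^ 2 + z ^ 6 + z ^ 5 + z ^ 4 + z ^ 3 + z ^ 2) * h2K
    simp only [mul_eq_zero, sub_eq_zero, or_assoc] at hp
    exact hp
  have hz1 : z ≠ 1 := fun e => one_ne_zero (α := K) (by rw [e] at hz; linear_combination hz - h2K)
  have hz0 : z ≠ 0 := fun e => by rw [e] at hz; simp at hz
  have hz7 : z ^ 7 = 1 := by
    linear_combination (z ^ 4 + z ^ 3 + z ^ 2 + 1) * hz - (z ^ 6 + z ^ 5 + z ^ 4 + z ^ 3 + z ^ 2 + 1) * h2K
  have hzM : (z.1 : Matrix (Fin 6) (Fin 6) F) ^ 3 + z.1 ^ 2 + 1 = 0 := congrArg Subtype.val hz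
  have hadjz : adj σ z.1 = z.1 := by
    set r : K := ⟨adj σ z.1, hadjK _ z.2⟩ with hrdef
    have hr : r ^ 3 + r ^ 2 + 1 = 0 := Subtype.ext (by
      show adj σ z.1 ^ 3 + adj σ z.1 ^ 2 + 1 = 0
      have h0 := congrArg (adj σ) hzM
      rw [adj_add, adj_add, adj_pow, adj_pow, adj_one] at h0
      rw [h0]
      ext a b; simp [adj])
    have hback : ∀ N : ℕ, r = z ^ N → r ^ N = z := fun N e => Subtype.ext (by
      show adj σ z.1 ^ N = z.1
      rw [← adj_pow, show z.1 ^ N = adj σ z.1 from (congrArg Subtype.val e).symm, adj_adj hq])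
    rcases hroots r hr with e | e | e
    · exact congrArg Subtype.val e
    · exfalso
      have h4 := hback 2 e
      rw [e, ← pow_mul] at h4
      have h3 : z ^ 3 = 1 := mul_left_cancel₀ hz0 (by rw [mul_one, ← pow_succ']; exact h4)
      exact hz1 (by
        have : z ^ 7 = z := by rw [show 7 = 3 + 3 + 1 by norm_num, pow_add, pow_add, h3, one_mul, one_mul, pow_one]
        rw [← this, hz7])
    · exfalso
      have h4 := hback 4 e
      rw [e, ← pow_mul, show 4 * 4 = 7 + 7 + 2 by norm_num, pow_add, pow_add, hz7, one_mul, one_mul] at h4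
      exact hz1 (mul_left_cancel₀ hz0 (by rw [mul_one, ← pow_two]; exact h4))
  set zm : Matrix (Fin 6) (Fin 6) F := z.1 with hzmdef
  have hdouble : ∀ X : Matrix (Fin 6) (Fin 6) F, X + X = 0 := fun X => by rw [← two_smul F X, h2, zero_smul]
  have hz3 : zm ^ 3 = zm ^ 2 + 1 :=
    calc zm ^ 3 = zm ^ 3 + (zm ^ 2 + zm ^ 2) + (1 + 1) := by rw [hdouble, hdouble, add_zero, add_zero]
      _ = (zm ^ 3 + zm ^ 2 + 1) + (zm ^ 2 + 1) := by abel
      _ = zm ^ 2 + 1 := by rw [hzM, zero_add]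
  have hz5 : zm * zm ^ 4 = zm ^ 4 + zm ^ 2 := by
    rw [← pow_succ', show 4 + 1 = 3 + 2 by norm_num, pow_add, hz3, add_mul, one_mul, ← pow_add]
  have hz14 : zm * zm ^ 2 = zm + zm ^ 4 := by
    have h4 : zm ^ 4 = zm ^ 3 + zm := by
      have h4' : zm ^ 4 = zm * (zm ^ 2 + 1) := by rw [← hz3, ← pow_succ']
      rw [h4', mul_add, mul_one, ← pow_succ']
    rw [← pow_succ', h4, add_left_comm, hdouble, add_zero]
  -- two orthonormal orbits
  obtain ⟨i₁, hv⟩ := exists_cubic_frame hF hq hz3 hadjz (x := Pi.single 0 1)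
    (by rw [hermForm_eq hq, Finset.sum_eq_single (0 : Fin 6) (fun m _ hm => by simp [Pi.single_eq_of_ne hm]) (by simp)]; simp)
  set v : Fin 6 → F := zm ^ i₁ *ᵥ Pi.single 0 1
  let bv : Fin 3 → Fin 6 → F := fun k => zm ^ 2 ^ (k : ℕ) *ᵥ v
  have hinvb : ∀ k, zm *ᵥ bv k ∈ Submodule.span F (Set.range bv) := by
    have hm : ∀ k, bv k ∈ Submodule.span F (Set.range bv) := fun k => Submodule.subset_span ⟨k, rfl⟩
    intro k
    fin_cases k <;> simp only [bv, Matrix.mulVec_mulVec] <;> norm_num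
    · rw [← pow_two]; simpa [bv] using hm 1
    · rw [hz14, Matrix.add_mulVec]; simpa [bv] using add_mem (hm 0) (hm 2)
    · rw [hz5, Matrix.add_mulVec]; simpa [bv] using add_mem (hm 2) (hm 1)
  obtain ⟨w₀, hw₀, hw₀n⟩ : ∃ w₀ : Fin 6 → F, (∀ k, Cfsg.hermForm 6 F 2 w₀ (bv k) = 0) ∧
      Cfsg.hermForm 6 F 2 w₀ w₀ ≠ 0 := by
    by_contra! hall
    obtain ⟨ω, hω⟩ := hq.moved
    have htot : ∀ u x : Fin 6 → F, (∀ k, Cfsg.hermForm 6 F 2 u (bv k) = 0) →
        (∀ k, Cfsg.hermForm 6 F 2 x (bv k) = 0) → Cfsg.hermForm 6 F 2 u x = 0 := by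
      intro u x hu hx
      have key : ∀ c : F, c * Cfsg.hermForm 6 F 2 u x + σ (c * Cfsg.hermForm 6 F 2 u x) = 0 := fun c => by
        have h1 := hall (c • u + x) fun k => by rw [hs.add_left, hs.smul_left, hu, hx, mul_zero, add_zero]
        simp only [hs.add_left, hs.add_right, hs.smul_left, hs.smul_right, hall u hu, hall x hx, mul_zero, zero_add,
          add_zero] at h1
        rw [map_mul, ← hf.herm x u]
        linear_combination h1
      by_contra hux
      have k1 := key 1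
      have k2 := key ω
      rw [one_mul] at k1
      rw [map_mul] at k2
      exact hω (mul_right_cancel₀ (show σ (Cfsg.hermForm 6 F 2 u x) ≠ 0 by simpa using hux)
        (by linear_combination k2 - ω * k1))
    have hproj : ∀ x : Fin 6 → F, ∀ k, Cfsg.hermForm 6 F 2
        (x + ∑ l, Cfsg.hermForm 6 F 2 x (bv l) • bv l) (bv k) = 0 := fun x k => by
      rw [hs.add_left, Fin.sum_univ_three]
      simp only [hs.add_left, hs.smul_left, bv, hv]
      fin_cases k <;> simp [bv] <;> grind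
    have hspan : (⊤ : Submodule F (Fin 6 → F)) ≤ Submodule.span F (Set.range bv) := by
      intro x _
      set x' := x + ∑ l, Cfsg.hermForm 6 F 2 x (bv l) • bv l with hx'
      have hx'0 : x' = 0 := by
        by_contra h0
        obtain ⟨y, hy⟩ := (hf.nondegenerate x' h0).2
        refine hy ?_
        set y' := y + ∑ l, Cfsg.hermForm 6 F 2 y (bv l) • bv l with hy'
        have e : y = y' + ∑ l, Cfsg.hermForm 6 F 2 y (bv l) • bv l := by
          rw [hy', add_assoc, ← two_smul F (∑ l, Cfsg.hermForm 6 F 2 y (bv l) • bv l), h2, zero_smul, add_zero]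
        rw [e, hs.add_right, htot x' y' (hproj x) (hproj y), zero_add, Fin.sum_univ_three]
        simp only [hs.add_right, hs.smul_right, hx', hproj x, mul_zero, add_zero]
      have e : x = ∑ l, Cfsg.hermForm 6 F 2 x (bv l) • bv l := by
        rw [hx'] at hx'0
        calc x = (x + ∑ l, Cfsg.hermForm 6 F 2 x (bv l) • bv l) + ∑ l, Cfsg.hermForm 6 F 2 x (bv l) • bv l := by
              rw [add_assoc, ← two_smul F (∑ l, Cfsg.hermForm 6 F 2 x (bv l) • bv l), h2, zero_smul, add_zero]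
          _ = _ := by rw [hx'0, zero_add]
      rw [e]
      exact sum_mem fun l _ => Submodule.smul_mem _ _ (Submodule.subset_span ⟨l, rfl⟩)
    have h1 := (Submodule.finrank_mono hspan).trans (finrank_range_le_card bv)
    rw [finrank_top, Module.finrank_pi, Fintype.card_fin, Fintype.card_fin] at h1
    omega
  obtain ⟨i₂, hw⟩ := exists_cubic_frame hF hq hz3 hadjz hw₀n
  set w : Fin 6 → F := zm ^ i₂ *ᵥ w₀
  -- the second orbit is orthogonal to the first
  have hperp : ∀ N : ℕ, ∀ k, Cfsg.hermForm 6 F 2 (zm ^ N *ᵥ w₀) (bv k) = 0 := by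
    intro N
    induction N with
    | zero => simpa using hw₀
    | succ N ih =>
      intro k
      rw [pow_succ', ← Matrix.mulVec_mulVec, herm_adj hq, hadjz]
      refine Submodule.span_induction (p := fun y _ => Cfsg.hermForm 6 F 2 (zm ^ N *ᵥ w₀) y = 0) ?_ ?_ ?_ ?_
        (hinvb k)
      · rintro _ ⟨l, rfl⟩
        exact ih l
      · exact hs.map_zero_right _
      · intro y y' _ _ hy hy'
        rw [hs.add_right, hy, hy', add_zero]
      · intro r y _ hy
        rw [hs.smul_right, hy, mul_zero]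
  let e : Fin 6 ≃ Fin 2 × Fin 3 := (finProdFinEquiv (m := 2) (n := 3)).symm
  let col : Fin 2 × Fin 3 → Fin 6 → F := fun p => if p.1 = 0 then bv p.2 else zm ^ 2 ^ (p.2 : ℕ) *ᵥ w
  have hcol : ∀ p r, Cfsg.hermForm 6 F 2 (col p) (col r) = if p = r then 1 else 0 := by
    rintro ⟨i, k⟩ ⟨j, l⟩
    have hwb : ∀ k l : Fin 3, Cfsg.hermForm 6 F 2 (zm ^ 2 ^ (k : ℕ) *ᵥ w) (bv l) = 0 := fun k l => by
      rw [Matrix.mulVec_mulVec, ← pow_add]; exact hperp _ l
    fin_cases i <;> fin_cases j <;> simp only [col, Prod.mk.injEq] <;> norm_num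
    · exact hv k l
    · rw [hf.herm, hwb, map_zero]
    · exact hwb k l
    · exact hw k l
  set M : Matrix (Fin 6) (Fin 6) F := Matrix.of fun i j => col (e j) i with hMdef
  have hMM : Mᵀ * M.map σ = 1 := by
    ext i j
    have h1 : (Mᵀ * M.map σ) i j = Cfsg.hermForm 6 F 2 (col (e i)) (col (e j)) := by
      rw [hermForm_eq hq, Matrix.mul_apply]; rfl
    rw [h1, hcol, Matrix.one_apply]
    simp
  have hMdet : M.det ≠ 0 := fun h0 => by
    have h1 := congrArg Matrix.det hMM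
    rw [Matrix.det_mul, Matrix.det_transpose, h0, zero_mul, Matrix.det_one] at h1
    exact zero_ne_one h1
  set P := Matrix.GeneralLinearGroup.mkOfDetNeZero M hMdet with hP
  have hgram : hermGram σ e P = 1 := by
    show (Mᵀ * M.map σ).submatrix e.symm e.symm = 1
    rw [hMM, Matrix.submatrix_one_equiv]
  have hcoordz : coord e P zm = (1 : Matrix (Fin 2) (Fin 2) F) ⊗ₖ cubicMat 0 1 0 := by
    set Z := (1 : Matrix (Fin 2) (Fin 2) F) ⊗ₖ cubicMat (0 : F) 1 0 with hZ
    have hcolz : ∀ p, zm *ᵥ col p = ∑ r, Z r p • col r := by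
      rintro ⟨i, k⟩
      simp only [hZ, Fintype.sum_prod_type, Fin.sum_univ_two, Fin.sum_univ_three, Matrix.kronecker_apply]
      fin_cases i <;> fin_cases k <;> simp [col, bv, cubicMat, Matrix.one_apply, Matrix.mulVec_mulVec, ← pow_two, hz14, hz5,
        Matrix.add_mulVec, add_comm]
    have h1 : zm * M = M * Z.submatrix e e := by
      ext a j
      have h2' := congrFun (hcolz (e j)) a
      rw [Finset.sum_apply, ← Equiv.sum_comp e] at h2'
      simp only [Matrix.mul_apply, hMdef, Matrix.of_apply, Matrix.submatrix_apply]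
      simpa [Matrix.mulVec, dotProduct, mul_comm] using h2'
    rw [coord, mul_assoc, show (P : Matrix (Fin 6) (Fin 6) F) = M from rfl, h1, ← mul_assoc,
      show ((P⁻¹ : GL (Fin 6) F) : Matrix (Fin 6) (Fin 6) F) * M = 1 from P.inv_mul, one_mul,
      Matrix.submatrix_submatrix]
    simp
  set Bf := (!![0, 1; 1, 0] : Matrix (Fin 2) (Fin 2) F) ⊗ₖ (1 : Matrix (Fin 3) (Fin 3) F) with hBf
  have hS2 : (!![0, 1; 1, 0] : Matrix (Fin 2) (Fin 2) F) * !![0, 1; 1, 0] = 1 := by
    ext a b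
    fin_cases a <;> fin_cases b <;> simp
  refine exists_symplectic_subfield hq hF e P (Bf := Bf) (C := Bf) ?_ ?_ ?_ ?_ ?_ ?_ (hle.trans inf_le_left) ?_
  · rw [hgram, one_mul]
  · rw [hBf, ← Matrix.mul_kronecker_mul, hS2, one_mul, Matrix.one_kronecker_one]
  · ext ⟨a, k⟩ ⟨b, l⟩
    fin_cases a <;> fin_cases b <;> simp [hBf, Matrix.kronecker_apply, Matrix.one_apply, apply_ite σ]
  · ext ⟨a, k⟩ ⟨b, l⟩
    fin_cases a <;> fin_cases b <;> simp [hBf, Matrix.kronecker_apply, Matrix.one_apply, apply_ite σ]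
  · ext ⟨a, k⟩ ⟨b, l⟩
    fin_cases a <;> fin_cases b <;> simp [hBf, Matrix.kronecker_apply, Matrix.one_apply, eq_comm]
    all_goals split_ifs <;> first | simp | linear_combination h2
  · rintro ⟨a, k⟩
    fin_cases a <;> simp [hBf, Matrix.kronecker_apply]
  intro h hh
  set A := coord e P (h : Matrix (Fin 6) (Fin 6) F) with hA
  have hAU := hermGram_fix hq e P (show h ∈ Cfsg.GU 6 F 2 from (hle hh).1)
  rw [← hA, hgram, mul_one] at hAU
  have hdetA : A.det = 1 := by
    rw [hA, coord, Matrix.det_submatrix_equiv_self, Matrix.det_units_conj']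
    have hk1 := congrArg Units.val (show Matrix.GeneralLinearGroup.det h = 1 from (hle hh).2)
    rw [Matrix.GeneralLinearGroup.val_det_apply, Units.val_one] at hk1
    exact hk1
  set c : K := ⟨_, ((hHK hh) zm).1 z.2⟩ with hcdef
  have hc : c ^ 3 + c ^ 2 + 1 = 0 := Subtype.ext (by
    show ((h : Matrix (Fin 6) (Fin 6) F) * zm * ((h⁻¹ : GL (Fin 6) F) : Matrix (Fin 6) (Fin 6) F)) ^ 3 +
      ((h : Matrix (Fin 6) (Fin 6) F) * zm * ((h⁻¹ : GL (Fin 6) F) : Matrix (Fin 6) (Fin 6) F)) ^ 2 + 1 = 0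
    rw [Units.conj_pow, Units.conj_pow, ← add_mul, ← mul_add,
      show (1 : Matrix (Fin 6) (Fin 6) F) = (h : Matrix (Fin 6) (Fin 6) F) * 1 *
        ((h⁻¹ : GL (Fin 6) F) : Matrix (Fin 6) (Fin 6) F) by rw [mul_one, Units.mul_inv],
      ← add_mul, ← mul_add, hzM, mul_zero, zero_mul])
  have hAz : ∀ N : ℕ, c = z ^ N → A * ((1 : Matrix (Fin 2) (Fin 2) F) ⊗ₖ cubicMat 0 1 0) = coord e P (zm ^ N) * A := by
    intro N e'
    have h1 : (h : Matrix (Fin 6) (Fin 6) F) * zm = zm ^ N * (h : Matrix (Fin 6) (Fin 6) F) := by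
      rw [← show _ = zm ^ N from congrArg Subtype.val e', mul_assoc, Units.inv_mul, mul_one]
    rw [← hcoordz, hA, ← coord_mul, ← coord_mul, h1]
  have htwist : ∀ R X : Matrix (Fin 3) (Fin 3) F,
      A * ((1 : Matrix (Fin 2) (Fin 2) F) ⊗ₖ cubicMat 0 1 0) = ((1 : Matrix (Fin 2) (Fin 2) F) ⊗ₖ X) * A →
      Rᵀ * X = cubicMat 0 1 0 * Rᵀ → R * Rᵀ = 1 → R.map σ = R → R.det = 1 →
      ∃ δ : F, δ ≠ 0 ∧ Aᵀ * Bf * A = δ • Bf := by
    intro R X hX hR hRR hRσ hRd
    set T := (1 : Matrix (Fin 2) (Fin 2) F) ⊗ₖ Rᵀ with hT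
    have hTt : Tᵀ = (1 : Matrix (Fin 2) (Fin 2) F) ⊗ₖ R := by
      ext ⟨a, k⟩ ⟨b, l⟩
      simp [hT, Matrix.kronecker_apply, Matrix.one_apply, eq_comm]
    have hTσ : T.map σ = T := by
      ext ⟨a, k⟩ ⟨b, l⟩
      have := congrFun (congrFun hRσ l) k
      simp only [Matrix.map_apply] at this
      simp [hT, Matrix.kronecker_apply, Matrix.one_apply, apply_ite σ, this]
    obtain ⟨δ, hδ, hAB⟩ := cubic_core hF hq (A := T * A)
      (by rw [mul_assoc, hX, hT, ← mul_assoc, ← Matrix.mul_kronecker_mul, hR, ← mul_assoc,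
        ← Matrix.mul_kronecker_mul])
      (by rw [Matrix.transpose_mul, Matrix.map_mul, hTσ, mul_assoc, ← mul_assoc Tᵀ, hTt, hT,
        ← Matrix.mul_kronecker_mul, hRR, one_mul, Matrix.one_kronecker_one, one_mul, hAU])
      (by rw [Matrix.det_mul, hdetA, mul_one, hT, Matrix.det_kronecker, Matrix.det_one, one_pow, one_mul,
        Matrix.det_transpose, hRd, one_pow])
    refine ⟨δ, hδ, ?_⟩
    rw [← hBf, Matrix.transpose_mul, mul_assoc Aᵀ, mul_assoc Aᵀ, mul_assoc Tᵀ, ← mul_assoc Bf T A] at hAB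
    rw [← hAB, ← mul_assoc Tᵀ, hTt, hT, hBf, ← Matrix.mul_kronecker_mul, mul_one, one_mul, ← Matrix.mul_kronecker_mul,
      one_mul, hRR, mul_assoc]
  rcases hroots c hc with e' | e' | e'
  · refine htwist 1 (cubicMat 0 1 0) ?_ (by simp) (by simp) (Matrix.map_one _ (map_zero σ) (map_one σ)) Matrix.det_one
    rw [hAz 1 (by rw [e', pow_one]), pow_one, hcoordz]
  · refine htwist !![0, 0, 1; 1, 0, 0; 0, 1, 0] (cubicMat 0 1 0 * cubicMat 0 1 0) ?_ ?_ ?_ ?_ ?_
    · rw [hAz 2 e', pow_two, coord_mul, hcoordz, ← Matrix.mul_kronecker_mul, one_mul]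
    · ext a b
      fin_cases a <;> fin_cases b <;> simp [cubicMat, Matrix.mul_apply, Fin.sum_univ_three] <;> grind
    · ext a b
      fin_cases a <;> fin_cases b <;> simp [Matrix.mul_apply, Fin.sum_univ_three]
    · ext a b
      fin_cases a <;> fin_cases b <;> simp
    · simp [Matrix.det_fin_three]
  · refine htwist !![0, 1, 0; 0, 0, 1; 1, 0, 0]
      (cubicMat 0 1 0 * cubicMat 0 1 0 * (cubicMat 0 1 0 * cubicMat 0 1 0)) ?_ ?_ ?_ ?_ ?_
    · rw [hAz 4 e', show zm ^ 4 = zm * zm * (zm * zm) by rw [← pow_two, ← pow_two, ← pow_mul],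
        coord_mul, coord_mul, hcoordz, ← Matrix.mul_kronecker_mul, ← Matrix.mul_kronecker_mul, one_mul, one_mul]
    · rw [cubicMat_mul h2, cubicMat_mul h2]
      ext a b
      fin_cases a <;> fin_cases b <;> simp [cubicMat, Matrix.mul_apply, Fin.sum_univ_three] <;> grind
    · ext a b
      fin_cases a <;> fin_cases b <;> simp [Matrix.mul_apply, Fin.sum_univ_three]
    · ext a b
      fin_cases a <;> fin_cases b <;> simp
    · simp [Matrix.det_fin_three]

end CfsgLib.Geo.Asch
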